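/-
Base of the team's library: EVERY file under Cfsg/Agent imports this module (directly or not).
It loads all of Mathlib and the Prelude (bar the first classification file) and cites, once, the lemmas that
are generated on demand for definitions by cases or recursion, so that no two files hold different copies.
Never edit this file.
-/
import Mathlib
import Cfsg.Prelude.Def_AlmostLie
import Cfsg.Prelude.Def_Amalgam
import Cfsg.Prelude.Def_AxialAlgebras
import Cfsg.Prelude.Def_Balance
import Cfsg.Prelude.Def_BaumannBlocks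
import Cfsg.Prelude.Def_BlockFusion
import Cfsg.Prelude.Def_BlockLocal
import Cfsg.Prelude.Def_BlockRank
import Cfsg.Prelude.Def_Blocks
import Cfsg.Prelude.Def_BrauerPairs
import Cfsg.Prelude.Def_CaseTheorems
import Cfsg.Prelude.Def_CharExt
import Cfsg.Prelude.Def_Characters
import Cfsg.Prelude.Def_ChevAutomorphisms
import Cfsg.Prelude.Def_ChevB2
import Cfsg.Prelude.Def_ChevD4
import Cfsg.Prelude.Def_ChevE6
import Cfsg.Prelude.Def_ChevE7
import Cfsg.Prelude.Def_ChevE8
import Cfsg.Prelude.Def_ChevF4
import Cfsg.Prelude.Def_ChevG2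
import Cfsg.Prelude.Def_ChevStructure
import Cfsg.Prelude.Def_ChevWords
import Cfsg.Prelude.Def_Chevalley
import Cfsg.Prelude.Def_Classical
import Cfsg.Prelude.Def_ClassicalGeometry
import Cfsg.Prelude.Def_Classification2
import Cfsg.Prelude.Def_ClassificationK
import Cfsg.Prelude.Def_ClassificationStages
import Cfsg.Prelude.Def_ConjugacyFunctors
import Cfsg.Prelude.Def_CoprimeAction
import Cfsg.Prelude.Def_CurtisTits
import Cfsg.Prelude.Def_DStar
import Cfsg.Prelude.Def_DegreeGraph
import Cfsg.Prelude.Def_E6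
import Cfsg.Prelude.Def_EvenTechniques
import Cfsg.Prelude.Def_EvenType
import Cfsg.Prelude.Def_Exceptional
import Cfsg.Prelude.Def_FischerSpaces
import Cfsg.Prelude.Def_FusionComponents
import Cfsg.Prelude.Def_FusionFitting
import Cfsg.Prelude.Def_FusionReduction
import Cfsg.Prelude.Def_FusionSystem
import Cfsg.Prelude.Def_G2
import Cfsg.Prelude.Def_GeometricClasses
import Cfsg.Prelude.Def_HallClasses
import Cfsg.Prelude.Def_Involutions
import Cfsg.Prelude.Def_IsolatedElements
import Cfsg.Prelude.Def_JComponents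
import Cfsg.Prelude.Def_JankoFourType
import Cfsg.Prelude.Def_JordanBlocks
import Cfsg.Prelude.Def_KGroupFacts
import Cfsg.Prelude.Def_LieChev
import Cfsg.Prelude.Def_LieClassical
import Cfsg.Prelude.Def_LieExceptional
import Cfsg.Prelude.Def_LieRecognition
import Cfsg.Prelude.Def_LieTwisted
import Cfsg.Prelude.Def_LieTypeChar
import Cfsg.Prelude.Def_LieTypeDatum
import Cfsg.Prelude.Def_LieTypes
import Cfsg.Prelude.Def_LinearParabolics
import Cfsg.Prelude.Def_Local
import Cfsg.Prelude.Def_LocalEven
import Cfsg.Prelude.Def_LocalStructure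
import Cfsg.Prelude.Def_MonsterType
import Cfsg.Prelude.Def_OddOrder
import Cfsg.Prelude.Def_OddOrderChar
import Cfsg.Prelude.Def_OddOrderLocal
import Cfsg.Prelude.Def_PLocal
import Cfsg.Prelude.Def_ParabolicCharacters
import Cfsg.Prelude.Def_Perm
import Cfsg.Prelude.Def_PhanSystems
import Cfsg.Prelude.Def_Quasithin
import Cfsg.Prelude.Def_QuasithinSetup
import Cfsg.Prelude.Def_RootSubgroups
import Cfsg.Prelude.Def_SevenCases
import Cfsg.Prelude.Def_Solvable
import Cfsg.Prelude.Def_SolvableStructure
import Cfsg.Prelude.Def_SporCoxeter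
import Cfsg.Prelude.Def_Spor_B
import Cfsg.Prelude.Def_Spor_Conway
import Cfsg.Prelude.Def_Spor_Fi22
import Cfsg.Prelude.Def_Spor_Fi23
import Cfsg.Prelude.Def_Spor_Fi24
import Cfsg.Prelude.Def_Spor_HN
import Cfsg.Prelude.Def_Spor_He
import Cfsg.Prelude.Def_Spor_J1
import Cfsg.Prelude.Def_Spor_J2
import Cfsg.Prelude.Def_Spor_J3
import Cfsg.Prelude.Def_Spor_J4
import Cfsg.Prelude.Def_Spor_Ly
import Cfsg.Prelude.Def_Spor_M
import Cfsg.Prelude.Def_Spor_Mathieu
import Cfsg.Prelude.Def_Spor_ON
import Cfsg.Prelude.Def_Spor_Ru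
import Cfsg.Prelude.Def_Spor_Suz
import Cfsg.Prelude.Def_Spor_Th
import Cfsg.Prelude.Def_Sporadic
import Cfsg.Prelude.Def_SporadicB
import Cfsg.Prelude.Def_SporadicCombinatorics
import Cfsg.Prelude.Def_Sporadic_a
import Cfsg.Prelude.Def_StandardType
import Cfsg.Prelude.Def_Steinberg
import Cfsg.Prelude.Def_SteinbergCover
import Cfsg.Prelude.Def_SubgroupEmbedding
import Cfsg.Prelude.Def_SylowChains
import Cfsg.Prelude.Def_SylowControl
import Cfsg.Prelude.Def_Sz
import Cfsg.Prelude.Def_Transfer
import Cfsg.Prelude.Def_TwoFusion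

set_option linter.all false
theorem CfsgBase.r0 : True := by
  have := @Cfsg.upperPSeries.match_1.congr_eq_1.{0}
  have := @Cfsg.upperPSeries.match_1.congr_eq_2.{0}
  have := @Cfsg.upperPSeries.eq_1.{0}
  have := @Cfsg.upperPSeries.eq_2.{0}
  have := @Cfsg.upperPSeries.eq_def.{0}
  have := @Cfsg.upperPSeries.eq_unfold.{0}
  have := @Cfsg.upperPSeries.fun_cases
  have := @Cfsg.upperPSeries.fun_cases_unfolding.{0}
  have := @Cfsg.upperPSeries.induct
  have := @Cfsg.upperPSeries.induct_unfolding.{0}
  have := @Cfsg.Lie.ChevalleyDatum.xMat.match_3.congr_eq_1.{0}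
  have := @Cfsg.Lie.ChevalleyDatum.xMat.match_3.congr_eq_2.{0}
  have := @Cfsg.Lie.ChevalleyDatum.xMat.eq_1.{0}
  have := @Cfsg.Lie.ChevalleyDatum.xMat.eq_def.{0}
  have := @Cfsg.Lie.ChevalleyDatum.xMat.eq_unfold.{0}
  have := @Cfsg.Lie.ChevalleyDatum.xMat.fun_cases
  have := @Cfsg.Lie.ChevalleyDatum.xMat.fun_cases_unfolding.{0}
  have := @Cfsg.Lie.ChevalleyDatum.xMat.match_1.congr_eq_1.{0}
  have := @Cfsg.Lie.ChevalleyDatum.xMat.match_1.congr_eq_2.{0}
  have := @Cfsg.cubeTwistFun.eq_1
  trivial
theorem CfsgBase.r1 : True := by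
  have := @Cfsg.cubeTwistFun.eq_2
  have := @Cfsg.cubeTwistFun.eq_def
  have := @Cfsg.cubeTwistFun.eq_unfold
  have := @Cfsg.cubeTwistFun.fun_cases
  have := @Cfsg.cubeTwistFun.fun_cases_unfolding
  have := @Cfsg.pointBlockRel.match_1.congr_eq_1.{0,0}
  have := @Cfsg.pointBlockRel.match_1.congr_eq_2.{0,0}
  have := @Cfsg.pointBlockRel.match_1.congr_eq_3.{0,0}
  have := @Cfsg.pointBlockRel.match_1.congr_eq_4.{0,0}
  have := @Cfsg.qrWord.match_1.congr_eq_1.{0}
  have := @Cfsg.qrWord.match_1.congr_eq_2.{0}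
  have := @Cfsg.projInvFun.eq_1
  have := @Cfsg.projInvFun.eq_2
  have := @Cfsg.projInvFun.eq_def
  have := @Cfsg.projInvFun.eq_unfold
  have := @Cfsg.projInvFun.fun_cases
  have := @Cfsg.projInvFun.fun_cases_unfolding
  have := @Cfsg.pointBlockRel.eq_1.{0}
  have := @Cfsg.pointBlockRel.eq_2.{0}
  have := @Cfsg.pointBlockRel.eq_3.{0}
  trivial
theorem CfsgBase.r2 : True := by
  have := @Cfsg.pointBlockRel.eq_4.{0}
  have := @Cfsg.pointBlockRel.eq_def.{0}
  have := @Cfsg.pointBlockRel.eq_unfold.{0}
  have := @Cfsg.pointBlockRel.fun_cases.{0}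
  have := @Cfsg.pointBlockRel.fun_cases_unfolding.{0}
  have := @Cfsg.qrWord.eq_1
  have := @Cfsg.qrWord.eq_2
  have := @Cfsg.qrWord.eq_def
  have := @Cfsg.qrWord.eq_unfold
  have := @Cfsg.qrWord.fun_cases
  have := @Cfsg.qrWord.fun_cases_unfolding
  have := @Cfsg.Spor.coxLabel.match_1.congr_eq_1.{0,0}
  have := @Cfsg.Spor.coxLabel.match_1.congr_eq_2.{0,0}
  have := @Cfsg.Spor.coxLabel.eq_1.{0}
  have := @Cfsg.Spor.coxLabel.eq_def.{0}
  have := @Cfsg.Spor.coxLabel.eq_unfold.{0}
  have := @Cfsg.Spor.coxLabel.fun_cases.{0}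
  have := @Cfsg.Spor.coxLabel.fun_cases_unfolding.{0}
  have := @Cfsg.Spor.ruRk.eq_1
  have := @Cfsg.Spor.ruRk.eq_def
  trivial
theorem CfsgBase.r3 : True := by
  have := @Cfsg.Spor.ruRk.eq_unfold
  have := @Cfsg.Spor.ruRk.fun_cases
  have := @Cfsg.Spor.ruRk.fun_cases_unfolding
  have := @Cfsg.Spor.ruRj.eq_1
  have := @Cfsg.Spor.ruRj.eq_def
  have := @Cfsg.Spor.ruRj.eq_unfold
  have := @Cfsg.Spor.ruRj.fun_cases
  have := @Cfsg.Spor.ruRj.fun_cases_unfolding
  have := @Cfsg.Spor.ruRj.match_1.congr_eq_1.{0}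
  have := @Cfsg.Spor.ruRj.match_1.congr_eq_2.{0}
  have := @Cfsg.Spor.ruRj.match_1.congr_eq_3.{0}
  have := @Cfsg.Spor.ruRj.match_1.congr_eq_4.{0}
  have := @Cfsg.iterCommutator.match_1.congr_eq_1.{0}
  have := @Cfsg.iterCommutator.match_1.congr_eq_2.{0}
  have := @Cfsg.iterCommutator.eq_1.{0}
  have := @Cfsg.iterCommutator.eq_2.{0}
  have := @Cfsg.iterCommutator.eq_def.{0}
  have := @Cfsg.iterCommutator.eq_unfold.{0}
  have := @Cfsg.iterCommutator.fun_cases
  have := @Cfsg.iterCommutator.fun_cases_unfolding.{0}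
  trivial
theorem CfsgBase.r4 : True := by
  have := @Cfsg.iterCommutator.induct
  have := @Cfsg.iterCommutator.induct_unfolding.{0}
  have := @Cfsg.Lie.ChevalleyDatum.chainEntry.match_1.congr_eq_1.{0}
  have := @Cfsg.Lie.ChevalleyDatum.chainEntry.match_1.congr_eq_2.{0}
  have := @Cfsg.Lie.ChevalleyDatum.chainEntry.eq_1
  have := @Cfsg.Lie.ChevalleyDatum.chainEntry.eq_def
  have := @Cfsg.Lie.ChevalleyDatum.chainEntry.eq_unfold
  have := @Cfsg.Lie.ChevalleyDatum.chainEntry.fun_cases
  have := @Cfsg.Lie.ChevalleyDatum.chainEntry.fun_cases_unfolding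
  have := @Cfsg.functorTower.eq_1.{0}
  have := @Cfsg.functorTower.eq_2.{0}
  have := @Cfsg.functorTower.eq_def.{0}
  have := @Cfsg.functorTower.eq_unfold.{0}
  have := @Cfsg.functorTower.fun_cases
  have := @Cfsg.functorTower.fun_cases_unfolding.{0}
  have := @Cfsg.functorTower.induct
  have := @Cfsg.functorTower.induct_unfolding.{0}
  have := @Cfsg.kSeqOdd.eq_1.{0}
  have := @Cfsg.kSeqOdd.eq_2.{0}
  have := @Cfsg.kSeqOdd.eq_def.{0}
  trivial
theorem CfsgBase.r5 : True := by
  have := @Cfsg.kSeqOdd.eq_unfold.{0}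
  have := @Cfsg.kSeqOdd.fun_cases
  have := @Cfsg.kSeqOdd.fun_cases_unfolding.{0}
  have := @Cfsg.kSeqOdd.induct
  have := @Cfsg.kSeqOdd.induct_unfolding.{0}
  have := @Cfsg.functorTower.match_1.congr_eq_1.{0}
  have := @Cfsg.functorTower.match_1.congr_eq_2.{0}
  have := @Cfsg.puigSeq.eq_1.{0}
  have := @Cfsg.puigSeq.eq_2.{0}
  have := @Cfsg.puigSeq.eq_def.{0}
  have := @Cfsg.puigSeq.eq_unfold.{0}
  have := @Cfsg.puigSeq.fun_cases
  have := @Cfsg.puigSeq.fun_cases_unfolding.{0}
  have := @Cfsg.puigSeq.induct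
  have := @Cfsg.puigSeq.induct_unfolding.{0}
  have := @Cfsg.puigSeq.match_1.congr_eq_1.{0}
  have := @Cfsg.puigSeq.match_1.congr_eq_2.{0}
  have := @Cfsg.LieFamilyTwo.twisted.eq_1
  have := @Cfsg.LieFamilyTwo.twisted.eq_2
  have := @Cfsg.LieFamilyTwo.twisted.eq_3
  trivial
theorem CfsgBase.r6 : True := by
  have := @Cfsg.LieFamilyTwo.twisted.eq_4
  have := @Cfsg.LieFamilyTwo.twisted.eq_5
  have := @Cfsg.LieFamilyTwo.twisted.eq_6
  have := @Cfsg.LieFamilyTwo.twisted.eq_7
  have := @Cfsg.LieFamilyTwo.twisted.eq_def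
  have := @Cfsg.LieFamilyTwo.twisted.eq_unfold
  have := @Cfsg.LieFamilyTwo.twisted.fun_cases
  have := @Cfsg.LieFamilyTwo.twisted.fun_cases_unfolding
  have := @Cfsg.instDecidableEqLieFamilyTwo.decEq.eq_1
  have := @Cfsg.instDecidableEqLieFamilyTwo.decEq.eq_def
  have := @Cfsg.instDecidableEqLieFamilyTwo.decEq.eq_unfold
  have := @Cfsg.instDecidableEqLieFamilyTwo.decEq.fun_cases
  have := @Cfsg.instDecidableEqLieFamilyTwo.decEq.fun_cases_unfolding
  have := @Cfsg.IsChevalleyGroupOfType.eq_1.{0}
  have := @Cfsg.IsChevalleyGroupOfType.eq_2.{0}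
  have := @Cfsg.IsChevalleyGroupOfType.eq_3.{0}
  have := @Cfsg.IsChevalleyGroupOfType.eq_4.{0}
  have := @Cfsg.IsChevalleyGroupOfType.eq_5.{0}
  have := @Cfsg.IsChevalleyGroupOfType.eq_6.{0}
  have := @Cfsg.IsChevalleyGroupOfType.eq_7.{0}
  trivial
theorem CfsgBase.r7 : True := by
  have := @Cfsg.IsChevalleyGroupOfType.eq_8.{0}
  have := @Cfsg.IsChevalleyGroupOfType.eq_9.{0}
  have := @Cfsg.IsChevalleyGroupOfType.eq_10.{0}
  have := @Cfsg.IsChevalleyGroupOfType.eq_11.{0}
  have := @Cfsg.IsChevalleyGroupOfType.eq_12.{0}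
  have := @Cfsg.IsChevalleyGroupOfType.eq_13.{0}
  have := @Cfsg.IsChevalleyGroupOfType.eq_14.{0}
  have := @Cfsg.IsChevalleyGroupOfType.eq_def.{0}
  have := @Cfsg.IsChevalleyGroupOfType.eq_unfold.{0}
  have := @Cfsg.IsChevalleyGroupOfType.fun_cases
  have := @Cfsg.IsChevalleyGroupOfType.fun_cases_unfolding.{0}
  have := @Cfsg.LieFamilyTwo.twisted.match_1.congr_eq_1.{0}
  have := @Cfsg.LieFamilyTwo.twisted.match_1.congr_eq_2.{0}
  have := @Cfsg.LieFamilyTwo.twisted.match_1.congr_eq_3.{0}
  have := @Cfsg.LieFamilyTwo.twisted.match_1.congr_eq_4.{0}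
  have := @Cfsg.LieFamilyTwo.twisted.match_1.congr_eq_5.{0}
  have := @Cfsg.LieFamilyTwo.twisted.match_1.congr_eq_6.{0}
  have := @Cfsg.LieFamilyTwo.twisted.match_1.congr_eq_7.{0}
  have := @Cfsg.instDecidableEqLieFamilyTwo.decEq.match_1.congr_eq_1.{0}
  have := @Cfsg.instDecidableEqLieFamilyTwo.decEq.match_1.congr_eq_2.{0}
  trivial
theorem CfsgBase.r8 : True := by
  have := @Cfsg.IsChevalleyGroupOfType.match_1.congr_eq_1.{0}
  have := @Cfsg.IsChevalleyGroupOfType.match_1.congr_eq_2.{0}
  have := @Cfsg.IsChevalleyGroupOfType.match_1.congr_eq_3.{0}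
  have := @Cfsg.IsChevalleyGroupOfType.match_1.congr_eq_4.{0}
  have := @Cfsg.IsChevalleyGroupOfType.match_1.congr_eq_5.{0}
  have := @Cfsg.IsChevalleyGroupOfType.match_1.congr_eq_6.{0}
  have := @Cfsg.IsChevalleyGroupOfType.match_1.congr_eq_7.{0}
  have := @Cfsg.IsChevalleyGroupOfType.match_1.congr_eq_8.{0}
  have := @Cfsg.IsChevalleyGroupOfType.match_1.congr_eq_9.{0}
  have := @Cfsg.IsChevalleyGroupOfType.match_1.congr_eq_10.{0}
  have := @Cfsg.IsChevalleyGroupOfType.match_1.congr_eq_11.{0}
  have := @Cfsg.IsChevalleyGroupOfType.match_1.congr_eq_12.{0}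
  have := @Cfsg.IsChevalleyGroupOfType.match_1.congr_eq_13.{0}
  have := @Cfsg.IsChevalleyGroupOfType.match_1.congr_eq_14.{0}
  have := @Cfsg.IsInnerDiagonalAutOfType.eq_1.{0}
  have := @Cfsg.IsInnerDiagonalAutOfType.eq_2.{0}
  have := @Cfsg.IsInnerDiagonalAutOfType.eq_3.{0}
  have := @Cfsg.IsInnerDiagonalAutOfType.eq_4.{0}
  have := @Cfsg.IsInnerDiagonalAutOfType.eq_5.{0}
  have := @Cfsg.IsInnerDiagonalAutOfType.eq_6.{0}
  trivial
theorem CfsgBase.r9 : True := by
  have := @Cfsg.IsInnerDiagonalAutOfType.eq_7.{0}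
  have := @Cfsg.IsInnerDiagonalAutOfType.eq_8.{0}
  have := @Cfsg.IsInnerDiagonalAutOfType.eq_9.{0}
  have := @Cfsg.IsInnerDiagonalAutOfType.eq_10.{0}
  have := @Cfsg.IsInnerDiagonalAutOfType.eq_11.{0}
  have := @Cfsg.IsInnerDiagonalAutOfType.eq_12.{0}
  have := @Cfsg.IsInnerDiagonalAutOfType.eq_13.{0}
  have := @Cfsg.IsInnerDiagonalAutOfType.eq_14.{0}
  have := @Cfsg.IsInnerDiagonalAutOfType.eq_15.{0}
  have := @Cfsg.IsInnerDiagonalAutOfType.eq_16.{0}
  have := @Cfsg.IsInnerDiagonalAutOfType.eq_def.{0}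
  have := @Cfsg.IsInnerDiagonalAutOfType.eq_unfold.{0}
  have := @Cfsg.IsInnerDiagonalAutOfType.fun_cases
  have := @Cfsg.IsInnerDiagonalAutOfType.fun_cases_unfolding.{0}
  have := @Cfsg.instDecidableEqLieFamily.decEq.match_1.congr_eq_1.{0}
  have := @Cfsg.instDecidableEqLieFamily.decEq.match_1.congr_eq_2.{0}
  have := @Cfsg.IsOfLieType.eq_1.{0}
  have := @Cfsg.IsOfLieType.eq_2.{0}
  have := @Cfsg.IsOfLieType.eq_3.{0}
  have := @Cfsg.IsOfLieType.eq_4.{0}
  trivial
theorem CfsgBase.r10 : True := by
  have := @Cfsg.IsOfLieType.eq_5.{0}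
  have := @Cfsg.IsOfLieType.eq_6.{0}
  have := @Cfsg.IsOfLieType.eq_7.{0}
  have := @Cfsg.IsOfLieType.eq_8.{0}
  have := @Cfsg.IsOfLieType.eq_9.{0}
  have := @Cfsg.IsOfLieType.eq_10.{0}
  have := @Cfsg.IsOfLieType.eq_11.{0}
  have := @Cfsg.IsOfLieType.eq_12.{0}
  have := @Cfsg.IsOfLieType.eq_13.{0}
  have := @Cfsg.IsOfLieType.eq_14.{0}
  have := @Cfsg.IsOfLieType.eq_15.{0}
  have := @Cfsg.IsOfLieType.eq_16.{0}
  have := @Cfsg.IsOfLieType.eq_def.{0}
  have := @Cfsg.IsOfLieType.eq_unfold.{0}
  have := @Cfsg.IsOfLieType.fun_cases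
  have := @Cfsg.IsOfLieType.fun_cases_unfolding.{0}
  have := @Cfsg.IsOfLieType.match_1.congr_eq_1.{0}
  have := @Cfsg.IsOfLieType.match_1.congr_eq_2.{0}
  have := @Cfsg.IsOfLieType.match_1.congr_eq_3.{0}
  have := @Cfsg.IsOfLieType.match_1.congr_eq_4.{0}
  trivial
theorem CfsgBase.r11 : True := by
  have := @Cfsg.IsOfLieType.match_1.congr_eq_5.{0}
  have := @Cfsg.IsOfLieType.match_1.congr_eq_6.{0}
  have := @Cfsg.IsOfLieType.match_1.congr_eq_7.{0}
  have := @Cfsg.IsOfLieType.match_1.congr_eq_8.{0}
  have := @Cfsg.IsOfLieType.match_1.congr_eq_9.{0}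
  have := @Cfsg.IsOfLieType.match_1.congr_eq_10.{0}
  have := @Cfsg.IsOfLieType.match_1.congr_eq_11.{0}
  have := @Cfsg.IsOfLieType.match_1.congr_eq_12.{0}
  have := @Cfsg.IsOfLieType.match_1.congr_eq_13.{0}
  have := @Cfsg.IsOfLieType.match_1.congr_eq_14.{0}
  have := @Cfsg.IsOfLieType.match_1.congr_eq_15.{0}
  have := @Cfsg.IsOfLieType.match_1.congr_eq_16.{0}
  have := @Cfsg.instDecidableEqLieFamily.decEq.eq_1
  have := @Cfsg.instDecidableEqLieFamily.decEq.eq_def
  have := @Cfsg.instDecidableEqLieFamily.decEq.eq_unfold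
  have := @Cfsg.instDecidableEqLieFamily.decEq.fun_cases
  have := @Cfsg.instDecidableEqLieFamily.decEq.fun_cases_unfolding
  have := @derivedSeries.eq_def.{0}
  have := @derivedSeries.eq_unfold.{0}
  have := @derivedSeries.induct
  trivial
theorem CfsgBase.r12 : True := by
  have := @derivedSeries.induct_unfolding.{0}
  have := @derivedSeries.fun_cases
  have := @derivedSeries.fun_cases_unfolding.{0}
  have := @derivedSeries.eq_1.{0}
  have := @derivedSeries.eq_2.{0}
  have := @derivedSeries.match_1.congr_eq_1.{0}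
  have := @derivedSeries.match_1.congr_eq_2.{0}
  have := @lowerCentralSeries.eq_def.{0}
  have := @lowerCentralSeries.eq_unfold.{0}
  have := @lowerCentralSeries.fun_cases
  have := @lowerCentralSeries.fun_cases_unfolding.{0}
  have := @lowerCentralSeries.eq_1.{0}
  have := @Subgroup.lowerCentralSeries.eq_def.{0}
  have := @Subgroup.lowerCentralSeries.eq_unfold.{0}
  have := @Subgroup.lowerCentralSeries.induct
  have := @Subgroup.lowerCentralSeries.induct_unfolding.{0}
  have := @Subgroup.lowerCentralSeries.fun_cases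
  have := @Subgroup.lowerCentralSeries.fun_cases_unfolding.{0}
  have := @Subgroup.lowerCentralSeries.eq_1.{0}
  have := @Subgroup.lowerCentralSeries.eq_2.{0}
  trivial
theorem CfsgBase.r13 : True := by
  have := @upperCentralSeriesAux.eq_def.{0}
  have := @upperCentralSeriesAux.eq_unfold.{0}
  have := @upperCentralSeriesAux.fun_cases
  have := @upperCentralSeriesAux.fun_cases_unfolding.{0}
  have := @upperCentralSeriesAux.eq_1.{0}
  have := @Subgroup.upperCentralSeriesAux.eq_def.{0}
  have := @Subgroup.upperCentralSeriesAux.eq_unfold.{0}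
  have := @Subgroup.upperCentralSeriesAux.induct.{0}
  have := @Subgroup.upperCentralSeriesAux.induct_unfolding.{0}
  have := @Subgroup.upperCentralSeriesAux.fun_cases.{0}
  have := @Subgroup.upperCentralSeriesAux.fun_cases_unfolding.{0}
  have := @Subgroup.upperCentralSeriesAux.eq_1.{0}
  have := @Subgroup.upperCentralSeriesAux.eq_2.{0}
  have := @Subgroup.upperCentralSeriesAux.match_1.congr_eq_1.{0}
  have := @Subgroup.upperCentralSeriesAux.match_1.congr_eq_2.{0}
  have := @upperCentralSeries.eq_def.{0}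
  have := @upperCentralSeries.eq_unfold.{0}
  have := @upperCentralSeries.fun_cases
  have := @upperCentralSeries.fun_cases_unfolding.{0}
  have := @upperCentralSeries.eq_1.{0}
  trivial
theorem CfsgBase.r14 : True := by
  have := @Subgroup.upperCentralSeries.eq_def.{0}
  have := @Subgroup.upperCentralSeries.eq_unfold.{0}
  have := @Subgroup.upperCentralSeries.fun_cases
  have := @Subgroup.upperCentralSeries.fun_cases_unfolding.{0}
  have := @Subgroup.upperCentralSeries.eq_1.{0}
  have := @List.foldr.eq_def.{0,0}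
  have := @List.foldr.eq_unfold.{0,0}
  have := @List.foldr.induct.{0}
  have := @List.foldr.induct_unfolding.{0,0}
  have := @List.foldr.fun_cases.{0}
  have := @List.foldr.fun_cases_unfolding.{0,0}
  have := @List.foldr.eq_1.{0,0}
  have := @List.foldr.eq_2.{0,0}
  have := @List.foldl.eq_def.{0,0}
  have := @List.foldl.eq_unfold.{0,0}
  have := @List.foldl.induct.{0,0}
  have := @List.foldl.induct_unfolding.{0,0}
  have := @List.foldl.fun_cases.{0,0}
  have := @List.foldl.fun_cases_unfolding.{0,0}
  have := @List.foldl.eq_1.{0,0}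
  trivial
theorem CfsgBase.r15 : True := by
  have := @List.foldl.eq_2.{0,0}
  have := @List.foldl.match_1.congr_eq_1.{0,0,0}
  have := @List.foldl.match_1.congr_eq_2.{0,0,0}
  have := @List.map.eq_def.{0,0}
  have := @List.map.eq_unfold.{0,0}
  have := @List.map.induct.{0}
  have := @List.map.induct_unfolding.{0,0}
  have := @List.map.fun_cases.{0}
  have := @List.map.fun_cases_unfolding.{0,0}
  have := @List.map.eq_1.{0,0}
  have := @List.map.eq_2.{0,0}
  have := @List.filter.eq_def.{0}
  have := @List.filter.eq_unfold.{0}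
  have := @List.filter.induct.{0}
  have := @List.filter.induct_unfolding.{0}
  have := @List.filter.fun_cases.{0}
  have := @List.filter.fun_cases_unfolding.{0}
  have := @List.filter.eq_1.{0}
  have := @List.filter.eq_2.{0}
  have := @List.filter.match_1.congr_eq_1.{0}
  trivial
theorem CfsgBase.r16 : True := by
  have := @List.filter.match_1.congr_eq_2.{0}
  have := @List.length.eq_def.{0}
  have := @List.length.eq_unfold.{0}
  have := @List.length.induct.{0}
  have := @List.length.induct_unfolding.{0}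
  have := @List.length.fun_cases.{0}
  have := @List.length.fun_cases_unfolding.{0}
  have := @List.length.eq_1.{0}
  have := @List.length.eq_2.{0}
  have := @List.append.eq_def.{0}
  have := @List.append.eq_unfold.{0}
  have := @List.append.induct.{0}
  have := @List.append.induct_unfolding.{0}
  have := @List.append.fun_cases.{0}
  have := @List.append.fun_cases_unfolding.{0}
  have := @List.append.eq_1.{0}
  have := @List.append.eq_2.{0}
  have := @List.append.match_1.congr_eq_1.{0,0}
  have := @List.append.match_1.congr_eq_2.{0,0}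
  have := @List.replicate.eq_def.{0}
  trivial
theorem CfsgBase.r17 : True := by
  have := @List.replicate.eq_unfold.{0}
  have := @List.replicate.induct.{0}
  have := @List.replicate.induct_unfolding.{0}
  have := @List.replicate.fun_cases.{0}
  have := @List.replicate.fun_cases_unfolding.{0}
  have := @List.replicate.eq_1.{0}
  have := @List.replicate.eq_2.{0}
  have := @List.replicate.match_1.congr_eq_1.{0,0}
  have := @List.replicate.match_1.congr_eq_2.{0,0}
  have := @List.range.loop.eq_def
  have := @List.range.loop.eq_unfold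
  have := @List.range.loop.induct
  have := @List.range.loop.induct_unfolding
  have := @List.range.loop.fun_cases
  have := @List.range.loop.fun_cases_unfolding
  have := @List.range.loop.eq_1
  have := @List.range.loop.eq_2
  have := @List.range.loop.match_1.congr_eq_1.{0}
  have := @List.range.loop.match_1.congr_eq_2.{0}
  have := @List.all.eq_def.{0}
  trivial
theorem CfsgBase.r18 : True := by
  have := @List.all.eq_unfold.{0}
  have := @List.all.induct.{0}
  have := @List.all.induct_unfolding.{0}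
  have := @List.all.fun_cases.{0}
  have := @List.all.fun_cases_unfolding.{0}
  have := @List.all.eq_1.{0}
  have := @List.all.eq_2.{0}
  have := @List.any.eq_def.{0}
  have := @List.any.eq_unfold.{0}
  have := @List.any.induct.{0}
  have := @List.any.induct_unfolding.{0}
  have := @List.any.fun_cases.{0}
  have := @List.any.fun_cases_unfolding.{0}
  have := @List.any.eq_1.{0}
  have := @List.any.eq_2.{0}
  have := @List.any.match_1.congr_eq_1.{0,0}
  have := @List.any.match_1.congr_eq_2.{0,0}
  have := @List.get.eq_def.{0}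
  have := @List.get.eq_unfold.{0}
  have := @List.get.induct.{0}
  trivial
theorem CfsgBase.r19 : True := by
  have := @List.get.induct_unfolding.{0}
  have := @List.get.fun_cases.{0}
  have := @List.get.fun_cases_unfolding.{0}
  have := @List.get.eq_1.{0}
  have := @List.get.eq_2.{0}
  have := @List.get.match_1.congr_eq_1.{0,0}
  have := @List.get.match_1.congr_eq_2.{0,0}
  have := @List.getD.eq_def.{0}
  have := @List.getD.eq_unfold.{0}
  have := @List.getD.fun_cases
  have := @List.getD.fun_cases_unfolding.{0}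
  have := @List.getD.eq_1.{0}
  have := @List.take.eq_def.{0}
  have := @List.take.eq_unfold.{0}
  have := @List.take.induct.{0}
  have := @List.take.induct_unfolding.{0}
  have := @List.take.fun_cases.{0}
  have := @List.take.fun_cases_unfolding.{0}
  have := @List.take.eq_1.{0}
  have := @List.take.eq_2.{0}
  trivial
theorem CfsgBase.r20 : True := by
  have := @List.take.eq_3.{0}
  have := @List.take.match_1.congr_eq_1.{0,0}
  have := @List.take.match_1.congr_eq_2.{0,0}
  have := @List.take.match_1.congr_eq_3.{0,0}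
  have := @List.drop.eq_def.{0}
  have := @List.drop.eq_unfold.{0}
  have := @List.drop.induct.{0}
  have := @List.drop.induct_unfolding.{0}
  have := @List.drop.fun_cases.{0}
  have := @List.drop.fun_cases_unfolding.{0}
  have := @List.drop.eq_1.{0}
  have := @List.drop.eq_2.{0}
  have := @List.drop.eq_3.{0}
  have := @List.zipWith.eq_def.{0,0,0}
  have := @List.zipWith.eq_unfold.{0,0,0}
  have := @List.zipWith.induct.{0,0}
  have := @List.zipWith.induct_unfolding.{0,0,0}
  have := @List.zipWith.fun_cases.{0,0}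
  have := @List.zipWith.fun_cases_unfolding.{0,0,0}
  have := @List.zipWith.eq_1.{0,0,0}
  trivial
theorem CfsgBase.r21 : True := by
  have := @List.zipWith.eq_2.{0,0,0}
  have := @List.zipWith.match_1.congr_eq_1.{0,0,0}
  have := @List.zipWith.match_1.congr_eq_2.{0,0,0}
  have := @List.flatten.eq_def.{0}
  have := @List.flatten.eq_unfold.{0}
  have := @List.flatten.induct.{0}
  have := @List.flatten.induct_unfolding.{0}
  have := @List.flatten.fun_cases.{0}
  have := @List.flatten.fun_cases_unfolding.{0}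
  have := @List.flatten.eq_1.{0}
  have := @List.flatten.eq_2.{0}
  have := @List.flatten.match_1.congr_eq_1.{0,0}
  have := @List.flatten.match_1.congr_eq_2.{0,0}
  have := @List.filterMap.eq_def.{0,0}
  have := @List.filterMap.eq_unfold.{0,0}
  have := @List.filterMap.induct.{0,0}
  have := @List.filterMap.induct_unfolding.{0,0}
  have := @List.filterMap.fun_cases.{0,0}
  have := @List.filterMap.fun_cases_unfolding.{0,0}
  have := @List.filterMap.eq_1.{0,0}
  trivial
theorem CfsgBase.r22 : True := by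
  have := @List.filterMap.eq_2.{0,0}
  have := @List.filterMap.match_1.congr_eq_1.{0,0}
  have := @List.filterMap.match_1.congr_eq_2.{0,0}
  have := @List.lookup.eq_def.{0,0}
  have := @List.lookup.eq_unfold.{0,0}
  have := @List.lookup.induct.{0,0}
  have := @List.lookup.induct_unfolding.{0,0}
  have := @List.lookup.fun_cases.{0,0}
  have := @List.lookup.fun_cases_unfolding.{0,0}
  have := @List.lookup.eq_1.{0,0}
  have := @List.lookup.eq_2.{0,0}
  have := @List.lookup.match_1.congr_eq_1.{0,0,0}
  have := @List.lookup.match_1.congr_eq_2.{0,0,0}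
  have := @List.find?.eq_def.{0}
  have := @List.find?.eq_unfold.{0}
  have := @List.find?.induct.{0}
  have := @List.find?.induct_unfolding.{0}
  have := @List.find?.fun_cases.{0}
  have := @List.find?.fun_cases_unfolding.{0}
  have := @List.find?.eq_1.{0}
  trivial
theorem CfsgBase.r23 : True := by
  have := @List.find?.eq_2.{0}
  have := @List.findIdx?.eq_def.{0}
  have := @List.findIdx?.eq_unfold.{0}
  have := @List.findIdx?.fun_cases
  have := @List.findIdx?.fun_cases_unfolding.{0}
  have := @List.findIdx?.eq_1.{0}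
  have := @List.elem.eq_def.{0}
  have := @List.elem.eq_unfold.{0}
  have := @List.elem.induct.{0}
  have := @List.elem.induct_unfolding.{0}
  have := @List.elem.fun_cases.{0}
  have := @List.elem.fun_cases_unfolding.{0}
  have := @List.elem.eq_1.{0}
  have := @List.elem.eq_2.{0}
  have := @List.prod.eq_def.{0}
  have := @List.prod.eq_unfold.{0}
  have := @List.prod.fun_cases
  have := @List.prod.fun_cases_unfolding.{0}
  have := @List.prod.eq_1.{0}
  have := @List.sum.eq_def.{0}
  trivial
theorem CfsgBase.r24 : True := by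
  have := @List.sum.eq_unfold.{0}
  have := @List.sum.fun_cases
  have := @List.sum.fun_cases_unfolding.{0}
  have := @List.sum.eq_1.{0}
  have := @Nat.iterate.eq_def.{0}
  have := @Nat.iterate.eq_unfold.{0}
  have := @Nat.iterate.induct.{0}
  have := @Nat.iterate.induct_unfolding.{0}
  have := @Nat.iterate.fun_cases.{0}
  have := @Nat.iterate.fun_cases_unfolding.{0}
  have := @Nat.iterate.eq_1.{0}
  have := @Nat.iterate.eq_2.{0}
  have := @Nat.iterate.match_1.congr_eq_1.{0,0}
  have := @Nat.iterate.match_1.congr_eq_2.{0,0}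
  have := @Nat.factorial.eq_def
  have := @Nat.factorial.eq_unfold
  have := @Nat.factorial.induct
  have := @Nat.factorial.induct_unfolding
  have := @Nat.factorial.fun_cases
  have := @Nat.factorial.fun_cases_unfolding
  trivial
theorem CfsgBase.r25 : True := by
  have := @Nat.factorial.eq_1
  have := @Nat.factorial.eq_2
  have := @Nat.factorial.match_1.congr_eq_1.{0}
  have := @Nat.factorial.match_1.congr_eq_2.{0}
  have := @Nat.choose.eq_def
  have := @Nat.choose.eq_unfold
  have := @Nat.choose.induct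
  have := @Nat.choose.induct_unfolding
  have := @Nat.choose.fun_cases
  have := @Nat.choose.fun_cases_unfolding
  have := @Nat.choose.eq_1
  have := @Nat.choose.eq_2
  have := @Nat.choose.eq_3
  have := @Nat.choose.match_1.congr_eq_1.{0}
  have := @Nat.choose.match_1.congr_eq_2.{0}
  have := @Nat.choose.match_1.congr_eq_3.{0}
  have := @Nat.descFactorial.eq_def
  have := @Nat.descFactorial.eq_unfold
  have := @Nat.descFactorial.induct
  have := @Nat.descFactorial.induct_unfolding
  trivial
theorem CfsgBase.r26 : True := by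
  have := @Nat.descFactorial.fun_cases
  have := @Nat.descFactorial.fun_cases_unfolding
  have := @Nat.descFactorial.eq_1
  have := @Nat.descFactorial.eq_2
  have := @Nat.ascFactorial.eq_def
  have := @Nat.ascFactorial.eq_unfold
  have := @Nat.ascFactorial.induct
  have := @Nat.ascFactorial.induct_unfolding
  have := @Nat.ascFactorial.fun_cases
  have := @Nat.ascFactorial.fun_cases_unfolding
  have := @Nat.ascFactorial.eq_1
  have := @Nat.ascFactorial.eq_2
  have := @Nat.pow.eq_def
  have := @Nat.pow.eq_unfold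
  have := @Nat.pow.induct
  have := @Nat.pow.induct_unfolding
  have := @Nat.pow.fun_cases
  have := @Nat.pow.fun_cases_unfolding
  have := @Nat.pow.eq_1
  have := @Nat.pow.eq_2
  trivial
theorem CfsgBase.r27 : True := by
  have := @Nat.pow.match_1.congr_eq_1.{0}
  have := @Nat.pow.match_1.congr_eq_2.{0}
  have := @Nat.add.eq_def
  have := @Nat.add.eq_unfold
  have := @Nat.add.induct
  have := @Nat.add.induct_unfolding
  have := @Nat.add.fun_cases
  have := @Nat.add.fun_cases_unfolding
  have := @Nat.add.eq_1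
  have := @Nat.add.eq_2
  have := @Nat.add.match_1.congr_eq_1.{0}
  have := @Nat.add.match_1.congr_eq_2.{0}
  have := @Nat.mul.eq_def
  have := @Nat.mul.eq_unfold
  have := @Nat.mul.induct
  have := @Nat.mul.induct_unfolding
  have := @Nat.mul.fun_cases
  have := @Nat.mul.fun_cases_unfolding
  have := @Nat.mul.eq_1
  have := @Nat.mul.eq_2
  trivial
theorem CfsgBase.r28 : True := by
  have := @Nat.mul.match_1.congr_eq_1.{0}
  have := @Nat.mul.match_1.congr_eq_2.{0}
  have := @Nat.sub.eq_def
  have := @Nat.sub.eq_unfold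
  have := @Nat.sub.induct
  have := @Nat.sub.induct_unfolding
  have := @Nat.sub.fun_cases
  have := @Nat.sub.fun_cases_unfolding
  have := @Nat.sub.eq_1
  have := @Nat.sub.eq_2
  have := @Nat.gcd.eq_def
  have := @Nat.gcd.eq_unfold
  have := @Nat.gcd.induct
  have := @Nat.gcd.induct_unfolding
  have := @Nat.gcd.fun_cases
  have := @Nat.gcd.fun_cases_unfolding
  have := @Nat.gcd.eq_1
  have := @Nat.repeat.eq_def.{0}
  have := @Nat.repeat.eq_unfold.{0}
  have := @Nat.repeat.induct.{0}
  trivial
theorem CfsgBase.r29 : True := by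
  have := @Nat.repeat.induct_unfolding.{0}
  have := @Nat.repeat.fun_cases.{0}
  have := @Nat.repeat.fun_cases_unfolding.{0}
  have := @Nat.repeat.eq_1.{0}
  have := @Nat.repeat.eq_2.{0}
  have := @Nat.repeat.match_1.congr_eq_1.{0,0}
  have := @Nat.repeat.match_1.congr_eq_2.{0,0}
  have := @Nat.fold.eq_def.{0}
  have := @Nat.fold.eq_unfold.{0}
  have := @Nat.fold.induct.{0}
  have := @Nat.fold.induct_unfolding.{0}
  have := @Nat.fold.fun_cases.{0}
  have := @Nat.fold.fun_cases_unfolding.{0}
  have := @Nat.fold.eq_1.{0}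
  have := @Nat.fold.eq_2.{0}
  have := @Nat.all.eq_def
  have := @Nat.all.eq_unfold
  have := @Nat.all.induct
  have := @Nat.all.induct_unfolding
  have := @Nat.all.fun_cases
  trivial
theorem CfsgBase.r30 : True := by
  have := @Nat.all.fun_cases_unfolding
  have := @Nat.all.eq_1
  have := @Nat.all.eq_2
  have := @Nat.any.eq_def
  have := @Nat.any.eq_unfold
  have := @Nat.any.induct
  have := @Nat.any.induct_unfolding
  have := @Nat.any.fun_cases
  have := @Nat.any.fun_cases_unfolding
  have := @Nat.any.eq_1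
  have := @Nat.any.eq_2
  have := @Nat.testBit.eq_def
  have := @Nat.testBit.eq_unfold
  have := @Nat.testBit.fun_cases
  have := @Nat.testBit.fun_cases_unfolding
  have := @Nat.testBit.eq_1
  have := @Nat.bitwise.eq_def
  have := @Nat.bitwise.eq_unfold
  have := @Nat.bitwise.induct
  have := @Nat.bitwise.induct_unfolding
  trivial
theorem CfsgBase.r31 : True := by
  have := @Nat.bitwise.fun_cases
  have := @Nat.bitwise.fun_cases_unfolding
  have := @Nat.bitwise.eq_1
  have := @Nat.log2.eq_def
  have := @Nat.log2.eq_unfold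
  have := @Nat.log2.fun_cases
  have := @Nat.log2.fun_cases_unfolding
  have := @Nat.log2.eq_1
  have := @Nat.beq.eq_def
  have := @Nat.beq.eq_unfold
  have := @Nat.beq.induct
  have := @Nat.beq.induct_unfolding
  have := @Nat.beq.fun_cases
  have := @Nat.beq.fun_cases_unfolding
  have := @Nat.beq.eq_1
  have := @Nat.beq.eq_2
  have := @Nat.beq.eq_3
  have := @Nat.beq.eq_4
  have := @Nat.beq.match_1.congr_eq_1.{0}
  have := @Nat.beq.match_1.congr_eq_2.{0}
  trivial
theorem CfsgBase.r32 : True := by
  have := @Nat.beq.match_1.congr_eq_3.{0}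
  have := @Nat.beq.match_1.congr_eq_4.{0}
  have := @Nat.ble.eq_def
  have := @Nat.ble.eq_unfold
  have := @Nat.ble.induct
  have := @Nat.ble.induct_unfolding
  have := @Nat.ble.fun_cases
  have := @Nat.ble.fun_cases_unfolding
  have := @Nat.ble.eq_1
  have := @Nat.ble.eq_2
  have := @Nat.ble.eq_3
  have := @Nat.ble.match_1.congr_eq_1.{0}
  have := @Nat.ble.match_1.congr_eq_2.{0}
  have := @Nat.ble.match_1.congr_eq_3.{0}
  have := @npowRec.eq_def.{0}
  have := @npowRec.eq_unfold.{0}
  have := @npowRec.induct.{0}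
  have := @npowRec.induct_unfolding.{0}
  have := @npowRec.fun_cases.{0}
  have := @npowRec.fun_cases_unfolding.{0}
  trivial
theorem CfsgBase.r33 : True := by
  have := @npowRec.eq_1.{0}
  have := @npowRec.eq_2.{0}
  have := @npowRec.match_1.congr_eq_1.{0,0}
  have := @npowRec.match_1.congr_eq_2.{0,0}
  have := @npowRec'.eq_def.{0}
  have := @npowRec'.eq_unfold.{0}
  have := @npowRec'.induct.{0}
  have := @npowRec'.induct_unfolding.{0}
  have := @npowRec'.fun_cases.{0}
  have := @npowRec'.fun_cases_unfolding.{0}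
  have := @npowRec'.eq_1.{0}
  have := @npowRec'.eq_2.{0}
  have := @npowRec'.eq_3.{0}
  have := @npowRec'.match_1.congr_eq_1.{0,0}
  have := @npowRec'.match_1.congr_eq_2.{0,0}
  have := @npowRec'.match_1.congr_eq_3.{0,0}
  have := @zpowRec.eq_def.{0}
  have := @zpowRec.eq_unfold.{0}
  have := @zpowRec.fun_cases.{0}
  have := @zpowRec.fun_cases_unfolding.{0}
  trivial
theorem CfsgBase.r34 : True := by
  have := @zpowRec.eq_1.{0}
  have := @zpowRec.eq_2.{0}
  have := @zpowRec.match_1.congr_eq_1.{0,0}
  have := @zpowRec.match_1.congr_eq_2.{0,0}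
  have := @nsmulRec.eq_def.{0}
  have := @nsmulRec.eq_unfold.{0}
  have := @nsmulRec.induct.{0}
  have := @nsmulRec.induct_unfolding.{0}
  have := @nsmulRec.fun_cases.{0}
  have := @nsmulRec.fun_cases_unfolding.{0}
  have := @nsmulRec.eq_1.{0}
  have := @nsmulRec.eq_2.{0}
  have := @Fin.foldl.eq_def.{0}
  have := @Fin.foldl.eq_unfold.{0}
  have := @Fin.foldl.fun_cases
  have := @Fin.foldl.fun_cases_unfolding.{0}
  have := @Fin.foldl.eq_1.{0}
  have := @Fin.foldr.eq_def.{0}
  have := @Fin.foldr.eq_unfold.{0}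
  have := @Fin.foldr.fun_cases
  trivial
theorem CfsgBase.r35 : True := by
  have := @Fin.foldr.fun_cases_unfolding.{0}
  have := @Fin.foldr.eq_1.{0}
  have := @Fin.induction.eq_def.{0}
  have := @Fin.induction.eq_unfold.{0}
  have := @Fin.induction.fun_cases
  have := @Fin.induction.fun_cases_unfolding.{0}
  have := @Fin.induction.eq_1.{0}
  have := @Fin.induction.match_1.congr_eq_1.{0}
  have := @List.ofFn.eq_def.{0}
  have := @List.ofFn.eq_unfold.{0}
  have := @List.ofFn.fun_cases
  have := @List.ofFn.fun_cases_unfolding.{0}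
  have := @List.ofFn.eq_1.{0}
  have := @List.finRange.eq_def
  have := @List.finRange.eq_unfold
  have := @List.finRange.fun_cases
  have := @List.finRange.fun_cases_unfolding
  have := @List.finRange.eq_1
  have := @List.range'.eq_def
  have := @List.range'.eq_unfold
  trivial
theorem CfsgBase.r36 : True := by
  have := @List.range'.induct
  have := @List.range'.induct_unfolding
  have := @List.range'.fun_cases
  have := @List.range'.fun_cases_unfolding
  have := @List.range'.eq_1
  have := @List.range'.eq_2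
  have := @List.range'.match_1.congr_eq_1.{0}
  have := @List.range'.match_1.congr_eq_2.{0}
  have := @List.reverseAux.eq_def.{0}
  have := @List.reverseAux.eq_unfold.{0}
  have := @List.reverseAux.induct.{0}
  have := @List.reverseAux.induct_unfolding.{0}
  have := @List.reverseAux.fun_cases.{0}
  have := @List.reverseAux.fun_cases_unfolding.{0}
  have := @List.reverseAux.eq_1.{0}
  have := @List.reverseAux.eq_2.{0}
  have := @List.reverseAux.match_1.congr_eq_1.{0,0}
  have := @List.reverseAux.match_1.congr_eq_2.{0,0}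
  have := @List.eraseIdx.eq_def.{0}
  have := @List.eraseIdx.eq_unfold.{0}
  trivial
theorem CfsgBase.r37 : True := by
  have := @List.eraseIdx.induct.{0}
  have := @List.eraseIdx.induct_unfolding.{0}
  have := @List.eraseIdx.fun_cases.{0}
  have := @List.eraseIdx.fun_cases_unfolding.{0}
  have := @List.eraseIdx.eq_1.{0}
  have := @List.eraseIdx.eq_2.{0}
  have := @List.eraseIdx.eq_3.{0}
  have := @List.eraseIdx.match_1.congr_eq_1.{0,0}
  have := @List.eraseIdx.match_1.congr_eq_2.{0,0}
  have := @List.eraseIdx.match_1.congr_eq_3.{0,0}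
  have := @List.erase.eq_def.{0}
  have := @List.erase.eq_unfold.{0}
  have := @List.erase.induct.{0}
  have := @List.erase.induct_unfolding.{0}
  have := @List.erase.fun_cases.{0}
  have := @List.erase.fun_cases_unfolding.{0}
  have := @List.erase.eq_1.{0}
  have := @List.erase.eq_2.{0}
  have := @List.idxOf.eq_def.{0}
  have := @List.idxOf.eq_unfold.{0}
  trivial
theorem CfsgBase.r38 : True := by
  have := @List.idxOf.fun_cases
  have := @List.idxOf.fun_cases_unfolding.{0}
  have := @List.idxOf.eq_1.{0}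
  have := @List.countP.go.eq_def.{0}
  have := @List.countP.go.eq_unfold.{0}
  have := @List.countP.go.induct.{0}
  have := @List.countP.go.induct_unfolding.{0}
  have := @List.countP.go.fun_cases.{0}
  have := @List.countP.go.fun_cases_unfolding.{0}
  have := @List.countP.go.eq_1.{0}
  have := @List.countP.go.eq_2.{0}
  have := @List.zip.eq_def.{0,0}
  have := @List.zip.eq_unfold.{0,0}
  have := @List.zip.fun_cases
  have := @List.zip.fun_cases_unfolding.{0,0}
  have := @List.zip.eq_1.{0,0}
  have := @List.getLast?.eq_def.{0}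
  have := @List.getLast?.eq_unfold.{0}
  have := @List.getLast?.fun_cases.{0}
  have := @List.getLast?.fun_cases_unfolding.{0}
  trivial
theorem CfsgBase.r39 : True := by
  have := @List.getLast?.eq_1.{0}
  have := @List.getLast?.eq_2.{0}
  have := @List.getLast?.match_1.congr_eq_1.{0,0}
  have := @List.getLast?.match_1.congr_eq_2.{0,0}
  have := @List.head?.eq_def.{0}
  have := @List.head?.eq_unfold.{0}
  have := @List.head?.fun_cases.{0}
  have := @List.head?.fun_cases_unfolding.{0}
  have := @List.head?.eq_1.{0}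
  have := @List.head?.eq_2.{0}
  have := @List.set.eq_def.{0}
  have := @List.set.eq_unfold.{0}
  have := @List.set.induct.{0}
  have := @List.set.induct_unfolding.{0}
  have := @List.set.fun_cases.{0}
  have := @List.set.fun_cases_unfolding.{0}
  have := @List.set.eq_1.{0}
  have := @List.set.eq_2.{0}
  have := @List.set.eq_3.{0}
  have := @List.set.match_1.congr_eq_1.{0,0}
  trivial
theorem CfsgBase.r40 : True := by
  have := @List.set.match_1.congr_eq_2.{0,0}
  have := @List.set.match_1.congr_eq_3.{0,0}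
  have := @List.sublists.eq_def.{0}
  have := @List.sublists.eq_unfold.{0}
  have := @List.sublists.fun_cases
  have := @List.sublists.fun_cases_unfolding.{0}
  have := @List.sublists.eq_1.{0}
  have := @List.permutations.eq_def.{0}
  have := @List.permutations.eq_unfold.{0}
  have := @List.permutations.fun_cases
  have := @List.permutations.fun_cases_unfolding.{0}
  have := @List.permutations.eq_1.{0}
  have := @List.dedup.eq_def.{0}
  have := @List.dedup.eq_unfold.{0}
  have := @List.dedup.fun_cases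
  have := @List.dedup.fun_cases_unfolding.{0}
  have := @List.dedup.eq_1.{0}
  have := @List.pwFilter.eq_def.{0}
  have := @List.pwFilter.eq_unfold.{0}
  have := @List.pwFilter.fun_cases
  trivial
theorem CfsgBase.r41 : True := by
  have := @List.pwFilter.fun_cases_unfolding.{0}
  have := @List.pwFilter.eq_1.{0}
  have := @List.insertionSort.eq_def.{0}
  have := @List.insertionSort.eq_unfold.{0}
  have := @List.insertionSort.fun_cases
  have := @List.insertionSort.fun_cases_unfolding.{0}
  have := @List.insertionSort.eq_1.{0}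
  have := @List.orderedInsert.eq_def.{0}
  have := @List.orderedInsert.eq_unfold.{0}
  have := @List.orderedInsert.induct.{0}
  have := @List.orderedInsert.induct_unfolding.{0}
  have := @List.orderedInsert.fun_cases.{0}
  have := @List.orderedInsert.fun_cases_unfolding.{0}
  have := @List.orderedInsert.eq_1.{0}
  have := @List.orderedInsert.eq_2.{0}
  have := @List.mergeSort.eq_def.{0}
  have := @List.mergeSort.eq_unfold.{0}
  have := @List.mergeSort.induct.{0}
  have := @List.mergeSort.induct_unfolding.{0}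
  have := @List.mergeSort.fun_cases.{0}
  trivial
theorem CfsgBase.r42 : True := by
  have := @List.mergeSort.fun_cases_unfolding.{0}
  have := @List.mergeSort.eq_1.{0}
  have := @List.mergeSort.eq_2.{0}
  have := @List.mergeSort.eq_3.{0}
  have := @Option.map.eq_def.{0,0}
  have := @Option.map.eq_unfold.{0,0}
  have := @Option.map.fun_cases.{0}
  have := @Option.map.fun_cases_unfolding.{0,0}
  have := @Option.map.eq_1.{0,0}
  have := @Option.map.eq_2.{0,0}
  have := @Option.bind.eq_def.{0,0}
  have := @Option.bind.eq_unfold.{0,0}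
  have := @Option.bind.fun_cases.{0,0}
  have := @Option.bind.fun_cases_unfolding.{0,0}
  have := @Option.bind.eq_1.{0,0}
  have := @Option.bind.eq_2.{0,0}
  have := @Option.bind.match_1.congr_eq_1.{0,0,0}
  have := @Option.bind.match_1.congr_eq_2.{0,0,0}
  have := @Option.getD.eq_def.{0}
  have := @Option.getD.eq_unfold.{0}
  trivial
theorem CfsgBase.r43 : True := by
  have := @Option.getD.fun_cases.{0}
  have := @Option.getD.fun_cases_unfolding.{0}
  have := @Option.getD.eq_1.{0}
  have := @Option.getD.eq_2.{0}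
  have := @Option.getD.match_1.congr_eq_1.{0,0}
  have := @Option.getD.match_1.congr_eq_2.{0,0}
  have := @Option.elim.eq_def.{0,0}
  have := @Option.elim.eq_unfold.{0,0}
  have := @Option.elim.fun_cases.{0,0}
  have := @Option.elim.fun_cases_unfolding.{0,0}
  have := @Option.elim.eq_1.{0,0}
  have := @Option.elim.eq_2.{0,0}
  have := @Option.elim.match_1.congr_eq_1.{0,0,0}
  have := @Option.elim.match_1.congr_eq_2.{0,0,0}
  have := @Sum.elim.eq_def.{0,0,0}
  have := @Sum.elim.eq_unfold.{0,0,0}
  have := @Sum.elim.eq_1.{0,0,0}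
  have := @Sum.map.eq_def.{0,0,0,0}
  have := @Sum.map.eq_unfold.{0,0,0,0}
  have := @Sum.map.fun_cases
  trivial
theorem CfsgBase.r44 : True := by
  have := @Sum.map.fun_cases_unfolding.{0,0,0,0}
  have := @Sum.map.eq_1.{0,0,0,0}
  have := @Sum.swap.eq_def.{0,0}
  have := @Sum.swap.eq_unfold.{0,0}
  have := @Sum.swap.fun_cases
  have := @Sum.swap.fun_cases_unfolding.{0,0}
  have := @Sum.swap.eq_1.{0,0}
  have := @Prod.map.eq_def.{0,0,0,0}
  have := @Prod.map.eq_unfold.{0,0,0,0}
  have := @Prod.map.fun_cases.{0,0}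
  have := @Prod.map.fun_cases_unfolding.{0,0,0,0}
  have := @Prod.map.eq_1.{0,0,0,0}
  have := @Prod.swap.eq_def.{0,0}
  have := @Prod.swap.eq_unfold.{0,0}
  have := @Prod.swap.fun_cases
  have := @Prod.swap.fun_cases_unfolding.{0,0}
  have := @Prod.swap.eq_1.{0,0}
  have := @ZMod.eq_def
  have := @ZMod.eq_unfold
  have := @ZMod.fun_cases
  trivial
theorem CfsgBase.r45 : True := by
  have := @ZMod.fun_cases_unfolding
  have := @ZMod.eq_1
  have := @ZMod.eq_2
  have := @ZMod.match_1.congr_eq_1.{0}
  have := @ZMod.match_1.congr_eq_2.{0}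
  have := @ZMod.val.eq_def
  have := @ZMod.val.eq_unfold
  have := @ZMod.val.fun_cases
  have := @ZMod.val.fun_cases_unfolding
  have := @ZMod.val.eq_1
  have := @ZMod.val.eq_2
  have := @ZMod.val.match_1.congr_eq_1.{0}
  have := @ZMod.val.match_1.congr_eq_2.{0}
  have := @ZMod.cast.eq_def.{0}
  have := @ZMod.cast.eq_unfold.{0}
  have := @ZMod.cast.fun_cases
  have := @ZMod.cast.fun_cases_unfolding.{0}
  have := @ZMod.cast.eq_1.{0}
  have := @ZMod.cast.eq_2.{0}
  have := @ZMod.inv.eq_def
  trivial
theorem CfsgBase.r46 : True := by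
  have := @ZMod.inv.eq_unfold
  have := @ZMod.inv.fun_cases
  have := @ZMod.inv.fun_cases_unfolding
  have := @ZMod.inv.eq_1
  have := @ZMod.inv.eq_2
  have := @ZMod.inv.match_1.congr_eq_1.{0}
  have := @ZMod.inv.match_1.congr_eq_2.{0}
  have := @FreeGroup.reduce.eq_def.{0}
  have := @FreeGroup.reduce.eq_unfold.{0}
  have := @FreeGroup.reduce.fun_cases
  have := @FreeGroup.reduce.fun_cases_unfolding.{0}
  have := @FreeGroup.reduce.eq_1.{0}
  have := @FreeGroup.invRev.eq_def.{0}
  have := @FreeGroup.invRev.eq_unfold.{0}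
  have := @FreeGroup.invRev.fun_cases
  have := @FreeGroup.invRev.fun_cases_unfolding.{0}
  have := @FreeGroup.invRev.eq_1.{0}
  have := @Equiv.Perm.cycleFactorsAux.eq_def.{0}
  have := @Equiv.Perm.cycleFactorsAux.eq_unfold.{0}
  have := @Equiv.Perm.cycleFactorsAux.fun_cases
  trivial
theorem CfsgBase.r47 : True := by
  have := @Equiv.Perm.cycleFactorsAux.fun_cases_unfolding.{0}
  have := @Equiv.Perm.cycleFactorsAux.eq_1.{0}
  have := @Int.natAbs.eq_def
  have := @Int.natAbs.eq_unfold
  have := @Int.natAbs.fun_cases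
  have := @Int.natAbs.fun_cases_unfolding
  have := @Int.natAbs.eq_1
  have := @Int.natAbs.eq_2
  have := @Int.toNat.eq_def
  have := @Int.toNat.eq_unfold
  have := @Int.toNat.fun_cases
  have := @Int.toNat.fun_cases_unfolding
  have := @Int.toNat.eq_1
  have := @Int.toNat.eq_2
  have := @Int.toNat.match_1.congr_eq_1.{0}
  have := @Int.toNat.match_1.congr_eq_2.{0}
  have := @Int.sign.eq_def
  have := @Int.sign.eq_unfold
  have := @Int.sign.fun_cases
  have := @Int.sign.fun_cases_unfolding
  trivial
theorem CfsgBase.r48 : True := by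
  have := @Int.sign.eq_1
  have := @Int.sign.eq_2
  have := @Int.sign.eq_3
  have := @Int.sign.match_1.congr_eq_1.{0}
  have := @Int.sign.match_1.congr_eq_2.{0}
  have := @Int.sign.match_1.congr_eq_3.{0}
  have := @Int.pow.eq_def
  have := @Int.pow.eq_unfold
  have := @Int.pow.fun_cases
  have := @Int.pow.fun_cases_unfolding
  have := @Int.pow.eq_1
  have := @Int.pow.eq_2
  have := @Int.pow.match_1.congr_eq_1.{0}
  have := @Int.pow.match_1.congr_eq_2.{0}
  have := @Nat.fib.eq_def
  have := @Nat.fib.eq_unfold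
  have := @Nat.fib.fun_cases
  have := @Nat.fib.fun_cases_unfolding
  have := @Nat.fib.eq_1
  have := @Nat.primeFactorsList.eq_def
  trivial
theorem CfsgBase.r49 : True := by
  have := @Nat.primeFactorsList.eq_unfold
  have := @Nat.primeFactorsList.induct
  have := @Nat.primeFactorsList.induct_unfolding
  have := @Nat.primeFactorsList.fun_cases
  have := @Nat.primeFactorsList.fun_cases_unfolding
  have := @Nat.primeFactorsList.eq_1
  have := @Nat.primeFactorsList.eq_2
  have := @Nat.primeFactorsList.eq_3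
  have := @Nat.primeFactorsList.match_1.congr_eq_1.{0}
  have := @Nat.primeFactorsList.match_1.congr_eq_2.{0}
  have := @Nat.primeFactorsList.match_1.congr_eq_3.{0}
  have := @Nat.minFacAux.eq_def
  have := @Nat.minFacAux.eq_unfold
  have := @Nat.minFacAux.induct
  have := @Nat.minFacAux.induct_unfolding
  have := @Nat.minFacAux.fun_cases
  have := @Nat.minFacAux.fun_cases_unfolding
  have := @Nat.minFacAux.eq_1
  have := @Nat.minFac.eq_def
  have := @Nat.minFac.eq_unfold
  trivial
theorem CfsgBase.r50 : True := by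
  have := @Nat.minFac.fun_cases
  have := @Nat.minFac.fun_cases_unfolding
  have := @Nat.minFac.eq_1
  have := @Nat.digits.eq_def
  have := @Nat.digits.eq_unfold
  have := @Nat.digits.fun_cases
  have := @Nat.digits.fun_cases_unfolding
  have := @Nat.digits.eq_1
  have := @Nat.digits.eq_2
  have := @Nat.digits.eq_3
  have := @Nat.digits.match_1.congr_eq_1.{0}
  have := @Nat.digits.match_1.congr_eq_2.{0}
  have := @Nat.digits.match_1.congr_eq_3.{0}
  have := @Nat.digitsAux.eq_def
  have := @Nat.digitsAux.eq_unfold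
  have := @Nat.digitsAux.induct
  have := @Nat.digitsAux.induct_unfolding
  have := @Nat.digitsAux.fun_cases
  have := @Nat.digitsAux.fun_cases_unfolding
  have := @Nat.digitsAux.eq_1
  trivial
theorem CfsgBase.r51 : True := by
  have := @Nat.digitsAux.eq_2
  have := @Nat.log.eq_def
  have := @Nat.log.eq_unfold
  have := @Nat.log.fun_cases
  have := @Nat.log.fun_cases_unfolding
  have := @Nat.log.eq_1
  have := @Nat.clog.eq_def
  have := @Nat.clog.eq_unfold
  have := @Nat.clog.fun_cases
  have := @Nat.clog.fun_cases_unfolding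
  have := @Nat.clog.eq_1
  have := @Nat.findGreatest.eq_def
  have := @Nat.findGreatest.eq_unfold
  have := @Nat.findGreatest.induct
  have := @Nat.findGreatest.induct_unfolding
  have := @Nat.findGreatest.fun_cases
  have := @Nat.findGreatest.fun_cases_unfolding
  have := @Nat.findGreatest.eq_1
  have := @Nat.findGreatest.eq_2
  have := @Nat.findGreatest.match_1.congr_eq_1.{0}
  trivial
theorem CfsgBase.r52 : True := by
  have := @Nat.findGreatest.match_1.congr_eq_2.{0}
  have := @Nat.binaryRec.eq_def.{0}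
  have := @Nat.binaryRec.eq_unfold.{0}
  have := @Nat.binaryRec.induct.{0}
  have := @Nat.binaryRec.induct_unfolding.{0}
  have := @Nat.binaryRec.fun_cases.{0}
  have := @Nat.binaryRec.fun_cases_unfolding.{0}
  have := @Nat.binaryRec.eq_1.{0}
  have := @Nat.size.eq_def
  have := @Nat.size.eq_unfold
  have := @Nat.size.fun_cases
  have := @Nat.size.fun_cases_unfolding
  have := @Nat.size.eq_1
  have := @Matrix.vecHead.eq_def.{0}
  have := @Matrix.vecHead.eq_unfold.{0}
  have := @Matrix.vecHead.fun_cases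
  have := @Matrix.vecHead.fun_cases_unfolding.{0}
  have := @Matrix.vecHead.eq_1.{0}
  have := @Matrix.vecTail.eq_def.{0}
  have := @Matrix.vecTail.eq_unfold.{0}
  trivial
theorem CfsgBase.r53 : True := by
  have := @Matrix.vecTail.fun_cases
  have := @Matrix.vecTail.fun_cases_unfolding.{0}
  have := @Matrix.vecTail.eq_1.{0}
  have := @LieModule.lowerCentralSeries.eq_def.{0,0,0}
  have := @LieModule.lowerCentralSeries.eq_unfold.{0,0,0}
  have := @LieModule.lowerCentralSeries.fun_cases
  have := @LieModule.lowerCentralSeries.fun_cases_unfolding.{0,0,0}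
  have := @LieModule.lowerCentralSeries.eq_1.{0,0,0}
  have := @LieAlgebra.derivedSeriesOfIdeal.eq_def.{0,0}
  have := @LieAlgebra.derivedSeriesOfIdeal.eq_unfold.{0,0}
  have := @LieAlgebra.derivedSeriesOfIdeal.fun_cases
  have := @LieAlgebra.derivedSeriesOfIdeal.fun_cases_unfolding.{0,0}
  have := @LieAlgebra.derivedSeriesOfIdeal.eq_1.{0,0}
  have := @Nat.xgcdAux.eq_def
  have := @Nat.xgcdAux.eq_unfold
  have := @Nat.xgcdAux.fun_cases
  have := @Nat.xgcdAux.fun_cases_unfolding
  have := @Nat.xgcdAux.eq_1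
  have := @Nat.xgcdAux.match_1.congr_eq_1.{0}
  have := @Nat.xgcdAux.match_1.congr_eq_2.{0}
  trivial
theorem CfsgBase.r54 : True := by
  have := @Nat.gcdA.eq_def
  have := @Nat.gcdA.eq_unfold
  have := @Nat.gcdA.fun_cases
  have := @Nat.gcdA.fun_cases_unfolding
  have := @Nat.gcdA.eq_1
  have := @Nat.gcdB.eq_def
  have := @Nat.gcdB.eq_unfold
  have := @Nat.gcdB.fun_cases
  have := @Nat.gcdB.fun_cases_unfolding
  have := @Nat.gcdB.eq_1
  have := @Int.gcdA.eq_def
  have := @Int.gcdA.eq_unfold
  have := @Int.gcdA.fun_cases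
  have := @Int.gcdA.fun_cases_unfolding
  have := @Int.gcdA.eq_1
  have := @Int.gcdA.eq_2
  have := @Int.gcdA.match_1.congr_eq_1.{0}
  have := @Int.gcdA.match_1.congr_eq_2.{0}
  have := @Int.gcdB.eq_def
  have := @Int.gcdB.eq_unfold
  trivial
theorem CfsgBase.r55 : True := by
  have := @Int.gcdB.fun_cases
  have := @Int.gcdB.fun_cases_unfolding
  have := @Int.gcdB.eq_1
  have := @Int.gcdB.eq_2
  have := @Int.gcdB.match_1.congr_eq_1.{0}
  have := @Int.gcdB.match_1.congr_eq_2.{0}
  have := @Nat.totient.eq_def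
  have := @Nat.totient.eq_unfold
  have := @Nat.totient.fun_cases
  have := @Nat.totient.fun_cases_unfolding
  have := @Nat.totient.eq_1
  have := @Bool.toNat.eq_def
  have := @Bool.toNat.eq_unfold
  have := @Bool.toNat.fun_cases
  have := @Bool.toNat.fun_cases_unfolding
  have := @Bool.toNat.eq_1
  have := @Bool.xor.eq_def
  have := @Bool.xor.eq_unfold
  have := @Bool.xor.fun_cases
  have := @Bool.xor.fun_cases_unfolding
  trivial
theorem CfsgBase.r56 : True := by
  have := @Bool.xor.eq_1
  have := @cond.eq_def.{0}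
  have := @cond.eq_unfold.{0}
  have := @cond.fun_cases
  have := @cond.fun_cases_unfolding.{0}
  have := @cond.eq_1.{0}
  have := @cond.eq_2.{0}
  have := @cond.match_1.congr_eq_1.{0}
  have := @cond.match_1.congr_eq_2.{0}
  have := @Nat.pred.eq_def
  have := @Nat.pred.eq_unfold
  have := @Nat.pred.fun_cases
  have := @Nat.pred.fun_cases_unfolding
  have := @Nat.pred.eq_1
  have := @Nat.pred.eq_2
  have := @Fin.succAbove.eq_def
  have := @Fin.succAbove.eq_unfold
  have := @Fin.succAbove.fun_cases
  have := @Fin.succAbove.fun_cases_unfolding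
  have := @Fin.succAbove.eq_1
  trivial
theorem CfsgBase.r57 : True := by
  have := @Fin.cases.eq_def.{0}
  have := @Fin.cases.eq_unfold.{0}
  have := @Fin.cases.fun_cases
  have := @Fin.cases.fun_cases_unfolding.{0}
  have := @Fin.cases.eq_1.{0}
  have := @Fin.cons.eq_def.{0}
  have := @Fin.cons.eq_unfold.{0}
  have := @Fin.cons.fun_cases
  have := @Fin.cons.fun_cases_unfolding.{0}
  have := @Fin.cons.eq_1.{0}
  have := @Fin.snoc.eq_def.{0}
  have := @Fin.snoc.eq_unfold.{0}
  have := @Fin.snoc.fun_cases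
  have := @Fin.snoc.fun_cases_unfolding.{0}
  have := @Fin.snoc.eq_1.{0}
  have := @Fin.last.eq_def
  have := @Fin.last.eq_unfold
  have := @Fin.last.fun_cases
  have := @Fin.last.fun_cases_unfolding
  have := @Fin.last.eq_1
  trivial
theorem CfsgBase.r58 : True := by
  have := @Nat.decEq.eq_def
  have := @Nat.decEq.eq_unfold
  have := @Nat.decEq.fun_cases
  have := @Nat.decEq.fun_cases_unfolding
  have := @Nat.decEq.eq_1
  have := @Nat.decEq.match_1.congr_eq_1.{0}
  have := @Nat.decEq.match_1.congr_eq_2.{0}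
  have := @Nat.decLe.eq_def
  have := @Nat.decLe.eq_unfold
  have := @Nat.decLe.fun_cases
  have := @Nat.decLe.fun_cases_unfolding
  have := @Nat.decLe.eq_1
  have := @Nat.mod.eq_def
  have := @Nat.mod.eq_unfold
  have := @Nat.mod.fun_cases
  have := @Nat.mod.fun_cases_unfolding
  have := @Nat.mod.eq_1
  have := @Nat.mod.eq_2
  have := @Nat.mod.match_1.congr_eq_1.{0}
  have := @Nat.mod.match_1.congr_eq_2.{0}
  trivial
theorem CfsgBase.r59 : True := by
  have := @Nat.div.eq_def
  have := @Nat.div.eq_unfold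
  have := @Nat.div.fun_cases
  have := @Nat.div.fun_cases_unfolding
  have := @Nat.div.eq_1
  have := @Nat.shiftLeft.eq_def
  have := @Nat.shiftLeft.eq_unfold
  have := @Nat.shiftLeft.induct
  have := @Nat.shiftLeft.induct_unfolding
  have := @Nat.shiftLeft.fun_cases
  have := @Nat.shiftLeft.fun_cases_unfolding
  have := @Nat.shiftLeft.eq_1
  have := @Nat.shiftLeft.eq_2
  have := @Nat.shiftLeft.match_1.congr_eq_1.{0}
  have := @Nat.shiftLeft.match_1.congr_eq_2.{0}
  have := @Nat.shiftRight.eq_def
  have := @Nat.shiftRight.eq_unfold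
  have := @Nat.shiftRight.induct
  have := @Nat.shiftRight.induct_unfolding
  have := @Nat.shiftRight.fun_cases
  trivial
theorem CfsgBase.r60 : True := by
  have := @Nat.shiftRight.fun_cases_unfolding
  have := @Nat.shiftRight.eq_1
  have := @Nat.shiftRight.eq_2
  have := @Nat.land.eq_def
  have := @Nat.land.eq_unfold
  have := @Nat.land.fun_cases
  have := @Nat.land.fun_cases_unfolding
  have := @Nat.land.eq_1
  have := @Nat.lor.eq_def
  have := @Nat.lor.eq_unfold
  have := @Nat.lor.fun_cases
  have := @Nat.lor.fun_cases_unfolding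
  have := @Nat.lor.eq_1
  have := @Nat.xor.eq_def
  have := @Nat.xor.eq_unfold
  have := @Nat.xor.fun_cases
  have := @Nat.xor.fun_cases_unfolding
  have := @Nat.xor.eq_1
  trivial
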