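import Cfsg.Statements.S0261
import Cfsg.Agent.Cls.SL2Forms


set_option autoImplicit false
open Cfsg

namespace Cfsg.Agent.S0261

/-- For q odd, the Sylow 2-subgroups of SL_2(q) are generalised quaternion. -/
theorem result {F : Type*} [Field F] [Fintype F] (hF : Odd (Fintype.card F)) (P : Sylow 2 (Matrix.SpecialLinearGroup (Fin 2) F)) : ∃ k : ℕ, 1 ≤ k ∧ Nonempty ((P : Subgroup (Matrix.SpecialLinearGroup (Fin 2) F)) ≃* QuaternionGroup (2 ^ k)) := by
  have h2 := CL.GL2.two_ne_zero_of_odd hF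
  obtain ⟨p, _, -, hp, -⟩ := FiniteField.card' F
  have := Fact.mk hp
  obtain ⟨ψ, hψ⟩ := CL.SL2.exists_Q8 p h2
  obtain ⟨k, hk⟩ := (CL.SL2.isCyclic_or_quaternion h2 P.isPGroup' _ P.1.subtype_injective).resolve_left
    (CL.SL2.not_isCyclic_sylow_of_Q8 ψ hψ P)
  exact ⟨k + 1, by omega, hk⟩

end Cfsg.Agent.S0261
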