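import Cfsg.Statements.S0160
import Cfsg.Agent.Char.BrauerPerm
import Cfsg.Agent.Char.Span

set_option autoImplicit false
open Cfsg

namespace Cfsg.Agent.S0160

/-- A finite group has as many real-valued irreducible complex characters as conjugacy classes closed under taking inverses. -/
theorem result {G : Type*} [Group G] [Finite G] : Nat.card {χ : Cfsg.IrrCharacter G // ∀ g : G, ((χ : G → ℂ) g).im = 0} = Nat.card {C : ConjClasses G // ∀ g : G, ConjClasses.mk g = C → IsConj g g⁻¹} := by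
  classical
  let τ : ConjClasses G → ConjClasses G := fun C => Quotient.liftOn' C (fun g => ConjClasses.mk g⁻¹) (by
    intro a b hab
    rw [ConjClasses.mk_eq_mk_iff_isConj]
    obtain ⟨c, rfl⟩ := isConj_iff.1 hab
    exact isConj_iff.2 ⟨c, by group⟩)
  have hτ : ∀ g : G, τ (ConjClasses.mk g) = ConjClasses.mk g⁻¹ := fun g => rfl
  have h := CL.Char.brauer_perm (G := G) (fun χ => ⟨fun g => (χ : G → ℂ) g⁻¹, χ.2.inv⟩) τ (by
    intro χ g g' hg
    rw [hτ, ConjClasses.mk_eq_mk_iff_isConj] at hg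
    exact (χ.2.isClassFunction.apply_eq_of_isConj hg).symm)
  convert h using 4 with χ C
  · rw [Subtype.ext_iff, funext_iff]
    refine forall_congr' fun g => ?_
    rw [← Complex.conj_eq_iff_im, χ.2.conj_apply]
  · obtain ⟨a, rfl⟩ := ConjClasses.mk_surjective C
    rw [hτ, ConjClasses.mk_eq_mk_iff_isConj]
    constructor
    · intro h1
      exact (h1 a rfl).symm
    · intro h1 g hg
      rw [ConjClasses.mk_eq_mk_iff_isConj] at hg
      obtain ⟨c, rfl⟩ := isConj_iff.1 hg
      obtain ⟨d, hd⟩ := isConj_iff.1 h1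
      refine isConj_iff.2 ⟨c⁻¹ * d⁻¹ * c, ?_⟩
      calc c⁻¹ * d⁻¹ * c * g * (c⁻¹ * d⁻¹ * c)⁻¹ = c⁻¹ * d⁻¹ * (c * g * c⁻¹) * d * c := by group
        _ = g⁻¹ := by rw [← hd]; group

end Cfsg.Agent.S0160
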