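import Cfsg.Statements.S4866
import Cfsg.Agent.Char.GalFix
import Cfsg.Agent.S0160

set_option autoImplicit false
open Cfsg

namespace Cfsg.Agent.S4866

theorem real_in {G : Type*} [Group G] [Finite G] (K : Subgroup G) [K.Normal] (hodd : Odd K.index)
    {g : G} (h : IsConj g g⁻¹) : ∃ hg : g ∈ K, IsConj (⟨g, hg⟩ : K) ⟨g, hg⟩⁻¹ := by
  obtain ⟨c, hc⟩ := isConj_iff.1 h
  obtain ⟨r, hr⟩ := hodd
  have h1 : ∀ j : ℕ, c ^ (2 * j + 1) * g * (c ^ (2 * j + 1))⁻¹ = g⁻¹ := fun j => by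
    induction j with
    | zero => simpa using hc
    | succ j ih =>
      calc _ = c * (c * (c ^ (2 * j + 1) * g * (c ^ (2 * j + 1))⁻¹) * c⁻¹) * c⁻¹ := by group
        _ = c * (c * g * c⁻¹)⁻¹ * c⁻¹ := by rw [ih]; group
        _ = _ := by rw [hc, inv_inv, hc]
  have h2 := h1 r
  have h3 := K.pow_index_mem c
  rw [← hr] at h2
  have h4 : g * g ∈ K := by
    have h5 := K.mul_mem (‹K.Normal›.conj_mem _ (K.inv_mem h3) g) h3
    have h6 : g * (c ^ K.index)⁻¹ * g⁻¹ * c ^ K.index = g * g := by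
      rw [← h2]; group
    rwa [h6] at h5
  have h5 : g ∈ K := by
    have h6 := K.pow_index_mem g
    rw [hr, pow_succ, pow_mul, sq] at h6
    exact (K.mul_mem_cancel_left (K.pow_mem h4 r)).1 h6
  exact ⟨h5, isConj_iff.2 ⟨⟨_, h3⟩, Subtype.ext h2⟩⟩


/-- Let K be a normal subgroup of odd index in the finite group G. Then G has as many orbits on the real-valued irreducible complex characters of K (acting by conjugation) as it has orbits on the conjugacy classes of K that are real in K; equivalently, the number of G-orbits of real-valued irreducible characters of K equals the number of G-conjugacy classes of elements of K that are conjugate in K to their inverses. -/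
theorem result {G : Type*} [Group G] [Finite G] (K : Subgroup G) [K.Normal] (hodd : Odd K.index) : Nat.card (Quot (fun θ η : {θ : Cfsg.IrrCharacter ↥K // (∀ k : ↥K, ((θ : ↥K → ℂ) k).im = 0)} => ∃ g : G, ∀ k k' : ↥K, (k' : G) = g * (k : G) * g⁻¹ → (η.1 : ↥K → ℂ) k' = (θ.1 : ↥K → ℂ) k)) = Nat.card (Quot (fun x y : {x : ↥K // IsConj x x⁻¹} => ∃ g : G, (y.1 : G) = g * x.1 * g⁻¹)) := by
  have := Fintype.ofFinite G
  have := Fintype.ofFinite K
  have h0 := fun θ : {θ : IrrCharacter K // ∀ k : K, ((θ : K → ℂ) k).im = 0} =>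
    CL.Char.exists_unique_real_over hodd θ.1.2 θ.2
  choose F hF hFr hF1 hFu using h0
  refine (Nat.card_congr (Equiv.ofBijective (Quot.lift
    (fun θ => (⟨⟨F θ, hF θ⟩, hFr θ⟩ : {χ : IrrCharacter G // ∀ g : G, ((χ : G → ℂ) g).im = 0}))
      ?_) ⟨?_, ?_⟩)).trans (Cfsg.Agent.S0160.result.trans (Nat.card_congr (Equiv.ofBijective
        (Quot.lift (fun x : {x : K // IsConj x x⁻¹} => (⟨ConjClasses.mk (x.1 : G), ?_⟩ :
          {C : ConjClasses G // ∀ g : G, ConjClasses.mk g = C → IsConj g g⁻¹})) ?_) ⟨?_, ?_⟩)).symm)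
  · rintro θ η ⟨g, hg⟩
    refine Subtype.ext (Subtype.ext (hFu η _ (hF θ) (hFr θ) ?_))
    rw [← CL.Char.classInner_res_conjChar (hF θ).isClassFunction g,
      show CL.Char.conjChar K g η.1 = θ.1 from funext fun k => hg k _ rfl, hF1]
    exact one_ne_zero
  · rintro ⟨θ⟩ ⟨η⟩ h
    have h1 : F θ = F η := congrArg (fun x => x.1.1) h
    obtain ⟨g, hg⟩ := CL.Char.exists_conjChar_eq_of_classInner_ne_zero (hF η) η.1.2 θ.1.2
      (hF1 η ▸ one_ne_zero) (h1 ▸ hF1 θ ▸ one_ne_zero)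
    refine Quot.sound ⟨g, fun k k' hk => ?_⟩
    rw [← congrFun hg k, CL.Char.conjChar_apply]
    exact congrArg _ (Subtype.ext hk)
  · rintro ⟨χ, hχ⟩
    obtain ⟨θ, hθ, h1⟩ := CL.Char.exists_irr_constituent_restrict K χ.2
    refine ⟨Quot.mk _ ⟨⟨θ, hθ⟩, CL.Char.real_of_under_real hodd χ.2 hχ hθ h1⟩, ?_⟩
    exact Subtype.ext (Subtype.ext (hFu ⟨⟨θ, hθ⟩, CL.Char.real_of_under_real hodd χ.2 hχ hθ h1⟩
      χ.1 χ.2 hχ h1).symm)
  · intro g hg
    have h1 := ConjClasses.mk_eq_mk_iff_isConj.1 hg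
    have h2 : IsConj (x.1 : G) (x.1 : G)⁻¹ := K.subtype.map_isConj x.2
    refine h1.trans (h2.trans ?_)
    obtain ⟨c, hc⟩ := isConj_iff.1 h1.symm
    exact isConj_iff.2 ⟨c, by rw [← hc]; group⟩
  · rintro x y ⟨g, hg⟩
    exact Subtype.ext (ConjClasses.mk_eq_mk_iff_isConj.2 (isConj_iff.2 ⟨g, hg.symm⟩))
  · rintro ⟨x⟩ ⟨y⟩ h
    obtain ⟨g, hg⟩ := isConj_iff.1 (ConjClasses.mk_eq_mk_iff_isConj.1 (congrArg Subtype.val h))
    exact Quot.sound ⟨g, hg.symm⟩
  · rintro ⟨C, hC⟩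
    obtain ⟨g, rfl⟩ := ConjClasses.mk_surjective C
    obtain ⟨hg, h1⟩ := real_in K hodd (hC g rfl)
    exact ⟨Quot.mk _ ⟨⟨g, hg⟩, h1⟩, rfl⟩

end Cfsg.Agent.S4866
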