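import Cfsg.Statements.S3412
import Cfsg.Agent.Blk.GL23Rec
import Cfsg.Agent.Inv.SylGL2
import Cfsg.Agent.Inv.POSimple
import Cfsg.Agent.Inv.PBBasic
import Cfsg.Agent.S2916
import Cfsg.Agent.Known.MathieuIso
import Cfsg.Agent.Cls.SLnCard
import Cfsg.Agent.Cls.SLnBasic
import Cfsg.Agent.Grp.PNilp

set_option autoImplicit false
open Cfsg

namespace Cfsg.Agent.S3412

open Subgroup

theorem card_cent (A : GL (Fin 2) (ZMod 3)) : Nat.card (centralizer ({A} : Set _)) =
    (Finset.univ.filter fun B : Matrix (Fin 2) (Fin 2) (ZMod 3) =>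
      B.det ≠ 0 ∧ B * A.1 = A.1 * B).card := by
  rw [← Fintype.card_subtype, ← Nat.card_eq_fintype_card]
  refine Nat.card_congr ⟨fun B => ⟨B.1.1, B.1.det_ne_zero,
    congrArg Units.val (mem_centralizer_singleton_iff.1 B.2)⟩,
    fun B => ⟨Matrix.GeneralLinearGroup.mkOfDetNeZero B.1 B.2.1,
      mem_centralizer_singleton_iff.2 (Units.ext B.2.2)⟩, fun B => Subtype.ext (Units.ext rfl),
    fun B => rfl⟩

theorem gl_a : ∀ A : Matrix (Fin 2) (Fin 2) (ZMod 3), A = 1 ∨ A = -1 ∨ A.det = 0 ∨
    (Finset.univ.filter fun B : Matrix (Fin 2) (Fin 2) (ZMod 3) =>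
      B.det ≠ 0 ∧ B * A = A * B).card < 12 := by decide +kernel

theorem gl_b : (Finset.univ.filter fun B : Matrix (Fin 2) (Fin 2) (ZMod 3) =>
      B.det ≠ 0 ∧ B * !![1, 0; 0, 2] = !![1, 0; 0, 2] * B).card = 4 := by decide +kernel

theorem card_cent_congr {A B : Type*} [Group A] [Group B] (F : A ≃ B)
    (hF : ∀ a b, a * b = b * a ↔ F a * F b = F b * F a) (a : A) :
    Nat.card (centralizer ({a} : Set A)) = Nat.card (centralizer ({F a} : Set B)) :=
  Nat.card_congr (F.subtypeEquiv fun b => by simp only [mem_centralizer_singleton_iff, hF])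

/-- Centralizers in a group isomorphic to `GL(2,3)`. -/
theorem gl_facts {X : Type*} [Group X] (e : X ≃* GL (Fin 2) (ZMod 3)) {t : X} (ht : t ≠ 1)
    (htc : t ∈ center X) : Nat.card X = 48 ∧
    (∀ g, g ≠ 1 → g ≠ t → Nat.card (centralizer ({g} : Set X)) < 12) ∧
    ∃ s : X, orderOf s = 2 ∧ Nat.card (centralizer ({s} : Set X)) = 4 := by
  have h48 : Nat.card X = 48 := (Nat.card_congr e.toEquiv).trans CL.Inv.card_GL23
  have hc := card_cent_congr e.toEquiv fun a b => by
    simp only [MulEquiv.toEquiv_eq_coe, MulEquiv.coe_toEquiv, ← map_mul, e.injective.eq_iff]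
  have key : ∀ g : X, g = 1 ∨ e g = -1 ∨ Nat.card (centralizer ({g} : Set X)) < 12 := fun g => by
    rcases gl_a (e g).1 with h | h | h | h
    · exact .inl (e.injective (Units.ext (by simpa using h)))
    · exact .inr (.inl (Units.ext h))
    · exact absurd h (e g).det_ne_zero
    · exact .inr (.inr (by rw [hc]; exact (card_cent _).trans_lt h))
  have h1 : e t = -1 := ((key t).resolve_left ht).resolve_right (by
    rw [centralizer_eq_top_iff_subset.2 (Set.singleton_subset_iff.2 htc), card_top, h48]; norm_num)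
  refine ⟨h48, fun g h2 h3 => ((key g).resolve_left h2).resolve_left fun h =>
    h3 (e.injective (h.trans h1.symm)), e.symm (Matrix.GeneralLinearGroup.mkOfDetNeZero
      !![1, 0; 0, 2] (by decide)), ?_, ?_⟩
  · rw [MulEquiv.orderOf_eq]
    exact orderOf_eq_prime (Units.ext (by decide)) fun h => absurd (congrArg Units.val h) (by decide)
  · rw [hc]
    simp only [MulEquiv.toEquiv_eq_coe, MulEquiv.coe_toEquiv, MulEquiv.apply_symm_apply]
    exact (card_cent _).trans gl_b

theorem card_L33 : Nat.card (Matrix.ProjectiveSpecialLinearGroup (Fin 3) (ZMod 3)) = 5616 := by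
  have := CL.SLn.card_PSL_mul (ι := Fin 3) (F := ZMod 3)
  rw [CL.SLn.card_SL_three, ZMod.card, Fintype.card_fin,
    (by decide : Nat.gcd 3 (3 - 1) = 1), one_mul] at this
  exact this.trans (by norm_num)

theorem cent_L33 {t : Matrix.ProjectiveSpecialLinearGroup (Fin 3) (ZMod 3)} (ht : orderOf t = 2) :
    Nonempty (centralizer ({t} : Set _) ≃* GL (Fin 2) (ZMod 3)) := by
  obtain ⟨Z, _, -, hZ, ⟨e⟩⟩ := CL.Inv.centralizer_involution_PSL3 (by rw [ZMod.card]; decide) t ht
  rw [ZMod.card] at hZ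
  obtain rfl : Z = ⊥ := card_eq_one.1 hZ
  exact ⟨e.trans QuotientGroup.quotientBot⟩

/-- The restriction of a commutation preserving bijection to centralizers. -/
def centEquiv {A B : Type*} [Group A] [Group B] (F : A ≃ B)
    (hF : ∀ a b, a * b = b * a ↔ F a * F b = F b * F a) (a : A) :
    centralizer ({a} : Set A) ≃ centralizer ({F a} : Set B) :=
  F.subtypeEquiv fun b => by simp only [mem_centralizer_singleton_iff, hF]

theorem residual_eq_top {H : Type*} [Group H] [Finite H] (hH : Nat.card H = 5616) {a : H}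
    (ha1 : a ≠ 1) (ha : Nat.card (centralizer ({a} : Set H)) = 13) : pResidual 2 H = ⊤ := by
  have : Fact (Nat.Prime 13) := ⟨by norm_num⟩
  have := Fintype.ofFinite H
  have h1 : orderOf a = 13 := orderOf_eq_prime (by
    rw [← ha, ← orderOf_dvd_iff_pow_eq_one]
    exact Subgroup.orderOf_dvd_natCard _ (mem_centralizer_singleton_iff.2 rfl)) ha1
  obtain ⟨K⟩ := CL.Inv.PO.nonempty_ctx_of_orderOf h1 (by rw [hH]; norm_num)
  have h2 := K.card_N
  have h3 := (CL.Inv.PO.Nz a).card_mul_index
  have h4 := K.index_N_modEq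
  have h5 : K.f ∣ 12 := K.f_dvd
  have h6 := Nat.le_of_dvd (by norm_num) h5
  rw [ha] at h2
  rw [h2, hH] at h3
  have h7 : K.f = 3 := by
    unfold Nat.ModEq at h4
    interval_cases K.f <;> omega
  have h8 : CL.Inv.PO.Nz a ≤ pResidual 2 H :=
    CL.Grp.le_pResidual_of_coprime (by rw [h2, h7]; norm_num)
  have h9 := K.syl.normalizer_sup_eq_top' (N := pResidual 2 H) (le_normalizer.trans h8)
  exact top_le_iff.1 (h9.ge.trans (sup_le h8 le_rfl))

theorem main {H : Type*} [Group H] [Finite H]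
    (F : H ≃ Matrix.ProjectiveSpecialLinearGroup (Fin 3) (ZMod 3)) (h1 : F 1 = 1)
    (hF : ∀ a b, a * b = b * a ↔ F a * F b = F b * F a) :
    Nonempty (H ≃* Matrix.ProjectiveSpecialLinearGroup (Fin 3) (ZMod 3)) := by
  have hH : Nat.card H = 5616 := (Nat.card_congr F).trans card_L33
  have hF' : ∀ (a : H) (b c : centralizer ({a} : Set H)), b * c = c * b ↔
      centEquiv F hF a b * centEquiv F hF a c = centEquiv F hF a c * centEquiv F hF a b :=
    fun a b c => by rw [Subtype.ext_iff, Subtype.ext_iff]; exact hF b c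
  have hne : ∀ a, F a ≠ 1 ↔ a ≠ 1 := fun a => by rw [← h1, F.injective.ne_iff]
  have key : ∀ x : H, orderOf (F x) = 2 → Nat.card (centralizer ({x} : Set H)) = 48 ∧
      (∀ g : centralizer ({x} : Set H), g ≠ 1 → (g : H) ≠ x →
        Nat.card (centralizer ({g} : Set (centralizer ({x} : Set H)))) < 12) ∧
      (∃ y : centralizer ({x} : Set H), orderOf (F y) = 2 ∧
        Nat.card (centralizer ({y} : Set (centralizer ({x} : Set H)))) = 4) ∧ orderOf x = 2 := by
    intro x hx
    obtain ⟨e⟩ := cent_L33 hx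
    have hx1 : F x ≠ 1 := fun h => by rw [h, orderOf_one] at hx; omega
    obtain ⟨a1, a2, s, a3, a4⟩ := gl_facts e (t := ⟨F x, mem_centralizer_singleton_iff.2 rfl⟩)
      (fun h => hx1 (congrArg Subtype.val h))
      (mem_center_iff.2 fun g => Subtype.ext (mem_centralizer_singleton_iff.1 g.2))
    have b1 := (card_cent_congr F hF x).trans a1
    have b2 : ∀ g : centralizer ({x} : Set H), g ≠ 1 → (g : H) ≠ x →
        Nat.card (centralizer ({g} : Set (centralizer ({x} : Set H)))) < 12 := fun g h2 h3 => by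
      rw [card_cent_congr _ (hF' x)]
      exact a2 _ (fun h => (hne g).2 (fun h' => h2 (Subtype.ext h')) (congrArg Subtype.val h))
        fun h => h3 (F.injective (congrArg Subtype.val h))
    obtain ⟨y, rfl⟩ := (centEquiv F hF x).surjective s
    refine ⟨b1, b2, ⟨y, by rw [← orderOf_coe] at a3; exact a3,
      (card_cent_congr _ (hF' x) y).trans a4⟩, orderOf_eq_prime ?_ ((hne x).1 hx1)⟩
    by_contra h
    have h2 : x ^ 2 ∈ centralizer ({x} : Set H) := pow_mem (mem_centralizer_singleton_iff.2 rfl) 2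
    have h3 := b2 ⟨_, h2⟩ (fun e => h (congrArg Subtype.val e))
      fun e => (hne x).1 hx1 (by simpa [sq] using e)
    rw [centralizer_eq_top_iff_subset.2 (Set.singleton_subset_iff.2 (mem_center_iff.2 fun g =>
      Subtype.ext (Commute.pow_right (mem_centralizer_singleton_iff.1 g.2) 2).eq)), card_top,
      b1] at h3
    omega
  have : Fact (Nat.Prime 13) := ⟨by norm_num⟩
  obtain ⟨t, ht⟩ := exists_prime_orderOf_dvd_card'
    (G := Matrix.ProjectiveSpecialLinearGroup (Fin 3) (ZMod 3)) 2 (by rw [card_L33]; norm_num)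
  obtain ⟨x, rfl⟩ := F.surjective t
  obtain ⟨b1, b2, ⟨y, b3, b4⟩, b5⟩ := key x ht
  have hX := CL.Blk.GL23Rec.nonempty_equiv b1 (x := ⟨x, mem_centralizer_singleton_iff.2 rfl⟩)
    (y := y) (by rw [← orderOf_coe]; exact b5)
    (mem_center_iff.2 fun g => Subtype.ext (mem_centralizer_singleton_iff.1 g.2))
    (fun g hg => b2 g (fun h => hg (h ▸ one_mem _)) fun h => hg
      ((Subtype.ext h : g = ⟨x, _⟩) ▸ mem_zpowers _))
    (Subtype.ext (by rw [coe_mul, ← sq, ← (key y b3).2.2.2, pow_orderOf_eq_one]; rfl)) b4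
  obtain ⟨a, ha⟩ := exists_prime_orderOf_dvd_card'
    (G := Matrix.ProjectiveSpecialLinearGroup (Fin 3) (ZMod 3)) 13 (by rw [card_L33]; norm_num)
  obtain ⟨a, rfl⟩ := F.surjective a
  have := CL.SLn.isSimpleGroup_PSL (ι := Fin 3) (F := ZMod 3) (.inl (by simp))
  have hO := residual_eq_top hH (a := a)
    ((hne a).1 fun h => by rw [h, orderOf_one] at ha; omega) (by
      rw [card_cent_congr F hF, CL.Inv.PO.centralizer_eq_zpowers_of_three_primes (a := 4) (b := 3)
        Nat.prime_two Nat.prime_three Fact.out (by norm_num) (by norm_num) card_L33 ha,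
        Nat.card_zpowers, ha])
  rcases S2916.result hO x b5 hX with ⟨K, _, _, hK, ⟨e⟩⟩ | h
  · exact ⟨e.trans (CL.SLn.pslMapEquiv (ZMod.ringEquivOfPrime K Nat.prime_three hK).symm)⟩
  · obtain ⟨e⟩ := h
    have := Nat.card_congr e.toEquiv
    rw [hH, CL.Spor.card_M11] at this
    omega

/-- Let H be a finite group whose commuting graph (vertices the non-identity elements, two joined when they commute) is isomorphic to that of PSL_3(3): there is a bijection between the non-identity elements of H and of PSL_3(3) under which two elements commute exactly when their images do. Then H ≅ PSL_3(3). -/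
theorem result {H : Type*} [Group H] [Finite H]
    (f : {h : H // h ≠ 1} ≃ {g : Matrix.ProjectiveSpecialLinearGroup (Fin 3) (ZMod 3) // g ≠ 1})
    (hf : ∀ x y : {h : H // h ≠ 1}, (x : H) * y = y * x ↔ ((f x) : Matrix.ProjectiveSpecialLinearGroup (Fin 3) (ZMod 3)) * (f y) = (f y) * (f x)) :
    Nonempty (H ≃* Matrix.ProjectiveSpecialLinearGroup (Fin 3) (ZMod 3)) := by
  classical
  let F : H ≃ Matrix.ProjectiveSpecialLinearGroup (Fin 3) (ZMod 3) :=
    (Equiv.optionSubtypeNe 1).symm.trans (f.optionCongr.trans (Equiv.optionSubtypeNe 1))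
  have h1 : F 1 = 1 := by simp [F]
  have h2 : ∀ a (h : a ≠ 1), F a = f ⟨a, h⟩ := fun a h => by simp [F, h]
  refine main F h1 fun a b => ?_
  by_cases ha : a = 1
  · simp [ha, h1]
  by_cases hb : b = 1
  · simp [hb, h1]
  rw [h2 a ha, h2 b hb]
  exact hf ⟨a, ha⟩ ⟨b, hb⟩

end Cfsg.Agent.S3412
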