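import Cfsg.Statements.S0981
import Cfsg.Agent.S0999
import Cfsg.Agent.Inv.BRMain

set_option autoImplicit false
open Cfsg
open CL.Inv CL.Inv.PO

namespace Cfsg.Agent.S0981

/-- A simple group of order 4080 is isomorphic to the projective special linear group of dimension 2 over the field with 16 elements. -/
theorem result {G : Type*} [Group G] [Finite G] [IsSimpleGroup G] (h : Nat.card G = 4080) {F : Type*} [Field F] [Fintype F] (hF : Fintype.card F = 16) : Nonempty (G ≃* Matrix.ProjectiveSpecialLinearGroup (Fin 2) F) := by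
  have hc := not_isMulCommutative_of_not_prime (G := G) (by rw [h]; norm_num)
  rcases Cfsg.Agent.S0999.result (not_isCyclic_of_not_isMulCommutative hc) 17 (by norm_num)
    (by rw [h]; norm_num) (by rw [h]; norm_num) with
    ⟨K, _, _, hK, -, ⟨e⟩⟩ | ⟨m, K, _, _, hK, h1, -, ⟨e⟩⟩
  · have := two_mul_card_psl2 (F := K) (by rw [hK]; decide)
    rw [← Nat.card_congr e.toEquiv, h, hK] at this
    norm_num at this
  · obtain ⟨e'⟩ := CL.SLn.nonempty_psl_equiv_of_card_eq (ι := Fin 2) (K := K) (L := F) (by omega)
    exact ⟨e.trans e'⟩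

end Cfsg.Agent.S0981
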