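import Cfsg.Statements.S4552
import Cfsg.Agent.Blk.FreeGram

set_option autoImplicit false
open Cfsg

namespace Cfsg.Agent.S4552

open CL.Blk CL.Blk.Rk CL.Blk.Pair CL.Char
open scoped IsMulCommutative

theorem eq_of_omega {A : Type*} [CommGroup A] {α : MulAut A} {n : ℕ} (hn : Odd n) (hα : α ^ n = 1)
    (h : ∀ a, a ^ 2 = 1 → α a = a) (k : ℕ) : ∀ a, a ^ 2 ^ k = 1 → α a = a := by
  induction k with
  | zero => intro a ha; rw [pow_zero, pow_one] at ha; rw [ha, map_one]
  | succ k ih =>
    intro a ha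
    have h1 : (α a * a⁻¹) ^ 2 = 1 := by
      rw [mul_pow, ← map_pow, ih _ (by rw [← pow_mul, ← pow_succ', ha]), inv_pow, mul_inv_cancel]
    have h2 : ∀ j, (α ^ j) a = (α a * a⁻¹) ^ j * a := fun j => by
      induction j with
      | zero => simp
      | succ j ihj =>
        rw [pow_succ', MulAut.mul_apply, ihj, map_mul, map_pow, h _ h1, pow_succ, mul_assoc,
          inv_mul_cancel_right]
    have h3 := h2 n
    obtain ⟨j, rfl⟩ := hn
    rw [hα, pow_succ, pow_mul, h1, one_pow, one_mul, inv_mul_cancel_right] at h3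
    exact h3.symm

theorem card_omega_le {m : ℕ} {A : Type*} [CommGroup A] [Fintype A] [DecidableEq A]
    (φ : A ≃* Multiplicative (ZMod (2 ^ m) × ZMod (2 ^ m))) :
    (Finset.univ.filter fun a : A => a ^ 2 = 1).card ≤ 4 := by
  have h1 := IsCyclic.card_pow_eq_one_le (α := Multiplicative (ZMod (2 ^ m))) (n := 2) two_pos
  refine (Finset.card_le_card_of_injOn (t := Finset.univ.filter _ ×ˢ Finset.univ.filter _)
    (fun a => MulEquiv.prodMultiplicative _ _ (φ a)) (fun a ha => ?_)
    ((φ.trans (MulEquiv.prodMultiplicative _ _)).injective.injOn)).trans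
    ((Finset.card_product _ _).le.trans (Nat.mul_le_mul h1 h1))
  have h2 : MulEquiv.prodMultiplicative _ _ (φ a) ^ 2 = 1 := by
    rw [← map_pow, ← map_pow, (Finset.mem_filter.1 ha).2, map_one, map_one]
  simpa [Prod.ext_iff] using h2


/-- Let B be a 2-block of the finite group G (relative to a maximal ideal M of the algebraic integers containing 2) whose defect group D is the direct product of two cyclic groups of the same order 2 ^ m, m ≥ 2. Then either B has 2-regular rank one and exactly 4 ^ m irreducible characters, or B has 2-regular rank three and exactly (4 ^ m + 8) / 3 irreducible characters. -/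
theorem result {G : Type*} [Group G] [Finite G] (M : Ideal Cfsg.AlgInt) (hM : Cfsg.IsPModular 2 M) (B : Set (Cfsg.IrrCharacter G)) (hB : Cfsg.IsPBlock M B) (D : Subgroup G) (hD : Cfsg.IsDefectGroup 2 M B D) (m : ℕ) (hm : 2 ≤ m) (hiso : Nonempty (D ≃* Multiplicative (ZMod (2 ^ m) × ZMod (2 ^ m)))) : (Cfsg.blockRank 2 B = 1 ∧ Nat.card B = 4 ^ m) ∨ (Cfsg.blockRank 2 B = 3 ∧ 3 * Nat.card B = 4 ^ m + 8) := by
  classical
  obtain ⟨φ⟩ := hiso
  have := charP_resField hM
  have := Fintype.ofFinite D
  have : IsMulCommutative D := ⟨⟨fun a b => φ.injective (by rw [map_mul, map_mul, mul_comm])⟩⟩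
  obtain ⟨e, h0⟩ := exists_isMax_of_isDefectGroup hM hB hD
  have h := exists_abMax hM hB h0
  have h1 : Nat.card D = 4 ^ m := by
    rw [Nat.card_congr φ.toEquiv, Nat.card_congr Multiplicative.toAdd, Nat.card_prod, Nat.card_zmod,
      ← mul_pow]
    rfl
  have : Nontrivial D := Finite.one_lt_card_iff_nontrivial.1 (h1 ▸ Nat.one_lt_pow (by omega) (by omega))
  have h2 : Odd (Nat.card (inE D.subtype e)) := Nat.odd_iff.2 (by have := h.not_dvd_card_inE; omega)
  have h3 := card_omega_le φ
  have h4 : ∀ a : D, a ≠ 1 → ∃ j, a ^ j ≠ 1 ∧ (a ^ j) ^ 2 = 1 := fun a ha => by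
    obtain ⟨k, hk⟩ := IsPGroup.iff_orderOf.1 h.isPGroup a
    obtain _ | k := k
    · exact absurd (orderOf_eq_one_iff.1 hk) ha
    · exact ⟨2 ^ k, pow_ne_one_of_lt_orderOf (by positivity) (by rw [hk]; exact Nat.pow_lt_pow_succ one_lt_two),
        by rw [← pow_mul, ← pow_succ, ← hk, pow_orderOf_eq_one]⟩
  have hfree : ∀ α ∈ inE D.subtype e, ∀ a, a ≠ 1 → α a = a → α = 1 := fun α hα a ha h5 => by
    have h6 : α ^ Nat.card (inE D.subtype e) = 1 :=
      congrArg Subtype.val (pow_card_eq_one' (x := (⟨α, hα⟩ : inE D.subtype e)))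
    refine MulEquiv.ext fun b => eq_of_omega h2 h6 (fun w hw => ?_) _ b
      (by rw [← h.card_eq]; exact pow_card_eq_one')
    obtain ⟨j, h7, h8⟩ := h4 a ha
    have h9 : α (a ^ j) = a ^ j := by rw [map_pow, h5]
    by_contra h10
    have h11 : α (α w) ≠ w := fun h11 => h10 (by
      obtain ⟨i, hi⟩ := h2
      have h12 : ∀ i, (α ^ (2 * i)) w = w := fun i => by
        induction i with
        | zero => rfl
        | succ i ih => rw [mul_add, pow_add, MulAut.mul_apply, mul_one, sq, MulAut.mul_apply, h11, ih]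
      rw [← h12 i, ← MulAut.mul_apply, ← pow_succ', ← hi, h6, h12]; rfl)
    have h12 : w ≠ 1 := fun h => h10 (by rw [h, map_one])
    have h13 : w ≠ a ^ j := fun h => h10 (by rw [h, h9])
    have h14 : α w ≠ a ^ j := fun h => h13 (α.injective (h.trans h9.symm))
    have h15 : α (α w) ≠ a ^ j := fun h => h14 (α.injective (h.trans h9.symm))
    have h16 := (Finset.card_le_card (s := {1, a ^ j, w, α w, α (α w)}) (by
      simp [Finset.insert_subset_iff, ← map_pow, hw, h8])).trans h3
    rw [Finset.card_insert_of_notMem (by simp [h7.symm, h12.symm, eq_comm (a := (1 : D)), h12]),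
      Finset.card_insert_of_notMem (by simp [h13.symm, h14.symm, h15.symm]),
      Finset.card_insert_of_notMem (by simp [Ne.symm h10, h11.symm]),
      Finset.card_pair (by simpa using Ne.symm h10)] at h16
    omega
  have h5 : Nat.card (inE D.subtype e) ≤ 3 := by
    obtain ⟨a, ha⟩ := exists_ne (1 : D)
    obtain ⟨j, h7, h8⟩ := h4 a ha
    have h9 := Set.ncard_le_ncard (s := MulAction.orbit (inE D.subtype e) (a ^ j))
      (t := ((Finset.univ.filter fun a : D => a ^ 2 = 1).erase 1 : Finset D)) (by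
        rintro _ ⟨α, rfl⟩
        have : α • a ^ j = α.1 (a ^ j) := rfl
        simp only [this, Finset.coe_erase, Set.mem_sdiff, Finset.coe_filter, Finset.mem_univ,
          true_and, Set.mem_ofPred_eq, ← map_pow, h8, map_one, Set.mem_singleton_iff]
        simpa only [EmbeddingLike.map_eq_one_iff] using h7)
    rw [AbMax.ncard_orbit_of_free hfree h7, Set.ncard_coe_finset,
      Finset.card_erase_of_mem (by simp)] at h9
    omega
  obtain ⟨t, h6, h7, -, h8⟩ := h.free_counts hfree
  rw [← h1, h6, h7, h8 h5]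
  obtain ⟨i, hi⟩ := h2
  rw [hi] at h5 ⊢
  have : i = 0 ∨ i = 1 := by omega
  rcases this with rfl | rfl <;> omega

end Cfsg.Agent.S4552
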