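import Cfsg.Statements.S2202
import Cfsg.Agent.Fgs.AbCent

set_option autoImplicit false
open Cfsg

namespace Cfsg.Agent.S2202

open scoped IsMulCommutative

/-- Finite groups in which the centralizer of every involution is abelian. Let G be a finite group of even order in which the centralizer of every element of order 2 is abelian. Then the Sylow 2-subgroups of G are cyclic, or a Sylow 2-subgroup of G is normal, or G is isomorphic to the direct product of SL₂(F) for a finite field F of characteristic two and an abelian group of odd order. -/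
theorem result {G : Type*} [Group G] [Finite G] (heven : Even (Nat.card G)) (h : ∀ t : G, orderOf t = 2 → IsMulCommutative ↥(Subgroup.centralizer ({t} : Set G))) :
    (∀ P : Sylow 2 G, IsCyclic ↥P) ∨ (∀ P : Sylow 2 G, (P : Subgroup G).Normal) ∨
    (∃ (F : Type) (_ : Field F) (_ : Fintype F) (A : Type) (_ : CommGroup A) (_ : Finite A), CharP F 2 ∧ Odd (Nat.card A) ∧ Nonempty (G ≃* Matrix.SpecialLinearGroup (Fin 2) F × A)) := by
  have hC : CL.Fgs.AbCent G := fun t a b ht ha hb => (h t ht).1.1 ⟨a, Subgroup.mem_centralizer_singleton_iff.2 ha⟩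
    ⟨b, Subgroup.mem_centralizer_singleton_iff.2 hb⟩ |> congrArg Subtype.val
  refine or_iff_not_imp_left.2 fun h1 => or_iff_not_imp_left.2 fun h2 => ?_
  obtain ⟨P, hP⟩ := not_forall.1 h1
  obtain ⟨Q, hQ⟩ := not_forall.1 h2
  obtain ⟨hZ, K, _, _, n, -, -, hK, ⟨e⟩⟩ := hC.sl_prod (hC.exists_two P hP) (hC.exists_not_commute Q hQ)
  exact ⟨K, inferInstance, inferInstance, Shrink.{0} (Subgroup.center G), inferInstance,
    Finite.of_equiv _ (equivShrink _), hK, Nat.card_congr (equivShrink.{0} (Subgroup.center G)) ▸ hZ,
    ⟨e.trans ((MulEquiv.refl _).prodCongr Shrink.mulEquiv.symm)⟩⟩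

end Cfsg.Agent.S2202
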