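import Cfsg.Statements.S4020
import Cfsg.Agent.Fgs.CorEq

set_option autoImplicit false
open Cfsg

namespace Cfsg.Agent.S4020

open CL.Grp CL.Fgs


/-- Let G be a finite group in which, for every prime p, any two p-subgroups of the same order are conjugate. Then every Sylow subgroup of G is cyclic, elementary abelian, or a quaternion group of order 8. -/
theorem result {G : Type*} [Group G] [Finite G]
    (hD : ∀ p : ℕ, p.Prime → ∀ H K : Subgroup G, IsPGroup p H → IsPGroup p K → Nat.card H = Nat.card K →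
      ∃ g : G, K = H.map (MulAut.conj g).toMonoidHom) {p : ℕ} [Fact p.Prime] (P : Sylow p G) :
    IsCyclic P ∨ Cfsg.IsElementaryAbelian p (P : Subgroup G) ∨ Nonempty ((P : Subgroup G) ≃* QuaternionGroup 2) := by
  have hp : p.Prime := Fact.out
  rcases PConj.cases (hD p hp) P.isPGroup' with h | h | ⟨-, h⟩ | ⟨hp2, h, -, he⟩
  · exact Or.inl h
  · exact Or.inr (Or.inl h)
  · exact Or.inr (Or.inr h)
  exfalso
  have h1 : OneCls (P : Subgroup G) := oneCls_of_abPConj (PConj.ab (hD p hp)) fun x hx =>
    congrArg Subtype.val (he ▸ Monoid.pow_exponent_eq_one (⟨x, hx⟩ : (P : Subgroup G)))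
  obtain ⟨S⟩ := (inferInstance : Nonempty (Sylow 2 G))
  have key : IsMulCommutative S → False := fun hS => h (h1.comm_of_not_involves hp2 (isSylowIn_top P)
    (CL.Loc.not_involves_qd_of_abelian_sylow_two hp2 S hS))
  rcases PConj.cases (hD 2 Nat.prime_two) S.isPGroup' with h' | h' | ⟨-, ⟨e⟩⟩ | ⟨h', -⟩
  · exact key IsCyclic.isMulCommutative
  · exact key h'.1
  · exact h (h1.comm_of_q8 hp2 (isSylowIn_top P) S e)
  · exact h' rfl

end Cfsg.Agent.S4020
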