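import Cfsg.Statements.S0985
import Cfsg.Agent.Fgs.SylSmall

set_option autoImplicit false
open Cfsg
open scoped Pointwise

namespace Cfsg.Agent.S0985

/-- If the number of Sylow p-subgroups of a finite group is not congruent to 1 modulo p^k, then there are two distinct Sylow p-subgroups P and R such that the index of P ∩ R in P is at most p^(k-1). -/
theorem result {G : Type*} [Group G] [Finite G] (p k : ℕ) [Fact p.Prime] (h : ¬ Nat.card (Sylow p G) ≡ 1 [MOD p ^ k]) : ∃ P R : Sylow p G, P ≠ R ∧ ((R : Subgroup G).subgroupOf (P : Subgroup G)).index ≤ p ^ (k - 1) := by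
  by_contra hc
  push Not at hc
  obtain ⟨P⟩ : Nonempty (Sylow p G) := inferInstance
  apply h
  rcases Nat.eq_zero_or_pos k with rfl | hk
  · simp [Nat.modEq_one]
  have h1 := CL.Fgs.dvd_ncard_sylow_relIndex (p ^ k) P
  have h2 : {Q : Sylow p G | p ^ k ∣ (Q : Subgroup G).relIndex P} = {P}ᶜ := by
    ext Q
    simp only [Set.mem_setOf_eq, Set.mem_compl_iff, Set.mem_singleton_iff]
    constructor
    · rintro hQ rfl
      rw [Subgroup.relIndex_self, Nat.dvd_one, Nat.pow_eq_one] at hQ
      have := (Fact.out : p.Prime).ne_one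
      omega
    · intro hQ
      have h3 : p ^ (k - 1) < (Q : Subgroup G).relIndex P := hc P Q (Ne.symm hQ)
      obtain ⟨j, hj⟩ := CL.Fgs.exists_relIndex_sylow_eq_pow P Q
      rw [hj] at h3 ⊢
      have := (Nat.pow_lt_pow_iff_right (Fact.out : p.Prime).one_lt).1 h3
      exact pow_dvd_pow _ (by omega)
  rw [h2] at h1
  rw [← Set.ncard_add_ncard_compl ({P} : Set (Sylow p G)), Set.ncard_singleton]
  exact ((Nat.modEq_iff_dvd' (Nat.le_add_right _ _)).2 (by simpa using h1)).symm

end Cfsg.Agent.S0985
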