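import Cfsg.Statements.S4784
import Cfsg.Agent.Char.FSParity
import Cfsg.Agent.Char.FrobSchurOdd
import Cfsg.Agent.Char.Triple

set_option autoImplicit false
open Cfsg

namespace Cfsg.Agent.S4784

/-- Let H be a subgroup of the finite group G and consider the permutation character of G on the cosets of H (the function induced from the principal character of H). Then exactly one irreducible constituent of it is real-valued with Frobenius–Schur indicator +1 (namely the principal character) if and only if the normal core of H has odd index in G. -/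
theorem result {G : Type*} [Group G] [Fintype G] (H : Subgroup G) : Nat.card {χ : Cfsg.IrrCharacter G // Cfsg.classInner (Cfsg.indFun H (fun _ : H => (1 : ℂ))) (χ : G → ℂ) ≠ 0 ∧ (∀ g : G, (starRingEnd ℂ) ((χ : G → ℂ) g) = (χ : G → ℂ) g) ∧ (Nat.card G : ℂ)⁻¹ * ∑ g : G, (χ : G → ℂ) (g * g) = 1} = 1 ↔ Odd H.normalCore.index := by
  classical
  have hπ := CL.Char.isCharacter_indFun_one H
  have h11 : classInner (indFun H (fun _ : H => (1 : ℂ))) (CL.Char.irrOne G : G → ℂ) = 1 := by
    rw [CL.Char.frobenius_reciprocity _ (CL.Char.irrOne G).2.isClassFunction]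
    exact CL.Char.isIrrCharacter_one.classInner_self
  have hone : classInner (indFun H (fun _ : H => (1 : ℂ))) (CL.Char.irrOne G : G → ℂ) ≠ 0 ∧
      (∀ g : G, (starRingEnd ℂ) ((CL.Char.irrOne G : G → ℂ) g) = (CL.Char.irrOne G : G → ℂ) g) ∧
      (Nat.card G : ℂ)⁻¹ * ∑ g : G, (CL.Char.irrOne G : G → ℂ) (g * g) = 1 :=
    ⟨by rw [h11]; exact one_ne_zero, fun g => by simp, CL.Char.fsInd_const_one⟩
  rw [Nat.card_eq_one_iff_exists]
  constructor
  · rintro ⟨a, ha⟩
    by_contra hodd
    rw [Nat.not_odd_iff_even] at hodd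
    obtain ⟨q, hq⟩ := exists_prime_orderOf_dvd_card' (G := G ⧸ H.normalCore) 2 hodd.two_dvd
    obtain ⟨g, rfl⟩ := QuotientGroup.mk_surjective q
    have h1 : g * g ∈ H.normalCore := by
      rw [← QuotientGroup.eq_one_iff, QuotientGroup.mk_mul, ← sq, ← hq, pow_orderOf_eq_one]
    have h2 : g ∉ H.normalCore := by
      rw [← QuotientGroup.eq_one_iff]
      intro h
      rw [h, orderOf_one] at hq
      exact absurd hq (by norm_num)
    obtain ⟨x, hx⟩ : ∃ x : G, x * g * x⁻¹ ∉ H := by
      by_contra h3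
      push Not at h3
      exact h2 h3
    obtain ⟨m, hm, hsum⟩ := hπ.exists_eq_sum_nat
    -- the indicator of the permutation character is at most one
    have h3 : (CL.Char.fsInd (indFun H (fun _ : H => (1 : ℂ)))).re ≤ 1 := by
      have h4 : CL.Char.fsInd (indFun H (fun _ : H => (1 : ℂ))) =
          ∑ χ : IrrCharacter G, (m χ : ℂ) * CL.Char.fsInd (χ : G → ℂ) := by
        conv_lhs => rw [hsum]
        simp only [CL.Char.fsInd, Finset.sum_apply, Pi.smul_apply, smul_eq_mul]
        rw [Finset.sum_comm, Finset.mul_sum]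
        refine Finset.sum_congr rfl fun χ _ => ?_
        rw [← Finset.mul_sum]; ring
      rw [h4, ← Finset.add_sum_erase _ _ (Finset.mem_univ (CL.Char.irrOne G)), ← hm, h11,
        CL.Char.coe_irrOne, CL.Char.fsInd_const_one, Complex.add_re, Complex.re_sum]
      have h5 : ∑ χ ∈ Finset.univ.erase (CL.Char.irrOne G),
          ((m χ : ℂ) * CL.Char.fsInd (χ : G → ℂ)).re ≤ 0 := by
        refine Finset.sum_nonpos fun χ hχ => ?_
        rcases CL.Char.fsInd_trichotomy χ.2 with h | h | h
        · simp [h]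
        · by_cases h6 : m χ = 0
          · simp [h6]
          · exfalso
            have h7 := ha ⟨χ, by rw [hm]; exact_mod_cast h6, fun g => Complex.conj_eq_iff_im.2
              (CL.Char.fsInd_real χ.2 (by rw [h]; exact one_ne_zero) g), h⟩
            exact Finset.ne_of_mem_erase hχ
              (congrArg Subtype.val (h7.trans (ha ⟨_, hone⟩).symm))
        · simp [h]
      simpa using h5
    have h4 : ∀ y : G, extendByZero H (fun _ => (1 : ℂ)) y = ((if y ∈ H then 1 else 0 : ℝ) : ℂ) :=
      fun y => by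
        split_ifs with h
        · simp [CL.Char.extendByZero_of_mem _ h]
        · simp [CL.Char.extendByZero_of_not_mem _ h]
    rw [CL.Char.coe_irrOne, CL.Char.classInner_one_right] at h11
    rw [CL.Char.fsInd] at h3
    simp only [CL.Char.indFun_apply', h4, ← Finset.mul_sum] at h11 h3
    have h5 : (Nat.card G : ℝ)⁻¹ * ((Nat.card H : ℝ)⁻¹ *
        ∑ y : G, ∑ z : G, if z * y * z⁻¹ ∈ H then 1 else 0) = 1 := by
      simp only [← Complex.ofReal_sum, ← Complex.ofReal_natCast, ← Complex.ofReal_inv,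
        ← Complex.ofReal_mul, Complex.ofReal_eq_one] at h11
      exact h11
    have h6 : (Nat.card G : ℝ)⁻¹ * ((Nat.card H : ℝ)⁻¹ *
        ∑ y : G, ∑ z : G, if z * (y * y) * z⁻¹ ∈ H then 1 else 0) ≤ 1 := by
      simp only [← Complex.ofReal_sum, ← Complex.ofReal_natCast, ← Complex.ofReal_inv,
        ← Complex.ofReal_mul, Complex.ofReal_re] at h3
      exact h3
    have h7 : ∀ y z : G, (if z * y * z⁻¹ ∈ H then (1 : ℝ) else 0) ≤
        if z * (y * y) * z⁻¹ ∈ H then 1 else 0 := fun y z => by
      by_cases h8 : z * y * z⁻¹ ∈ H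
      · rw [if_pos h8, if_pos]
        convert H.mul_mem h8 h8 using 1
        group
      · rw [if_neg h8]; positivity
    have h8 : (∑ y : G, ∑ z : G, if z * y * z⁻¹ ∈ H then (1 : ℝ) else 0) <
        ∑ y : G, ∑ z : G, if z * (y * y) * z⁻¹ ∈ H then 1 else 0 := by
      refine Finset.sum_lt_sum (fun y _ => Finset.sum_le_sum fun z _ => h7 y z)
        ⟨g, Finset.mem_univ _, Finset.sum_lt_sum (fun z _ => h7 g z) ⟨x, Finset.mem_univ _, ?_⟩⟩
      rw [if_neg hx, if_pos (h1 x)]
      exact zero_lt_one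
    have h9 : (0 : ℝ) < (Nat.card G : ℝ)⁻¹ := inv_pos.2 (by exact_mod_cast Nat.card_pos)
    have h10 : (0 : ℝ) < (Nat.card H : ℝ)⁻¹ := inv_pos.2 (by exact_mod_cast Nat.card_pos)
    have := mul_lt_mul_of_pos_left (mul_lt_mul_of_pos_left h8 h10) h9
    linarith
  · intro hodd
    refine ⟨⟨_, hone⟩, ?_⟩
    rintro ⟨χ, h1, h2, -⟩
    have h3 : H.normalCore ≤ CL.Char.charKer (χ : G → ℂ) :=
      (CL.Char.normal_le_charKer_indFun H.normalCore_le fun m hm x => rfl).trans
        (hπ.charKer_le_of_classInner_ne_zero χ.2 h1)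
    obtain ⟨ψ, hψ, he⟩ := χ.2.exists_quotient _ h3
    have h4 := CL.Char.eq_one_of_real_of_odd hodd hψ fun q => by
      obtain ⟨g, rfl⟩ := QuotientGroup.mk_surjective q
      rw [← congrFun he g]
      exact Complex.conj_eq_iff_im.1 (h2 g)
    refine Subtype.ext (Subtype.ext ?_)
    change (χ : G → ℂ) = _
    rw [he, h4]; rfl

end Cfsg.Agent.S4784
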