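import Cfsg.Statements.S4211
import Cfsg.Agent.Fgs.HallPetrescu
import Cfsg.Agent.Grp.PGroupCyc

set_option autoImplicit false
open Cfsg

namespace Cfsg.Agent.S4211

open Subgroup
open scoped commutatorElement

theorem comm_mem {G : Type*} [Group G] (hn : ∀ H : Subgroup G, H.Normal) (x y : G) :
    ⁅x, y⁆ ∈ zpowers x ∧ ⁅x, y⁆ ∈ zpowers y :=
  haveI := hn
  ⟨CL.Grp.commutatorElement_mem_of_normal_left (mem_zpowers x) y,
    CL.Grp.commutatorElement_mem_of_normal_right x (mem_zpowers y)⟩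

theorem exists_pair {G : Type*} [Group G] [Finite G] (hna : ¬ IsMulCommutative G) (hn : ∀ H : Subgroup G, H.Normal) :
    ∃ x y : G, orderOf x = 4 ∧ orderOf y = 4 ∧ ¬ Commute x y := by
  have hne : {u : G × G | ¬ Commute u.1 u.2}.Nonempty := by
    by_contra h
    exact hna ⟨⟨fun a b => not_not.1 fun e => h ⟨(a, b), e⟩⟩⟩
  obtain ⟨x, y, hxy, hle, hmin⟩ : ∃ x y : G, ¬ Commute x y ∧ orderOf y ≤ orderOf x ∧
      ∀ a b : G, orderOf a + orderOf b < orderOf x + orderOf y → Commute a b := by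
    obtain ⟨⟨x, y⟩, h1, h2⟩ := Set.exists_min_image _ (fun u : G × G => orderOf u.1 + orderOf u.2) (Set.toFinite _) hne
    have h3 : ∀ a b : G, orderOf a + orderOf b < orderOf x + orderOf y → Commute a b := fun a b h =>
      not_not.1 fun e => (h2 (a, b) e).not_gt h
    rcases le_total (orderOf y) (orderOf x) with h | h
    exacts [⟨x, y, h1, h, h3⟩, ⟨y, x, fun e => h1 e.symm, h, fun a b h => h3 a b (by omega)⟩]
  obtain ⟨hcx, hcy⟩ := comm_mem hn x y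
  have hc1 : ⁅x, y⁆ ≠ 1 := fun e => hxy (commutatorElement_eq_one_iff_commute.1 e)
  have hlt : ∀ (a : G) (q : ℕ), q.Prime → q ∣ orderOf a → orderOf (a ^ q) < orderOf a := fun a q hq h => by
    rw [orderOf_pow_of_dvd hq.ne_zero h]
    exact Nat.div_lt_self (orderOf_pos a) hq.one_lt
  have hx : ∀ {q : ℕ}, q.Prime → q ∣ orderOf x → q = orderOf ⁅x, y⁆ := fun {q} hq h => by
    have := Fact.mk hq
    refine (orderOf_eq_prime ?_ hc1).symm
    rw [← CL.Grp.comm_pow_left (CL.Grp.commute_of_mem_zpowers hcx)]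
    exact (hmin _ _ (by have := hlt x q hq h; omega)).commutator_eq
  have hy : ∀ {q : ℕ}, q.Prime → q ∣ orderOf y → q = orderOf ⁅x, y⁆ := fun {q} hq h => by
    have := Fact.mk hq
    refine (orderOf_eq_prime ?_ hc1).symm
    rw [← CL.Grp.comm_pow_right (CL.Grp.commute_of_mem_zpowers hcy)]
    exact (hmin _ _ (by have := hlt y q hq h; omega)).commutator_eq
  obtain ⟨p, hp, hpx⟩ := Nat.exists_prime_and_dvd (n := orderOf x) fun e => hxy (orderOf_eq_one_iff.1 e ▸ Commute.one_left y)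
  have hc := (hx hp hpx).symm
  rw [hc] at hx hy
  obtain ⟨r, hr⟩ : ∃ r, orderOf x = p ^ r := ⟨_, Nat.eq_prime_pow_of_unique_prime_dvd (orderOf_pos x).ne' hx⟩
  obtain ⟨s, hs⟩ : ∃ s, orderOf y = p ^ s := ⟨_, Nat.eq_prime_pow_of_unique_prime_dvd (orderOf_pos y).ne' hy⟩
  obtain ⟨s, rfl⟩ : ∃ t, s = t + 1 := Nat.exists_eq_succ_of_ne_zero fun e => by
    rw [e, pow_zero, orderOf_eq_one_iff] at hs
    exact hxy (hs ▸ Commute.one_right x)
  rw [hr, hs, Nat.pow_le_pow_iff_right hp.one_lt] at hle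
  obtain ⟨d, rfl⟩ : ∃ d, r = d + s + 1 := ⟨r - (s + 1), by omega⟩
  have hcp : ⁅x, y⁆ ^ p = 1 := hc ▸ pow_orderOf_eq_one _
  have h1 : zpowers ⁅x, y⁆ = zpowers (y ^ p ^ s) := eq_of_le_of_card_ge
    (zpowers_le.2 (CL.Grp.mem_zpowers_pow_of_pow_eq_one hp.ne_zero hs hcy hcp)) (by
      rw [Nat.card_zpowers, Nat.card_zpowers, hc, CL.Grp.orderOf_pow_prime_pow hp.ne_zero hs s.le_succ]; simp)
  obtain ⟨k, hk⟩ := mem_zpowers_iff.1 (zpowers_le.2 (CL.Grp.mem_zpowers_pow_of_pow_eq_one hp.ne_zero hr hcx hcp)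
    (h1.ge (mem_zpowers _)))
  have h2 : ⁅y, x ^ (-(k * p ^ d))⁆ = ⁅x, y⁆ ^ (k * p ^ d) := by
    rw [CL.Grp.comm_zpow_right (by rw [← commutatorElement_inv]; exact (CL.Grp.commute_of_mem_zpowers hcx).inv_right),
      ← commutatorElement_inv, inv_zpow', neg_neg]
  have h3 := CL.Grp.mul_pow_of_commute_comm (a := x ^ (-(k * p ^ d))) (b := y)
    (h2 ▸ (CL.Grp.commute_of_mem_zpowers hcx).zpow_zpow _ _) (h2 ▸ (CL.Grp.commute_of_mem_zpowers hcy).zpow_right _) (p ^ s)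
  rw [h2, ← hk, ← zpow_natCast x, ← zpow_natCast (x ^ _), ← zpow_mul, ← zpow_mul, ← zpow_add,
    show -(k * p ^ d) * ((p ^ s : ℕ) : ℤ) + ((p ^ (d + s) : ℕ) : ℤ) * k = 0 by push_cast; ring, zpow_zero, one_mul,
    ← zpow_natCast (_ ^ (_ : ℤ)), ← zpow_mul] at h3
  have h4 : ¬ (p : ℤ) ∣ k * p ^ d * (p ^ s).choose 2 := fun h => by
    rw [← hc, orderOf_dvd_iff_zpow_eq_one, hc, ← h3] at h
    have h5 := (Nat.le_of_dvd (pow_pos hp.pos _) (orderOf_dvd_of_pow_eq_one h)).trans_lt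
      (Nat.pow_lt_pow_right hp.one_lt s.lt_succ_self)
    have h6 := hmin x (x ^ (-(k * p ^ d)) * y) (Nat.add_lt_add_left (hs ▸ h5) _)
    have h7 := (Commute.self_zpow x (-(k * p ^ d))).inv_right.mul_right h6
    rw [inv_mul_cancel_left] at h7
    exact hxy h7
  obtain rfl : d = 0 := not_not.1 fun h => h4 (((dvd_pow_self _ h).mul_left _).mul_right _)
  have h5 : ¬ p ∣ (p ^ s).choose 2 := fun h => h4 ((Int.natCast_dvd_natCast.2 h).mul_left _)
  have hs0 : s ≠ 0 := fun e => h5 (by simp [e])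
  obtain rfl : p = 2 := not_not.1 fun h => h5 ((dvd_pow_self _ hs0).trans
    (CL.Fgs.prime_pow_dvd_choose hp s two_pos (lt_of_le_of_ne hp.two_le (Ne.symm h))))
  obtain rfl : s = 1 := not_not.1 fun h => h5 (by
    obtain ⟨t, rfl⟩ : ∃ t, s = t + 2 := ⟨s - 2, by omega⟩
    rw [Nat.choose_two_right, show 2 ^ (t + 2) * (2 ^ (t + 2) - 1) = 2 * (2 * (2 ^ t * (2 ^ (t + 2) - 1))) by ring,
      Nat.mul_div_cancel_left _ two_pos]
    exact dvd_mul_right _ _)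
  exact ⟨x, y, hr, hs, hxy⟩

theorem eq_sq_of_mem {G : Type*} [Group G] {x c : G} (hx : x ^ 4 = 1) (hc : c ∈ zpowers x) (h1 : c ≠ 1) (h2 : x ∉ zpowers c) :
    c = x ^ 2 := by
  obtain ⟨k, rfl⟩ := mem_zpowers_iff.1 hc
  have h3 : x ^ k = x ^ (k % 4) := zpow_eq_zpow_emod k (by exact_mod_cast hx)
  have h4 : k % 4 = 0 ∨ k % 4 = 1 ∨ k % 4 = 2 ∨ k % 4 = 3 := by omega
  rw [h3] at h1 h2 ⊢
  rcases h4 with h | h | h | h <;> rw [h] at h1 h2 ⊢
  · exact absurd (zpow_zero x) h1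
  · exact absurd (by simp) h2
  · exact zpow_ofNat x 2
  · refine absurd (mem_zpowers_iff.2 ⟨3, ?_⟩) h2
    rw [← zpow_mul, show (3 * 3 : ℤ) = 4 + 4 + 1 by norm_num, zpow_add, zpow_add, zpow_ofNat, hx]
    simp

/-- A finite non-abelian group in which every subgroup is normal is the internal direct product of a subgroup isomorphic to the quaternion group of order `8`, an elementary abelian `2`-subgroup and an abelian subgroup of odd order. -/
theorem result {G : Type*} [Group G] [Finite G] (hna : ¬ IsMulCommutative G) (hn : ∀ H : Subgroup G, H.Normal) : ∃ Q E A : Subgroup G, Nonempty (Q ≃* QuaternionGroup 2) ∧ Cfsg.IsElementaryAbelian 2 E ∧ IsMulCommutative A ∧ Odd (Nat.card A) ∧ E ⊓ A = ⊥ ∧ Q ⊓ (E ⊔ A) = ⊥ ∧ Q ⊔ (E ⊔ A) = ⊤ := by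
  obtain ⟨x, y, hx, hy, hxy⟩ := exists_pair hna hn
  have hx4 : x ^ 4 = 1 := hx ▸ pow_orderOf_eq_one x
  have hy4 : y ^ 4 = 1 := hy ▸ pow_orderOf_eq_one y
  have key : ∀ a b : G, a ^ 4 = 1 → ¬ Commute a b → ⁅a, b⁆ = a ^ 2 ∧ ⁅b, a⁆ = a ^ 2 := fun a b ha h =>
    ⟨eq_sq_of_mem ha (comm_mem hn a b).1 (fun e => h (commutatorElement_eq_one_iff_commute.1 e))
      fun e => h (CL.Grp.commute_of_mem_zpowers (zpowers_le.2 (comm_mem hn a b).2 e)).symm,
    eq_sq_of_mem ha (comm_mem hn b a).2 (fun e => h (commutatorElement_eq_one_iff_commute.1 e).symm)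
      fun e => h (CL.Grp.commute_of_mem_zpowers (zpowers_le.2 (comm_mem hn b a).1 e)).symm⟩
  have hinv : ∀ a b : G, a ^ 4 = 1 → ¬ Commute a b → b * a * b⁻¹ = a⁻¹ := fun a b ha h => by
    have := (key a b ha h).2
    rw [commutatorElement_def, mul_inv_eq_iff_eq_mul, ← pow_succ] at this
    rw [this, eq_inv_iff_mul_eq_one, ← pow_succ, ha]
  have hsq : y ^ 2 = x ^ 2 := (key y x hy4 fun e => hxy e.symm).2.symm.trans (key x y hx4 hxy).1
  have hyx : y ∉ zpowers x := fun e => hxy (CL.Grp.commute_of_mem_zpowers e)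
  let Q := zpowers x ⊔ zpowers y
  have hxQ : x ∈ Q := mem_sup_left (mem_zpowers x)
  have hyQ : y ∈ Q := mem_sup_right (mem_zpowers y)
  have hQ : CL.Grp.DQSGen 2 (⟨x, hxQ⟩ : Q) ⟨y, hyQ⟩ := by
    refine ⟨le_rfl, ?_, by rw [orderOf_mk, hx]; rfl, fun ⟨k, hk⟩ => hyx ⟨k, congrArg Subtype.val hk⟩,
      Or.inr (Or.inl ⟨Subtype.ext hsq, Subtype.ext (hinv x y hx4 hxy)⟩)⟩
    rw [CL.Grp.card_sup_zpowers_eq_prime_mul (p := 2) _ hyx (hsq ▸ npow_mem_zpowers x 2), Nat.card_zpowers, hx]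
    rfl
  let C := centralizer ({x, y} : Set G)
  have hC : ∀ g, g ∈ C ↔ Commute x g ∧ Commute y g := fun g => by simp [C, mem_centralizer_iff, commute_iff_eq]
  have hC4 : ∀ g ∈ C, orderOf g ≠ 4 := fun g hg h4 => by
    obtain ⟨h1, h2⟩ := (hC g).1 hg
    have h3 : ¬ Commute (x * g) y := fun e => hxy (by simpa using e.mul_left h2.symm.inv_left)
    have h5 := (key (x * g) y (by rw [h1.mul_pow, hx4, ← h4, pow_orderOf_eq_one, one_mul]) h3).1
    rw [CL.Grp.comm_mul_left_of_commute (by rw [h2.symm.commutator_eq]; exact Commute.one_right x), h2.symm.commutator_eq,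
      one_mul, (key x y hx4 hxy).1, h1.mul_pow, left_eq_mul] at h5
    exact absurd (h4 ▸ orderOf_dvd_of_pow_eq_one h5) (by norm_num)
  have hCab : IsMulCommutative C := by
    by_contra h
    obtain ⟨a, -, ha, -⟩ := exists_pair h fun H => by
      rw [← comap_map_eq_self_of_injective C.subtype_injective H]
      exact (hn _).comap _
    exact hC4 a a.2 (by rw [orderOf_coe, ha])
  have hcomm : ∀ a ∈ C, ∀ b ∈ C, Commute a b := fun a ha b hb => congrArg Subtype.val (hCab.1.1 ⟨a, ha⟩ ⟨b, hb⟩)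
  obtain ⟨k, m, hm, hkm⟩ := Nat.exists_eq_two_pow_mul_odd (Nat.card_pos (α := G)).ne'
  let P : ℕ → Subgroup G := fun n => ⟨⟨⟨{g | g ∈ C ∧ g ^ n = 1}, fun {a b} ha hb =>
    ⟨mul_mem ha.1 hb.1, by rw [(hcomm a ha.1 b hb.1).mul_pow, ha.2, hb.2, one_mul]⟩⟩, one_mem _, one_pow n⟩,
    fun {a} ha => ⟨inv_mem ha.1, by rw [inv_pow, ha.2, inv_one]⟩⟩
  have hPA : P 2 ⊓ P m = ⊥ := eq_bot_iff.2 fun g hg => orderOf_eq_one_iff.1 (Nat.eq_one_of_dvd_coprimes
    hm.coprime_two_left (orderOf_dvd_of_pow_eq_one hg.1.2) (orderOf_dvd_of_pow_eq_one hg.2.2))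
  have hCP : C ≤ P 2 ⊔ P m := fun g hg => by
    have h1 : g ^ m ∈ P 2 := ⟨pow_mem hg m, by
      obtain ⟨j, -, hj⟩ := (Nat.dvd_prime_pow Nat.prime_two).1 (orderOf_dvd_of_pow_eq_one (x := g ^ m) (n := 2 ^ k)
        (by rw [← pow_mul, mul_comm, ← hkm, pow_card_eq_one']))
      refine orderOf_dvd_iff_pow_eq_one.1 (hj ▸ (pow_dvd_pow 2 (not_lt.1 fun h => ?_)).trans (pow_one 2).dvd)
      refine hC4 _ (pow_mem (pow_mem hg m) (2 ^ (j - 2))) ?_
      rw [CL.Grp.orderOf_pow_prime_pow two_ne_zero hj (Nat.sub_le _ _), show j - (j - 2) = 2 by omega]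
      rfl⟩
    have h2 : g ^ 2 ^ k ∈ P m := ⟨pow_mem hg _, by rw [← pow_mul, ← hkm, pow_card_eq_one']⟩
    have h3 := mul_mem (zpow_mem (mem_sup_left h1 : _ ∈ P 2 ⊔ P m) (m.gcdA (2 ^ k)))
      (zpow_mem (mem_sup_right h2) (m.gcdB (2 ^ k)))
    rwa [← zpow_natCast, ← zpow_natCast g, ← zpow_mul, ← zpow_mul, ← zpow_add, ← Nat.gcd_eq_gcd_ab,
      (hm.coprime_two_right.pow_right k).gcd_eq_one, Nat.cast_one, zpow_one] at h3
  have hc1 : x ^ 2 ≠ 1 := fun e => absurd (hx ▸ orderOf_dvd_of_pow_eq_one e) (by norm_num)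
  have hcP : x ^ 2 ∈ P 2 := ⟨(hC _).2 ⟨Commute.self_pow x 2, hsq ▸ Commute.self_pow y 2⟩, by rw [← pow_mul, hx4]⟩
  obtain ⟨E, ⟨hE, hcE⟩, hmax⟩ := Set.Finite.exists_maximal (s := {E : Subgroup G | E ≤ P 2 ∧ x ^ 2 ∉ E}) (Set.toFinite _)
    ⟨⊥, bot_le, hc1⟩
  have hPE : P 2 ≤ Q ⊔ E := fun e he => by
    by_contra h
    have h1 : x ^ 2 ∉ E ⊔ zpowers e := fun h1 => by
      obtain ⟨a, ha, _, ⟨i, rfl⟩, h2⟩ := mem_sup_of_normal_left.1 h1
      have h3 : e ^ i = e ^ (i % 2) := zpow_eq_zpow_emod i (by exact_mod_cast he.2)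
      rcases Int.emod_two_eq_zero_or_one i with h4 | h4 <;> simp only [h3, h4, zpow_zero, zpow_one, mul_one] at h2
      · exact hcE (h2 ▸ ha)
      · exact h (eq_inv_mul_of_mul_eq h2 ▸ mul_mem (inv_mem (mem_sup_right ha)) (mem_sup_left (pow_mem hxQ 2)))
    exact h (mem_sup_right (hmax ⟨sup_le hE (zpowers_le.2 he), h1⟩ le_sup_left (mem_sup_right (mem_zpowers e))))
  have hPC : ∀ n, P n ≤ C := fun n g hg => hg.1
  refine ⟨Q, E, P m, hQ.nonempty_quaternion (Subtype.ext hsq) (Subtype.ext (hinv x y hx4 hxy)),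
    ⟨⟨⟨fun a b => Subtype.ext (hcomm a (hE a.2).1 b (hE b.2).1)⟩⟩, fun a ha => (hE ha).2⟩,
    ⟨⟨fun a b => Subtype.ext (hcomm a a.2.1 b b.2.1)⟩⟩, ?_, eq_bot_iff.2 ((inf_le_inf_right _ hE).trans hPA.le), ?_, ?_⟩
  · by_contra h
    obtain ⟨a, ha⟩ := exists_prime_orderOf_dvd_card' 2 (even_iff_two_dvd.1 (Nat.not_odd_iff_even.1 h))
    have h1 : (a : G) ∈ P 2 ⊓ P m := ⟨⟨a.2.1, congrArg Subtype.val (ha ▸ pow_orderOf_eq_one a : a ^ 2 = 1)⟩, a.2⟩
    rw [hPA, mem_bot, OneMemClass.coe_eq_one] at h1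
    rw [h1, orderOf_one] at ha
    omega
  · refine eq_bot_iff.2 fun g hg => not_not.1 fun h1 => ?_
    obtain ⟨h2, h3⟩ := (hC g).1 (sup_le (hE.trans (hPC 2)) (hPC m) hg.2)
    have h4 : (⟨g, hg.1⟩ : Q) ∈ center Q := by
      rw [← centralizer_univ, ← coe_top, ← hQ.closure_eq_top, centralizer_closure]
      rintro _ (rfl | rfl)
      exacts [Subtype.ext h2, Subtype.ext h3]
    rw [hQ.center_eq] at h4
    obtain ⟨i, hi⟩ := h4
    have h5 : (x ^ 2) ^ i = g := congrArg Subtype.val hi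
    rw [zpow_eq_zpow_emod i (show (x ^ 2) ^ (2 : ℤ) = 1 by exact_mod_cast hcP.2)] at h5
    rcases Int.emod_two_eq_zero_or_one i with h6 | h6 <;> simp only [h6, zpow_zero, zpow_one] at h5
    · exact h1 h5.symm
    · obtain ⟨e, he, a, ha, h7⟩ := mem_sup_of_normal_left.1 hg.2
      have h8 : a ∈ P 2 ⊓ P m := mem_inf.2 ⟨eq_inv_mul_of_mul_eq (h7.trans h5.symm) ▸ mul_mem (inv_mem (hE he)) hcP, ha⟩
      rw [hPA, mem_bot] at h8
      rw [h8, mul_one, ← h5] at h7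
      exact hcE (h7 ▸ he)
  · have h1 : C ≤ Q ⊔ (E ⊔ P m) := hCP.trans (sup_le (hPE.trans (sup_le_sup_left le_sup_left _))
      (le_sup_right.trans le_sup_right))
    have h2 : ∀ g, Commute x g → g ∈ Q ⊔ (E ⊔ P m) := fun g hg => by
      by_cases h : Commute y g
      · exact h1 ((hC g).2 ⟨hg, h⟩)
      · refine (mul_mem_cancel_left (mem_sup_left hxQ)).1 (h1 ((hC _).2 ⟨(Commute.refl x).mul_right hg, ?_⟩))
        have h3 := hinv y g hy4 h
        have h4 := hinv y x hy4 fun e => hxy e.symm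
        rw [commute_iff_eq, eq_comm, ← mul_inv_eq_iff_eq_mul]
        calc _ = x * (g * y * g⁻¹) * x⁻¹ := by group
          _ = (x * y * x⁻¹)⁻¹ := by rw [h3]; group
          _ = y := by rw [h4]; group
    refine eq_top_iff.2 fun g _ => ?_
    by_cases h : Commute x g
    · exact h2 g h
    · refine (mul_mem_cancel_left (mem_sup_left hyQ)).1 (h2 _ ?_)
      have h3 := hinv x g hx4 h
      have h4 := hinv x y hx4 hxy
      rw [commute_iff_eq, eq_comm, ← mul_inv_eq_iff_eq_mul]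
      calc _ = y * (g * x * g⁻¹) * y⁻¹ := by group
        _ = (y * x * y⁻¹)⁻¹ := by rw [h3]; group
        _ = x := by rw [h4]; group

end Cfsg.Agent.S4211
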