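import Cfsg.Statements.S3820
import Cfsg.Agent.Grp.Subnormal
import Cfsg.Agent.Grp.SylowIn

set_option autoImplicit false
open Cfsg
open scoped Pointwise

namespace Cfsg.Agent.S3820

/-- Call a subgroup H of G pronormal if H and gHg⁻¹ are conjugate inside ⟨H, gHg⁻¹⟩ for every g ∈ G. Let S ≤ H ≤ G be subgroups of a finite group with S pronormal in G (for instance S a Sylow subgroup). Then H is pronormal in G if and only if H and gHg⁻¹ are conjugate inside ⟨H, gHg⁻¹⟩ for every g ∈ N_G(S). In particular H is pronormal whenever N_G(S) ≤ H. -/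
theorem result {G : Type*} [Group G] [Finite G] (S H : Subgroup G) (hSH : S ≤ H)
    (hS : Cfsg.IsPronormal S) :
    Cfsg.IsPronormal H ↔
      ∀ g ∈ Subgroup.normalizer (S : Set G), ∃ w ∈ H ⊔ H.map (MulAut.conj g).toMonoidHom,
        H.map (MulAut.conj g).toMonoidHom = H.map (MulAut.conj w).toMonoidHom := by
  refine ⟨fun h g _ => h g, fun h g => ?_⟩
  obtain ⟨w, hw, hgw⟩ := hS g
  simp only [← CL.Grp.conj_smul_eq_map] at h hw hgw ⊢
  have hw' : w ∈ H ⊔ MulAut.conj g • H :=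
    (sup_le_sup hSH (Subgroup.pointwise_smul_le_pointwise_smul_iff.2 hSH)) hw
  have hn : w⁻¹ * g ∈ Subgroup.normalizer (S : Set G) := by
    rw [← CL.Grp.conj_smul_eq_self_iff, ← CL.Grp.conj_smul_conj_smul, hgw, CL.Grp.conj_smul_conj_smul]
    simp
  obtain ⟨v, hv, hnv⟩ := h _ hn
  have hle : H ⊔ MulAut.conj (w⁻¹ * g) • H ≤ H ⊔ MulAut.conj g • H := by
    apply sup_le le_sup_left
    rw [← CL.Grp.conj_smul_conj_smul]
    exact CL.Grp.conj_smul_le_of_mem le_sup_right (Subgroup.inv_mem _ hw')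
  refine ⟨w * v, Subgroup.mul_mem _ hw' (hle hv), ?_⟩
  rw [← CL.Grp.conj_smul_conj_smul, ← hnv, CL.Grp.conj_smul_conj_smul]
  simp

end Cfsg.Agent.S3820
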