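import Cfsg.Statements.S1248
import Cfsg.Agent.Chev.U3Even

set_option autoImplicit false
open Cfsg

namespace Cfsg.Agent.S1248

theorem map_commutator_eq_of_equiv {A B : Type*} [Group A] [Group B] (e : A ≃* B) :
    (commutator A).map e.toMonoidHom = commutator B := by
  rw [commutator_def, Subgroup.map_commutator, Subgroup.map_top_of_surjective _ e.surjective, commutator_def]

open CL.Chev.U3 in
theorem aux {F : Type*} [Field F] [CharP F 2] (S : UF F) (hq : S.q = 4) {P : Type*} [Group P] (e : S.Q ≃* P) :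
    Nat.card P = 64 ∧ IsKleinFour (Subgroup.center P) ∧ Subgroup.center P = Subgroup.closure {x | orderOf x = 2} ∧
      Subgroup.center P = commutator P ∧ Nat.card (P ⧸ Subgroup.center P) = 16 ∧
      ∀ x : P ⧸ Subgroup.center P, x ^ 2 = 1 := by
  have h1 : Nat.card P = 64 := by rw [← Nat.card_congr e.toEquiv, S.card_Q, hq]; rfl
  have h2 : Nat.card (Subgroup.center P) = 4 := by rw [← CL.Uni.card_center_congr e, S.card_center_Q, hq]
  have h3 : ∀ x : P, x ∈ Subgroup.center P ↔ x * x = 1 := fun x => by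
    obtain ⟨u, rfl⟩ := e.surjective x
    rw [CL.Uni.apply_mem_center_iff, UF.Q.mem_center, ← map_mul, map_eq_one_iff _ e.injective, UF.Q.mul_self_eq_one]
  have : Nontrivial (Subgroup.center P) := by
    have : Finite (Subgroup.center P) := Nat.finite_of_card_ne_zero (by omega)
    rw [← Finite.one_lt_card_iff_nontrivial]; omega
  refine ⟨h1, ⟨h2, ?_⟩, ?_, ?_, ?_, fun x => ?_⟩
  · rw [Monoid.exponent_eq_prime_iff Nat.prime_two]
    intro g hg
    exact orderOf_eq_prime (Subtype.ext (by rw [Subgroup.coe_pow, sq]; exact (h3 _).1 g.2)) hg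
  · apply le_antisymm
    · intro x hx
      by_cases h : x = 1
      · rw [h]; exact one_mem _
      · exact Subgroup.subset_closure (orderOf_eq_prime (by rw [sq]; exact (h3 _).1 hx) h)
    · rw [Subgroup.closure_le]
      intro x hx
      exact (h3 x).2 (by rw [← sq, ← (show orderOf x = 2 from hx), pow_orderOf_eq_one])
  · rw [← map_commutator_eq_of_equiv e, S.commutator_Q]
    ext x
    rw [Subgroup.mem_map_equiv, ← CL.Uni.apply_mem_center_iff e, MulEquiv.apply_symm_apply]
  · have := Subgroup.card_eq_card_quotient_mul_card_subgroup (Subgroup.center P)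
    rw [h1, h2] at this
    omega
  · obtain ⟨x, rfl⟩ := QuotientGroup.mk_surjective x
    obtain ⟨u, rfl⟩ := e.surjective x
    rw [← QuotientGroup.mk_pow, QuotientGroup.eq_one_iff, sq, ← map_mul, CL.Uni.apply_mem_center_iff, UF.Q.mem_center]
    exact UF.Q.mul_self_a u


/-- Let F be a field with 16 elements and S a Sylow 2-subgroup of PSU(3) over F (the unitary group U₃(4)). Then |S| = 64; the centre Z(S) is a Klein four-group and coincides with the subgroup generated by the involutions of S and with the derived subgroup; and every element of S ⧸ Z(S) squares to the identity, S ⧸ Z(S) having order 16. -/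
theorem result {F : Type*} [Field F] [Fintype F] (hF : Fintype.card F = 16) (S : Sylow 2 (Cfsg.PSU 3 F 4)) : Nat.card S = 64 ∧ IsKleinFour (Subgroup.center (S : Subgroup (Cfsg.PSU 3 F 4))) ∧ Subgroup.center (S : Subgroup (Cfsg.PSU 3 F 4)) = Subgroup.closure {x : (S : Subgroup (Cfsg.PSU 3 F 4)) | orderOf x = 2} ∧ Subgroup.center (S : Subgroup (Cfsg.PSU 3 F 4)) = commutator (S : Subgroup (Cfsg.PSU 3 F 4)) ∧ Nat.card ((S : Subgroup (Cfsg.PSU 3 F 4)) ⧸ Subgroup.center (S : Subgroup (Cfsg.PSU 3 F 4))) = 16 ∧ ∀ x : (S : Subgroup (Cfsg.PSU 3 F 4)) ⧸ Subgroup.center (S : Subgroup (Cfsg.PSU 3 F 4)), x ^ 2 = 1 := by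
  have : CharP F 2 := CL.Chev.U3.charP_two_of_card (n := 4) hF
  have hF' : Fintype.card F = 4 ^ 2 := hF
  obtain ⟨e⟩ := (CL.Chev.U3.modelPSU hF').nonempty_sylow_equiv S
  exact aux _ rfl e

end Cfsg.Agent.S1248
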