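import Cfsg.Statements.S2180
import Cfsg.Agent.Chev.InvTab

set_option autoImplicit false
open Cfsg

namespace Cfsg.Agent.S2180

open CL.Chev CL.Chev.Cert Cfsg.Lie

/-- Centralizers of involutions in the Chevalley group G of type G₂ over a finite field F of characteristic two with at least four elements (this problem's root numbering for type G₂, from the Chevalley data module: a = p₁ short with index 7, b = p₂ long with index 6, −a = 4, −b = 5, 2a + b = 9, 3a + b = 10, 3a + 2b = 11; U generated by the positive root subgroups). For an element z of G with matrix x_{3a+2b}(1): the centralizer of z in G is generated by U and X_{−a}. For an element t of G with matrix x_{2a+b}(1): the centralizer of t in G is generated by X_{2a+b}, X_{3a+b}, X_{3a+2b}, X_b and X_{−b}. -/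
theorem result {F : Type*} [Field F] [Fintype F] [CharP F 2] (hF : 4 ≤ Fintype.card F) (z t : GL Cfsg.Lie.chevG2.Idx F) (hz : (z : Matrix Cfsg.Lie.chevG2.Idx Cfsg.Lie.chevG2.Idx F) = Cfsg.Lie.chevG2.x F 11 1) (ht : (t : Matrix Cfsg.Lie.chevG2.Idx Cfsg.Lie.chevG2.Idx F) = Cfsg.Lie.chevG2.x F 9 1) :
    Cfsg.Lie.chevG2.group F ⊓ Subgroup.centralizer {z} = Cfsg.Lie.chevG2.posUnipotent F ⊔ Cfsg.Lie.chevG2.rootSubgroup F 4 ∧
    Cfsg.Lie.chevG2.group F ⊓ Subgroup.centralizer {t} = Cfsg.Lie.chevG2.rootSubgroup F 9 ⊔ Cfsg.Lie.chevG2.rootSubgroup F 10 ⊔ Cfsg.Lie.chevG2.rootSubgroup F 11 ⊔ Cfsg.Lie.chevG2.rootSubgroup F 6 ⊔ Cfsg.Lie.chevG2.rootSubgroup F 5 := by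
  have E := realG2
  have h2 : (2 : F) = 0 := CharP.cast_eq_zero F 2
  obtain rfl : z = E.px F [11] := Units.ext (by simp [hz, E.xN_val])
  obtain rfl : t = E.px F [9] := Units.ext (by simp [ht, E.xN_val])
  simp only [E.rootSubgroup_eq_XL, sup_assoc, E.XL_sup]
  refine ⟨tabG2.centralizer_central E h2 (α := 11) (β := 11) (a := 1) (b := 0) (K := [(1, 1, 0)]) (by decide +kernel),
    tabG2.centralizer_XL E h2 (Z := [10, 11]) (α := 9) (β := 9) (a := 1) (b := 0) (K := [(0, 1, 0)]) (Y := [7, 8])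
      (by decide +kernel) fun a h => ?_⟩
  have h3 := tabG2.word_eq E (evF fun p => if p = 2 then a 7 else a 8) (p := 2) (by exact_mod_cast h2)
    [(7, [(1, 2)]), (8, [(1, 3)]), (9, [(1, 1)])] [(9, [(1, 1)]), (10, [(1, 2)]), (11, [(1, 3)]), (7, [(1, 2)]), (8, [(1, 3)])]
    (by decide +kernel)
  simp [Aux.evalP, evF_prime _ Nat.prime_two, evF_prime _ Nat.prime_three, Real.word] at h h3
  rw [← mul_assoc, h.eq, mul_left_cancel_iff, ← mul_assoc, right_eq_mul] at h3
  simpa using tabG2.eq_zero_of_word E (Z := [10, 11]) (by decide +kernel) (a := fun r => if r = 10 then a 7 else a 8)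
    (by simpa [Real.word] using h3)

end Cfsg.Agent.S2180
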