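import Cfsg.Statements.S2049
import Cfsg.Agent.Known.GHeI
import Cfsg.Agent.Known.GHeB

set_option autoImplicit false
open Cfsg

namespace Cfsg.Agent.S2049

/-- The Schur multiplier of the Held group (the finitely presented group of the definitions) is trivial; here the Schur multiplier is described through stem extensions, as in the definitions: surjective homomorphisms onto the group from a finite group, whose kernel is central in that finite group and contained in that finite group's commutator subgroup. -/
theorem result : Cfsg.HasCyclicSchurMultiplier Cfsg.Spor.He 1 := by
  obtain ⟨x, h⟩ := CL.Pc.GHe.full (CL.Pc.Input.ofTop CL.HeP.good (CL.PP.injLt_eF _) CL.HeP.card (by norm_num)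
    CL.Pc.GHe.mask_ok CL.Pc.GHe.pg_ok)
  have := h.fin
  exact (CL.Pc.GHe.bounds h).cyclic h.card 10 .triv (by decide)

end Cfsg.Agent.S2049
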