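import Cfsg.Statements.S4127
import Cfsg.Agent.Fgs.ClassIto2
import Cfsg.Agent.S0028

set_option autoImplicit false
open Cfsg

namespace Cfsg.Agent.S4127

open CL.Fgs CL.Grp Subgroup


/-- Let G be a finite group, p a prime and p^a the largest power of p dividing the size of any conjugacy class of G. If some element of p-power order has a conjugacy class of size exactly p^a, then G has a normal p-complement. -/
theorem result {G : Type*} [Group G] [Finite G] (p : ℕ) [Fact p.Prime]
    (a : ℕ) (hmax : ∀ y : G, ¬ p ^ (a + 1) ∣ (Subgroup.centralizer ({y} : Set G)).index)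
    (hx : ∃ x : G, (∃ k : ℕ, orderOf x = p ^ k) ∧ (Subgroup.centralizer ({x} : Set G)).index = p ^ a) :
    Cfsg.HasNormalPComplement p G := by
  have hp : p.Prime := Fact.out
  obtain ⟨x, hx1, hx⟩ := hx
  have hx1 : IsPiElt {p} x := (isPiElt_singleton_iff hp).2 hx1
  obtain ⟨P, K, hP, hK, hPK⟩ := exists_direct_in (p := p) (C := cent(x)) fun y hy hy' hd => by
    apply hmax (x * y)
    rw [cs_mul_of_coprime' (mem_cent'.1 hy) (hx1.coprime hy'), hx, pow_succ']
    exact Nat.mul_dvd_mul_right hd _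
  have hxU := mem_pCore_of_cs_eq_pow hx1 hx
  have hPp : IsPGroup p P := isPGroup_of_forall_isPiElt fun u hu => ((hP u).1 hu).2
  have hKp : (Nat.card K).Coprime p := coprime_card_of_forall_isPiElt fun u hu => ((hK u).1 hu).2
  have hxP : x ∈ P := (hP x).2 ⟨self_mem_cent x, hx1⟩
  have hKU : K ≤ centralizer (pCore p G : Set G) := by
    refine Cfsg.Agent.S0028.result p P K (pCore p G) hPp hKp (pCore_isPGroup p G) hPK
      le_normalizer_of_normal le_normalizer_of_normal fun u hu => hPK ((hP u).2 ⟨?_, ?_⟩)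
    · exact mem_cent'.2 (hu.2 x hxP)
    · exact isPiElt_singleton_of_mem (pCore_isPGroup p G) hu.1
  haveI : K.Normal := ⟨fun u hu g => (hK _).2 ⟨mem_cent'.2
    (((inferInstance : (centralizer (pCore p G : Set G)).Normal).conj_mem u (hKU hu) g) x hxU),
    ((hK u).1 hu).2.conj g⟩⟩
  obtain ⟨S, hS⟩ := hPp.exists_le_sylow
  refine hasNormalPComplement_of_normal hKp (isPGroup_quotient_of_forall S.isPGroup' fun g => ?_)
  obtain ⟨s, hs, c, hc, rfl⟩ := exists_mul_eq_of_coprime_index
    (show (S : Subgroup G).index.Coprime cs(x) from hx ▸ coprime_sylow_index_pow S a) g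
  refine ⟨s * piPart {p} c, mul_mem hs (hS ((hP _).2 ⟨piPart_mem hc, isPiElt_piPart _ _⟩)), ?_⟩
  have : (s * piPart {p} c)⁻¹ * (s * c) = piPart {p}ᶜ c := by rw [piPart_compl_eq]; group
  rw [this]
  exact (hK _).2 ⟨piPart_mem hc, isPiElt_piPart _ _⟩

end Cfsg.Agent.S4127
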