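import Cfsg.Statements.S4125
import Cfsg.Agent.Fgs.OrbitTwo2
import Cfsg.Agent.Fgs.Kazarin
import Cfsg.Agent.Fgs.Camina
import Cfsg.Agent.S0205

set_option autoImplicit false
open Cfsg

namespace Cfsg.Agent.S4125

open CL.Fgs CL.Grp Subgroup

section
variable {G : Type*} [Group G] [Finite G] {q : ℕ} [hq : Fact q.Prime]

theorem coprime_pow {s r : ℕ} (hs : s.Prime) (hr : r.Prime) (h : s ≠ r) (a b : ℕ) :
    (s ^ a).Coprime (r ^ b) := Nat.Coprime.pow _ _ ((Nat.coprime_primes hs hr).2 h)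

theorem isPiNum_compl {s r : ℕ} (hs : s.Prime) (hr : r.Prime) (h : s ≠ r) (a : ℕ) :
    IsPiNum {r}ᶜ (s ^ a) := (isPiNum_singleton_pow hs a).mono (Set.singleton_subset_iff.2 h)

theorem coprime_orderOf {x : G} (hx : IsPiElt {q} x) {r : ℕ} (hr : r.Prime) (h : r ≠ q) (b : ℕ) :
    (orderOf x).Coprime (r ^ b) := IsPiNum.coprime hx (isPiNum_compl hr hq.out h b)

theorem pair (hB : ∀ x : G, IsPiElt {q} x → ∃ r a : ℕ, r.Prime ∧ cs(x) = r ^ a) {x y : G}
    (hx : IsPiElt {q} x) (hy : IsPiElt {q} y) {s r a b : ℕ} (hs : s.Prime) (hr : r.Prime)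
    (ex : cs(x) = s ^ a) (ey : cs(y) = r ^ b) (hxZ : x ∉ center G) (hyZ : y ∉ center G)
    (hsr : s ≠ r) (hrq : r ≠ q) : s = q ∧ cs(y * x) ≤ cs(x) := by
  have hcop : (cs(x)).Coprime cs(y) := ex ▸ ey ▸ coprime_pow hs hr hsr a b
  have hc := commute_of_coprime_cs hcop (ey ▸ coprime_orderOf hx hr hrq b)
  obtain ⟨t, c, ht, e⟩ := hB _ (hx.mul hy hc)
  have hd := cs_mul_dvd_of_coprime_cs hcop
  by_cases hts : t = s
  · subst hts
    have h1 : cs(y * x) ≤ cs(x) := by
      rw [← hc.eq]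
      exact Nat.le_of_dvd (cs_pos x) (Nat.Coprime.dvd_of_dvd_mul_right
        (e ▸ ey ▸ coprime_pow ht hr hsr c b) hd)
    refine ⟨by_contra fun htq => hyZ (mem_center_of_cs_le (π := {t})
      (hy.mono (Set.singleton_subset_iff.2 (Ne.symm htq))) (ey ▸ isPiNum_compl hr ht hsr.symm b)
      (ex ▸ isPiNum_singleton_pow ht a) h1), h1⟩
  · exact absurd (mem_center_of_cs_le (π := {r}) (hx.mono (Set.singleton_subset_iff.2 hrq.symm))
      (ex ▸ isPiNum_compl hs hr hsr a) (ey ▸ isPiNum_singleton_pow hr b)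
      (Nat.le_of_dvd (cs_pos y) (Nat.Coprime.dvd_of_dvd_mul_left
        (e ▸ ex ▸ coprime_pow ht hs hts c a) hd))) hxZ

theorem dvd_of_not_mem_center {x : G} {s a : ℕ} (e : cs(x) = s ^ a) (h : x ∉ center G) :
    s ∣ cs(x) := by
  rw [e]; exact dvd_pow_self _ fun e' => h (cs_eq_one_iff.1 (by rw [e, e', pow_zero]))

theorem not_dvd_pow {s r : ℕ} (hs : s.Prime) (hr : r.Prime) (h : s ≠ r) (a : ℕ) : ¬ s ∣ r ^ a :=
  fun hd => h ((Nat.prime_dvd_prime_iff_eq hs hr).1 (hs.dvd_of_dvd_pow hd))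

theorem single (hB : ∀ x : G, IsPiElt {q} x → ∃ r a : ℕ, r.Prime ∧ cs(x) = r ^ a) :
    ∃ p : ℕ, p.Prime ∧ ∀ x : G, IsPiElt {q} x → ∃ a : ℕ, cs(x) = p ^ a := by
  by_cases h0 : ∃ (y : G) (r b : ℕ), IsPiElt {q} y ∧ y ∉ center G ∧ r.Prime ∧ r ≠ q ∧ cs(y) = r ^ b
  swap
  · refine ⟨q, hq.out, fun x hx => ?_⟩
    by_cases hxZ : x ∈ center G
    · exact ⟨0, cs_eq_one_iff.2 hxZ⟩
    obtain ⟨r, a, hr, e⟩ := hB x hx
    by_cases hrq : r = q
    · exact ⟨a, hrq ▸ e⟩
    · exact absurd ⟨x, r, a, hx, hxZ, hr, hrq, e⟩ h0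
  obtain ⟨y, r, b, hy, hyZ, hr, hrq, ey⟩ := h0
  refine ⟨r, hr, fun x hx => ?_⟩
  by_cases hxZ : x ∈ center G
  · exact ⟨0, cs_eq_one_iff.2 hxZ⟩
  obtain ⟨s, a, hs, ex⟩ := hB x hx
  by_cases hsr : s = r
  · exact ⟨a, hsr ▸ ex⟩
  exfalso
  obtain ⟨rfl, -⟩ := pair hB hx hy hs hr ex ey hxZ hyZ hsr hrq
  haveI := Fact.mk hr
  have hdich : ∀ w : G, IsPiElt {s} w → (∃ c, cs(w) = s ^ c) ∨ (w ∉ center G ∧ ∃ c, cs(w) = r ^ c) :=
    fun w hw => by
      by_cases hwZ : w ∈ center G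
      · exact Or.inl ⟨0, cs_eq_one_iff.2 hwZ⟩
      obtain ⟨t, c, ht, e⟩ := hB w hw
      by_cases htr : t = r
      · exact Or.inr ⟨hwZ, c, htr ▸ e⟩
      · exact Or.inl ⟨c, (pair hB hw hy ht hr e ey hwZ hyZ htr hrq).1 ▸ e⟩
  have hT : clsStab x ≤ pCore s G := by
    obtain ⟨k, -, hk⟩ := (Nat.dvd_prime_pow hs).1 (ex ▸ card_clsStab_dvd x)
    exact le_pCore (IsPGroup.of_card hk)
  have hU : ∀ w : G, IsPiElt {s} w → w ∉ center G → ∀ c, cs(w) = r ^ c → w ∈ pCore s G :=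
    fun w hw hwZ c e => by
      have h1 := fun g => hT (inv_mul_conj_mem_clsStab (e ▸ ex ▸ coprime_pow hr hs hrq c a)
        (pair hB hx hw hs hr ex e hxZ hwZ hsr hrq).2 g)
      have h2 : (w : G ⧸ pCore s G) ∈ center _ := mem_center_iff.2 fun u => by
        obtain ⟨g, rfl⟩ := QuotientGroup.mk_surjective u
        have := QuotientGroup.eq.2 (h1 g)
        simp only [QuotientGroup.mk_mul, QuotientGroup.mk_inv] at this
        exact mul_inv_eq_iff_eq_mul.1 this.symm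
      have h3 := pCore_eq_bot_iff.1 (pCore_quotient_pCore s G) (zpowers (w : G ⧸ pCore s G))
        ⟨fun u hu g => by rwa [mem_center_iff.1 (zpowers_le.2 h2 hu) g, mul_inv_cancel_right]⟩
        (hw.map (QuotientGroup.mk' _)).isPGroup_zpowers
      exact (QuotientGroup.eq_one_iff w).1 (zpowers_eq_bot.1 h3)
  have hcomm : ∀ u w : G, IsPiElt {s} u → IsPiElt {s} w → ∀ c, cs(w) = r ^ c → u ∈ cent(w) :=
    fun u w hu hw c e => by
      rcases hdich u hu with ⟨d, e'⟩ | ⟨huZ, d, e'⟩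
      · exact mem_cent.2 (commute_of_coprime_cs (e ▸ e' ▸ coprime_pow hs hr hsr d c)
          (e ▸ coprime_orderOf hu hr hrq c))
      · obtain ⟨k, hk⟩ := (pCore_isPGroup s G).exists_card_eq
        exact le_of_normal_of_coprime_index (hk ▸ e ▸ coprime_pow hs hr hsr k c) (hU u hu huZ d e')
  obtain ⟨Q, hxQ⟩ := hx.exists_mem_sylow
  obtain ⟨R⟩ : Nonempty (Sylow r G) := inferInstance
  have hle : (Q : Subgroup G) ≤ centralizer ((R : Subgroup G) : Set G) := by
    refine le_of_two_cover (U := centralizer ((Q : Subgroup G) : Set G)) inf_le_left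
      (fun w hw hwU => ?_) fun hle => not_dvd_cs_iff.2 ⟨Q, le_cent_iff.2 (hle hxQ)⟩
        (dvd_of_not_mem_center ex hxZ)
    have hw' := isPiElt_singleton_of_mem Q.isPGroup' hw
    obtain ⟨c, e⟩ := (hdich w hw').resolve_right fun ⟨_, c, e⟩ => hwU (le_cent_iff.1 fun u hu =>
      hcomm u w (isPiElt_singleton_of_mem Q.isPGroup' hu) hw' c e)
    obtain ⟨g, hg⟩ := exists_conj_mem_centralizer_of_not_dvd_cs (e ▸ not_dvd_pow hr hs hrq c) R
    obtain ⟨k, hk, e'⟩ := exists_conj_eq_of_coprime (e ▸ coprime_sylow_index_pow Q c) g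
    exact ⟨k, hk, e' ▸ hg⟩
  obtain ⟨g, hg⟩ := hy.exists_conj_mem_sylow Q
  exact not_dvd_cs_iff.2 ⟨R, le_cent_iff.2 (hle hg)⟩ (by
    rw [cs_conj]; exact dvd_of_not_mem_center ey hyZ)

theorem case_eq (h : ∀ x : G, IsPiElt {q} x → ∃ a : ℕ, cs(x) = q ^ a) (Q : Sylow q G) :
    (Q : Subgroup G).Normal ∧ ∃ N : Subgroup G, N.Normal ∧ N.IsComplement' (Q : Subgroup G) := by
  obtain ⟨h1, H, h2, -, -, -, h3⟩ := sylow_direct_factor_of_commute Q fun s y hs hsq hy => by
    haveI := Fact.mk hs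
    obtain ⟨S, hS⟩ := hy.exists_mem_sylow
    refine le_centralizer_iff.1 (le_of_forall_exists_conj_mem fun w hw => ?_) hS
    obtain ⟨c, e⟩ := h w (isPiElt_singleton_of_mem Q.isPGroup' hw)
    obtain ⟨g, hg⟩ := exists_conj_mem_centralizer_of_not_dvd_cs (e ▸ not_dvd_pow hs hq.out hsq c) S
    obtain ⟨k, hk, e'⟩ := exists_conj_eq_of_coprime (e ▸ coprime_sylow_index_pow Q c) g
    exact ⟨k, hk, e' ▸ hg⟩
  exact ⟨h1, H, h2, h3.symm⟩

theorem cs_mk {p : ℕ} (hp : p.Prime) (N : Subgroup G) [N.Normal] {x : G} (h : ∃ a, cs(x) = p ^ a) :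
    ∃ a, cs((x : G ⧸ N)) = p ^ a := by
  obtain ⟨a, e⟩ := h
  obtain ⟨b, -, hb⟩ := (Nat.dvd_prime_pow hp).1 (e ▸ cs_mk_dvd N x)
  exact ⟨b, hb⟩

theorem case_ne {p : ℕ} (hp : p.Prime) (hpq : p ≠ q)
    (h : ∀ x : G, IsPiElt {q} x → ∃ a : ℕ, cs(x) = p ^ a) (Q : Sylow q G) :
    IsMulCommutative (Q : Subgroup G) ∧ (pCore p G ⊔ (Q : Subgroup G)).Normal := by
  haveI := Fact.mk hp
  set f := QuotientGroup.mk' (pCore p G) with hf
  have h1 : (Q : Subgroup G).map f ≤ fittingSubgroup (G ⧸ pCore p G) ⊓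
      centralizer ((fittingSubgroup (G ⧸ pCore p G) : Subgroup _) : Set (G ⧸ pCore p G)) := by
    rintro _ ⟨x, hx, rfl⟩
    obtain ⟨a, e⟩ := cs_mk hp (pCore p G) (h x (isPiElt_singleton_of_mem Q.isPGroup' hx))
    exact normalClosure_le_of_pCore_eq_bot (pCore_quotient_pCore p G) e (subset_normalClosure rfl)
  constructor
  · refine isMulCommutative_of_forall fun a ha b hb => ?_
    have h2 : f a * f b = f b * f a :=
      (h1 (mem_map_of_mem f hb)).2 _ (h1 (mem_map_of_mem f ha)).1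
    have h3 : (b * a)⁻¹ * (a * b) ∈ pCore p G ⊓ Q := mem_inf.2 ⟨QuotientGroup.eq.1 h2.symm,
      mul_mem (inv_mem (mul_mem hb ha)) (mul_mem ha hb)⟩
    rw [(IsPGroup.disjoint_of_ne p q hpq _ _ (pCore_isPGroup p G) Q.isPGroup').eq_bot, mem_bot,
      inv_mul_eq_one] at h3
    exact h3.symm
  · have h2 : (Q : Subgroup G).map f = pCore q _ := le_antisymm
      (le_pCore_of_le_fittingSubgroup (Q.isPGroup'.map f) (h1.trans inf_le_left))
      (pCore_le_sylow (Q.mapSurjective (QuotientGroup.mk'_surjective _)))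
    have h3 : pCore p G ⊔ (Q : Subgroup G) = (pCore q _).comap f := by
      rw [← h2, comap_map_eq, QuotientGroup.ker_mk', sup_comm]
    rw [h3]; infer_instance

theorem solvable {p : ℕ} (hp : p.Prime) (hpq : p ≠ q) (h0 : pPrimeCore q G = ⊥) (Q : Sylow q G)
    [(Q : Subgroup G).Normal] [hQ : IsMulCommutative (Q : Subgroup G)]
    (h : ∀ x ∈ (Q : Subgroup G), ∃ a : ℕ, cs(x) = p ^ a) : Group.IsSolvable G := by
  set C := centralizer ((Q : Subgroup G) : Set G) with hC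
  have hQC : (Q : Subgroup G) ≤ C := fun a ha b hb => comm_of_isMulCommutative hQ hb ha
  have hCq : IsPGroup q C := by
    have h1 := hasNormalPComplement_iff_coprime_pResidual.1
      (hasNormalPComplement_of_sylow_le_center (Q.subtype hQC) fun x hx =>
        mem_center_iff.2 fun g => Subtype.ext (g.2 x hx).symm)
    have h2 : (pResidual q C).map C.subtype ≤ pPrimeCore q G :=
      le_pPrimeCore (by rwa [card_map_subtype])
    rw [h0, le_bot_iff, map_eq_bot_iff_of_injective _ C.subtype_injective] at h2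
    exact pResidual_eq_bot_iff.1 h2
  haveI := hCq.isNilpotent
  have hind : ¬ q ∣ C.index := not_dvd_index_of_sylow_le Q hQC
  suffices Group.IsSolvable (G ⧸ C) from
    Group.isSolvable_of_ker_le_range C.subtype (QuotientGroup.mk' C) (by simp)
  by_cases h2 : 2 ∣ C.index
  swap
  · exact Cfsg.Agent.S0205.result (Nat.odd_iff.2 (Nat.two_dvd_ne_zero.1 h2))
  have hq2 : q ≠ 2 := fun e => hind (e ▸ h2)
  by_cases hp2 : p = 2
  · subst hp2
    obtain ⟨m, hm⟩ := exists_derivedSeries_le_centralizer hq2 Q.isPGroup' hind h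
    exact ⟨m, by
      rw [← map_derivedSeries_eq (QuotientGroup.mk'_surjective C), Subgroup.map_eq_bot_iff,
        QuotientGroup.ker_mk']
      exact hm⟩
  exfalso
  obtain ⟨t, ht⟩ := exists_prime_orderOf_dvd_card' (G := G ⧸ C) 2 h2
  obtain ⟨t, rfl⟩ := QuotientGroup.mk_surjective t
  have ht1 : t ∉ C := fun e => by
    rw [(QuotientGroup.eq_one_iff t).2 e, orderOf_one] at ht; omega
  have ht2 : t ^ 2 ∈ C := by
    rw [← QuotientGroup.eq_one_iff, QuotientGroup.mk_pow, ← ht, pow_orderOf_eq_one]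
  refine ht1 fun w hw => ?_
  have hw' := (inferInstance : (Q : Subgroup G).Normal).conj_mem w hw t
  set v := w⁻¹ * (t * w * t⁻¹) with hv
  have hvQ : v ∈ (Q : Subgroup G) := mul_mem (inv_mem hw) hw'
  have e : t * v * t⁻¹ = v⁻¹ := by
    have := ht2 w hw
    calc t * v * t⁻¹ = (t * w * t⁻¹)⁻¹ * (t ^ 2 * w) * (t ^ 2)⁻¹ := by rw [hv]; group
      _ = _ := by rw [← this, hv]; group
  obtain ⟨a, ha⟩ := h v hvQ
  have h3 := sq_eq_one_of_real_of_odd_cs (isConj_iff.2 ⟨t, e⟩) (ha ▸ (hp.odd_of_ne_two hp2).pow)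
  have h4 : v = 1 := (isPiElt_singleton_of_mem Q.isPGroup' hvQ).eq_one
    ((isPiElt_two_of_sq h3).mono (Set.singleton_subset_iff.2 hq2.symm))
  calc w * t = w * v * t := by rw [h4, mul_one]
    _ = _ := by rw [hv]; group

end


/-- Let G be a finite group and q a prime dividing its order such that every element of q-power order has a conjugacy class of prime-power size. Then G is q-solvable of q-length 1: there are normal subgroups K ≤ L of G with K of order prime to q, L/K a q-group and L of index prime to q. Moreover there is a prime p such that every element of q-power order has a class of p-power size (one prime serving for all of them), and for a Sylow q-subgroup Q: if p = q then Q is normal with a normal complement (a direct factor), while if p ≠ q then Q is abelian, the product of Q with the largest normal p-subgroup O_p(G) is normal in G, and G/O_{q'}(G) is solvable, where O_{q'}(G) is the largest normal subgroup of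 order prime to q. -/
theorem result {G : Type*} [Group G] [Finite G] (q : ℕ) [Fact q.Prime] (hq : q ∣ Nat.card G)
    (hBaer : ∀ x : G, (∃ k : ℕ, orderOf x = q ^ k) → ∃ (r : ℕ) (a : ℕ), r.Prime ∧ (Subgroup.centralizer ({x} : Set G)).index = r ^ a) (Q : Sylow q G) :
    (∃ K L : Subgroup G, K.Normal ∧ L.Normal ∧ K ≤ L ∧ (Nat.card K).Coprime q ∧ (∃ m : ℕ, K.relIndex L = q ^ m) ∧ L.index.Coprime q) ∧
    ∃ p : ℕ, p.Prime ∧ (∀ x : G, (∃ k : ℕ, orderOf x = q ^ k) → ∃ a : ℕ, (Subgroup.centralizer ({x} : Set G)).index = p ^ a) ∧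
      (p = q → (Q : Subgroup G).Normal ∧ ∃ N : Subgroup G, N.Normal ∧ N.IsComplement' (Q : Subgroup G)) ∧
      (p ≠ q → IsMulCommutative (Q : Subgroup G) ∧ (Cfsg.pCore p G ⊔ (Q : Subgroup G)).Normal ∧
        ∀ _h : (Cfsg.pPrimeCore q G).Normal, Group.IsSolvable (G ⧸ Cfsg.pPrimeCore q G)) := by
  have hq' : q.Prime := Fact.out
  simp only [← isPiElt_singleton_iff hq'] at hBaer ⊢
  obtain ⟨p, hp, h⟩ := single hBaer
  have hQi : ∀ L : Subgroup G, (Q : Subgroup G) ≤ L → L.index.Coprime q := fun L hL =>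
    ((Nat.Prime.coprime_iff_not_dvd hq').2 (not_dvd_index_of_sylow_le Q hL)).symm
  refine ⟨?_, p, hp, h, fun e => case_eq (e ▸ h) Q, fun hpq => ?_⟩
  · by_cases hpq : p = q
    · subst hpq
      exact ⟨⊥, Q, inferInstance, (case_eq h Q).1, bot_le, by simp,
        by rw [relIndex_bot_left]; exact Q.isPGroup'.exists_card_eq, hQi _ le_rfl⟩
    · haveI := Fact.mk hp
      obtain ⟨k, hk⟩ := (pCore_isPGroup p G).exists_card_eq
      refine ⟨pCore p G, pCore p G ⊔ Q, inferInstance, (case_ne hp hpq h Q).2, le_sup_left,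
        hk ▸ Nat.Coprime.pow_left _ ((Nat.coprime_primes hp hq').2 hpq), ?_, hQi _ le_sup_right⟩
      rw [relIndex_sup_left, ← card_map_mk']
      exact (Q.isPGroup'.map _).exists_card_eq
  obtain ⟨h1, h2⟩ := case_ne hp hpq h Q
  refine ⟨h1, h2, fun _ => ?_⟩
  set f := QuotientGroup.mk' (pPrimeCore q G) with hf
  have hs : Function.Surjective f := QuotientGroup.mk'_surjective _
  haveI : ((Q.mapSurjective hs : Sylow q _) : Subgroup _).Normal := by
    have := h2.map f hs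
    rwa [Subgroup.map_sup, (Subgroup.map_eq_bot_iff _).2 (by
      rw [QuotientGroup.ker_mk']
      exact pCore_le_pPrimeCore ((Nat.coprime_primes hq' hp).2 (Ne.symm hpq))), bot_sup_eq] at this
  haveI : IsMulCommutative ((Q.mapSurjective hs : Sylow q _) : Subgroup (G ⧸ pPrimeCore q G)) := by
    rw [Sylow.coe_mapSurjective]
    refine isMulCommutative_of_forall ?_
    rintro _ ⟨a, ha, rfl⟩ _ ⟨b, hb, rfl⟩
    exact Commute.map (comm_of_isMulCommutative h1 ha hb) f
  refine solvable hp hpq (pPrimeCore_quotient_pPrimeCore q G) (Q.mapSurjective hs) ?_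
  intro x' hx'
  rw [Sylow.coe_mapSurjective] at hx'
  obtain ⟨x, hx, rfl⟩ := hx'
  exact cs_mk hp _ (h x (isPiElt_singleton_of_mem Q.isPGroup' hx))

end Cfsg.Agent.S4125
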