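import Cfsg.Statements.S0803
import Cfsg.Agent.Cls.SL2Octa


set_option autoImplicit false
open Cfsg

namespace Cfsg.Agent.S0803

/-- PSL_2(q) has a subgroup isomorphic to S_4 iff q² ≡ 1 (mod 16). -/
theorem result {F : Type*} [Field F] [Fintype F] {q : ℕ} (hF : Fintype.card F = q) : (∃ H : Subgroup (Matrix.ProjectiveSpecialLinearGroup (Fin 2) F), Nonempty (H ≃* Equiv.Perm (Fin 4))) ↔ q ^ 2 % 16 = 1 := by
  subst hF
  rw [CL.SL2.exists_subgroup_iff_exists_injective]
  have key : Fintype.card F ^ 2 % 16 = 1 ↔ Fintype.card F % 8 = 1 ∨ Fintype.card F % 8 = 7 := by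
    rw [Nat.pow_mod, ← Nat.mod_mod_of_dvd _ (show 8 ∣ 16 by decide)]
    have := Nat.mod_lt (Fintype.card F) (show 0 < 16 by decide)
    generalize Fintype.card F % 16 = r at *
    interval_cases r <;> simp
  rw [key]
  constructor
  · rintro ⟨ψ, hψ⟩
    refine CL.SL2.card_mod_eight_of_orderOf_four (x := ψ (finRotate 4)) ?_
    rw [orderOf_injective _ hψ]
    exact orderOf_eq_prime_pow (p := 2) (n := 1) (by decide) (by decide)
  · intro h
    refine CL.SL2.exists_perm_four (CL.GL2.two_ne_zero_of_odd (Nat.odd_iff.2 (by omega))) ?_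
    rw [FiniteField.isSquare_two_iff]
    omega

end Cfsg.Agent.S0803
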