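import Cfsg.Statements.S0731
import Cfsg.Agent.Perm.ZassMain

set_option autoImplicit false
open Cfsg

namespace Cfsg.Agent.S0731

/-- A finite Zassenhaus group whose point stabiliser has an abelian regular normal subgroup on the remaining points is sharply triply transitive or isomorphic to `PSL(2, F)` for a finite field `F` of odd characteristic. -/
theorem result {G Ω : Type*} [Group G] [Finite G] [MulAction G Ω] [Finite Ω] (hZ : Cfsg.IsZassenhausGroup G Ω) (x : Ω) (F : Subgroup G) (hFle : F ≤ MulAction.stabilizer G x) (hFn : (F.subgroupOf (MulAction.stabilizer G x)).Normal) (hFab : IsMulCommutative F) (hreg : ∀ y z : Ω, y ≠ x → z ≠ x → ∃! u : F, (u : G) • y = z) : (MulAction.IsMultiplyPretransitive G Ω 3 ∧ ∀ t : Fin 3 ↪ Ω, MulAction.stabilizer G t = ⊥) ∨ ∃ (K : Type) (_ : Field K) (_ : Fintype K), ringChar K ≠ 2 ∧ Nonempty (G ≃* Matrix.ProjectiveSpecialLinearGroup (Fin 2) K) := by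
  have h := CL.Perm.isZ_of_zassenhaus hZ
  have hF := h.isKer_of_reg hFle hreg
  obtain ⟨b, hb⟩ := h.exists_ne x
  have hab := hb.symm
  have sharp : Nat.card (CL.Perm.stab2 G x b) = Nat.card Ω - 2 →
      MulAction.IsMultiplyPretransitive G Ω 3 ∧ ∀ t : Fin 3 ↪ Ω, MulAction.stabilizer G t = ⊥ := fun hd =>
    ⟨CL.Perm.multiply_of_trans3 (h.isSharp3_of_card hab hd).trans3, h.stabilizer_embedding⟩
  rcases Nat.even_or_odd (Nat.card (CL.Perm.stab2 G x b)) with he | ho
  · by_cases hd : 2 * Nat.card (CL.Perm.stab2 G x b) ≤ Nat.card Ω - 2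
    · obtain ⟨K, _, _, -, h1, h2⟩ := h.psl2_of_even hab he hd
      exact Or.inr ⟨K, inferInstance, inferInstance, h1, h2⟩
    · refine Or.inl (sharp ?_)
      obtain ⟨k, hk⟩ := h.card_stab2_dvd hab
      have h3 := h.three_le_card
      obtain rfl | rfl | hk2 : k = 0 ∨ k = 1 ∨ 2 ≤ k := by omega
      · omega
      · omega
      · exact absurd (hk ▸ mul_comm 2 _ ▸ Nat.mul_le_mul_left _ hk2) hd
  · rcases CL.Perm.feit_general hZ hab hF ho with h1 | ⟨h1, hs⟩ | ⟨-, ⟨u, v, h1⟩, -⟩
    · exact Or.inl (sharp h1)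
    · obtain ⟨s, h2, h3⟩ := h.exists_swap hab
      obtain ⟨K, _, _, -, h4, h5⟩ := h.psl2_of_inverts hab h1 h2 h3
        fun y hy => h.inverts_of_simple hab ho h2 h3 hy
      exact Or.inr ⟨K, inferInstance, inferInstance, h4, h5⟩
    · exact absurd (hFab.is_comm.comm u v) h1

end Cfsg.Agent.S0731
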