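import Cfsg.Statements.S3861
import Cfsg.Agent.Fgs.ClassReal

set_option autoImplicit false
open Cfsg

namespace Cfsg.Agent.S3861

open CL.Fgs Subgroup


/-- A finite group G has no non-identity element of odd order that is conjugate to its inverse if and only if the Sylow 2-subgroups of G are normal. -/
theorem result {G : Type*} [Group G] [Finite G] (P : Sylow 2 G) : (∀ x : G, x ≠ 1 → Odd (orderOf x) → ¬ IsConj x x⁻¹) ↔ (P : Subgroup G).Normal := by
  constructor
  · intro h
    have h1 : ¬ 2 ∣ (pCore 2 G).index := by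
      intro hd
      obtain ⟨t, ht⟩ := exists_prime_orderOf_dvd_card' (G := G ⧸ pCore 2 G) 2 hd
      obtain ⟨y, h1, h2, h3⟩ := Cfsg.Agent.S0200.result t ht fun N _ hN htN => by
        have := CL.Grp.le_pCore hN htN
        rw [CL.Grp.pCore_quotient_pCore, mem_bot] at this
        rw [this, orderOf_one] at ht
        exact absurd ht (by norm_num)
      obtain ⟨x, h4, h5, h6⟩ := exists_real_lift (CL.Grp.pCore_isPGroup 2 G) h2 h1
        (isConj_iff.2 ⟨t, h3⟩)
      exact h x h4 h5 h6
    obtain ⟨Q, hQ⟩ := exists_sylow_le_of_not_dvd_index h1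
    have h2 : (Q : Subgroup G).Normal := by
      rw [le_antisymm hQ (CL.Grp.pCore_le_sylow Q)]; infer_instance
    have := Sylow.unique_of_normal Q h2
    rw [Subsingleton.elim P Q]; exact h2
  · intro hP x h1 hodd hr
    obtain ⟨t, ht, h⟩ := exists_two_elt_inverts hr
    have h2 := sq_mem_of_inverts
      (ht.mem_of_index ((isPiNum_compl_singleton_iff Nat.prime_two).2 P.not_dvd_index)) h
    exact h1 (eq_one_of_odd_of_sq hodd ((isPiElt_singleton_of_mem P.isPGroup' h2).eq_one
      ((isPiElt_compl_two_iff.2 hodd).pow 2)))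

end Cfsg.Agent.S3861
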