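import Cfsg.Statements.S3933
import Cfsg.Agent.Fgs.SylNum
import Cfsg.Agent.Char.Burnside
import Cfsg.Agent.Fgs.ClassBasic

set_option autoImplicit false
open Cfsg

namespace Cfsg.Agent.S3933

open CL.Grp CL.Fgs
open scoped Pointwise

universe u

/-- Sylow numbers of a normal subgroup divide those of the group. -/
theorem card_sylow_normal_dvd {G : Type*} [Group G] [Finite G] (p : ℕ) [Fact p.Prime] (N : Subgroup G) [N.Normal] :
    Nat.card (Sylow p N) ∣ Nat.card (Sylow p G) := by
  obtain ⟨P⟩ : Nonempty (Sylow p G) := inferInstance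
  have hS : IsSylowIn p ((P : Subgroup G) ⊓ N) N := isSylowIn_inf_normal P N
  rw [card_sylow_subgroup hS, P.card_eq_index_normalizer]
  refine (CL.Fgs.relIndex_dvd_index_of_normal _ _).trans (Subgroup.index_dvd_of_le ?_)
  intro g hg
  replace hg : g ∈ Subgroup.normalizer ((P : Subgroup G) : Set G) := hg
  rw [Subgroup.mem_normalizer_iff] at hg ⊢
  intro x
  simp only [SetLike.mem_coe, Subgroup.mem_inf]
  refine and_congr (hg x) ⟨fun h => Subgroup.Normal.conj_mem inferInstance x h g, fun h => ?_⟩
  simpa [mul_assoc] using Subgroup.Normal.conj_mem inferInstance _ h g⁻¹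

/-- In a simple group, if the Sylow numbers for `p` and `t` are coprime and `p` does not divide the Sylow number
for `t`, while `p` divides the order, then there is only one Sylow `t`-subgroup. -/
theorem card_sylow_eq_one {G : Type*} [Group G] [Finite G] [IsSimpleGroup G] {p t : ℕ} [Fact p.Prime] [Fact t.Prime]
    (hp : p ∣ Nat.card G) (hc : (Nat.card (Sylow p G)).Coprime (Nat.card (Sylow t G)))
    (hn : ¬ p ∣ Nat.card (Sylow t G)) : Nat.card (Sylow t G) = 1 := by
  obtain ⟨P⟩ : Nonempty (Sylow p G) := inferInstance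
  obtain ⟨T, hT⟩ := P.isPGroup'.nonempty_fixed_point_of_prime_not_dvd_card (Sylow t G) hn
  have key : ∀ x ∈ (P : Subgroup G), ∀ T' : Sylow t G, x • T' = T' := by
    intro x hx T'
    obtain ⟨g, rfl⟩ := MulAction.exists_smul_eq G T T'
    rw [P.card_eq_index_normalizer, T.card_eq_index_normalizer] at hc
    obtain ⟨a, ha, b, hb, rfl⟩ := exists_mul_eq_of_coprime_index hc g
    have hb' : b • T = T := Sylow.smul_eq_iff_mem_normalizer.2 hb
    have hx' : a⁻¹ * x * a ∈ (P : Subgroup G) := by
      have := (Subgroup.mem_normalizer_iff.1 (Subgroup.inv_mem _ ha) x).1 hx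
      simpa using this
    have h1 : (a⁻¹ * x * a) • T = T := hT ⟨_, hx'⟩
    rw [mul_smul, hb']
    calc x • a • T = a • ((a⁻¹ * x * a) • T) := by simp [← mul_smul, mul_assoc]
      _ = a • T := by rw [h1]
  have hle : (P : Subgroup G) ≤ (MulAction.toPermHom G (Sylow t G)).ker := fun x hx =>
    Equiv.ext fun T' => key x hx T'
  rcases (inferInstance : (MulAction.toPermHom G (Sylow t G)).ker.Normal).eq_bot_or_eq_top with h | h
  · rw [h, le_bot_iff] at hle
    have := P.dvd_card_of_dvd_card hp
    rw [hle, Subgroup.card_bot, Nat.dvd_one] at this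
    exact absurd this (Fact.out : p.Prime).ne_one
  · rw [Nat.card_eq_one_iff_unique]
    refine ⟨⟨fun a b => ?_⟩, inferInstance⟩
    obtain ⟨g, rfl⟩ := MulAction.exists_smul_eq G a b
    have : g ∈ (MulAction.toPermHom G (Sylow t G)).ker := h ▸ Subgroup.mem_top g
    exact (congrArg (fun f : Equiv.Perm (Sylow t G) => f a) this).symm

theorem simple_case {G : Type*} [Group G] [Finite G] [IsSimpleGroup G]
    (h : ∀ (r : ℕ) [Fact r.Prime], Nat.card (Sylow r G) = 1 ∨ IsPrimePow (Nat.card (Sylow r G))) :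
    Group.IsSolvable G := by
  by_cases h1 : ∃ r : ℕ, ∃ _ : Fact r.Prime, r ∣ Nat.card G ∧ Nat.card (Sylow r G) = 1
  · obtain ⟨r, _, hr, h1⟩ := h1
    obtain ⟨P⟩ : Nonempty (Sylow r G) := inferInstance
    have hN : (P : Subgroup G).Normal := by
      rw [P.card_eq_index_normalizer, Subgroup.index_eq_one] at h1
      exact Subgroup.normalizer_eq_top_iff.1 h1
    rcases hN.eq_bot_or_eq_top with h2 | h2
    · have := P.dvd_card_of_dvd_card hr
      rw [h2, Subgroup.card_bot, Nat.dvd_one] at this
      exact absurd this (Fact.out : r.Prime).ne_one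
    · have hP : IsPGroup r (⊤ : Subgroup G) := h2 ▸ P.isPGroup'
      have := (hP.of_equiv Subgroup.topEquiv).isNilpotent
      infer_instance
  push Not at h1
  -- the prime of each Sylow number
  have h2 : ∀ r : ℕ, r.Prime → r ∣ Nat.card G → ∃ s k : ℕ, s.Prime ∧ 0 < k ∧ s ≠ r ∧ s ∣ Nat.card G ∧
      Nat.card (Sylow r G) = s ^ k := by
    intro r hr hd
    have := Fact.mk hr
    obtain ⟨s, k, hs, hk, e⟩ := (h r).resolve_left (h1 r this hd)
    have hsd : s ∣ Nat.card (Sylow r G) := e ▸ dvd_pow_self s hk.ne'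
    obtain ⟨P⟩ : Nonempty (Sylow r G) := inferInstance
    refine ⟨s, k, hs.nat_prime, hk, ?_, ?_, e.symm⟩
    · rintro rfl
      exact not_dvd_card_sylow _ _ hsd
    · exact hsd.trans (P.card_dvd_index.trans (Subgroup.index_dvd_card _))
  choose! f k hf hk hne hd he using h2
  have h3 : ∀ p t : ℕ, p.Prime → t.Prime → p ∣ Nat.card G → t ∣ Nat.card G → f p ≠ f t → f t = p := by
    intro p t hp ht hpd htd hn
    have := Fact.mk hp
    have := Fact.mk ht
    by_contra hc
    refine h1 t this htd (card_sylow_eq_one hpd ?_ ?_)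
    · rw [he p hp hpd, he t ht htd]
      exact Nat.Coprime.pow _ _ ((Nat.coprime_primes (hf p hp hpd) (hf t ht htd)).2 hn)
    · rw [he t ht htd]
      exact fun hh => hc ((Nat.prime_dvd_prime_iff_eq hp (hf t ht htd)).1 (hp.dvd_of_dvd_pow hh)).symm
  obtain ⟨p, hp, hpd⟩ := Nat.exists_prime_and_dvd (Finite.one_lt_card (α := G)).ne'
  refine CL.Char.isSolvable_of_two_primes hp (hf p hp hpd) fun u hu hud => ?_
  by_contra hc
  push Not at hc
  have e1 : f (f p) = p := h3 p (f p) hp (hf p hp hpd) hpd (hd p hp hpd) (hne _ (hf p hp hpd) (hd p hp hpd)).symm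
  have e2 : f u = f p := by
    by_contra hh
    exact hc.2 (h3 u p hu hp hud hpd hh).symm
  have e3 : f u = f (f p) := by
    by_contra hh
    exact hc.1 ((h3 u (f p) hu (hf p hp hpd) hud (hd p hp hpd) hh).symm.trans e1)
  exact hne p hp hpd (e2.symm.trans (e3.trans e1))

theorem of_dvd {m n : ℕ} (hd : m ∣ n) (h : n = 1 ∨ IsPrimePow n) : m = 1 ∨ IsPrimePow m := by
  rcases h with rfl | h
  · exact Or.inl (Nat.dvd_one.1 hd)
  · by_cases hm : m = 1
    · exact Or.inl hm
    · exact Or.inr (h.dvd hd hm)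

theorem main (n : ℕ) : ∀ (G : Type u) [Group G] [Finite G], Nat.card G = n →
    (∀ (r : ℕ) [Fact r.Prime], Nat.card (Sylow r G) = 1 ∨ IsPrimePow (Nat.card (Sylow r G))) →
    Group.IsSolvable G := by
  induction n using Nat.strong_induction_on with
  | _ n ih =>
    intro G _ _ hn h
    rcases subsingleton_or_nontrivial G with hs | hs
    · infer_instance
    by_cases hG : IsSimpleGroup G
    · exact simple_case h
    obtain ⟨N, hN, h1, h2⟩ : ∃ N : Subgroup G, N.Normal ∧ N ≠ ⊥ ∧ N ≠ ⊤ := by
      by_contra hc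
      push Not at hc
      exact hG ⟨fun N hN => or_iff_not_imp_left.2 (hc N hN)⟩
    have hc := N.card_mul_index
    have a1 : 1 < Nat.card N := N.one_lt_card_iff_ne_bot.2 h1
    have a2 : 1 < N.index := by
      have := N.index_ne_zero_of_finite
      have := N.index_eq_one.not.2 h2
      omega
    have s1 : Group.IsSolvable N := ih _ (by rw [← hn, ← hc]; nlinarith) N rfl fun r _ =>
      of_dvd (card_sylow_normal_dvd r N) (h r)
    have s2 : Group.IsSolvable (G ⧸ N) := ih _ (by rw [← hn, ← hc]; change N.index < _; nlinarith) (G ⧸ N) rfl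
      fun r _ => by
        obtain ⟨P⟩ : Nonempty (Sylow r G) := inferInstance
        exact of_dvd ⟨_, card_sylow_eq_quotient_mul N P⟩ (h r)
    exact Group.isSolvable_of_ker_le_range N.subtype (QuotientGroup.mk' N) (by simp)


/-- If for every prime r the number of Sylow r-subgroups of the finite group G is a prime power or 1, then G is solvable. -/
theorem result {G : Type*} [Group G] [Finite G] (h : ∀ (r : ℕ) [Fact r.Prime], Nat.card (Sylow r G) = 1 ∨ IsPrimePow (Nat.card (Sylow r G))) :
    Group.IsSolvable G := by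
  exact main _ G rfl h

end Cfsg.Agent.S3933
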