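import Cfsg.Statements.S0904
import Cfsg.Agent.Inv.POSimple
import Cfsg.Agent.Inv.PSL2pC
import Cfsg.Agent.Blk.PPart

set_option autoImplicit false
open Cfsg
open CL.Inv CL.Inv.PO

namespace Cfsg.Agent.S0904

/-- Let G be a finite simple group of order p ^ a * q ^ b * r with p, q, r distinct primes. Then every Sylow r-subgroup S of G satisfies C_G(S) = S. -/
theorem result {G : Type*} [Group G] [Finite G] [IsSimpleGroup G] (p q r a b : ℕ) (hp : p.Prime) (hq : q.Prime) [Fact r.Prime] (hpq : p ≠ q) (hpr : p ≠ r) (hqr : q ≠ r) (hcard : Nat.card G = p ^ a * q ^ b * r) (S : Sylow r G) : Subgroup.centralizer (S : Set G) = (S : Subgroup G) := by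
  have hr : r.Prime := Fact.out
  have hS : Nat.card S = r ^ 1 := card_sylow_subgroup_eq (m := p ^ a * q ^ b)
    (by rw [hcard, pow_one, mul_comm]) (by
      rw [hr.dvd_mul]
      rintro (h | h)
      · exact hpr ((Nat.prime_dvd_prime_iff_eq hr hp).1 (hr.dvd_of_dvd_pow h)).symm
      · exact hqr ((Nat.prime_dvd_prime_iff_eq hr hq).1 (hr.dvd_of_dvd_pow h)).symm) S
  obtain ⟨x, hx, hxS⟩ := exists_generator_of_card_prime (S : Subgroup G) (by rw [hS, pow_one])
  change Subgroup.centralizer ((S : Subgroup G) : Set G) = _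
  rw [← hxS, CL.Blk.centralizer_zpowers_eq]
  exact centralizer_eq_zpowers_of_three_primes hp hq Fact.out hpr hqr hcard hx

end Cfsg.Agent.S0904
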