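import Cfsg.Statements.S3126
import Cfsg.Agent.HX.MainB
import Cfsg.Agent.HX.SB1
import Cfsg.Agent.HX.SB2a
import Cfsg.Agent.HX.SB2
import Cfsg.Agent.HX.SB3a
import Cfsg.Agent.HX.SB3b
import Cfsg.Agent.HX.SB3
import Cfsg.Agent.HX.SB4
import Cfsg.Agent.HX.STr3
import Cfsg.Agent.HX.SRegA
import Cfsg.Agent.HX.SReg
import Cfsg.Agent.HX.SPu
import Cfsg.Agent.HX.SHex
import Cfsg.Agent.HX.SApt
import Cfsg.Agent.HX.SGeoA
import Cfsg.Agent.HX.SGeoB
import Cfsg.Agent.HX.Red
import Cfsg.Agent.HX.SSm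
import Cfsg.Agent.HX.Fus
import Cfsg.Agent.HX.T1C
import Cfsg.Agent.HX.T1S
import Cfsg.Agent.HX.T1
import Cfsg.Agent.HX.U33a
import Cfsg.Agent.HX.U33
import Cfsg.Agent.HX.J2b
import Cfsg.Agent.HX.J2

set_option autoImplicit false
open Cfsg

namespace Cfsg.Agent.S3126

/-- Let G be a finite group with trivial centre and no nontrivial normal subgroup of odd order, generated by a conjugacy class D of involutions such that (a) for each x ∈ D the subgroup generated by the members of D commuting with x is a 2-group of nilpotency class at most 2, and (b) the product of any two distinct commuting members of D lies in D. Then G is isomorphic to one of: a projective special linear group of dimension 2 or 3, a projective special unitary group of dimension 3, a Suzuki group, or a triality-twisted group of type ³D₄, each over a field of characteristic 2; the Chevalley group of type G₂ over a field with 2^n elements, n > 1; the alternating group of degree 6; the projective special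 unitary group PSU₃(3) (q = 3, realised over the field with 9 elements); or the second Janko group. -/
theorem result {G : Type*} [Group G] [Finite G] (hZ : Subgroup.center G = ⊥) (hO : Cfsg.oddCore G = ⊥)
    (x₀ : G) (hx₀ : orderOf x₀ = 2) (hgen : Subgroup.closure {y : G | IsConj x₀ y} = ⊤)
    (ha : ∀ x : G, IsConj x₀ x → IsPGroup 2 ↥(Subgroup.closure {y : G | IsConj x₀ y ∧ Commute y x}) ∧
      ⁅⁅Subgroup.closure {y : G | IsConj x₀ y ∧ Commute y x}, Subgroup.closure {y : G | IsConj x₀ y ∧ Commute y x}⁆,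
        Subgroup.closure {y : G | IsConj x₀ y ∧ Commute y x}⁆ = ⊥)
    (hb : ∀ x y : G, IsConj x₀ x → IsConj x₀ y → x ≠ y → Commute x y → IsConj x₀ (x * y)) :
    (∃ (F : Type) (_ : Field F) (_ : Fintype F), ringChar F = 2 ∧
        (Nonempty (G ≃* Matrix.ProjectiveSpecialLinearGroup (Fin 2) F) ∨ Nonempty (G ≃* Matrix.ProjectiveSpecialLinearGroup (Fin 3) F))) ∨
      (∃ (F : Type) (_ : Field F) (_ : Fintype F) (q : ℕ), Even q ∧ Fintype.card F = q ^ 2 ∧ Nonempty (G ≃* Cfsg.PSU 3 F q)) ∨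
      Cfsg.Lie.IsoSuzuki G ∨
      (∃ (K : Type) (_ : Field K) (_ : Fintype K) (q : ℕ), Even q ∧ Fintype.card K = q ^ 3 ∧ Nonempty (G ≃* ↥(Cfsg.Lie.twistedD4 K q))) ∨
      (∃ (F : Type) (_ : Field F) (_ : Fintype F) (n : ℕ), 1 < n ∧ Fintype.card F = 2 ^ n ∧ Nonempty (G ≃* ↥(Cfsg.Lie.chevG2.group F))) ∨
      Nonempty (G ≃* ↥(alternatingGroup (Fin 6))) ∨
      (∃ (F : Type) (_ : Field F) (_ : Fintype F), Fintype.card F = 9 ∧ Nonempty (G ≃* Cfsg.PSU 3 F 3)) ∨ Cfsg.Spor.IsoJ2 G := by
  open CL.HX in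
  exact red (mainOf sb1 sb2a sb2 sb3a sb3b sb3 sb4 (sTr3 t3') sRegA sReg sPu sHex sSm (t1 t1C (t1S fus t1C rk1 cycT))
    (u33 u33a fus) (j2 j2a (j2b j2a fus)) (hexCase' sApt sRkU sGeoA sGeoB)) hZ hO x₀ hx₀ hgen ha hb

end Cfsg.Agent.S3126
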