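import Cfsg.Statements.S4477
import Cfsg.Agent.Char.FSParity
import Cfsg.Agent.Char.ClassAlg
import Cfsg.Agent.Char.MGroup
import Cfsg.Agent.Char.Faithful
import Cfsg.Agent.Fgs.AbelMax
import Cfsg.Agent.Grp.PGroupCyc
import Cfsg.Agent.Grp.Frob
import Cfsg.Agent.Grp.MinNormal

set_option autoImplicit false
open Cfsg

namespace Cfsg.Agent.S4477

universe u

/-- Central elements of order at most two. -/
def om (G : Type*) [Group G] : Subgroup G where
  carrier := {z | z ∈ Subgroup.center G ∧ z * z = 1}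
  one_mem' := ⟨Subgroup.one_mem _, mul_one 1⟩
  mul_mem' := by
    rintro a b ⟨ha, ha'⟩ ⟨hb, hb'⟩
    refine ⟨Subgroup.mul_mem _ ha hb, ?_⟩
    rw [mul_assoc, ← mul_assoc b, Subgroup.mem_center_iff.1 ha b, mul_assoc, ← mul_assoc, ha', hb',
      mul_one]
  inv_mem' := by
    rintro a ⟨ha, ha'⟩
    exact ⟨Subgroup.inv_mem _ ha, by rw [← mul_inv_rev, ha', inv_one]⟩

theorem om_dvd (G : Type*) [Group G] : Nat.card (om G) ∣ Nat.card {s : G // s * s = 1} := by
  refine CL.Grp.card_dvd_card_of_free_on (A := om G) {s : G | s * s = 1} (fun a x hx => ?_)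
    fun a x _ h => Subtype.ext (mul_eq_right.1 h)
  change (a * x) * (a * x) = 1
  rw [mul_assoc, ← mul_assoc x, Subgroup.mem_center_iff.1 a.2.1 x, mul_assoc, ← mul_assoc, a.2.2,
    one_mul]
  exact hx

theorem exists_om {G : Type*} [Group G] [Finite G] (hG : IsPGroup 2 G) {N : Subgroup G} [N.Normal]
    (hN : N ≠ ⊥) : ∃ z ∈ N, z ∈ om G ∧ z ≠ 1 := by
  obtain ⟨x, hx, hx1, hx2, hx3⟩ := CL.Grp.exists_central_mod_of_not_le hG (N := ⊥) (M := N)
    (le_bot_iff.not.2 hN)
  refine ⟨x, hx, ⟨Subgroup.mem_center_iff.2 fun g => ?_, by rw [← sq]; exact hx2⟩, hx1⟩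
  exact (commutatorElement_eq_one_iff_mul_comm.1 (hx3 g)).symm

theorem two_dvd_om {G : Type*} [Group G] [Finite G] [Nontrivial G] (hG : IsPGroup 2 G) :
    ∃ k, Nat.card (om G) = 2 ^ (k + 1) := by
  obtain ⟨k, hk⟩ := IsPGroup.iff_card.1 (hG.to_subgroup (om G))
  obtain ⟨z, -, hz, hz1⟩ := exists_om hG (N := ⊤) top_ne_bot
  rcases k with _ | k
  · rw [pow_zero, Subgroup.card_eq_one] at hk
    rw [hk] at hz
    exact absurd hz hz1
  · exact ⟨k, hk⟩

theorem aux (G : Type u) [Group G] [Finite G] : IsPGroup 2 G →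
    Nat.card {s : G // s * s = 1} % 4 = 2 → IsCyclic G ∨ (commutator G).index = 4 := by
  refine CL.Grp.induction_on_card (P := fun G _ _ => IsPGroup 2 G →
    Nat.card {s : G // s * s = 1} % 4 = 2 → IsCyclic G ∨ (commutator G).index = 4) ?_ G
  intro G _ _ ih
  classical
  intro hG hs
  have := Fintype.ofFinite G
  rcases subsingleton_or_nontrivial G with _ | _
  · exact Or.inl isCyclic_of_subsingleton
  have hΩ : Nat.card (om G) = 2 := by
    obtain ⟨k, hk⟩ := two_dvd_om hG
    rcases k with _ | k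
    · simpa using hk
    · have h1 := (Dvd.intro (2 ^ k) (by ring) : 4 ∣ 2 ^ (k + 1 + 1)).trans (hk ▸ om_dvd G)
      omega
  have hΩle : ∀ N : Subgroup G, N.Normal → N ≠ ⊥ → om G ≤ N := by
    intro N _ hN
    obtain ⟨z, hz, hz', hz1⟩ := exists_om hG hN
    obtain ⟨y, -, hy⟩ := (Nat.card_eq_two_iff' (1 : om G)).1 hΩ
    intro x hx
    by_cases hx1 : x = 1
    · rw [hx1]; exact N.one_mem
    · have h1 := (hy ⟨x, hx⟩ fun h => hx1 (congrArg Subtype.val h)).trans
        (hy ⟨z, hz'⟩ fun h => hz1 (congrArg Subtype.val h)).symm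
      rw [show x = z from congrArg Subtype.val h1]; exact hz
  by_cases hab : IsMulCommutative G
  · left
    rcases CL.Grp.isCyclic_or_nonempty_quaternion_of_unique hG (fun H K hH hK => by
      have h1 : ∀ L : Subgroup G, Nat.card L = 2 → L = om G := fun L hL =>
        (Subgroup.eq_of_le_of_card_ge (hΩle L ⟨fun n hn g => by
          rw [hab.is_comm.comm g, mul_inv_cancel_right]; exact hn⟩ (by
            rintro rfl
            simp at hL)) (by rw [hL, hΩ])).symm
      rw [h1 H hH, h1 K hK]) with h | ⟨-, k, ⟨e⟩⟩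
    · exact h
    · exfalso
      have h1 := congrArg e (hab.is_comm.comm (e.symm (QuaternionGroup.a 1))
        (e.symm (QuaternionGroup.xa 0)))
      simp only [map_mul, MulEquiv.apply_symm_apply, QuaternionGroup.a_mul_xa,
        QuaternionGroup.xa_mul_a, QuaternionGroup.xa.injEq, zero_sub, zero_add] at h1
      have h2 : ((2 : ℕ) : ZMod (2 * 2 ^ (k + 1))) = 0 := by
        push_cast; linear_combination -h1
      rw [ZMod.natCast_eq_zero_iff] at h2
      have h3 := Nat.le_of_dvd two_pos h2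
      have h4 := Nat.one_lt_two_pow (n := k + 1) (by omega)
      omega
  right
  have hc : commutator G ≠ ⊥ := fun h => hab ⟨⟨CL.Char.comm_of_commutator_le_bot h.le⟩⟩
  have hΩc := hΩle _ inferInstance hc
  have hn : (om G).Normal := CL.Grp.normal_of_le_center' fun x hx => hx.1
  have hΩ1 : om G ≠ ⊥ := by
    intro h
    rw [h] at hΩ
    simp at hΩ
  have hncyc : ¬ IsCyclic (G ⧸ om G) := fun h => hab
    ⟨⟨commutative_of_cyclic_center_quotient (QuotientGroup.mk' (om G))
      (by rw [QuotientGroup.ker_mk']; exact fun x hx => hx.1)⟩⟩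
  by_cases h2 : Nat.card {s : G ⧸ om G // s * s = 1} % 4 = 2
  · have h3 := (ih _ (CL.Grp.card_quotient_lt hΩ1) (hG.to_quotient _) h2).resolve_left hncyc
    rw [← h3, commutator_def (G ⧸ om G),
      ← Subgroup.map_top_of_surjective _ (QuotientGroup.mk'_surjective (om G)),
      ← Subgroup.map_commutator, ← commutator_def,
      Subgroup.index_map_eq _ (QuotientGroup.mk'_surjective _) (by rwa [QuotientGroup.ker_mk'])]
  have h3 : Nat.card {s : G ⧸ om G // s * s = 1} % 4 = 0 := by
    have : Nontrivial (G ⧸ om G) := by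
      by_contra h
      rw [not_nontrivial_iff_subsingleton] at h
      exact hncyc isCyclic_of_subsingleton
    obtain ⟨k, hk⟩ := two_dvd_om (hG.to_quotient (om G))
    have h1 := (Dvd.intro_left (2 ^ k) (by ring) : 2 ∣ 2 ^ (k + 1)).trans (hk ▸ om_dvd _)
    omega
  have := Fintype.ofFinite (G ⧸ om G)
  have h4 := CL.Char.classAlg_card_sq_eq_one (G := G)
  have h5 := CL.Char.classAlg_card_sq_eq_one (G := G ⧸ om G)
  have h6 := CL.Char.sum_irr_comp (QuotientGroup.mk' (om G)) (QuotientGroup.mk'_surjective _)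
    fun χ => CL.Char.fsInd χ * χ 1
  have h7 : ∀ ψ : G ⧸ om G → ℂ, CL.Char.fsInd (fun g => ψ (QuotientGroup.mk' (om G) g)) =
      CL.Char.fsInd ψ := fun ψ => by
    have h8 := CL.Char.classInner_comp_of_surjective (QuotientGroup.mk' (om G))
      (QuotientGroup.mk'_surjective _) (fun q => ψ (q * q)) fun _ => 1
    rw [CL.Char.classInner_one_right, CL.Char.classInner_one_right] at h8
    simpa only [CL.Char.fsInd, map_mul] using h8
  simp only [h7, map_one, QuotientGroup.ker_mk'] at h6
  rw [← h5] at h6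
  rw [← Finset.sum_filter_add_sum_filter_not Finset.univ
    (fun χ : IrrCharacter G => om G ≤ CL.Char.charKer (χ : G → ℂ)), ← h6] at h4
  have h8 : ∃ χ : IrrCharacter G, ¬ om G ≤ CL.Char.charKer (χ : G → ℂ) ∧
      CL.Char.fsInd (χ : G → ℂ) ≠ 0 ∧ ¬ 4 ∣ charDegree (χ : G → ℂ) := by
    by_contra h9
    push Not at h9
    have h10 : ∀ χ : IrrCharacter G, ∃ m : ℤ, ¬ om G ≤ CL.Char.charKer (χ : G → ℂ) →
        CL.Char.fsInd (χ : G → ℂ) * (χ : G → ℂ) 1 = 4 * m := by
      intro χ
      by_cases h11 : om G ≤ CL.Char.charKer (χ : G → ℂ)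
      · exact ⟨0, fun h => absurd h11 h⟩
      by_cases h12 : CL.Char.fsInd (χ : G → ℂ) = 0
      · exact ⟨0, fun _ => by simp [h12]⟩
      obtain ⟨c, hc⟩ := h9 χ h11 h12
      rcases CL.Char.fsInd_trichotomy χ.2 with h | h | h
      · exact absurd h h12
      · exact ⟨c, fun _ => by rw [h, ← χ.2.cast_charDegree, hc]; push_cast; ring⟩
      · exact ⟨-c, fun _ => by rw [h, ← χ.2.cast_charDegree, hc]; push_cast; ring⟩
    choose m hm using h10
    rw [Finset.sum_congr rfl fun χ hχ => hm χ (Finset.mem_filter.1 hχ).2, ← Finset.mul_sum,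
      ← Int.cast_sum] at h4
    have h11 : (Nat.card {s : G // s * s = 1} : ℤ) = Nat.card {s : G ⧸ om G // s * s = 1} +
        4 * ∑ χ ∈ Finset.univ.filter
          (fun χ : IrrCharacter G => ¬ om G ≤ CL.Char.charKer (χ : G → ℂ)), m χ := by
      exact_mod_cast h4
    omega
  obtain ⟨χ, h9, h10, h11⟩ := h8
  have hker : CL.Char.charKer (χ : G → ℂ) = ⊥ := by
    by_contra h
    exact h9 (hΩle _ χ.2.charKer_normal h)
  have hd : charDegree (χ : G → ℂ) = 2 := by
    obtain ⟨k, hk⟩ := χ.2.exists_charDegree_eq_pow hG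
    rcases k with _ | _ | k
    · exact absurd (hΩc.trans (CL.Char.commutator_le_charKer_of_one_eq_one χ.2.isCharacter
        (χ.2.isCharacter.charDegree_eq_one_iff.1 hk))) h9
    · exact hk
    · exact absurd (hk ▸ Dvd.intro (2 ^ k) (by ring)) h11
  have := hG.isNilpotent
  obtain ⟨H, lam, hH⟩ := CL.Char.isMonomialChar_of_isNilpotent χ.2
  have hi : H.index = 2 := by
    have h12 := congrFun hH 1
    rw [CL.Char.indFun_one, map_one, Units.val_one, mul_one, ← χ.2.cast_charDegree, hd] at h12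
    exact_mod_cast h12.symm
  have hHn := Subgroup.normal_of_index_eq_two hi
  have hA : IsMulCommutative H := ⟨⟨fun a b => by
    have h12 : ((a * b * a⁻¹ * b⁻¹ : H) : G) ∈ CL.Char.charKer (χ : G → ℂ) := by
      rw [hH, CL.Char.mem_charKer_indFun_iff (CL.Char.isCharacter_unitsHom lam) (by simp)]
      intro x
      refine ⟨hHn.conj_mem' _ (Subtype.prop _) x, ?_⟩
      have h13 : (⟨_, hHn.conj_mem' _ (a * b * a⁻¹ * b⁻¹ : H).2 x⟩ : H) =
          ⟨_, hHn.conj_mem' _ a.2 x⟩ * ⟨_, hHn.conj_mem' _ b.2 x⟩ *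
            ⟨_, hHn.conj_mem' _ a.2 x⟩⁻¹ * ⟨_, hHn.conj_mem' _ b.2 x⟩⁻¹ :=
        Subtype.ext (by simp only [Subgroup.coe_mul, Subgroup.coe_inv]; group)
      rw [h13]
      simp only [map_mul, map_inv, map_one]
      rw [mul_comm (lam _) (lam _), mul_inv_cancel_right, mul_inv_cancel]
    rw [hker, Subgroup.mem_bot, OneMemClass.coe_eq_one, mul_inv_eq_one, mul_inv_eq_iff_eq_mul]
      at h12
    exact h12⟩⟩
  have hZ : Subgroup.center G = om G := by
    refine le_antisymm (fun z hz => ⟨hz, ?_⟩) fun z hz => hz.1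
    have h12 := χ.2.center_le_charCenter hz
    have h13 := CL.Char.apply_mul_of_mem_charCenter χ.2.one_ne_zero h12 z
    have h14 := CL.Char.apply_mul_of_mem_charCenter χ.2.one_ne_zero h12 z⁻¹
    rw [mul_inv_cancel, (CL.Char.fs_im_eq_zero_iff χ.2.isCharacter z).1
      (CL.Char.fsInd_real χ.2 h10 z), ← h13] at h14
    rw [← Subgroup.mem_bot, ← hker, χ.2.mem_charKer, ← h14]
  have h12 := CL.Fgs.index_center_eq_of_abelian_index_prime hab hA (hi ▸ Nat.prime_two)
  have h13 := (Subgroup.center G).card_mul_index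
  rw [h12, hZ, hΩ, hi, ← (commutator G).index_mul_card, ← mul_assoc] at h13
  exact (Nat.eq_of_mul_eq_mul_right Nat.card_pos h13).symm


/-- Let G be a finite 2-group whose number of involutions is congruent to 1 modulo 4. Then G is cyclic or its commutator subgroup has index 4. -/
theorem result {G : Type*} [Group G] [Finite G] (hG : IsPGroup 2 G) (ht : Nat.card {x : G // orderOf x = 2} % 4 = 1) : IsCyclic G ∨ (commutator G).index = 4 := by
  classical
  have := Fintype.ofFinite G
  refine aux G hG ?_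
  have h1 : Nat.card {s : G // s * s = 1} = Nat.card {x : G // orderOf x = 2} + 1 := by
    rw [Nat.card_eq_fintype_card, Nat.card_eq_fintype_card, Fintype.card_subtype,
      Fintype.card_subtype, ← Finset.card_insert_of_notMem (a := (1 : G)) (by simp)]
    congr 1
    ext s
    simp only [Finset.mem_filter, Finset.mem_univ, true_and, Finset.mem_insert]
    constructor
    · intro h
      by_cases h2 : s = 1
      · exact Or.inl h2
      · exact Or.inr (orderOf_eq_prime (by rw [sq, h]) h2)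
    · rintro (rfl | h)
      · simp
      · rw [← sq, ← h, pow_orderOf_eq_one]
  omega

end Cfsg.Agent.S4477
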