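import Cfsg.Statements.S2553
import Cfsg.Agent.Perm.SubA8
import Cfsg.Agent.Grp.MinNormal
import Cfsg.Agent.Grp.CoresPi
import Cfsg.Agent.Loc.ElemAb
import Cfsg.Agent.Cls.SLnCard
import Cfsg.Agent.S0255
import Cfsg.Agent.S0256
import Cfsg.Agent.S0495

set_option autoImplicit false
open Cfsg

namespace Cfsg.Agent.S2553

theorem gl_psl (n : ℕ) [NeZero n] :
    Nonempty (GL (Fin n) (ZMod 2) ≃* Matrix.ProjectiveSpecialLinearGroup (Fin n) (ZMod 2)) := by
  have hZ : Subgroup.center (Matrix.SpecialLinearGroup (Fin n) (ZMod 2)) = ⊥ := by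
    rw [← Subgroup.card_eq_one, CL.SLn.card_center_SL, ZMod.card 2]; simp
  refine ⟨(MulEquiv.ofBijective (Matrix.SpecialLinearGroup.toGL (n := Fin n) (R := ZMod 2))
    ⟨Matrix.SpecialLinearGroup.toGL_injective, fun g => ⟨⟨g, ?_⟩, Units.ext rfl⟩⟩).symm.trans
    ((QuotientGroup.quotientMulEquivOfEq hZ).trans QuotientGroup.quotientBot).symm⟩
  have h := g.det_ne_zero
  revert h
  generalize (g : Matrix (Fin n) (Fin n) (ZMod 2)).det = d
  revert d
  decide

/-- Let H be a nontrivial subgroup of GL(4,2) (a group isomorphic to the alternating group of degree 8) whose largest normal 2-subgroup and largest normal subgroup of odd order are both trivial. Then H is isomorphic to an alternating group of degree n for some 5 ≤ n ≤ 8, to the symmetric group of degree 5 or 6, or to GL(3,2). -/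
theorem result (H : Subgroup (GL (Fin 4) (ZMod 2))) (hH : H ≠ ⊥) (hO : Cfsg.pPrimeCore 2 ↥H = ⊥) (hO2 : Cfsg.pCore 2 ↥H = ⊥) :
    (∃ n : ℕ, 5 ≤ n ∧ n ≤ 8 ∧ Nonempty (↥H ≃* alternatingGroup (Fin n))) ∨
    Nonempty (↥H ≃* Equiv.Perm (Fin 5)) ∨ Nonempty (↥H ≃* Equiv.Perm (Fin 6)) ∨ Nonempty (↥H ≃* GL (Fin 3) (ZMod 2)) := by
  obtain ⟨e1⟩ := gl_psl 4
  obtain ⟨e2⟩ := Cfsg.Agent.S0256.result (F := ZMod 2) (ZMod.card 2)
  let f : H →* Equiv.Perm (Fin 8) := (alternatingGroup (Fin 8)).subtype.comp ((e1.trans e2).toMonoidHom.comp H.subtype)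
  have hf : Function.Injective f := Subtype.val_injective.comp ((e1.trans e2).injective.comp Subtype.val_injective)
  have he : ∀ g, Equiv.Perm.sign (f g) = 1 := fun g => ((e1.trans e2) g).2
  have hr : ∀ N : Subgroup H, N.Normal → Group.IsSolvable N → N = ⊥ := fun M _ hs => by
    by_contra hne
    obtain ⟨N, p, hp, hN, -, he⟩ := CL.Grp.exists_isMinNormal_isElementaryAbelian_le M hne hs
    have := hN.normal
    have := Fact.mk hp
    refine hN.ne_bot (eq_bot_iff.mpr ((CL.Grp.le_pCore (CL.Loc.ea_isPGroup he)).trans ?_))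
    by_cases h2 : p = 2
    · rw [h2, hO2]
    · rw [← hO]
      exact CL.Grp.pCore_le_pPrimeCore ((Nat.coprime_primes Nat.prime_two hp).mpr (Ne.symm h2))
  by_cases h5 : 5 ∣ Nat.card H
  · exact (CL.Perm.A8.of_five hf he hr h5).imp_right (Or.imp_right Or.inl)
  · have := (Subgroup.nontrivial_iff_ne_bot H).2 hH
    obtain ⟨h1, h2⟩ := CL.Perm.A8.simple_of_not_five hf he hr h5
    have := Fact.mk Nat.prime_seven
    obtain ⟨e3⟩ := Cfsg.Agent.S0495.result h2 (F := ZMod 7) (ZMod.card 7)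
    obtain ⟨e4⟩ := Cfsg.Agent.S0255.result (F := ZMod 7) (K := ZMod 2) (ZMod.card 7) (ZMod.card 2)
    obtain ⟨e5⟩ := gl_psl 3
    exact Or.inr (Or.inr (Or.inr ⟨e3.trans (e4.trans e5.symm)⟩))

end Cfsg.Agent.S2553
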