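import Cfsg.Statements.S3104
import Cfsg.Agent.S3103
import Cfsg.Agent.Inv.GH4S3

set_option autoImplicit false
open Cfsg

namespace Cfsg.Agent.S3104

/-- Let X be a finite nonsolvable 2-constrained group with no nontrivial normal subgroup of odd order such that O₂(X) has sectional 2-rank at most 4, and write Q for X/O₂(X). Then Q is isomorphic to the projective special linear group of dimension 3 over the field with 2 elements, to an alternating group of degree n with 5 ≤ n ≤ 8, to a symmetric group of degree n with 5 ≤ n ≤ 7, or else O₃(Q) has order 3 and Q/O₃(Q) is isomorphic to the alternating or the symmetric group of degree 5 (so Q is the direct product of a group of order 3 with the alternating group of degree 5, or an extension of that direct product by a group of order 2). If moreover X itself has sectional 2-rank at most 4, then Q is not isomorphic to the symmetric group of degree 6 or 7 nor to the alternating group of degree 8. -/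
theorem result {X : Type*} [Group X] [Finite X] (hns : ¬ Group.IsSolvable X) (hc : Cfsg.IsPConstrained 2 X) (hO : Cfsg.oddCore X = ⊥)
    (h4 : Cfsg.SectionalPRankLE 2 4 ↥(Cfsg.pCore 2 X)) :
    ((∃ (F : Type) (_ : Field F) (_ : Fintype F), Fintype.card F = 2 ∧
          Nonempty (X ⧸ Cfsg.pCore 2 X ≃* Matrix.ProjectiveSpecialLinearGroup (Fin 3) F)) ∨
        (∃ n : ℕ, 5 ≤ n ∧ n ≤ 8 ∧ Nonempty (X ⧸ Cfsg.pCore 2 X ≃* ↥(alternatingGroup (Fin n)))) ∨
        (∃ n : ℕ, 5 ≤ n ∧ n ≤ 7 ∧ Nonempty (X ⧸ Cfsg.pCore 2 X ≃* Equiv.Perm (Fin n))) ∨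
        (Nat.card ↥(Cfsg.pCore 3 (X ⧸ Cfsg.pCore 2 X)) = 3 ∧
          (Nonempty ((X ⧸ Cfsg.pCore 2 X) ⧸ Cfsg.pCore 3 (X ⧸ Cfsg.pCore 2 X) ≃* ↥(alternatingGroup (Fin 5))) ∨
            Nonempty ((X ⧸ Cfsg.pCore 2 X) ⧸ Cfsg.pCore 3 (X ⧸ Cfsg.pCore 2 X) ≃* Equiv.Perm (Fin 5))))) ∧
      (Cfsg.SectionalPRankLE 2 4 X →
        ¬ (Nonempty (X ⧸ Cfsg.pCore 2 X ≃* Equiv.Perm (Fin 6)) ∨ Nonempty (X ⧸ Cfsg.pCore 2 X ≃* Equiv.Perm (Fin 7)) ∨
            Nonempty (X ⧸ Cfsg.pCore 2 X ≃* ↥(alternatingGroup (Fin 8))))) := by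
  have hC := (CL.Loc.isPConstrained_iff_of_pPrimeCore_eq_bot hO).1 hc
  have hQ := CL.Grp.pCore_isPGroup 2 X
  obtain ⟨f₀, hf₀⟩ := Cfsg.Agent.S3103.result hc hO h4
  let f := (alternatingGroup (Fin 8)).subtype.comp f₀
  have hf : Function.Injective f := Subtype.val_injective.comp hf₀
  have he : ∀ g, Equiv.Perm.sign (f g) = 1 := fun g => (f₀ g).2
  have hs : ¬ Group.IsSolvable (X ⧸ pCore 2 X) := fun h => by
    have := hQ.isNilpotent
    exact hns (Group.isSolvable_of_ker_le_range (pCore 2 X).subtype (QuotientGroup.mk' (pCore 2 X)) (by simp))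
  refine ⟨?_, fun hS h => ?_⟩
  · by_cases h3 : pCore 3 (X ⧸ pCore 2 X) = ⊥
    · rcases CL.GH4.s1_main hf he hs (CL.Grp.pCore_quotient_pCore 2 X) h3 with h | h | h | h
      · exact Or.inl ⟨ZMod 2, inferInstance, inferInstance, ZMod.card 2, h⟩
      · exact Or.inr (Or.inl h)
      · exact Or.inr (Or.inr (Or.inl ⟨5, by omega, by omega, h⟩))
      · exact Or.inr (Or.inr (Or.inl ⟨6, by omega, by omega, h⟩))
    · exact Or.inr (Or.inr (Or.inr (CL.GH4.s1_three hf he hs h3)))
  · have key := CL.GH4.s3_main hQ (fun a => CL.Loc.mem_pCore_of_commutator_mem_frattini hC) hS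
    rcases h with h | ⟨⟨e⟩⟩ | h
    exacts [key (Or.inl h), CL.GH4.s1_not_seven hf he e, key (Or.inr h)]

end Cfsg.Agent.S3104
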