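import Cfsg.Statements.S3035
import Cfsg.Agent.Inv.CentD8
import Cfsg.Agent.S0254
import Cfsg.Agent.S0255

set_option autoImplicit false
open Cfsg
open CL.Inv.FI

namespace Cfsg.Agent.S3035

/-- Let G be a finite group with an involution z whose centralizer is dihedral of order 8. Then G = C_G(z) O(G) with O(G) the largest normal subgroup of odd order, or G is isomorphic to the symmetric group of degree 4, the symmetric group of degree 5, the group SL₃(2), or the alternating group of degree 6. -/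
theorem result {G : Type*} [Group G] [Finite G] (z : G) (hz : orderOf z = 2)
    (hC : Nonempty (↥(Subgroup.centralizer ({z} : Set G)) ≃* DihedralGroup 4)) :
    Subgroup.centralizer ({z} : Set G) ⊔ Cfsg.oddCore G = ⊤ ∨ Nonempty (G ≃* Equiv.Perm (Fin 4)) ∨ Nonempty (G ≃* Equiv.Perm (Fin 5)) ∨
      Nonempty (G ≃* Matrix.SpecialLinearGroup (Fin 3) (ZMod 2)) ∨ Nonempty (G ≃* ↥(alternatingGroup (Fin 6))) := by
  obtain ⟨e⟩ := hC
  by_cases hG : ∀ H : Subgroup G, H.index ≠ 2
  · obtain ⟨F, _, _, hF | hF, ⟨f⟩⟩ := d8_psl hG hz e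
    · obtain ⟨f'⟩ := Cfsg.Agent.S0255.result (K := ZMod 2) hF (ZMod.card 2)
      have hZ : Subgroup.center (Matrix.SpecialLinearGroup (Fin 3) (ZMod 2)) = ⊥ := by
        rw [← Subgroup.card_eq_one, CL.SLn.card_center_SL, ZMod.card 2]; rfl
      exact Or.inr (Or.inr (Or.inr (Or.inl ⟨(f.trans f').trans
        ((QuotientGroup.quotientMulEquivOfEq hZ).trans QuotientGroup.quotientBot)⟩)))
    · obtain ⟨f'⟩ := Cfsg.Agent.S0254.result hF
      exact Or.inr (Or.inr (Or.inr (Or.inr ⟨f.trans f'⟩)))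
  push Not at hG
  obtain ⟨H, hH⟩ := hG
  rcases d8_index_two hz e hH with h | h | h
  · obtain ⟨S, hS⟩ := d8_sylow e (CL.Inv.SE.ne_one_of_inv hz)
    refine Or.inl (top_le_iff.mp ?_)
    rw [← CL.Grp.pResidual_sup_sylow S, hS, sup_comm]
    exact sup_le_sup_left (CL.Grp.le_pPrimeCore (CL.Grp.hasNormalPComplement_iff_coprime_pResidual.mp h)) _
  · exact Or.inr (Or.inl h)
  · exact Or.inr (Or.inr (Or.inl h))

end Cfsg.Agent.S3035
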