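import Cfsg.Statements.S0998
import Cfsg.Agent.Inv.BT2
import Cfsg.Agent.GW.CorOrder

set_option autoImplicit false
open Cfsg

namespace Cfsg.Agent.S0998

/-- A non-cyclic finite simple group whose order has the form p * r * q^b for distinct primes p, q, r is isomorphic to the projective special linear group of dimension 2 over the field with 5 or with 7 elements. -/
theorem result {G : Type*} [Group G] [Finite G] [IsSimpleGroup G] (hG : ¬ IsCyclic G) (p q r b : ℕ) (hp : p.Prime) (hq : q.Prime) (hr : r.Prime) (hpq : p ≠ q) (hpr : p ≠ r) (hqr : q ≠ r) (hG' : Nat.card G = p * r * q ^ b) : (∃ (F : Type) (_ : Field F) (_ : Fintype F), Fintype.card F = 5 ∧ Nonempty (G ≃* Matrix.ProjectiveSpecialLinearGroup (Fin 2) F)) ∨ (∃ (F : Type) (_ : Field F) (_ : Fintype F), Fintype.card F = 7 ∧ Nonempty (G ≃* Matrix.ProjectiveSpecialLinearGroup (Fin 2) F)) := by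
  have hna : ∃ x y : G, x * y ≠ y * x := by
    by_contra hc
    push Not at hc
    have : IsMulCommutative G := ⟨⟨hc⟩⟩
    open scoped IsMulCommutative in
    exact hG inferInstance
  have hnc : ¬ IsMulCommutative G := fun h => by
    obtain ⟨x, y, hxy⟩ := hna
    exact hxy (h.is_comm.comm x y)
  have three : ∀ s : ℕ, s.Prime → s ≠ q → Nat.card G = 3 * s * q ^ b →
      (∃ (F : Type) (_ : Field F) (_ : Fintype F), Fintype.card F = 5 ∧ Nonempty (G ≃* Matrix.ProjectiveSpecialLinearGroup (Fin 2) F)) ∨ (∃ (F : Type) (_ : Field F) (_ : Fintype F), Fintype.card F = 7 ∧ Nonempty (G ≃* Matrix.ProjectiveSpecialLinearGroup (Fin 2) F)) := by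
    intro s hs hsq h
    rcases CL.GW.Cor.order_three hna (a := 1) (b := b) hs hq hsq (by rw [h, pow_one]) with h5 | h7
    · have := Fact.mk Nat.prime_five
      obtain ⟨e⟩ := h5
      obtain ⟨f⟩ := CL.Cls.nonempty_PSL2_five (F := ZMod 5) (ZMod.card 5)
      exact Or.inl ⟨ZMod 5, inferInstance, inferInstance, ZMod.card 5, ⟨e.trans f.symm⟩⟩
    · have := Fact.mk (by norm_num : Nat.Prime 7)
      exact Or.inr ⟨ZMod 7, inferInstance, inferInstance, ZMod.card 7, h7⟩
  by_cases hp3 : p = 3
  · subst hp3; exact three r hr (Ne.symm hqr) hG'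
  by_cases hr3 : r = 3
  · subst hr3; exact three p hp hpq (by rw [hG']; ring)
  exfalso
  have key : ∀ p r : ℕ, p.Prime → r.Prime → p ≠ q → q ≠ r → p ≠ 3 → r ≠ 3 → r < p →
      Nat.card G = p * r * q ^ b → False := by
    intro p r hp hr hpq hqr hp3 hr3 hlt hG'
    have := Fact.mk hp
    have hr2 := hr.two_le
    have hpo : Odd p := hp.odd_of_ne_two (by omega)
    have hg : r < p - 1 := by
      by_contra hc
      have h1 : p = r + 1 := by omega
      have : r = 2 := by
        by_contra h2
        have := hr.odd_of_ne_two h2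
        rw [h1] at hpo
        exact (Nat.not_even_iff_odd.2 hpo) (this.add_one)
      omega
    have h3 : ∀ {m : ℕ}, m.Prime → m ≠ 3 → ¬ 3 ∣ m := fun hm h h' =>
      h ((Nat.prime_dvd_prime_iff_eq Nat.prime_three hm).1 h').symm
    have h4 : ∀ {t : ℕ}, Odd t → ¬ 4 ∣ r * t := by
      intro t ht h
      have h' : 4 ∣ r := (Nat.Coprime.dvd_mul_right (by
        have : Nat.Coprime 2 t := (Nat.coprime_two_left).2 ht
        simpa using this.pow_left 2)).1 h
      rcases hr.eq_one_or_self_of_dvd 2 (Dvd.dvd.trans (by norm_num) h') with h | h <;> omega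
    rcases CL.Inv.PO.brauer_tuan (p := p) (q := q) (b := b) (g₀ := r) hnc hq hpq (by rw [hG']; ring) hg with
      ⟨-, F, _, _, hF, -, ⟨e⟩⟩ | ⟨m, F, _, _, hF, hm, h3p, ⟨e⟩⟩
    · have e1 := CL.SLn.card_PSL_mul (ι := Fin 2) (F := F)
      obtain ⟨k, hk⟩ := hpo
      rw [CL.SLn.card_SL_two, hF, Fintype.card_fin, ← Nat.card_congr e.toEquiv, hG'] at e1
      have hgcd : Nat.gcd 2 (p - 1) = 2 := Nat.gcd_eq_left ⟨k, by omega⟩
      rw [hgcd] at e1
      have e2 : 2 * (r * q ^ b) = p ^ 2 - 1 := by
        apply Nat.eq_of_mul_eq_mul_left hp.pos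
        rw [← e1]; ring
      have e3 : r * q ^ b = 2 * (k * (k + 1)) := by
        have : p ^ 2 = 4 * (k * (k + 1)) + 1 := by rw [hk]; ring
        omega
      have d3 : 3 ∣ r * q ^ b := by
        have := h3 hp hp3
        rw [e3]
        have : k % 3 = 0 ∨ k % 3 = 2 := by omega
        rcases this with h | h
        · exact Dvd.dvd.mul_left (Dvd.dvd.mul_right (by omega) _) _
        · exact Dvd.dvd.mul_left (Dvd.dvd.mul_left (by omega) _) _
      have hq3 : q = 3 := by
        rcases (Nat.Prime.dvd_mul Nat.prime_three).1 d3 with h | h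
        · exact absurd h (h3 hr hr3)
        · exact ((Nat.prime_dvd_prime_iff_eq Nat.prime_three hq).1 (Nat.prime_three.dvd_of_dvd_pow h)).symm
      refine h4 (t := q ^ b) (Odd.pow (by rw [hq3]; decide)) ?_
      rw [e3]
      obtain ⟨j, hj⟩ := Nat.even_mul_succ_self k
      exact ⟨j, by omega⟩
    · have e1 := CL.SLn.card_PSL_mul (ι := Fin 2) (F := F)
      have hm2 : 2 ≤ m := by
        by_contra hc
        have : m = 0 ∨ m = 1 := by omega
        rcases this with rfl | rfl <;> omega
      obtain ⟨n, rfl⟩ := Nat.exists_eq_add_of_le hm2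
      rw [CL.SLn.card_SL_two, hF, Fintype.card_fin, ← Nat.card_congr e.toEquiv, hG'] at e1
      have hpos : 0 < 2 ^ n := by positivity
      have hw : 2 ^ (2 + n) = 4 * 2 ^ n := by ring
      have hgcd : Nat.gcd 2 (2 ^ (2 + n) - 1) = 1 := by
        have : Nat.Coprime 2 (2 ^ (2 + n) - 1) := (Nat.coprime_two_left).2 ⟨2 * 2 ^ n - 1, by omega⟩
        exact this
      rw [hgcd, one_mul, hw] at e1
      rw [hw] at hm
      generalize 2 ^ n = w at *
      obtain ⟨v, rfl⟩ : ∃ v, w = v + 1 := ⟨w - 1, by omega⟩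
      have e2 : r * q ^ b = 4 * (v + 1) * (4 * v + 3) := by
        apply Nat.eq_of_mul_eq_mul_left hp.pos
        have : (4 * (v + 1)) ^ 2 - 1 = p * (4 * v + 3) := by
          rw [hm]
          have : (4 * (v + 1)) ^ 2 = (4 * (v + 1) + 1) * (4 * v + 3) + 1 := by ring
          omega
        rw [← mul_assoc, e1, this]; ring
      have hq2 : q = 2 := by
        by_contra hc
        exact h4 (t := q ^ b) (Odd.pow (hq.odd_of_ne_two hc)) (by rw [e2, mul_assoc]; exact Dvd.intro _ rfl)
      subst hq2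
      have d1 : (4 * v + 3) ∣ r := by
        have : (4 * v + 3) ∣ r * 2 ^ b := by rw [e2]; exact Dvd.intro_left _ rfl
        exact (Nat.Coprime.dvd_mul_right (Nat.Coprime.pow_right _
          ((Nat.coprime_two_right).2 ⟨2 * v + 1, by ring⟩))).1 this
      have hrv : r = 4 * v + 3 := by
        rcases hr.eq_one_or_self_of_dvd _ d1 with h | h <;> omega
      have a1 := h3 hp hp3
      have a2 := h3 hr hr3
      have a3 : ¬ 3 ∣ 4 * (v + 1) := by
        intro h
        have : 2 ^ b = 4 * (v + 1) := by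
          apply Nat.eq_of_mul_eq_mul_left hr.pos
          rw [e2, hrv]; ring
        rw [← this] at h
        exact absurd (Nat.prime_three.dvd_of_dvd_pow h) (by norm_num)
      have : v % 3 = 0 ∨ v % 3 = 1 ∨ v % 3 = 2 := by omega
      rcases this with h | h | h
      · exact a2 (by omega)
      · exact a1 (by omega)
      · exact a3 (by omega)
  rcases lt_or_gt_of_ne hpr with h | h
  · exact key r p hr hp (Ne.symm hqr) (Ne.symm hpq) hr3 hp3 h (by rw [hG']; ring)
  · exact key p r hp hr hpq hqr hp3 hr3 h hG'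

end Cfsg.Agent.S0998
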