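import Cfsg.Statements.S2222
import Cfsg.Agent.Known.AltSelfNorm

set_option autoImplicit false
open Cfsg

namespace Cfsg.Agent.S2222

open Equiv Equiv.Perm
open scoped Pointwise

theorem pronormal_of {G : Type*} [Group G] [Finite G] {p : ℕ} [Fact p.Prime] {S H : Subgroup G}
    (hS : CL.Grp.IsSylowIn p S ⊤) (hSH : S ≤ H)
    (hN : Subgroup.normalizer (S : Set G) ≤ Subgroup.normalizer (H : Set G)) : Cfsg.IsPronormal H := by
  intro g
  have h1 : CL.Grp.IsSylowIn p S (H ⊔ MulAut.conj g • H) := hS.of_le (hSH.trans le_sup_left) le_top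
  have h2 : CL.Grp.IsSylowIn p (MulAut.conj g • S) (H ⊔ MulAut.conj g • H) :=
    (hS.conj_smul_of_mem (Subgroup.mem_top g)).of_le
      ((Subgroup.pointwise_smul_le_pointwise_smul_iff.2 hSH).trans le_sup_right) le_top
  obtain ⟨k, hk, e⟩ := h2.exists_conj_eq h1
  rw [CL.Grp.conj_smul_conj_smul, CL.Grp.conj_smul_eq_self_iff] at e
  have e2 := (CL.Grp.conj_smul_eq_self_iff _ _).2 (hN e)
  refine ⟨k⁻¹, Subgroup.inv_mem _ hk, ?_⟩
  change MulAut.conj g • H = MulAut.conj k⁻¹ • H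
  conv_rhs => rw [← e2]
  rw [CL.Grp.conj_smul_conj_smul, inv_mul_cancel_left]

def vl : List (Perm (Fin 5)) := [1, swap 0 1 * swap 2 3, swap 0 2 * swap 1 3, swap 0 3 * swap 1 2]

def V : Subgroup (Perm (Fin 5)) where
  carrier := {g | g ∈ vl}
  one_mem' := by decide +kernel
  mul_mem' := by
    have : ∀ a ∈ vl, ∀ b ∈ vl, a * b ∈ vl := by decide +kernel
    intro a b ha hb
    exact this a ha b hb
  inv_mem' := by
    have : ∀ a ∈ vl, a⁻¹ ∈ vl := by decide +kernel
    intro a ha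
    exact this a ha

theorem card_V : Nat.card V = 2 ^ 2 := by
  have : (V : Set (Perm (Fin 5))) = vl.toFinset := by ext; simp [V]
  rw [← SetLike.coe_sort_coe, this, Nat.card_coe_set_eq, Set.ncard_coe_finset]
  decide +kernel

theorem fact1 : ∀ h : Perm (Fin 5), sign h = 1 → h ∉ vl → ∃ s ∈ vl, ∃ t ∈ vl,
    (h * s * h⁻¹ * t * h) 4 = 4 ∧ h * s * h⁻¹ * t * h ∉ vl := by decide +kernel

theorem fact2 : ∀ g : Perm (Fin 5), g * (swap 0 1 * swap 2 3) * g⁻¹ ∈ vl → g 4 = 4 := by decide +kernel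

set_option synthInstance.maxSize 1000 in
theorem fact3 : ∀ g : Perm (Fin 5), sign g = 1 → g 4 = 4 → ∀ w : Perm (Fin 5), sign w = 1 → w 4 = 4 → w ∉ vl →
    ∃ s ∈ vl, g = s ∨ g = s * w ∨ g = s * w * w := by decide +kernel

theorem five0 {H : Subgroup (Perm (Fin 5))} (hVH : V ≤ H) (hH : H ≤ alternatingGroup (Fin 5))
    {g : Perm (Fin 5)} (hg : g ∈ alternatingGroup (Fin 5)) (hgn : g ∈ Subgroup.normalizer (V : Set (Perm (Fin 5)))) :
    g ∈ Subgroup.normalizer (H : Set (Perm (Fin 5))) := by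
  by_cases hle : H ≤ V
  · rwa [le_antisymm hle hVH]
  · obtain ⟨h, hh, hv⟩ := SetLike.not_le_iff_exists.1 hle
    obtain ⟨s, hs, t, ht, h4, hw⟩ := fact1 h (hH hh) hv
    have hwH : h * s * h⁻¹ * t * h ∈ H :=
      H.mul_mem (H.mul_mem (H.mul_mem (H.mul_mem hh (hVH hs)) (H.inv_mem hh)) (hVH ht)) hh
    have g4 := fact2 g ((Subgroup.mem_normalizer_iff.1 hgn _).1 (show _ ∈ vl by decide +kernel))
    obtain ⟨u, hu, e⟩ := fact3 g hg g4 _ (hH hwH) h4 hw
    apply Subgroup.le_normalizer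
    rcases e with e | e | e <;> rw [e]
    · exact hVH hu
    · exact H.mul_mem (hVH hu) hwH
    · exact H.mul_mem (H.mul_mem (hVH hu) hwH) hwH

theorem five {S H : Subgroup (Perm (Fin 5))} (hS : CL.Grp.IsSylowIn 2 S (alternatingGroup (Fin 5))) (hSH : S ≤ H)
    (hH : H ≤ alternatingGroup (Fin 5))
    {g : Perm (Fin 5)} (hg : g ∈ alternatingGroup (Fin 5)) (hgn : g ∈ Subgroup.normalizer (S : Set (Perm (Fin 5)))) :
    g ∈ Subgroup.normalizer (H : Set (Perm (Fin 5))) := by
  have hV : CL.Grp.IsSylowIn 2 V (alternatingGroup (Fin 5)) := by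
    refine CL.Known.isSylowIn_of_card ?_ card_V (m := 15) ?_ (by norm_num)
    · have : ∀ a ∈ vl, sign a = 1 := by decide +kernel
      exact fun a ha => this a ha
    · rw [nat_card_alternatingGroup]; simp; rfl
  obtain ⟨k, hk, rfl⟩ := hV.exists_conj_eq hS
  have e : H = MulAut.conj k • (MulAut.conj k⁻¹ • H) := by
    rw [CL.Grp.conj_smul_conj_smul]; simp
  rw [e] at hSH ⊢
  rw [CL.Grp.normalizer_conj_smul, CL.Grp.mem_conj_smul_iff] at hgn ⊢
  refine five0 (Subgroup.pointwise_smul_le_pointwise_smul_iff.1 hSH) ?_ ?_ hgn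
  · rw [CL.Grp.conj_smul_le_iff]
    intro x hx
    exact (alternatingGroup (Fin 5)).mul_mem ((alternatingGroup (Fin 5)).mul_mem (Subgroup.inv_mem _ hk) (hH hx))
      (Subgroup.inv_mem _ (Subgroup.inv_mem _ hk))
  · exact (alternatingGroup (Fin 5)).mul_mem ((alternatingGroup (Fin 5)).mul_mem (Subgroup.inv_mem _ hk) hg) hk

/-- In the alternating group of degree n ≥ 5 every subgroup H of odd index is pronormal: for every element g, the subgroups H and gHg⁻¹ are conjugate by an element of the subgroup they generate. -/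
theorem result (n : ℕ) (hn : 5 ≤ n)
    (H : Subgroup (alternatingGroup (Fin n))) (hH : Odd H.index) : Cfsg.IsPronormal H := by
  haveI : Fact (Nat.Prime 2) := ⟨Nat.prime_two⟩
  obtain ⟨S, hS⟩ := CL.Grp.exists_isSylowIn 2 H
  have hS' : CL.Grp.IsSylowIn 2 S ⊤ := by
    refine ⟨le_top, hS.2.1, ?_⟩
    rw [Subgroup.relIndex_top_right, ← Subgroup.relIndex_mul_index hS.1, Nat.Prime.dvd_mul Nat.prime_two, not_or]
    exact ⟨hS.2.2, hH.not_two_dvd_nat⟩
  refine pronormal_of hS' hS.1 ?_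
  have hSm : CL.Grp.IsSylowIn 2 (S.map (alternatingGroup (Fin n)).subtype) (alternatingGroup (Fin n)) := by
    obtain ⟨P, rfl⟩ := CL.Grp.isSylowIn_top_iff.1 hS'
    exact CL.Grp.isSylowIn_map_subtype P
  have hnorm : ∀ (K : Subgroup (alternatingGroup (Fin n))) (g : alternatingGroup (Fin n)),
      g ∈ Subgroup.normalizer (K : Set (alternatingGroup (Fin n))) ↔
      (g : Equiv.Perm (Fin n)) ∈ Subgroup.normalizer
        ((K.map (alternatingGroup (Fin n)).subtype : Subgroup (Equiv.Perm (Fin n))) : Set (Equiv.Perm (Fin n))) := by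
    intro K g
    constructor
    · intro hg
      exact Subgroup.le_normalizer_map _ ⟨g, hg, rfl⟩
    · intro hg
      apply Subgroup.mem_normalizer_fintype
      intro x hx
      have := (Subgroup.mem_normalizer_iff.1 hg x).1 ⟨x, hx, rfl⟩
      exact (Subgroup.mem_map_iff_mem (alternatingGroup (Fin n)).subtype_injective).1 this
  intro g hg
  rw [hnorm] at hg ⊢
  rcases hn.eq_or_lt with rfl | h6
  · exact five hSm (Subgroup.map_mono hS.1) (Subgroup.map_subtype_le _) g.2 hg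
  · have := CL.Known.normalizer_sylow_two_alt (by simpa using Nat.succ_le_of_lt h6) hSm
    have h2 : (g : Equiv.Perm (Fin n)) ∈ S.map (alternatingGroup (Fin n)).subtype := this ▸ ⟨hg, g.2⟩
    exact Subgroup.le_normalizer (Subgroup.map_mono hS.1 h2)

end Cfsg.Agent.S2222
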