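import Cfsg.Statements.S3114
import Cfsg.Agent.Inv.R14Asm
import Cfsg.Agent.Inv.R14M23
import Cfsg.Agent.Inv.R14SPR
import Cfsg.Agent.Inv.R14FinX
import Cfsg.Agent.Inv.R14FinW1
import Cfsg.Agent.Inv.R14FinW2
import Cfsg.Agent.Inv.R14Swap
import Cfsg.Agent.Inv.R14Syl
import Cfsg.Agent.Inv.R14K0
import Cfsg.Agent.Inv.R14Mk
import Cfsg.Agent.Inv.R14N1
import Cfsg.Agent.Inv.R14N2
import Cfsg.Agent.Inv.R14N3
import Cfsg.Agent.Inv.R14TN1
import Cfsg.Agent.Inv.R14TN2
import Cfsg.Agent.Inv.R14TN3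
import Cfsg.Agent.Inv.R14HP1
import Cfsg.Agent.Inv.R14HP2
import Cfsg.Agent.Inv.R14FinP
import Cfsg.Agent.Inv.R14FinA
import Cfsg.Agent.Inv.R14Fin2
import Cfsg.Agent.Inv.R14NB
import Cfsg.Agent.Inv.R14LI
import Cfsg.Agent.Inv.R14E8A
import Cfsg.Agent.Inv.R14E8B
import Cfsg.Agent.Inv.R14E8C
import Cfsg.Agent.Inv.R14EE
import Cfsg.Agent.Inv.R14FA
import Cfsg.Agent.Inv.R14Ent
import Cfsg.Agent.Inv.R14Ent1
import Cfsg.Agent.Inv.R14Ent2
import Cfsg.Agent.Inv.R14Red
import Cfsg.Agent.Inv.R14Loc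

set_option autoImplicit false
open Cfsg

namespace Cfsg.Agent.S3114

/-- Let G be a non-abelian finite simple group of sectional 2-rank at most 4 in which the centralizer of every 2-central involution (an involution central in some Sylow 2-subgroup) is solvable, and suppose some 2-local subgroup of G is nonsolvable and 2-constrained. Then G is isomorphic to one of: the projective special linear group of dimension 4 over the field with 3 elements, the projective special unitary group PSU₄(3) (q = 3, realised over the field with 9 elements), the projective symplectic group of dimension 4 over the field with 3 elements, the Chevalley group of type G₂ over the field with 3 elements, the projective special linear group of dimension 3 over the field with 4 elements, an alternating group of degree 8, 9, 10 or 11, or the Mathieu group of degree 22. -/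
theorem result {G : Type*} [Group G] [Finite G] [IsSimpleGroup G] (hG : ¬ IsMulCommutative G) (h4 : Cfsg.SectionalPRankLE 2 4 G)
    (hc : ∀ t : G, Cfsg.IsTwoCentralInvolution t → Group.IsSolvable ↥(Subgroup.centralizer ({t} : Set G)))
    (hl : ∃ T : Subgroup G, IsPGroup 2 ↥T ∧ T ≠ ⊥ ∧ ¬ Group.IsSolvable ↥(Subgroup.normalizer (T : Set G)) ∧
      Cfsg.IsPConstrained 2 ↥(Subgroup.normalizer (T : Set G))) :
    (∃ (F : Type) (_ : Field F) (_ : Fintype F), Fintype.card F = 3 ∧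
        (Nonempty (G ≃* Matrix.ProjectiveSpecialLinearGroup (Fin 4) F) ∨ Nonempty (G ≃* Cfsg.PSp 2 F) ∨ Nonempty (G ≃* ↥(Cfsg.Lie.chevG2.group F)))) ∨
      (∃ (F : Type) (_ : Field F) (_ : Fintype F), Fintype.card F = 9 ∧ Nonempty (G ≃* Cfsg.PSU 4 F 3)) ∨
      (∃ (F : Type) (_ : Field F) (_ : Fintype F), Fintype.card F = 4 ∧ Nonempty (G ≃* Matrix.ProjectiveSpecialLinearGroup (Fin 3) F)) ∨
      (∃ n : ℕ, 8 ≤ n ∧ n ≤ 11 ∧ Nonempty (G ≃* ↥(alternatingGroup (Fin n)))) ∨ Cfsg.Spor.IsoM22 G := by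
  have m16 := CL.R14.main16 CL.R14.loc CL.R14.cen CL.R14.hp1 (CL.R14.hp2 CL.R14.sylT) (CL.R14.norm2 CL.R14.norm1)
    (CL.R14.norm3 CL.R14.sylT) (CL.R14.fa CL.R14.mkP CL.R14.li) (CL.R14.ent (CL.R14.ent1 CL.R14.k0) CL.R14.ent2) CL.R14.nb
    CL.R14.finA (CL.R14.fin2 CL.R14.finW1 CL.R14.finW2 (CL.R14.finP CL.R14.lc2) CL.R14.finX) CL.R14.tn1 CL.R14.lc2
    CL.R14.tn2 (CL.R14.tn3 CL.R14.swapT CL.R14.m23x CL.R14.spr) CL.R14.finX
  exact CL.R14.final CL.R14.red CL.R14.loc CL.R14.cen m16 (CL.R14.main8 (CL.R14.e8a CL.R14.mkP CL.R14.ee)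
    (CL.R14.e8b (CL.R14.finP CL.R14.lc2) CL.R14.finX) (CL.R14.e8c CL.R14.nb CL.R14.k0 CL.R14.li)
    (CL.R14.ent (CL.R14.ent1 CL.R14.k0) CL.R14.ent2) CL.R14.nb CL.R14.finA
    (CL.R14.fin2 CL.R14.finW1 CL.R14.finW2 (CL.R14.finP CL.R14.lc2) CL.R14.finX) m16) hG h4 hc hl

end Cfsg.Agent.S3114
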