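import Cfsg.Statements.S5316
import Cfsg.Agent.Fus.McF
import Cfsg.Agent.Fus.OrdFive
import Cfsg.Agent.Fus.EssExt

set_option autoImplicit false
open Cfsg

namespace Cfsg.Agent.S5316

open CL.Fus CL.Fus.Rk CL.Fgs Subgroup

/-- Let p ≥ 5 be a prime, S a finite p-group of maximal class of order p^n with n ≥ 5 (nilpotency class n − 1), F a saturated fusion system over S, and E an F-essential subgroup that is not a pearl (not elementary abelian of order p² and not extraspecial of order p³ and exponent p). Then E has order at least p⁴. -/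
theorem result {Ω : Type*} [Group Ω] {S : Subgroup Ω} [Finite S] (p : ℕ) [Fact p.Prime] (hp : 5 ≤ p) (hS : IsPGroup p ↥S) (n : ℕ) (hn : Nat.card S = p ^ n) (h5 : 5 ≤ n)
    (hmax : Subgroup.lowerCentralSeries S (n - 2) ≠ ⊥) (F : Cfsg.FusionSystem S) (hF : F.IsSaturated p)
    (E : Subgroup Ω) (hE : F.IsEssential p E)
    (hnp : ¬ ((Nat.card ↥E = p ^ 2 ∧ Cfsg.IsElementaryAbelian p E) ∨ (Nat.card ↥E = p ^ 3 ∧ Cfsg.IsExtraspecial p ↥E ∧ Monoid.exponent ↥E = p))) :
    p ^ 4 ≤ Nat.card ↥E := by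
  have pr : p.Prime := Fact.out
  have hES := hE.1.1
  have := finite_of_le hES
  have hE' := hS.to_le hES
  obtain ⟨k, hk⟩ := IsPGroup.iff_card.1 hE'
  rw [hk]
  refine Nat.pow_le_pow_right pr.pos (by_contra fun h4 => hnp ?_)
  have h2 : 2 ≤ k := (Nat.pow_le_pow_iff_right pr.one_lt).1 (hk ▸ (Nat.le_mul_of_pos_right _
    (have := finite_of_le (frat_le E); Nat.card_pos)).trans (IsEssential.sq_mul_card_frat_le hS hF hE))
  obtain rfl | rfl : k = 2 ∨ k = 3 := by omega
  · obtain ⟨h1, h3⟩ := IsEssential.elem_of_sq hS hF hE hk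
    exact .inl ⟨hk, ⟨⟨fun a b => Subtype.ext (h1 a a.2 b b.2)⟩⟩, h3⟩
  by_cases ab : ∀ x ∈ E, ∀ y ∈ E, x * y = y * x
  · exfalso
    have el := IsEssential.elem_of_cube hS hF hE hk ab
    obtain ⟨D⟩ := nonempty_wreath F
    obtain ⟨η, h⟩ := IsRealizedBy.exists_fIso D.isRealizedBy
    have e := h.toGIso.equiv le_rfl h.toGIso.img_top
    obtain ⟨r, rfl⟩ : ∃ r, n = r + 2 := ⟨n - 2, by omega⟩
    have m := maxCl_of_ne_bot hn (by omega) hmax
    have := hS.isNilpotent
    have := (h.toGIso.isPGroup hS).isNilpotent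
    obtain ⟨K, L, Z, t⟩ := exists_mc (r := r) (by omega : p ≠ 2) ⟨(Nat.card_congr e.toEquiv).symm.trans hn, m.three_le,
      m.cl ▸ le_antisymm (Group.nilpotencyClass_le_of_surjective e.toMonoidHom e.surjective)
        (Group.nilpotencyClass_le_of_surjective e.symm.toMonoidHom e.symm.surjective)⟩ (by omega)
    refine cube_false (h.toGIso.isPGroup hS) (h.isSaturated hF) (h.isEssential hE) hp t (img_le_iff.2 fun x hx =>
      (h.toGIso.mem_centralizer_iff hES (hES hx)).2 fun y hy => ab y hy x hx) (fun y hy => ?_) ((h.toGIso.card_img hES).trans hk)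
    obtain ⟨x, hx, rfl⟩ := (h.toGIso.mem_img hES).1 hy
    rw [← h.toGIso.homOn.map_pow (hES hx), el x hx, h.toGIso.homOn.map_one]
  · obtain ⟨h1, h3⟩ := IsEssential.frat_of_cube hS hF hE hk ab
    have h6 := pow_eq_one_of_irred (F := F) (by omega) hE' h1 h3.ge (fun x hx => pow_eq_one_of_card h1 hx)
      (fun C hC h => IsEssential.eq_or_eq hS hF hE (by rw [hk, h1, pow_succ]) hC h) ab
    refine .inr ⟨hk, isExtraspecial_of_card_eq_cube hk fun c => ab fun x hx y hy =>
      congrArg Subtype.val (c.is_comm.comm ⟨x, hx⟩ ⟨y, hy⟩), ?_⟩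
    refine ((Nat.dvd_prime pr).1 (Monoid.exponent_dvd_of_forall_pow_eq_one fun x : E => Subtype.ext (h6 x x.2))).resolve_left
      fun c => ab fun x hx y hy => ?_
    have := Monoid.exp_eq_one_iff.1 c
    exact congrArg Subtype.val (Subsingleton.elim (⟨x * y, mul_mem hx hy⟩ : E) ⟨y * x, mul_mem hy hx⟩)

end Cfsg.Agent.S5316
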