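import Cfsg.Statements.S4503
import Cfsg.Agent.Blk.SmPSL

set_option autoImplicit false
open Cfsg

namespace Cfsg.Agent.S4503

/-- Let G be a finite group whose order is divisible by the prime p exactly once and which has no normal subgroup of order p. Then every faithful character χ of G has degree at least (p − 1)/2: 2·χ(1) + 1 ≥ p. -/
theorem result {G : Type*} [Group G] [Finite G] (p : ℕ) (hp : p.Prime) (hdiv : p ∣ Nat.card G) (hsq : ¬ p ^ 2 ∣ Nat.card G) (hnn : ∀ H : Subgroup G, H.Normal → Nat.card H ≠ p) (χ : G → ℂ) (hχ : Cfsg.IsCharacter G χ) (hfaith : ∀ g : G, χ g = χ 1 → g = 1) : p ≤ 2 * Cfsg.charDegree χ + 1 := by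
  have := Fact.mk hp
  obtain ⟨x, ⟨K⟩⟩ := CL.Inv.PO.exists_ctx_of_dvd hdiv hsq
  by_contra h
  by_cases hp5 : 5 ≤ p
  · have := (CL.Blk.Sm.of_two_mul_le K hp5 (fun hn => hnn _ hn K.card_P) hχ
      (CL.Char.charKer_eq_bot_of_faithful hfaith) (by omega)).1
    omega
  · have h0 : charDegree χ = 0 := by
      have : p ≠ 4 := by rintro rfl; exact absurd hp (by decide)
      omega
    have h1 := hχ.eq_zero_of_one_eq_zero (by rw [← hχ.cast_charDegree, h0, Nat.cast_zero])
    exact K.x_ne_one (hfaith x (by simp [h1]))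

end Cfsg.Agent.S4503
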