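import Cfsg.Statements.S4504
import Cfsg.Agent.Blk.SmPSL

set_option autoImplicit false
open Cfsg

namespace Cfsg.Agent.S4504

/-- Let G be a finite group whose order is divisible by the prime p exactly once and which has no normal subgroup of order p. If G has a faithful character of degree exactly (p − 1)/2, then G modulo its centre is isomorphic to PSL(2, p). -/
theorem result {G : Type*} [Group G] [Finite G] (p : ℕ) (hp : p.Prime) (hdiv : p ∣ Nat.card G) (hsq : ¬ p ^ 2 ∣ Nat.card G) (hnn : ∀ H : Subgroup G, H.Normal → Nat.card H ≠ p) (χ : G → ℂ) (hχ : Cfsg.IsCharacter G χ) (hfaith : ∀ g : G, χ g = χ 1 → g = 1) (hdeg : 2 * Cfsg.charDegree χ + 1 = p) : Nonempty ((G ⧸ Subgroup.center G) ≃* Matrix.ProjectiveSpecialLinearGroup (Fin 2) (ZMod p)) := by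
  have := Fact.mk hp
  obtain ⟨x, ⟨K⟩⟩ := CL.Inv.PO.exists_ctx_of_dvd hdiv hsq
  by_cases hp5 : 5 ≤ p
  · exact (CL.Blk.Sm.of_two_mul_le K hp5 (fun hn => hnn _ hn K.card_P) hχ
      (CL.Char.charKer_eq_bot_of_faithful hfaith) hdeg.le).2.2
  · have h1 : charDegree χ = 1 := by
      have := hp.two_le
      omega
    obtain ⟨lam, rfl⟩ := hχ.exists_monoidHom_of_one (hχ.charDegree_eq_one_iff.1 h1)
    refine absurd K.card_P (hnn _ ⟨fun u hu g => ?_⟩)
    have := hfaith (g * u * g⁻¹ * u⁻¹) (by simp)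
    rwa [mul_inv_eq_one.1 this]

end Cfsg.Agent.S4504
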