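import Cfsg.Statements.S0106
import Cfsg.Agent.Transfer.SL23
import Cfsg.Agent.Grp.PNilpFrob
import Cfsg.Agent.Grp.PGroupCyc
import Cfsg.Agent.Even.RankOne
import Cfsg.Agent.Inv.AutTwo

set_option autoImplicit false
open Cfsg

namespace Cfsg.Agent.S0106

/-- A finite group with generalized quaternion Sylow 2-subgroups either has a normal 2-complement or has a section isomorphic to SL(2,3). -/
theorem result {G : Type*} [Group G] [Finite G] (T : Sylow 2 G) (n : ℕ) (hn : 1 ≤ n) (hT : Nonempty ((T : Subgroup G) ≃* QuaternionGroup (2 ^ n))) : Cfsg.HasNormalPComplement 2 G ∨ ∃ (H K : Subgroup G) (hK : (K.subgroupOf H).Normal), Nonempty ((H ⧸ K.subgroupOf H) ≃* Matrix.SpecialLinearGroup (Fin 2) (ZMod 3)) := by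
  obtain ⟨e⟩ := hT
  by_cases hc : Cfsg.HasNormalPComplement 2 G
  · exact Or.inl hc
  right
  obtain ⟨Q, hQT, q, k, g, hq, hq2, hg, hgn, hgc⟩ := CL.Grp.exists_primePow_not_mem_centralizer T hc
  have hQ : IsPGroup 2 Q := T.2.to_le hQT
  have hgo : Odd (orderOf g) := hg ▸ (hq.odd_of_ne_two hq2).pow
  obtain ⟨α, hα, -, hα1⟩ := CL.Inv.exists_odd_aut_of_mem_normalizer hgn hgo.coprime_two_right
  have hne : α ≠ 1 := fun h => hgc (hα1 h)
  have hU := CL.Even.uniqueOrderP_of_quaternion T.2 e
  rcases CL.Grp.isCyclic_or_quaternion_of_forall_ea hQ (fun E hE hcard => by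
      obtain ⟨x, hx, hx1⟩ := E.bot_or_exists_ne_one.resolve_left fun h => by
        rw [h, Subgroup.card_bot] at hcard
        omega
      have hxo : orderOf x = 2 := orderOf_eq_prime (hE.2 x hx) hx1
      have h1 : E ≤ Subgroup.zpowers x := by
        intro y hy
        obtain ⟨j, hj⟩ := hU x (hQT x.2) y (hQT y.2) (by rw [Subgroup.orderOf_coe, hxo])
          (congrArg Subtype.val (hE.2 y hy))
        exact ⟨j, Subtype.ext hj⟩
      have h2 := Subgroup.card_le_of_le h1
      rw [Nat.card_zpowers, hxo, hcard] at h2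
      omega) with hcyc | ⟨-, m, a, b, hab, h1, h2⟩
  · obtain ⟨a, ha⟩ := IsCyclic.exists_generator (α := Q)
    refine absurd (CL.Inv.aut_eq_one_of_fix_index_le_two hQ hα ⊤ (by simp) fun b _ => ?_) hne
    obtain ⟨j, rfl⟩ := ha b
    simp only [map_zpow, CL.Inv.aut_fix_of_mem_zpowers hQ hα (ha _)]
  · rcases hab.two_le.eq_or_lt with rfl | hm
    · obtain ⟨e'⟩ := hab.nonempty_quaternion h1 h2
      exact CL.Transfer.exists_section_SL23 Q e' g hgo hgn hgc
    · have h3 : α a ∈ Subgroup.zpowers a := by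
        by_contra h
        have h4 : (α a) ^ 4 = 1 := by
          rw [show 4 = 2 * 2 from rfl, pow_mul]
          have h5 := orderOf_dvd_of_mem_zpowers (hab.sq_mem_of_notMem h)
          rwa [hab.orderOf_z, orderOf_dvd_iff_pow_eq_one] at h5
        have h5 := Nat.le_of_dvd (by norm_num) (orderOf_dvd_of_pow_eq_one h4)
        rw [α.orderOf_eq, hab.ord] at h5
        have := Nat.pow_le_pow_right two_pos hm
        omega
      refine absurd (CL.Inv.aut_eq_one_of_fix_index_le_two hQ hα (Subgroup.zpowers a)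
        (fun x y hx hy => (Subgroup.mul_mem_iff_of_index_two hab.index).mpr (by simp [hx, hy]))
        fun b hb => ?_) hne
      obtain ⟨j, rfl⟩ := hb
      simp only [map_zpow, CL.Inv.aut_fix_of_mem_zpowers hQ hα h3]

end Cfsg.Agent.S0106
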