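import Cfsg.Statements.S4252
import Cfsg.Agent.Grp.Frob

set_option autoImplicit false
open Cfsg

namespace Cfsg.Agent.S4252

open scoped Pointwise
open CL.Grp

/-- Let a finite group G act on a finite set Ω with more than one point, transitively but not regularly, so that no non-identity element of G fixes two distinct points. Then the stabilizer H of any point is a Frobenius complement in G (nontrivial, proper, meeting its other conjugates trivially), and the Frobenius kernel of G with respect to H (the identity together with the elements lying in no conjugate of H) is exactly the set consisting of the identity and the elements fixing no point. -/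
theorem result {G Ω : Type*} [Group G] [Finite G] [Fintype Ω] [MulAction G Ω] (hΩ : 1 < Fintype.card Ω)
    (htrans : ∀ α β : Ω, ∃ g : G, g • α = β) (hnreg : ∃ g : G, g ≠ 1 ∧ ∃ α : Ω, g • α = α)
    (hfix : ∀ g : G, g ≠ 1 → ∀ α β : Ω, g • α = α → g • β = β → α = β) (α : Ω) :
    Cfsg.IsFrobeniusComplement (MulAction.stabilizer G α) ∧
      Cfsg.frobeniusKernel (MulAction.stabilizer G α) = {g : G | g = 1 ∨ ∀ ω : Ω, g • ω ≠ ω} := by
  have hmem : ∀ g x : G, g * x * g⁻¹ ∈ MulAction.stabilizer G α ↔ x • g⁻¹ • α = g⁻¹ • α := fun g x => by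
    rw [MulAction.mem_stabilizer_iff, mul_smul, mul_smul, smul_eq_iff_eq_inv_smul]
  refine ⟨⟨fun e => ?_, fun e => ?_, fun g hg => eq_bot_iff.2 fun x ⟨hx, hx'⟩ => ?_⟩, ?_⟩
  · obtain ⟨g, hg, β, hβ⟩ := hnreg
    obtain ⟨a, rfl⟩ := htrans α β
    have : a⁻¹ * g * a⁻¹⁻¹ ∈ MulAction.stabilizer G α := (hmem _ _).2 (by rwa [inv_inv])
    rw [e, Subgroup.mem_bot] at this
    exact hg (conj_eq_one_iff.1 this)
  · obtain ⟨β, hβ⟩ := Fintype.exists_ne_of_one_lt_card hΩ α
    obtain ⟨a, rfl⟩ := htrans α β
    exact hβ (show a ∈ MulAction.stabilizer G α from e ▸ Subgroup.mem_top a)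
  · by_contra h1
    have h2 : g⁻¹ * x * g⁻¹⁻¹ ∈ MulAction.stabilizer G α := by
      rw [inv_inv]; exact (mem_conj_smul_iff_frob _ _ _).1 hx'
    rw [hmem, inv_inv] at h2
    exact hg (hfix x h1 _ _ h2 hx)
  · ext x
    rw [mem_frobeniusKernel_iff]
    refine or_congr Iff.rfl ⟨fun h ω => ?_, fun h g => ?_⟩
    · obtain ⟨a, rfl⟩ := htrans α ω
      have := h a⁻¹
      rwa [hmem, inv_inv] at this
    · rw [hmem]; exact h _

end Cfsg.Agent.S4252
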