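import Cfsg.Statements.S4179
import Cfsg.Agent.Perm.CKFinal
import Cfsg.Agent.Perm.PrimeDegree

set_option autoImplicit false
open Cfsg

namespace Cfsg.Agent.S4179

open MulAction CL.Perm CL.Perm.CK

theorem card_aut (A : Type*) [Ring A] [Algebra (ZMod 2) A] [Finite A] (hF : IsField A) :
    Nat.card (A ≃ₐ[ZMod 2] A) = Module.finrank (ZMod 2) A := by
  let := hF.toField
  exact IsGalois.card_aut_eq_finrank _ _

theorem index_dvd {V : Type*} [AddCommGroup V] [Module (ZMod 2) V] [Finite V] (H : Subgroup (V ≃ₗ[ZMod 2] V)) (σ : H)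
    (hN : (Subgroup.zpowers σ).Normal) {x : V} (hx : x ≠ 0) (hσ : ∀ v, v ≠ 0 → ∃ j : ℕ, σ ^ j • x = v) :
    (Subgroup.zpowers σ).index ∣ Module.finrank (ZMod 2) V := by
  have : Finite (V ≃ₗ[ZMod 2] V) := Finite.of_injective _ DFunLike.coe_injective
  have : Finite (Module.End (ZMod 2) V) := Finite.of_injective _ DFunLike.coe_injective
  let ρ : H →* Module.End (ZMod 2) V := LinearEquiv.automorphismGroup.toLinearMapMonoidHom.comp H.subtype
  have hρ : ∀ g v, ρ g v = g • v := fun _ _ => rfl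
  let A := Algebra.adjoin (ZMod 2) {ρ σ}
  have mA : ∀ j : ℕ, ρ (σ ^ j) ∈ A := fun j => map_pow ρ σ j ▸ pow_mem (Algebra.self_mem_adjoin_singleton _ _) j
  have h1 : ∀ a b : Module.End (ZMod 2) V, Commute (ρ σ) a → Commute (ρ σ) b → a x = b x → a = b := fun a b ha hb e =>
    LinearMap.ext fun v => by
      rcases eq_or_ne v 0 with rfl | hv
      · simp
      obtain ⟨j, rfl⟩ := hσ v hv
      rw [← hρ, map_pow, ← Module.End.mul_apply, ← (ha.pow_left j).eq, ← Module.End.mul_apply, ← (hb.pow_left j).eq,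
        Module.End.mul_apply, e, Module.End.mul_apply]
  have h2 : ∀ a ∈ A, Commute (ρ σ) a := fun a => Algebra.commute_of_mem_adjoin_self
  have h3 : ∀ a, Commute (ρ σ) a → a = 0 ∨ ∃ j : ℕ, ρ (σ ^ j) = a := fun a ha => by
    rcases eq_or_ne (a x) 0 with e | e
    · exact Or.inl (h1 _ _ ha (Commute.zero_right _) e)
    · exact Or.inr ((hσ _ e).imp fun j e => h1 _ _ (h2 _ (mA j)) ha e)
  have h4 : ∀ g ∈ Subgroup.zpowers σ, ρ g ∈ A := fun g hg => by
    obtain ⟨j, rfl⟩ := (mem_powers_iff_mem_zpowers).2 hg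
    exact mA j
  have : Nontrivial V := ⟨x, 0, hx⟩
  have hF : IsField A := ⟨exists_pair_ne A, fun a b => Subtype.ext
      (Algebra.commute_of_mem_adjoin_singleton_of_commute b.2 (h2 a a.2).symm).eq, fun {a} ha => by
    obtain ⟨j, e⟩ := (h3 a (h2 a a.2)).resolve_left fun e => ha (Subtype.ext e)
    exact ⟨⟨_, h4 (σ ^ j)⁻¹ (inv_mem (Subgroup.npow_mem_zpowers σ j))⟩, Subtype.ext (by
      rw [Subalgebra.coe_mul, ← e, ← map_mul, mul_inv_cancel, map_one, Subalgebra.coe_one])⟩⟩
  have h5 : ∀ (g : H) (a : A), ρ g * a * ρ g⁻¹ ∈ A := fun g a => by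
    rcases h3 a (h2 a a.2) with e | ⟨j, e⟩
    · simp [e]
    · rw [← e, ← map_mul, ← map_mul]
      exact h4 _ (hN.conj_mem _ (Subgroup.npow_mem_zpowers σ j) g)
  have h6 : ∀ g : H, ρ g⁻¹ * ρ g = 1 := fun g => by rw [← map_mul, inv_mul_cancel, map_one]
  have h7 : ∀ g : H, ρ g * ρ g⁻¹ = 1 := fun g => by rw [← map_mul, mul_inv_cancel, map_one]
  let : MulSemiringAction H A :=
    { smul := fun g a => ⟨_, h5 g a⟩
      one_smul := fun a => Subtype.ext (show ρ 1 * a * ρ 1⁻¹ = a by simp)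
      mul_smul := fun g k a => Subtype.ext (show ρ (g * k) * a * ρ (g * k)⁻¹ = ρ g * (ρ k * a * ρ k⁻¹) * ρ g⁻¹ by
        simp only [mul_inv_rev, map_mul, mul_assoc])
      smul_zero := fun g => Subtype.ext (show ρ g * 0 * ρ g⁻¹ = 0 by simp)
      smul_add := fun g a b => Subtype.ext (show ρ g * (a + b) * ρ g⁻¹ = ρ g * a * ρ g⁻¹ + ρ g * b * ρ g⁻¹ by
        rw [mul_add, add_mul])
      smul_one := fun g => Subtype.ext (show ρ g * 1 * ρ g⁻¹ = 1 by rw [mul_one, h7])
      smul_mul := fun g a b => Subtype.ext (show ρ g * (a * b) * ρ g⁻¹ = ρ g * a * ρ g⁻¹ * (ρ g * b * ρ g⁻¹) by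
        simp only [mul_assoc]; rw [← mul_assoc (ρ g⁻¹), h6, one_mul]) }
  have : SMulCommClass H (ZMod 2) A := ⟨fun g c a => ZMod.map_smul (DistribSMul.toAddMonoidHom A g) c a⟩
  have h8 : (MulSemiringAction.toAlgAut H (ZMod 2) A).ker = Subgroup.zpowers σ := by
    ext g
    refine ⟨fun hg => ?_, fun hg => AlgEquiv.ext fun a => Subtype.ext ?_⟩
    · have e : ρ g * ρ σ * ρ g⁻¹ = ρ σ :=
        congrArg Subtype.val (AlgEquiv.congr_fun hg ⟨_, Algebra.self_mem_adjoin_singleton _ _⟩)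
      rcases h3 (ρ g) (show _ = _ by rw [← e, mul_assoc, h6, mul_one, e]) with e | ⟨j, e⟩
      · exact absurd (by simpa [e] using h7 g) (zero_ne_one (α := Module.End (ZMod 2) V))
      · rw [← show σ ^ j = g from Subtype.ext (LinearEquiv.toLinearMap_injective e)]
        exact Subgroup.npow_mem_zpowers σ j
    · change ρ g * a * ρ g⁻¹ = a
      rw [show ρ g * a = a * ρ g from congrArg Subtype.val (hF.mul_comm ⟨_, h4 g hg⟩ a), mul_assoc, h7, mul_one]
  have h9 : Module.finrank (ZMod 2) A = Module.finrank (ZMod 2) V :=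
    (LinearEquiv.ofBijective ((LinearMap.applyₗ x).comp A.val.toLinearMap)
      ⟨fun a b e => Subtype.ext (h1 _ _ (h2 a a.2) (h2 b b.2) e), fun v => by
        rcases eq_or_ne v 0 with rfl | hv
        · exact ⟨0, rfl⟩
        · obtain ⟨j, e⟩ := hσ v hv
          exact ⟨⟨_, mA j⟩, e⟩⟩).finrank_eq
  rw [← h8, Subgroup.index_ker, ← h9, ← card_aut A hF]
  exact Subgroup.card_subgroup_dvd_card _

theorem trans_of_dvd {G α : Type*} [Group G] [Finite G] [MulAction G α] [FaithfulSMul G α] {p : ℕ} [Fact p.Prime]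
    (hα : Nat.card α = p) (h : p ∣ Nat.card G) (a b : α) : ∃ g : G, g • a = b := by
  obtain ⟨σ, hσ⟩ := exists_prime_orderOf_dvd_card' p h
  obtain ⟨e, rfl, he⟩ := exists_coords hα hσ a
  obtain ⟨j, rfl⟩ := e.surjective b
  obtain ⟨k, rfl⟩ := ZMod.natCast_zmod_surjective j
  exact ⟨σ ^ k, by rw [pow_smul_coords he, zero_add]⟩

/-- Let V be a vector space of dimension n over the field with two elements with 2^n − 1 prime, and H a group of invertible linear maps of V. Then H is transitive on the non-zero vectors of V if and only if H is cyclic of order 2^n − 1, or H has order n·(2^n − 1) and contains a normal cyclic subgroup of order 2^n − 1, or H is the whole general linear group of V. -/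
theorem result {V : Type*} [AddCommGroup V] [Module (ZMod 2) V] [Finite V] (n : ℕ) (hn : Module.finrank (ZMod 2) V = n)
    (hprime : (2 ^ n - 1).Prime) (H : Subgroup (V ≃ₗ[ZMod 2] V)) :
    (∀ v w : V, v ≠ 0 → w ≠ 0 → ∃ h ∈ H, h v = w) ↔
      ((IsCyclic ↥H ∧ Nat.card ↥H = 2 ^ n - 1) ∨
       (Nat.card ↥H = n * (2 ^ n - 1) ∧ ∃ C : Subgroup (V ≃ₗ[ZMod 2] V), C ≤ H ∧ (C.subgroupOf H).Normal ∧
          IsCyclic ↥C ∧ Nat.card ↥C = 2 ^ n - 1) ∨
       H = ⊤) := by
  have := Fact.mk hprime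
  have : Finite (V ≃ₗ[ZMod 2] V) := Finite.of_injective _ DFunLike.coe_injective
  have hV : Nat.card V = 2 ^ n := hn ▸ finrank_of_card
  have hn' : n.Prime := (Nat.prime_of_pow_sub_one_prime (by rintro rfl; exact Nat.not_prime_one hprime) hprime).2
  have h4 : 4 ≤ Nat.card V := hV ▸ Nat.pow_le_pow_right two_pos hn'.two_le
  have c1 : Nat.card (nz H V) = 2 ^ n - 1 := by have := card_nz (G := H) (V := V); omega
  have := faithful_nz (G := H) (V := V)
  have t1 : 2 ^ n - 1 ∣ Nat.card H → ∀ v w : V, v ≠ 0 → w ≠ 0 → ∃ h ∈ H, h v = w := fun hd v w hv hw => by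
    obtain ⟨g, e⟩ := trans_of_dvd c1 hd ⟨v, hv⟩ ⟨w, hw⟩
    exact ⟨g, g.2, congrArg Subtype.val e⟩
  refine ⟨fun h => ?_, ?_⟩
  · have : IsPretransitive H (nz H V) := ⟨fun a b => by
      obtain ⟨g, hg, e⟩ := h a b a.2 b.2
      exact ⟨⟨g, hg⟩, Subtype.ext e⟩⟩
    obtain ⟨σ, hσ⟩ := exists_orderOf_eq_of_transitive (G := H) c1
    obtain ⟨a⟩ : Nonempty (nz H V) := (Nat.card_pos_iff.1 (c1 ▸ hprime.pos)).1
    obtain ⟨e, rfl, he⟩ := exists_coords c1 hσ a
    rcases affine_or_two_transitive he with h1 | h1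
    · have hN : (Subgroup.zpowers σ).Normal := ker_affineMul_eq_zpowers e h1 he ▸ MonoidHom.normal_ker _
      have h2 := index_dvd H σ hN (e 0).2 fun v hv => by
        obtain ⟨j, hj⟩ := e.surjective ⟨v, hv⟩
        obtain ⟨k, rfl⟩ := ZMod.natCast_zmod_surjective j
        exact ⟨k, congrArg Subtype.val ((pow_smul_coords he k 0).trans (by rw [zero_add, hj]))⟩
      have h3 := (Subgroup.zpowers σ).index_mul_card
      rw [Nat.card_zpowers, hσ] at h3
      rcases (Nat.dvd_prime hn').1 (hn ▸ h2) with h5 | h5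
      · rw [h5, one_mul] at h3
        exact Or.inl ⟨isCyclic_of_prime_card h3.symm, h3.symm⟩
      · have h6 : Nat.card ((Subgroup.zpowers σ).map H.subtype) = 2 ^ n - 1 := by
          rw [Subgroup.card_map_of_injective H.subtype_injective, Nat.card_zpowers, hσ]
        refine Or.inr (Or.inl ⟨by rw [← h3, h5], _, Subgroup.map_subtype_le _, ?_, isCyclic_of_prime_card h6, h6⟩)
        rwa [Subgroup.subgroupOf, Subgroup.comap_map_eq_self_of_injective H.subtype_injective]
    · refine Or.inr (Or.inr (top_unique fun φ _ => ?_))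
      obtain ⟨g, hg⟩ := T2.full (G := H) (fun x y x' y' a b c a' b' c' => by
        have h2 := @Iff.mp _ _ is_two_pretransitive_iff h1
        obtain ⟨g, e1, e2⟩ := @h2 ⟨x, a⟩ ⟨y, b⟩ ⟨x', a'⟩ ⟨y', b'⟩
          (fun e => c (by rw [show x = y from congrArg Subtype.val e, ZModModule.add_self]))
          (fun e => c' (by rw [show x' = y' from congrArg Subtype.val e, ZModModule.add_self]))
        exact ⟨g, congrArg Subtype.val e1, congrArg Subtype.val e2⟩) h4 (fun e => by
          rw [← hV, e] at hprime; exact absurd hprime (by norm_num)) φ.toAddEquiv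
      exact (LinearEquiv.ext hg : (g : V ≃ₗ[ZMod 2] V) = φ) ▸ g.2
  · rintro (h | h | rfl)
    · exact t1 h.2.symm.dvd
    · exact t1 (h.1 ▸ dvd_mul_left _ _)
    · intro v w hv hw
      obtain ⟨f, -, f1, f2⟩ := exists_both (fun _ : Module.Dual (ZMod 2) V => True) (fun _ _ _ _ => trivial)
        (LinearMap.applyₗ v).toAddMonoidHom (LinearMap.applyₗ w).toAddMonoidHom
        (by simpa using Module.Projective.exists_dual_eq_one (ZMod 2) hv)
        (by simpa using Module.Projective.exists_dual_eq_one (ZMod 2) hw)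
      change f v = 1 at f1
      change f w = 1 at f2
      exact ⟨LinearEquiv.transvection (f := f) (v := v + w) (by rw [map_add, f1, f2]; rfl), trivial, by
        rw [LinearEquiv.transvection.apply, f1, one_smul, ← add_assoc, ZModModule.add_self, zero_add]⟩

end Cfsg.Agent.S4179
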