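import Cfsg.Statements.S3360
import Cfsg.Agent.Perm.Huppert3

set_option autoImplicit false
open Cfsg

namespace Cfsg.Agent.S3360

/-- Let q be a prime and V a non-trivial finite vector space over the field with q elements, and let G be a finite solvable group acting faithfully and linearly on V and transitively on the non-zero vectors. Then either V can be identified with the additive group of a finite field F in such a way that every element of G acts as x ↦ a·σ(x) for some a ∈ F and some field automorphism σ, or the number of elements of V is one of 3^2, 5^2, 7^2, 11^2, 23^2, 3^4. -/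
theorem result
    (q : ℕ) [Fact q.Prime] {V : Type*} [AddCommGroup V] [Module (ZMod q) V] [Finite V] [Nontrivial V]
    {G : Type*} [Group G] [Finite G] (hsol : Group.IsSolvable G)
    (ρ : G →* (V ≃ₗ[ZMod q] V)) (hρ : Function.Injective ρ)
    (htrans : ∀ v w : V, v ≠ 0 → w ≠ 0 → ∃ g : G, ρ g v = w) :
    (∃ (F : Type) (_ : Field F) (_ : Fintype F) (e : V ≃+ F),
        ∀ g : G, ∃ (a : F) (σ : F ≃+* F), ∀ v : V, e (ρ g v) = a * σ (e v)) ∨
    Nat.card V ∈ ({9, 25, 49, 121, 529, 81} : Set ℕ) := by
  have hV := Module.natCard_eq_pow_finrank (K := ZMod q) (V := V)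
  rw [Nat.card_zmod] at hV
  rcases CL.Perm.huppert_struct (CL.Perm.endOfLin ρ) (CL.Perm.endOfLin_injective hρ) htrans hV with
    ⟨A, hA, hc, hirr⟩ | ⟨hn, hq, A, E, -, -, -, -, -, -, h2, hA, -⟩ | ⟨hn, hq, -⟩
  · exact Or.inl (CL.Perm.exists_gammaL_of_irreducible _ A hirr)
  · right
    rw [hV, hn]
    have h1 := Nat.le_of_dvd (by norm_num) hq
    have h3 := h2.trans hA
    have h4 : q.Prime := Fact.out
    have h5 : q ≤ 23 := by omega
    interval_cases q <;> simp_all (config := { decide := true })
  · right
    rw [hV, hn, hq]
    simp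

end Cfsg.Agent.S3360
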