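import Cfsg.Statements.S3776
import Cfsg.Agent.Suz.Shaw4
import Cfsg.Agent.Grp.PGroupFrattini

set_option autoImplicit false
open Cfsg

namespace Cfsg.Agent.S3776

/-- Let G be a finite non-abelian 2-group with more than one involution admitting a solvable group of automorphisms that permutes its involutions transitively. Then the derived subgroup, the Frattini subgroup and the centre of G coincide and consist exactly of the elements x with x² = 1. -/
theorem result {G : Type*} [Group G] [Finite G] (hG : IsPGroup 2 G) (hna : ¬ IsMulCommutative G) (htwo : ∃ x y : G, x ≠ y ∧ x ≠ 1 ∧ x ^ 2 = 1 ∧ y ≠ 1 ∧ y ^ 2 = 1) (hY : ∃ Y : Subgroup (MulAut G), Group.IsSolvable Y ∧ ∀ x y : G, x ≠ 1 → x ^ 2 = 1 → y ≠ 1 → y ^ 2 = 1 → ∃ a ∈ Y, a x = y) : commutator G = frattini G ∧ frattini G = Subgroup.center G ∧ ∀ x : G, x ∈ Subgroup.center G ↔ x ^ 2 = 1 := by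
  obtain ⟨Y, hs, htr⟩ := hY
  have : Finite (MulAut G) := Finite.of_injective (fun σ : MulAut G => (σ : G → G)) DFunLike.coe_injective
  have S : CL.Shaw.Base G Y := ⟨inferInstance, hG, fun x y h1 h2 h3 h4 => by
    obtain ⟨a, ha, e⟩ := htr x y h1 (by rwa [sq]) h3 (by rwa [sq])
    exact ⟨⟨a, ha⟩, e⟩⟩
  obtain ⟨h1, h2⟩ := S.main hs (by simpa only [sq] using htwo)
    fun h => hna ⟨⟨fun a b => h a trivial b trivial⟩⟩
  have h3 : commutator G ≤ S.Om := by
    rw [commutator_def, Subgroup.commutator_le]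
    exact fun a _ b _ => CL.Higman.commutator_mem_of_sq (X := ⊤) (fun a _ => h2 a) trivial trivial
  have h4 : frattini G ≤ S.Om :=
    (CL.Grp.frattini_le_iff_pGroup hG).2 ⟨h3, fun x => by rw [sq]; exact h2 x⟩
  have h5 : S.Om ≤ commutator G := by
    obtain ⟨x, hx, hx1⟩ := (commutator G).bot_or_exists_ne_one.resolve_left fun h =>
      hna ⟨⟨fun a b => commutatorElement_eq_one_iff_mul_comm.1 (Subgroup.mem_bot.1 (h ▸
        Subgroup.commutator_mem_commutator (Subgroup.mem_top a) (Subgroup.mem_top b)))⟩⟩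
    exact S.Om_le (CL.Grp.smul_mem_of_characteristic _) hx hx1
  have h6 := CL.Grp.commutator_le_frattini hG
  refine ⟨le_antisymm h6 (h4.trans h5), h1 ▸ le_antisymm h4 (h5.trans h6), fun x => ?_⟩
  rw [h1, sq]
  rfl

end Cfsg.Agent.S3776
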