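import Cfsg.Statements.S1947
import Cfsg.Agent.Loc.FusMisc

set_option autoImplicit false
open Cfsg

namespace Cfsg.Agent.S1947

/-- Let G be a finite group and p a prime. If every element of G of order dividing p (dividing 4 when p = 2) lies in some fixed term Z_n(G) of the upper central series, then G has a normal p-complement. -/
theorem result {G : Type*} [Group G] [Finite G] {p : ℕ} [Fact p.Prime] (n : ℕ)
    (h : ∀ a : G, (a ^ p = 1 ∨ (p = 2 ∧ a ^ 4 = 1)) → a ∈ Subgroup.upperCentralSeries G n) : Cfsg.HasNormalPComplement p G := by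
  obtain ⟨P⟩ : Nonempty (Sylow p G) := inferInstance
  refine CL.Loc.hasNormalPComplement_of_exponent P fun K hK hexp g hg hco => ?_
  exact CL.Loc.mem_cent_of_stab_chain (P.isPGroup'.to_le hK) hg hco (Subgroup.upperCentralSeries G)
    (by simp) (fun a ha => h a (hexp a ha)) fun i a _ ha => Subgroup.mem_upperCentralSeries_succ_iff.mp ha g

end Cfsg.Agent.S1947
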