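import Cfsg.Statements.S2167
import Cfsg.Agent.Known.InvTwo2

set_option autoImplicit false
open Cfsg

namespace Cfsg.Agent.S2167

open CL.Known CL.Cls Module

theorem alt_iff {F : Type*} [Field F] {m : ℕ} (a : Matrix.symplecticGroup (Fin m) F) (v : Fin m ⊕ Fin m → F) :
    CL.Sp.stdForm (Fin m) F v ((CL.Sp.spEquiv _ F a).1 v) = Cfsg.sympForm m F v (a.1.mulVec v) :=
  CL.Sp.stdForm_eq_sympForm _ _

theorem card_alt {F : Type*} [Field F] [Fintype F] [CharP F 2] {m : ℕ} (a : Matrix.symplecticGroup (Fin m) F)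
    (ha : orderOf a = 2) :
    ((∀ v, Cfsg.sympForm m F v (a.1.mulVec v) = 0) →
      Nat.card {v // Cfsg.sympForm m F v (a.1.mulVec v) = 0} = Fintype.card F ^ (2 * m)) ∧
    ((¬ ∀ v, Cfsg.sympForm m F v (a.1.mulVec v) = 0) →
      Nat.card {v // Cfsg.sympForm m F v (a.1.mulVec v) = 0} * Fintype.card F = Fintype.card F ^ (2 * m)) := by
  refine ⟨fun h => ?_, fun h => ?_⟩
  · rw [Nat.card_congr (Equiv.subtypeUnivEquiv h), Module.natCard_eq_pow_finrank (K := F), CL.Sp.finrank_std,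
      Nat.card_eq_fintype_card]
  · have := card_alt_vectors (CL.Sp.stdForm_isAlt (Fin m) F) (CL.Sp.stdForm_nondegenerate (Fin m) F) (CL.Sp.spEquiv _ F a).2
      (app_app_of_sq _ (ha ▸ pow_orderOf_eq_one a)) (by simpa only [alt_iff] using h)
    simpa only [alt_iff, CL.Sp.finrank_std, Nat.card_eq_fintype_card (α := F)] using this

theorem even_of_alt {F : Type*} [Field F] {m : ℕ} (a : Matrix.symplecticGroup (Fin m) F)
    (h : ∀ v, Cfsg.sympForm m F v (a.1.mulVec v) = 0) : Even (a.1 - 1).rank :=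
  sp_rng_rank a ▸ even_rng_of_alt (isWittForm_alt _ (CL.Sp.stdForm_nondegenerate (Fin m) F).1
    (CL.Sp.stdForm_isAlt (Fin m) F)) (CL.Sp.stdForm_isAlt (Fin m) F) (CL.Sp.spEquiv _ F a).2
    (by simpa only [alt_iff] using h)

/-- For an involution t of the symplectic group Sp_{2m}(F), m ≥ 2, F a finite field of characteristic two (matrices A with A J Aᵀ = J acting on column vectors, alternating form f(u, v) = u ⬝ (J v)): the set V(t) of vectors v with f(v, t v) = 0 has either q^{2m} or q^{2m−1} elements, q the order of F (it is a subspace of codimension at most 1), and if it is the whole space then t − 1 has even rank. -/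
theorem result {F : Type*} [Field F] [Fintype F] [CharP F 2] {m : ℕ} (hm : 2 ≤ m) (a : ↥(Matrix.symplecticGroup (Fin m) F)) (ha : orderOf a = 2) :
    (Nat.card {v : Fin m ⊕ Fin m → F // Cfsg.sympForm m F v (Matrix.mulVec ((a : ↥(Matrix.symplecticGroup (Fin m) F)) : Matrix (Fin m ⊕ Fin m) (Fin m ⊕ Fin m) F) v) = 0} = Fintype.card F ^ (2 * m) ∨ Nat.card {v : Fin m ⊕ Fin m → F // Cfsg.sympForm m F v (Matrix.mulVec ((a : ↥(Matrix.symplecticGroup (Fin m) F)) : Matrix (Fin m ⊕ Fin m) (Fin m ⊕ Fin m) F) v) = 0} * Fintype.card F = Fintype.card F ^ (2 * m)) ∧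
    ((∀ v : Fin m ⊕ Fin m → F, Cfsg.sympForm m F v (Matrix.mulVec ((a : ↥(Matrix.symplecticGroup (Fin m) F)) : Matrix (Fin m ⊕ Fin m) (Fin m ⊕ Fin m) F) v) = 0) → Even (((a : ↥(Matrix.symplecticGroup (Fin m) F)) : Matrix (Fin m ⊕ Fin m) (Fin m ⊕ Fin m) F) - 1).rank) := by
  refine ⟨?_, even_of_alt a⟩
  by_cases h : ∀ v, Cfsg.sympForm m F v (a.1.mulVec v) = 0
  exacts [Or.inl ((card_alt a ha).1 h), Or.inr ((card_alt a ha).2 h)]

end Cfsg.Agent.S2167
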