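import Cfsg.Statements.S4034
import Cfsg.Agent.Fgs.ClassHall

set_option autoImplicit false
open Cfsg

namespace Cfsg.Agent.S4034

open CL.Fgs Subgroup
open scoped commutatorElement

theorem commute_of_pCore_eq_bot {G : Type*} [Group G] [Finite G] [Group.IsSolvable G] {p : ℕ}
    [hp : Fact p.Prime] (h0 : pCore p G = ⊥)
    (h : ClassSizesIn {p}ᶜ (fun n => ∃ k, n = p ^ k) G) {x y : G} (hx : IsPiElt {p}ᶜ x)
    (hy : IsPiElt {p}ᶜ y) : Commute x y := by
  have key : ∀ z : G, IsPiElt {p}ᶜ z → fittingSubgroup G ≤ cent(z) := fun z hz => by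
    obtain ⟨k, hk⟩ := h z hz
    refine le_of_normal_of_coprime_index ?_
    rw [hk]
    exact Nat.Coprime.pow_right _
      ((Nat.Prime.coprime_iff_not_dvd hp.out).2 (not_dvd_card_fittingSubgroup h0)).symm
  have hxF : x ∈ fittingSubgroup G := CL.Grp.centralizer_fittingSubgroup_le G
    fun f hf => (mem_cent.1 (key x hx hf)).eq
  exact mem_cent.1 (key y hy hxF)


/-- Let G be a finite group and p a prime. Every conjugacy class of p-regular elements of G (elements of order prime to p) has p-power size if and only if G has an abelian p-complement, i.e. an abelian subgroup of order prime to p and p-power index. -/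
theorem result {G : Type*} [Group G] [Finite G] {p : ℕ} (hp : p.Prime) :
    (∀ x : G, (orderOf x).Coprime p → ∃ k : ℕ, (ConjClasses.mk x).carrier.ncard = p ^ k) ↔
    (∃ H : Subgroup G, IsMulCommutative H ∧ ¬ p ∣ Nat.card H ∧ ∃ k : ℕ, H.index = p ^ k) := by
  have := Fact.mk hp
  simp only [ncard_carrier_mk, ← isPiElt_compl_singleton_iff_coprime hp]
  have hS : ∀ a b : ℕ, a ∣ b → (∃ k, b = p ^ k) → ∃ k, a = p ^ k := by
    rintro a b hab ⟨k, rfl⟩
    obtain ⟨j, -, rfl⟩ := (Nat.dvd_prime_pow hp).1 hab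
    exact ⟨j, rfl⟩
  constructor
  · intro h
    have hsol : Group.IsSolvable G := isSolvable_of_pRegular_isPP hp G fun x hx => by
      obtain ⟨k, hk⟩ := h x hx
      exact ⟨p, k, hp, hk⟩
    obtain ⟨H, hH⟩ := CL.Grp.exists_piHall_of_solvable {p}ᶜ G
    obtain ⟨h1, h2⟩ := (CL.Grp.isPiHall_compl_singleton_iff hp).1 hH
    refine ⟨H, ⟨⟨fun x y => Subtype.ext ?_⟩⟩, h1, h2⟩
    have hq := ClassSizesIn.quotient hS h (pCore p G)
    have hc := commute_of_pCore_eq_bot (CL.Grp.pCore_quotient_pCore p G) hq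
      ((isPiElt_of_mem hH.1 x.2).map (QuotientGroup.mk' _))
      ((isPiElt_of_mem hH.1 y.2).map (QuotientGroup.mk' _))
    refine commutatorElement_eq_one_iff_mul_comm.1 ?_
    have h3 : ⁅(x : G), (y : G)⁆ ∈ pCore p G := by
      rw [← QuotientGroup.eq_one_iff]
      exact (map_commutatorElement (QuotientGroup.mk' (pCore p G)) _ _).trans
        (commutatorElement_eq_one_iff_commute.2 hc)
    exact (isPiElt_singleton_of_mem (CL.Grp.pCore_isPGroup p G) h3).eq_one (isPiElt_of_mem hH.1
      (H.mul_mem (H.mul_mem (H.mul_mem x.2 y.2) (H.inv_mem x.2)) (H.inv_mem y.2)))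
  · rintro ⟨H, h1, -, k, hk⟩ x hx
    refine hS _ _ (cs_dvd_index_of_abelian h1 ?_ hx) ⟨k, hk⟩
    rw [compl_compl, hk]
    exact isPiNum_singleton_pow hp k

end Cfsg.Agent.S4034
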