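import Cfsg.Statements.S3071
import Cfsg.Agent.Grp.ZJ2

set_option autoImplicit false
open Cfsg

namespace Cfsg.Agent.S3071

/-- Let p be an odd prime and S a Sylow p-subgroup of the finite group G such that, for every subgroup P with Z(S) ≤ P ≤ S, the normalizer N_G(P) has no section isomorphic to SL₂(p). Let J(S) be the subgroup generated by the abelian subgroups of S of largest order. Then two elements of S are conjugate in G if and only if they are conjugate in N_G(Z(J(S))). -/
theorem result {G : Type*} [Group G] [Finite G] {p : ℕ} [Fact p.Prime]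
    (hp : p ≠ 2) (S : Sylow p G)
    (hfree : ∀ P : Subgroup G, (S : Subgroup G) ⊓ Subgroup.centralizer ((S : Subgroup G) : Set G) ≤ P → P ≤ S →
      ¬ ∃ (H K : Subgroup G) (hK : (K.subgroupOf H).Normal), H ≤ Subgroup.normalizer (P : Set G) ∧
        Nonempty ((H ⧸ K.subgroupOf H) ≃* Matrix.SpecialLinearGroup (Fin 2) (ZMod p))) :
    ∀ x ∈ S, ∀ y ∈ S, (∃ g : G, g * x * g⁻¹ = y) ↔
      ∃ n ∈ Subgroup.normalizer (Cfsg.centerThompsonAOf (S : Subgroup G) : Set G), n * x * n⁻¹ = y := by
  have hqd : ¬ Involves (qd p) G := fun h => by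
    obtain ⟨Q, hQ, h1⟩ := CL.Loc.exists_automizer_involves_SL2_of_involves_qd h
    obtain ⟨P, h2, h3, h4⟩ := CL.Grp.exists_involves_normalizer_of_automizer S hQ h1
    exact hfree P h2 h3 (CL.Loc.involves_subgroup_iff_section.1 h4)
  intro x hx y hy
  refine ⟨?_, fun ⟨n, _, e⟩ => ⟨n, e⟩⟩
  rintro ⟨g, rfl⟩
  rw [CL.Grp.centerThompsonAOf_eq]
  obtain ⟨n, hn, e⟩ := ((CL.Grp.zj_ctlFus_of_not_involves_qd hp (Or.inr rfl) hqd
    (CL.Grp.isSylowIn_top S) (CL.Grp.isStronglyClosed_self _)).controls {x} (by simpa using hx)).2 g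
    (by simpa using hy)
  exact ⟨n, hn, (e x rfl).symm⟩

end Cfsg.Agent.S3071
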