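import Cfsg.Statements.S0214
import Cfsg.Agent.Inv.StrongEmbNorm

set_option autoImplicit false
open Cfsg
open CL.Inv.SE CL.Grp

namespace Cfsg.Agent.S0214

/-- Let H be a proper subgroup of the finite group G and P a nontrivial Sylow 2-subgroup of H. Then H is strongly embedded in G if and only if N_G(X) ≤ H for every nontrivial subgroup X of P. -/
theorem result {G : Type*} [Group G] [Finite G] (H : Subgroup G) (hH : H ≠ ⊤) (P : Sylow 2 ↥H) (hP : (P : Subgroup ↥H) ≠ ⊥) : Cfsg.IsStronglyEmbedded H ↔ (∀ X : Subgroup ↥H, X ≤ (P : Subgroup ↥H) → X ≠ ⊥ → Subgroup.normalizer ((X.map H.subtype : Subgroup G) : Set G) ≤ H) := by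
  constructor
  · intro h X hX hX1
    refine normalizer_le h (Subgroup.map_subtype_le _) ((even_card_iff _).2 ?_)
    refine exists_inv_of_isPGroup ((P.2.to_le hX).map _) ?_
    rwa [Ne, Subgroup.map_eq_bot_iff_of_injective _ H.subtype_injective]
  · intro h
    have hP' := isSylowIn_map_subtype P
    refine se_iff.2 ⟨hH, ?_, fun t htH ht g hg => ?_⟩
    · obtain ⟨t, -, ht⟩ := exists_inv_of_isPGroup P.2 hP
      exact (even_card_iff H).2 ⟨t, t.2, by rw [Subgroup.orderOf_coe, ht]⟩
    · refine mem_of_normalizers_of_sylow hP' (fun X => X ≠ ⊥) ?_ ?_ ?_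
        (isPGroup_zpowers_of_inv (inv_conj ht g)) ?_ ?_
      · intro X g hX e
        exact hX ((Subgroup.map_eq_bot_iff_of_injective _ (MulAut.conj g).injective).1 e)
      · intro X Y hXY hX e
        exact hX (le_bot_iff.1 (e ▸ hXY))
      · intro X hX hX1
        have hXH : X ≤ H := hX.trans hP'.le
        have := h (X.subgroupOf H) ?_ ?_
        · rwa [Subgroup.map_subgroupOf_eq_of_le hXH] at this
        · intro x hx
          obtain ⟨y, hy, e⟩ := hX hx
          rwa [← Subtype.ext e]
        · intro e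
          apply hX1
          rw [← Subgroup.map_subgroupOf_eq_of_le hXH, e, Subgroup.map_bot]
      · simpa using ne_one_of_inv ht
      · rw [Subgroup.zpowers_le]
        exact ⟨hg, conj_mem_conj_smul g htH⟩

end Cfsg.Agent.S0214
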