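import Cfsg.Statements.S0224
import Cfsg.Agent.Inv.StrongEmb

set_option autoImplicit false
open Cfsg
open CL.Inv.SE

namespace Cfsg.Agent.S0224

/-- Let H be a proper subgroup of even order of the finite group G. Then H is strongly embedded if and only if each involution of H fixes exactly one point (namely the coset H) in the action of G on the cosets of H. -/
theorem result {G : Type*} [Group G] [Finite G] (H : Subgroup G) (hH : H ≠ ⊤) (heven : Even (Nat.card H)) : Cfsg.IsStronglyEmbedded H ↔ ∀ t ∈ H, orderOf t = 2 → Nat.card {c : G ⧸ H // t • c = c} = 1 := by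
  constructor
  · intro h t _ ht
    obtain ⟨x, hx, hu⟩ := uniqueFix h t ht
    exact Nat.card_eq_one_iff_exists.2 ⟨⟨x, hx⟩, fun y => Subtype.ext (hu y.1 y.2)⟩
  · intro h
    refine se_iff.2 ⟨hH, heven, fun t htH ht g hg => ?_⟩
    obtain ⟨x, hx⟩ := Nat.card_eq_one_iff_exists.1 (h t htH ht)
    have h1 := hx ⟨_, (smul_one_eq_iff H t).2 htH⟩
    have h2 := hx ⟨((g⁻¹ : G) : G ⧸ H), (smul_mk_eq_iff H t g⁻¹).2 (by simpa using hg)⟩
    have h3 := congrArg Subtype.val (h2.trans h1.symm)
    simpa using QuotientGroup.eq.1 h3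

end Cfsg.Agent.S0224
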