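import Cfsg.Statements.S0654
import Cfsg.Agent.Grp.ZJ

set_option autoImplicit false
open Cfsg

namespace Cfsg.Agent.S0654

/-- The ZJ-Theorem for the elementary-abelian Thompson subgroup: for an odd prime p, a finite group G with C_G(O_p(G)) ≤ O_p(G) acting p-stably on its normal p-subgroups, and a Sylow p-subgroup S of G, the subgroup generated by the elements of order dividing p in Z(J_e(S)) is characteristic in G. -/
theorem result {G : Type*} [Group G] [Finite G] {p : ℕ} [Fact p.Prime] (hp : p ≠ 2) (hc : Subgroup.centralizer (Cfsg.pCore p G : Set G) ≤ Cfsg.pCore p G) (hst : ∀ (P : Subgroup G) [P.Normal], IsPGroup p P → Cfsg.IsPStableOn p P) (S : Sylow p G) : ((Cfsg.omegaCenterThompson p ↥(S : Subgroup G)).map (S : Subgroup G).subtype).Characteristic := by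
  rw [CL.Loc.map_subtype_omegaCenterThompson]
  have := CL.Grp.zj_normal hp (Or.inl rfl) hc hst S (CL.Grp.isStronglyClosed_self _)
  exact CL.Grp.characteristic_of_sylow_normal (fun P => omegaOne p (centerThompsonOf p P))
    (fun φ P => CL.Loc.map_omegaOne_centerThompsonOf
      (CL.Loc.inf_ker_eq_bot_of_injective P φ.injective)) S (CL.Loc.omegaOne_normal _)

end Cfsg.Agent.S0654
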