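import Cfsg.Statements.S0692
import Cfsg.Agent.Perm.RegularGL2

set_option autoImplicit false
open Cfsg

namespace Cfsg.Agent.S0692

/-- packed table: second column of the group element with given first column, and distance to `(1,0)` -/
def tbl : ℕ := 0x724a1810480042c51ca0851c21890080840851031012422801031ca0c92c62030ca2411480461450090822c20c728114510108730224a10818228b0c21461490c32c31090c62470081c120800400620320c10718024b1013041030421010cc10524828a1891c62881452811c52061852070803090c61811c608708424524814a2822052401060c70c530a1061862450481421491cb1c608a2052893071c91ca20008b1c42880c600518300a0c11c400b2052481cb2081c518c20910904c1c328908324428428504a24920b2490c60062851ca1852012850c820208810718718a0831c810724700324914824628610a00720a28508100100100120418704420a0c610910708a04824a1c61c50c0280000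

def ent (a c : ZMod 11) : ℕ := (tbl >>> (18 * (a.val * 11 + c.val))) % 262144

def T1 (a c : ZMod 11) : ZMod 11 := ((ent a c % 64 : ℕ) : ZMod 11)
def T2 (a c : ZMod 11) : ZMod 11 := ((ent a c / 64 % 64 : ℕ) : ZMod 11)
def D (a c : ZMod 11) : ℕ := ent a c / 4096

theorem commA : ∀ a c : ZMod 11, ¬ (a = 0 ∧ c = 0) →
    0 * T1 a c + 10 * T2 a c = T1 (0 * a + 10 * c) (1 * a + 0 * c) ∧
    1 * T1 a c + 0 * T2 a c = T2 (0 * a + 10 * c) (1 * a + 0 * c) := by
  decide +kernel

theorem commB : ∀ a c : ZMod 11, ¬ (a = 0 ∧ c = 0) →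
    2 * T1 a c + 4 * T2 a c = T1 (2 * a + 4 * c) (1 * a + 8 * c) ∧
    1 * T1 a c + 8 * T2 a c = T2 (2 * a + 4 * c) (1 * a + 8 * c) := by
  decide +kernel

theorem dist : ∀ a c : ZMod 11, ¬ (a = 0 ∧ c = 0) → (a = 1 ∧ c = 0) ∨
      D (0 * a + 10 * c) (1 * a + 0 * c) < D a c ∨
      D (2 * a + 4 * c) (1 * a + 8 * c) < D a c := by
  decide +kernel

local instance factPrime : Fact (Nat.Prime 11) := ⟨by norm_num⟩


/-- An exceptional sharply doubly transitive group of degree 11^2: the listed matrices generate a subgroup of GL(2,11) of order 120 acting regularly on the non-zero vectors. -/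
theorem result (A : Matrix.GeneralLinearGroup (Fin 2) (ZMod 11)) (B : Matrix.GeneralLinearGroup (Fin 2) (ZMod 11)) (hA : (A : Matrix (Fin 2) (Fin 2) (ZMod 11)) = !![0, -1; 1, 0]) (hB : (B : Matrix (Fin 2) (Fin 2) (ZMod 11)) = !![2, 4; 1, -3]) : Nat.card (Subgroup.closure ({A, B} : Set (Matrix.GeneralLinearGroup (Fin 2) (ZMod 11)))) = 120 ∧ ∀ v w : Fin 2 → ZMod 11, v ≠ 0 → w ≠ 0 → ∃! h : Subgroup.closure ({A, B} : Set (Matrix.GeneralLinearGroup (Fin 2) (ZMod 11))), Matrix.mulVec ((h : Matrix.GeneralLinearGroup (Fin 2) (ZMod 11)) : Matrix (Fin 2) (Fin 2) (ZMod 11)) v = w := by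
  have eA00 : A.1 0 0 = 0 := by rw [hA]; decide +kernel
  have eA01 : A.1 0 1 = 10 := by rw [hA]; decide +kernel
  have eA10 : A.1 1 0 = 1 := by rw [hA]; decide +kernel
  have eA11 : A.1 1 1 = 0 := by rw [hA]; decide +kernel
  have eB00 : B.1 0 0 = 2 := by rw [hB]; decide +kernel
  have eB01 : B.1 0 1 = 4 := by rw [hB]; decide +kernel
  have eB10 : B.1 1 0 = 1 := by rw [hB]; decide +kernel
  have eB11 : B.1 1 1 = 8 := by rw [hB]; decide +kernel
  have := CL.Perm.regular_of_certificate ({A, B} : Set (Matrix.GeneralLinearGroup (Fin 2) (ZMod 11))) T1 T2 D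
    (by decide +kernel) (by decide +kernel) ?_ ?_
  · rw [Nat.card_zmod] at this
    exact this
  · rintro g (rfl | rfl)
    · rw [eA00, eA01, eA10, eA11]; exact commA
    · rw [eB00, eB01, eB10, eB11]; exact commB
  · intro a c hac
    rcases dist a c hac with h | h | h
    · exact Or.inl h
    · exact Or.inr ⟨A, by simp, by rw [eA00, eA01, eA10, eA11]; exact h⟩
    · exact Or.inr ⟨B, by simp, by rw [eB00, eB01, eB10, eB11]; exact h⟩

end Cfsg.Agent.S0692
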