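import Cfsg.Statements.S1154
import Cfsg.Agent.Chev.ReeInst
import Cfsg.Agent.Chev.ReeKlein

set_option autoImplicit false
open Cfsg

namespace Cfsg.Agent.S1154

/-- In the small Ree group ²G₂(q), q = 3^(2m+1) with m ≥ 1, realised as G¹ inside the Chevalley group G₂ over the field with q elements (θ the 3^m-th power map), with `U¹ = G¹ ∩ U` (U the positive unipotent subgroup of the ambient G₂): `U¹` has exactly `q² - 1` elements of order 3. -/
theorem result {K : Type*} [Field K] [Fintype K] {m : ℕ} (hm : 1 ≤ m) (hK : Fintype.card K = 3 ^ (2 * m + 1)) :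
    Nat.card {u : ↥(Cfsg.Lie.chevG2.posUnipotent K ⊓ Cfsg.Lie.twistedG2 K (3 ^ m)) // orderOf u = 3} = (3 ^ (2 * m + 1)) ^ 2 - 1 := by
  obtain ⟨M, hU, -, -⟩ := CL.Chev.Ree.exists_model hK
  rw [← hK, ← Nat.card_eq_fintype_card, ← M.card_U₂, ← SetLike.coe_sort_coe M.U₂, Nat.card_coe_set_eq,
    ← Set.ncard_sdiff_singleton_of_mem (one_mem M.U₂), ← Nat.card_coe_set_eq]
  have key : ∀ u : ↥(Lie.twistedG2 K (3 ^ m)), u ∈ M.U → (orderOf u.1 = 3 ↔ u ∈ (M.U₂ : Set _) \ {1}) :=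
    fun u hu => by rw [Subgroup.orderOf_coe]; exact M.orderOf_eq_three_iff hu
  exact Nat.card_congr ⟨fun u => ⟨⟨u.1, u.1.2.2⟩, (key _ ((hU _).2 u.1.2.1)).1 ((Subgroup.orderOf_coe u.1).trans u.2)⟩,
    fun u => ⟨⟨u.1, (hU _).1 (M.U₂_le_U u.2.1), u.1.2⟩,
      (Subgroup.orderOf_coe _).symm.trans ((key _ (M.U₂_le_U u.2.1)).2 u.2)⟩, fun _ => rfl, fun _ => rfl⟩

end Cfsg.Agent.S1154
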