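import Cfsg.Statements.S1157
import Cfsg.Agent.Chev.ReeInst
import Cfsg.Agent.Chev.ReeKlein

set_option autoImplicit false
open Cfsg

namespace Cfsg.Agent.S1157

/-- In the small Ree group ²G₂(q), q = 3^(2m+1) with m ≥ 1, realised as G¹ inside the Chevalley group G₂ over the field with q elements (θ the 3^m-th power map): a Sylow 2-subgroup `S` of `G¹` satisfies `C(S) = S` and `|N(S)| = 168`. -/
theorem result {K : Type*} [Field K] [Fintype K] {m : ℕ} (hm : 1 ≤ m) (hK : Fintype.card K = 3 ^ (2 * m + 1))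
    (S : Sylow 2 ↥(Cfsg.Lie.twistedG2 K (3 ^ m))) :
    Subgroup.centralizer ((S : Subgroup ↥(Cfsg.Lie.twistedG2 K (3 ^ m))) : Set ↥(Cfsg.Lie.twistedG2 K (3 ^ m))) = S ∧
      Nat.card (Subgroup.normalizer ((S : Subgroup ↥(Cfsg.Lie.twistedG2 K (3 ^ m))) : Set ↥(Cfsg.Lie.twistedG2 K (3 ^ m)))) = 168 := by
  obtain ⟨M, -⟩ := CL.Chev.Ree.exists_model hK
  have := M.finite
  obtain ⟨g, hg⟩ := M.exists_conj_E S
  have e : (S : Subgroup _) = M.E.map (MulAut.conj g).toMonoidHom := by
    ext x; rw [Subgroup.mem_map_equiv]; exact (hg x).trans (by simp)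
  refine ⟨le_antisymm (fun x hx => (hg x).2 (M.centralizer_E.le fun y hy => ?_)) fun x hx y hy =>
    M.comm_of_mem_sylow S y hy x hx, ?_⟩
  · have := hx (g * y * g⁻¹) ((hg _).2 (by simpa [mul_assoc] using hy))
    calc _ = g⁻¹ * (g * y * g⁻¹ * x) * g := by group
      _ = _ := by rw [this]; group
  · rw [e, ← Subgroup.map_equiv_normalizer_eq, Subgroup.card_map_of_injective (MulAut.conj g).injective,
      M.card_normalizer_E]

end Cfsg.Agent.S1157
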