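import Cfsg.Statements.S1158
import Cfsg.Agent.Chev.ReeInst
import Cfsg.Agent.Chev.ReeOrd

set_option autoImplicit false
open Cfsg

namespace Cfsg.Agent.S1158

/-- In the small Ree group ²G₂(q), q = 3^(2m+1) with m ≥ 1, realised as G¹ inside the Chevalley group G₂ over the field with q elements (θ the 3^m-th power map), with `r = 3^(m+1)` (so `r² = 3q`): for each `k ∈ {(q-1)/2, (q+1)/4, q - r + 1, q + r + 1}` there is a cyclic subgroup `A` of order `k` whose normaliser has order `2(q-1)`, `6(q+1)`, `6(q-r+1)`, `6(q+r+1)` respectively, and `N(A₀) = N(A)` for every non-trivial `A₀ ≤ A`. -/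
theorem result {K : Type*} [Field K] [Fintype K] {m : ℕ} (hm : 1 ≤ m) (hK : Fintype.card K = 3 ^ (2 * m + 1)) :
    ∀ kn ∈ ({((3 ^ (2 * m + 1) - 1) / 2, 2 * (3 ^ (2 * m + 1) - 1)), ((3 ^ (2 * m + 1) + 1) / 4, 6 * (3 ^ (2 * m + 1) + 1)),
        (3 ^ (2 * m + 1) - 3 ^ (m + 1) + 1, 6 * (3 ^ (2 * m + 1) - 3 ^ (m + 1) + 1)),
        (3 ^ (2 * m + 1) + 3 ^ (m + 1) + 1, 6 * (3 ^ (2 * m + 1) + 3 ^ (m + 1) + 1))} : Set (ℕ × ℕ)),
      ∃ A : Subgroup ↥(Cfsg.Lie.twistedG2 K (3 ^ m)), IsCyclic A ∧ Nat.card A = kn.1 ∧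
        Nat.card (Subgroup.normalizer (A : Set ↥(Cfsg.Lie.twistedG2 K (3 ^ m)))) = kn.2 ∧
        ∀ A₀ : Subgroup ↥(Cfsg.Lie.twistedG2 K (3 ^ m)), A₀ ≤ A → A₀ ≠ ⊥ →
          Subgroup.normalizer (A₀ : Set ↥(Cfsg.Lie.twistedG2 K (3 ^ m))) = Subgroup.normalizer (A : Set ↥(Cfsg.Lie.twistedG2 K (3 ^ m))) := by
  obtain ⟨M, -⟩ := CL.Chev.Ree.exists_model hK
  have hq := Nat.card_eq_fintype_card.trans hK
  have hF := CL.Chev.Ree.three_lt hm hq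
  obtain ⟨X, -, e1, hX⟩ := M.exists_tor_H hF
  obtain ⟨Y, -, e2, hY⟩ := M.exists_tor_K hF
  obtain ⟨C₁, C₂, h₁, h₂, n₁, n₂, -, e4, e5⟩ := M.exists_tori hm hq
  have := M.finite
  rintro _ (rfl | rfl | rfl | rfl)
  · exact ⟨X, hX.cyc, hq ▸ e1, by rw [← hX.normalizer_C, M.normalizer_H hF, M.card_NH, hq], fun _ => hX.normalizer_eq⟩
  · exact ⟨Y, hY.cyc, hq ▸ e2, by rw [← hY.normalizer_C, M.normalizer_K, M.card_normalizer_V, hq], fun _ => hY.normalizer_eq⟩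
  · exact ⟨C₁, h₁.cyc, e4, e4 ▸ n₁, fun _ => h₁.normalizer_eq⟩
  · exact ⟨C₂, h₂.cyc, e5, e5 ▸ n₂, fun _ => h₂.normalizer_eq⟩

end Cfsg.Agent.S1158
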