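import Cfsg.Statements.S1249
import Cfsg.Agent.Grp.SylowIn

set_option autoImplicit false
open Cfsg

namespace Cfsg.Agent.S1249

/-- Let P and Q be Sylow p-subgroups of the finite group G both containing the subgroup A. If A is strongly closed in P, then A is strongly closed in Q. -/
theorem result {G : Type*} [Group G] [Finite G] {p : ℕ} [Fact p.Prime] (P Q : Sylow p G) (A : Subgroup G) (hAQ : A ≤ Q) (hA : Cfsg.IsStronglyClosed A (P : Subgroup G)) : Cfsg.IsStronglyClosed A (Q : Subgroup G) := by
  obtain ⟨g, hg⟩ := MulAction.exists_smul_eq G Q P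
  have hmem : ∀ y : G, y ∈ Q → g * y * g⁻¹ ∈ (P : Subgroup G) := by
    intro y hy
    have : g * y * g⁻¹ ∈ g • Q := by
      rw [CL.Grp.mem_sylow_smul_iff]
      simpa [mul_assoc] using hy
    rw [hg] at this
    exact this
  have hN : g ∈ Subgroup.normalizer (A : Set G) :=
    Subgroup.mem_normalizer_fintype (fun a ha => hA.2 a ha g (hmem a (hAQ ha)))
  refine ⟨hAQ, fun x hx h hh => ?_⟩
  rw [Subgroup.mem_normalizer_iff.1 hN]
  have e : g * (h * x * h⁻¹) * g⁻¹ = (g * h) * x * (g * h)⁻¹ := by group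
  have := hmem _ hh
  rw [e] at this ⊢
  exact hA.2 x hx _ this

end Cfsg.Agent.S1249
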