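import Cfsg.Statements.S1250
import Cfsg.Agent.Grp.SylowIn

set_option autoImplicit false
open Cfsg

namespace Cfsg.Agent.S1250

/-- Let S be a Sylow p-subgroup of the finite group G, A ≤ S strongly closed in S, and N a normal subgroup. Then the image of A in G ⧸ N is strongly closed in the image of S (which is a Sylow p-subgroup of G ⧸ N). -/
theorem result {G : Type*} [Group G] [Finite G] {p : ℕ} [Fact p.Prime] (S : Sylow p G) (A : Subgroup G) (hA : Cfsg.IsStronglyClosed A (S : Subgroup G)) (N : Subgroup G) [N.Normal] : Cfsg.IsStronglyClosed (A.map (QuotientGroup.mk' N)) ((S : Subgroup G).map (QuotientGroup.mk' N)) := by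
  refine ⟨Subgroup.map_mono hA.1, ?_⟩
  rintro _ ⟨x, hx, rfl⟩ q hq
  obtain ⟨g, rfl⟩ := QuotientGroup.mk'_surjective N q
  rw [← map_inv, ← map_mul, ← map_mul] at hq ⊢
  have h1 : g * x * g⁻¹ ∈ (S : Subgroup G) ⊔ N := by
    have : g * x * g⁻¹ ∈ ((S : Subgroup G).map (QuotientGroup.mk' N)).comap (QuotientGroup.mk' N) :=
      hq
    rwa [Subgroup.comap_map_eq, QuotientGroup.ker_mk'] at this
  have hp : IsPGroup p (Subgroup.zpowers (g * x * g⁻¹)) := by
    refine (CL.Grp.IsPGroup.conj_smul S.2 g).to_le ?_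
    rw [Subgroup.zpowers_le]
    exact CL.Grp.conj_mem_conj_smul g (hA.1 hx)
  obtain ⟨h, hh, hle⟩ := (CL.Grp.isSylowIn_of_le S (le_sup_left : _ ≤ (S : Subgroup G) ⊔ N)).exists_conj_le
    hp (Subgroup.zpowers_le.2 h1)
  have h2 := (CL.Grp.conj_smul_le_iff _ _ _).1 hle _ (Subgroup.mem_zpowers _)
  have e : h * (g * x * g⁻¹) * h⁻¹ = (h * g) * x * (h * g)⁻¹ := by group
  have h3 : h * (g * x * g⁻¹) * h⁻¹ ∈ A := by
    rw [e] at h2 ⊢
    exact hA.2 x hx _ h2
  obtain ⟨s, hs, n, hn, rfl⟩ := Subgroup.mem_sup_of_normal_right.1 hh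
  have h4 : s⁻¹ * (s * n * (g * x * g⁻¹) * (s * n)⁻¹) * s⁻¹⁻¹ ∈ A :=
    hA.2 _ h3 s⁻¹ (mul_mem (mul_mem (inv_mem hs) (hA.1 h3)) (inv_mem (inv_mem hs)))
  refine ⟨_, h4, ?_⟩
  have hn1 : QuotientGroup.mk' N n = 1 := (QuotientGroup.eq_one_iff n).2 hn
  simp only [map_mul, map_inv, hn1]
  group

end Cfsg.Agent.S1250
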