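import Cfsg.Statements.S1251
import Cfsg.Agent.Gold.ProdSet

set_option autoImplicit false
open Cfsg

namespace Cfsg.Agent.S1251

/-- Let S be a Sylow 2-subgroup of the finite group G and A ≤ S strongly closed in S. If H is a subgroup normalized by A with no nontrivial normal subgroup of odd order and A ∩ H = 1, then A ≤ C_G(H). -/
theorem result {G : Type*} [Group G] [Finite G] (S : Sylow 2 G) (A : Subgroup G) (hA : Cfsg.IsStronglyClosed A (S : Subgroup G)) (H : Subgroup G) (hAH : A ≤ Subgroup.normalizer (H : Set G)) (hO : Cfsg.oddCore ↥H = ⊥) (hdisj : A ⊓ H = ⊥) : A ≤ Subgroup.centralizer (H : Set G) := by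
  have h := CL.Gold.scl_of_isStronglyClosed hA
  have hD := CL.Gold.PT.scs_ccl h
  have hO' : CL.Grp.pPrimeCoreOf 2 H = ⊥ := by
    have : pPrimeCore 2 H = ⊥ := hO
    unfold CL.Grp.pPrimeCoreOf
    rw [this, Subgroup.map_bot]
  intro a ha
  refine hD.mem_cent hO' (fun y hy hyH => ?_) (CL.Gold.PT.mem_ccl ha) (hAH ha)
  obtain ⟨T, hT, -, hAT⟩ := h.exists_syl_norm (U := ⊥) hAH bot_le IsPGroup.of_bot bot_le
  obtain ⟨x, hx, hle⟩ := CL.Even.syl_conj_le hT (hD.isP hy) (Subgroup.zpowers_le.mpr hyH)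
  have h1 : x * y * x⁻¹ ∈ T := hle (CL.Even.conj_mem_cj x (Subgroup.mem_zpowers y))
  have h2 : x * y * x⁻¹ ∈ A :=
    CL.Gold.PT.ccl_mem_of_le h (CL.Even.isPGroup_sup h.isP hT.isPGroup hAT) le_sup_left (hD.conj y hy x)
      (Subgroup.mem_sup_right h1)
  have h3 : x * y * x⁻¹ ∈ A ⊓ H := ⟨h2, hT.le h1⟩
  rw [hdisj, Subgroup.mem_bot] at h3
  simpa using h3

end Cfsg.Agent.S1251
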