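import Cfsg.Statements.S1293
import Cfsg.Agent.Loc.Bal1

set_option autoImplicit false
open Cfsg

namespace Cfsg.Agent.S1293

/-- Let G be finite with L_{p'}(G) = 1, and H = N_G(P) for a nontrivial p-subgroup P. Then L_{p'}(H) = 1 and O_{p'}(H) ≤ O_{p'}(G). -/
theorem result {G : Type*} [Group G] [Finite G] (p : ℕ) [Fact p.Prime] (hL : Cfsg.pLayer p G = ⊥) (P : Subgroup G) (hP : IsPGroup p ↥P) (hP1 : P ≠ ⊥) : Cfsg.pLayer p ↥(Subgroup.normalizer (P : Set G)) = ⊥ ∧ (Cfsg.pPrimeCore p ↥(Subgroup.normalizer (P : Set G))).map (Subgroup.normalizer (P : Set G)).subtype ≤ Cfsg.pPrimeCore p G := by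
  have hO := CL.Grp.pPrimeCore_quotient_pPrimeCore p G
  have hE : Cfsg.layer (G ⧸ Cfsg.pPrimeCore p G) = ⊥ := by
    rw [← CL.Loc.map_pLayer_mk', hL, Subgroup.map_bot]
  have hC := CL.Loc.fstar_eq_pCore_iff.mp (CL.Loc.fstar_eq_pCore_iff'.mpr ⟨hE, hO⟩)
  constructor
  · rw [← Subgroup.map_eq_bot_iff_of_injective _ (Subgroup.subtype_injective _)]
    change Cfsg.pLayerOf p _ = ⊥
    rw [CL.Loc.pLayerOf_norm_eq hP, CL.Loc.pLayerOf_eq_bot_iff]
    intro K hK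
    have h1 := hK.map_cent_mk' hP
    exact h1.2.not_le_of_isPGroup (CL.Grp.pCore_isPGroup p _) ((h1.le_cent_pCore (hP.map _)).trans hC)
  · change CL.Grp.pPrimeCoreOf p _ ≤ _
    rw [CL.Loc.core_norm_eq hP, ← QuotientGroup.ker_mk' (Cfsg.pPrimeCore p G),
      ← Subgroup.map_eq_bot_iff, CL.Loc.map_core_cent_mk' hP]
    exact CL.Loc.eq_bot_of_isPGroup_of_coprime (CL.Grp.isPGroup_of_le_pCore
      ((CL.Loc.core_cent_le_cent_pCore (hP.map _)).trans hC)) (CL.Grp.pPrimeCoreOf_coprime p _)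

end Cfsg.Agent.S1293
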