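import Cfsg.Statements.S1315
import Cfsg.Agent.Loc.CI3

set_option autoImplicit false
open Cfsg

namespace Cfsg.Agent.S1315

/-- Let G be finite and J ≠ K subgroups, each containing exactly one involution, z(J) resp. z(K), each a 2-component of the centralizer of its involution, with J / O(J) and K / O(K) both isomorphic to SL(2, F) for one finite field F of odd order, or both non-split double covers of A7. Then (i) every 2-element of K of order at least 4 centralizing z(J) normalizes J; (ii) if z(J) normalizes K then z(K) normalizes J. -/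
theorem result {G : Type*} [Group G] [Finite G] (J K : Subgroup G) (hJK : J ≠ K) (zJ zK : G) (hzJ : zJ ∈ J ∧ orderOf zJ = 2 ∧ ∀ t ∈ J, orderOf t = 2 → t = zJ) (hzK : zK ∈ K ∧ orderOf zK = 2 ∧ ∀ t ∈ K, orderOf t = 2 → t = zK) (hJ : J ≤ Subgroup.centralizer ({zJ} : Set G) ∧ Cfsg.IsPComponent 2 (J.subgroupOf (Subgroup.centralizer ({zJ} : Set G)))) (hK : K ≤ Subgroup.centralizer ({zK} : Set G) ∧ Cfsg.IsPComponent 2 (K.subgroupOf (Subgroup.centralizer ({zK} : Set G)))) (htype : (∃ (F : Type) (_ : Field F) (_ : Fintype F), Odd (Fintype.card F) ∧ Nonempty (↥J ⧸ Cfsg.oddCore ↥J ≃* Matrix.SpecialLinearGroup (Fin 2) F) ∧ Nonempty (↥K ⧸ Cfsg.oddCore ↥K ≃* Matrix.SpecialLinearGroup (Fin 2) F)) ∨ (Cfsg.IsNonsplitDoubleCover (↥J ⧸ Cfsg.oddCore ↥J) ↥(alternatingGroup (Fin 7)) ∧ Cfsg.IsNonsplitDoubleCover (↥K ⧸ Cfsg.oddCore ↥K) ↥(alternatingGroup (Fin 7)))) : (∀ y ∈ K, IsPGroup 2 ↥(Subgroup.zpowers y) → 4 ≤ orderOf y → y * zJ = zJ * y → y ∈ Subgroup.normalizer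 (J : Set G)) ∧ (zJ ∈ Subgroup.normalizer (K : Set G) → zK ∈ Subgroup.normalizer (J : Set G)) := by
  have key : ∀ (J : Subgroup G) (z : G), z ∈ J ∧ orderOf z = 2 ∧ (∀ t ∈ J, orderOf t = 2 → t = z) →
      J ≤ Subgroup.centralizer ({z} : Set G) ∧ Cfsg.IsPComponent 2 (J.subgroupOf (Subgroup.centralizer ({z} : Set G))) →
      CL.CI.Fund J z := fun J z hz hJ => by
    have h1 := (CL.Loc.isPComponent_iff.1 hJ.2).map_subtype
    rw [Subgroup.map_subgroupOf_eq_of_le hJ.1] at h1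
    refine ⟨⟨h1.2, hz.1, by rw [← pow_two, ← hz.2.1, pow_orderOf_eq_one], fun e => ?_, fun a ha a2 => ?_⟩, h1⟩
    · have := hz.2.1
      rw [e, orderOf_one] at this
      omega
    · by_cases e : a = 1
      · exact Or.inl e
      · exact Or.inr (hz.2.2 a ha (orderOf_eq_prime ((pow_two a).trans a2) e))
  refine ⟨fun y hy h2 h4 c => (key J zJ hzJ hJ).l3 (key K zK hzK hK) hJK hy
    (CL.CI.t2_of_mem h2 (Subgroup.mem_zpowers y)) (fun e => ?_) c, (key J zJ hzJ hJ).l2 (key K zK hzK hK)⟩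
  have := Nat.le_of_dvd two_pos (orderOf_dvd_of_pow_eq_one ((pow_two y).trans e))
  omega

end Cfsg.Agent.S1315
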