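import Cfsg.Statements.S1323
import Cfsg.Agent.Known.AltOn2

set_option autoImplicit false
open Cfsg

namespace Cfsg.Agent.S1323

open CL.Known


/-- For n ≥ 9, the subgroup of the alternating group on Fin n fixing each of the points 0, 1, 2, 3 is a standard subgroup. -/
theorem result (n : ℕ) (h4 : 4 ≤ n) (hn : 9 ≤ n) : Cfsg.IsStandardSubgroup (⨅ i : Fin 4, MulAction.stabilizer ↥(alternatingGroup (Fin n)) (Fin.castLE h4 i : Fin n)) := by
  classical
  let F : Finset (Fin n) := Finset.univ.map (Fin.castLEEmb h4)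
  have hF : F.card = 4 := by simp [F]
  have hFc : Fᶜ.card = n - 4 := by rw [Finset.card_compl, hF, Fintype.card_fin]
  have hL : (⨅ i : Fin 4, MulAction.stabilizer ↥(alternatingGroup (Fin n)) (Fin.castLE h4 i : Fin n)) = altIn Fᶜ := by
    ext g
    simp only [Subgroup.mem_iInf, MulAction.mem_stabilizer_iff, mem_altIn, Finset.mem_compl]
    constructor
    · intro h x hx hxF
      obtain ⟨i, -, rfl⟩ := Finset.mem_map.1 hxF
      exact hx (h i)
    · intro h i
      by_contra hh
      exact h _ hh (Finset.mem_map_of_mem _ (Finset.mem_univ i))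
  have hC : Subgroup.centralizer (altIn Fᶜ : Set (alternatingGroup (Fin n))) = altIn F := by
    rw [centralizer_altIn (by omega), compl_compl]
  have hq : Cfsg.IsQuasisimple (altIn Fᶜ) :=
    CL.Loc.IsQuasisimple.of_mulEquiv (isQuasisimple_altOn (by omega)) (altInEquiv _).symm
  rw [hL]
  refine ⟨hq, ⟨?_, fun g hg => ?_⟩, fun g _ h => ?_, le_antisymm ?_ ?_⟩
  · obtain ⟨e⟩ := nonempty_altOn_equiv F (α := Fin 4) (by simp [hF])
    rw [hC, Nat.card_congr ((altInEquiv F).trans e).toEquiv, card_alt_of_card (n := 4) (by simp) (by norm_num)]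
    decide
  · rw [hC] at hg ⊢
    rw [map_conj_altIn]
    by_contra hodd
    haveI : Fact (Nat.Prime 2) := ⟨Nat.prime_two⟩
    obtain ⟨x, hx⟩ := exists_prime_orderOf_dvd_card' 2 (even_iff_two_dvd.1 (Nat.not_odd_iff_even.1 hodd))
    have h1 := four_le_card_support_of_orderOf_two x.1.2 (by rw [Subgroup.orderOf_coe, Subgroup.orderOf_coe, hx])
    have h2 : x.1.1.support = F := Finset.eq_of_subset_of_card_le
      (fun y hy => mem_altIn.1 x.2.1 y (Equiv.Perm.mem_support.1 hy)) (by omega)
    have h3 : x.1.1.support = F.map g.1.toEmbedding := Finset.eq_of_subset_of_card_le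
      (fun y hy => mem_altIn.1 x.2.2 y (Equiv.Perm.mem_support.1 hy)) (by rw [Finset.card_map]; omega)
    apply hg
    rw [← CL.Grp.conj_smul_eq_self_iff, CL.Grp.conj_smul_eq_map, map_conj_altIn, ← h3, h2]
  · rw [Subgroup.commutator_comm, Subgroup.commutator_eq_bot_iff_le_centralizer, hC] at h
    haveI := isSolvable_altOn hF.le
    exact CL.Loc.IsQuasisimple.not_le_of_isSolvable
      (CL.Loc.IsQuasisimple.map_of_injective hq (MulAut.conj g).injective)
      (Group.isSolvable_of_isSolvable_injective (f := (altInEquiv F).toMonoidHom) (altInEquiv F).injective) h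
  · intro g hg
    rw [← CL.Grp.conj_smul_eq_self_iff] at hg ⊢
    rw [← CL.Grp.centralizer_conj_smul, hg]
  · intro g hg
    rw [hC] at hg
    rw [← centralizer_altIn hF.ge]
    rw [← CL.Grp.conj_smul_eq_self_iff] at hg ⊢
    rw [← CL.Grp.centralizer_conj_smul, hg]

end Cfsg.Agent.S1323
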