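import Cfsg.Statements.S1339
import Cfsg.Agent.Cls.SLnBasic
import Cfsg.Agent.Loc.FStar

set_option autoImplicit false
open Cfsg

namespace Cfsg.Agent.S1339

open Matrix Subgroup

theorem tv_smul {F : Type*} [Field F] {n : ℕ} {i k : Fin n} (h : i ≠ k) (x : Fin n → F) :
    SpecialLinearGroup.transvection h (1 : F) • x = x + x k • Pi.single i 1 := by
  change (1 + single i k (1 : F)) *ᵥ x = _
  rw [add_mulVec, one_mulVec, single_mulVec, one_mul, ← Pi.single_smul', smul_eq_mul, mul_one]
  rfl

theorem smul_of_comm {F : Type*} [Field F] {n : ℕ} {i k : Fin n} (h : i ≠ k)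
    {g : SpecialLinearGroup (Fin n) F}
    (hg : g * SpecialLinearGroup.transvection h 1 = SpecialLinearGroup.transvection h 1 * g)
    (x : Fin n → F) : x k • g • (Pi.single i 1 : Fin n → F) = (g • x) k • Pi.single i 1 := by
  have h1 := congrArg (· • x) hg
  simp only [mul_smul, tv_smul, smul_add, add_right_inj] at h1
  rwa [← smul_comm]

/-- Let F be a field with 2 elements, n ≥ 3, and t ∈ SL(n, F) a transvection (t = 1 + E_{ij}, i ≠ j). Then the generalized Fitting subgroup of C(t) is O_2(C(t)). -/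
theorem result {F : Type*} [Field F] [Fintype F] [DecidableEq F] (hF : Fintype.card F = 2) (n : ℕ) (hn : 3 ≤ n) (i j : Fin n) (hij : i ≠ j) (t : Matrix.SpecialLinearGroup (Fin n) F) (ht : (t : Matrix (Fin n) (Fin n) F) = Matrix.transvection i j 1) : Cfsg.generalizedFittingSubgroup ↥(Subgroup.centralizer ({t} : Set (Matrix.SpecialLinearGroup (Fin n) F))) = Cfsg.pCore 2 ↥(Subgroup.centralizer ({t} : Set (Matrix.SpecialLinearGroup (Fin n) F))) := by
  obtain rfl : t = SpecialLinearGroup.transvection hij 1 := Subtype.ext ht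
  have : CharP F 2 := charP_of_card_eq_prime hF
  set C := centralizer ({SpecialLinearGroup.transvection hij (1 : F)} : Set (SpecialLinearGroup (Fin n) F))
  have hfix : ∀ g : C, g.1 • (Pi.single i 1 : Fin n → F) = Pi.single i 1 := fun g => by
    have h1 := smul_of_comm hij (mem_centralizer_singleton_iff.1 g.2) (Pi.single j 1)
    rw [Pi.single_eq_same, one_smul] at h1
    have h2 : (g.1 • (Pi.single j 1 : Fin n → F)) j ≠ 0 := fun h => by
      rw [h, zero_smul, smul_eq_zero_iff_eq] at h1
      simpa using congrFun h1 i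
    rw [h1, ← pow_one ((g.1 • (Pi.single j 1 : Fin n → F)) j), show 1 = Fintype.card F - 1 by rw [hF],
      FiniteField.pow_card_sub_one_eq_one _ h2, one_smul]
  let R : Subgroup C :=
    { carrier := {g | ∀ x : Fin n → F, ∃ c : F, g.1 • x = x + c • Pi.single i 1}
      one_mem' := fun x => ⟨0, by simp⟩
      mul_mem' := fun {g h} hg hh x => by
        obtain ⟨c, hc⟩ := hh x
        obtain ⟨d, hd⟩ := hg (h.1 • x)
        exact ⟨c + d, by rw [coe_mul, mul_smul, hd, hc, add_smul, add_assoc]⟩
      inv_mem' := fun {g} hg x => by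
        obtain ⟨c, hc⟩ := hg (g.1⁻¹ • x)
        exact ⟨-c, by rw [neg_smul, eq_add_neg_iff_add_eq, coe_inv, ← hc, smul_inv_smul]⟩ }
  have : R.Normal := ⟨fun g hg h x => by
    obtain ⟨c, hc⟩ := hg (h.1⁻¹ • x)
    exact ⟨c, by rw [coe_mul, coe_mul, mul_smul, mul_smul, coe_inv, hc, smul_add, smul_inv_smul,
      smul_comm, hfix]⟩⟩
  have hR : R ≤ pCore 2 C := CL.Grp.le_pCore fun g => ⟨1, Subtype.ext (Subtype.ext (Subtype.ext
    (Matrix.ext_iff_smul.2 fun x => by
      obtain ⟨c, hc⟩ := g.2 x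
      change (g.1.1 ^ 2 ^ 1) • x = (1 : SpecialLinearGroup (Fin n) F) • x
      rw [pow_one, sq, mul_smul, hc, smul_add, hc, smul_comm, hfix, add_assoc, ← add_smul,
        CharTwo.add_self_eq_zero, zero_smul, add_zero, one_smul])))⟩
  refine CL.Loc.fstar_eq_pCore_iff.2 fun g hg => hR fun x => ⟨(g.1 • x) i - x i, funext fun k => ?_⟩
  rcases eq_or_ne i k with rfl | hk
  · simp
  have h1 := smul_of_comm hk (congrArg Subtype.val (hg ⟨SpecialLinearGroup.transvection hk 1,
    mem_centralizer_singleton_iff.2 (CL.SLn.commute_transvection hk hij hk.symm hij.symm 1 1).eq⟩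
    (hR fun y => ⟨y k, tv_smul hk y⟩))).symm x
  rw [hfix] at h1
  simpa [hk.symm] using (congrFun h1 i).symm

end Cfsg.Agent.S1339
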