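import Cfsg.Statements.S1340
import Cfsg.Agent.Fgs.BlockSL

set_option autoImplicit false
open Cfsg

namespace Cfsg.Agent.S1340

open Matrix Subgroup CL.Fgs.Blk


/-- Let F be a finite field of odd order and n ≥ 3 with (n, |F|) ≠ (3, 3). Then GL(n, F) has a non-central involution t such that C(t) / O(C(t)) has a component. -/
theorem result {F : Type*} [Field F] [Fintype F] [DecidableEq F] (hF : Odd (Fintype.card F)) (n : ℕ) (hn : 3 ≤ n) (h33 : ¬ (n = 3 ∧ Fintype.card F = 3)) : ∃ t : Matrix.GeneralLinearGroup (Fin n) F, orderOf t = 2 ∧ t ∉ Subgroup.center (Matrix.GeneralLinearGroup (Fin n) F) ∧ Cfsg.HasComponent (↥(Subgroup.centralizer ({t} : Set (Matrix.GeneralLinearGroup (Fin n) F))) ⧸ Cfsg.oddCore ↥(Subgroup.centralizer ({t} : Set (Matrix.GeneralLinearGroup (Fin n) F)))) := by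
  have h2 : (2 : F) ≠ 0 := by
    intro h
    have := FiniteField.even_card_of_char_two (F := F) (by
      have : CharP F 2 := (CharP.charP_iff_prime_eq_zero Nat.prime_two).2 (by exact_mod_cast h)
      exact ringChar.eq F 2)
    rw [Nat.odd_iff] at hF
    omega
  have hne : (1 : F) ≠ -1 := fun h => h2 (by linear_combination h)
  let l : Fin n := ⟨0, by omega⟩
  let i₁ : Fin n := ⟨1, by omega⟩
  let i₂ : Fin n := ⟨2, by omega⟩
  have h1l : i₁ ≠ l := by simp [i₁, l]
  have h2l : i₂ ≠ l := by simp [i₂, l]
  have h12 : i₁ ≠ i₂ := by simp [i₁, i₂]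
  have : Nontrivial {i // i ≠ l} := ⟨⟨⟨i₁, h1l⟩, ⟨i₂, h2l⟩, fun h => h12 (congrArg Subtype.val h)⟩⟩
  let D : Matrix (Fin n) (Fin n) F := diagonal fun i => if i = l then -1 else 1
  have hD : D * D = 1 := by
    rw [diagonal_mul_diagonal, ← diagonal_one]
    congr 1
    funext i
    split_ifs <;> simp
  let t : GL (Fin n) F := ⟨D, D, hD, hD⟩
  have hq : IsQuasisimple (extSL (F := F) l).range := by
    refine isQuasisimple_range l ?_
    by_cases h3 : n = 3
    · refine Or.inr (CL.SLn.exists_sq_ne_one_of_four_le ?_)
      rw [Nat.card_eq_fintype_card]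
      have := Fintype.one_lt_card (α := F)
      rw [Nat.odd_iff] at hF
      omega
    · left
      rw [Fintype.card_subtype_compl, Fintype.card_fin, Fintype.card_subtype_eq]
      omega
  refine ⟨t, ?_, ?_, ?_⟩
  · refine orderOf_eq_prime (Units.ext (by rw [sq]; exact hD)) fun h => hne ?_
    have := congrFun (congrFun (congrArg (fun g : GL (Fin n) F => g.1) h) l) l
    change D l l = (1 : Matrix (Fin n) (Fin n) F) l l at this
    simpa [D] using this.symm
  · intro h
    have := congrArg Units.val (mem_center_iff.1 h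
      (SpecialLinearGroup.toGL (SpecialLinearGroup.transvection h1l (1 : F))))
    change (1 + single i₁ l 1) * D = D * (1 + single i₁ l 1) at this
    have := congrFun (congrFun this i₁) l
    simp [D, h1l] at this
    exact hne this.symm
  · set C := centralizer ({t} : Set (GL (Fin n) F))
    let L : Subgroup (GL (Fin n) F) := (extSL (F := F) l).range.map SpecialLinearGroup.toGL
    have hL : IsQuasisimple L :=
      CL.Loc.IsQuasisimple.map_of_injective hq SpecialLinearGroup.toGL_injective
    have hLC : L ≤ C := by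
      rintro _ ⟨x, hx, rfl⟩
      exact mem_centralizer_singleton_iff.2
        (Units.ext (comm_diag_of_fix 1 (-1) ((mem_range_extSL l x).1 hx)))
    have hN : (L.subgroupOf C).Normal := ⟨by
      rintro ⟨_, hy⟩ ⟨x, hx, rfl⟩ g
      have hg := comm_single_of_comm hne
        (congrArg Units.val (mem_centralizer_singleton_iff.1 g.2))
      refine ⟨⟨g.1.1 * x.1 * (g.1⁻¹).1, ?_⟩, (mem_range_extSL l _).2
        (conj_fix hg g.1.mul_inv g.1.inv_mul ((mem_range_extSL l x).1 hx)), Units.ext rfl⟩
      rw [det_mul, det_mul, x.2, mul_one, ← det_mul, Units.mul_inv, det_one]⟩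
    refine ⟨(L.subgroupOf C).map (QuotientGroup.mk' _), ?_, CL.Loc.IsQuasisimple.map
      ((CL.Loc.isQuasisimple_subgroupOf_iff hLC).2 hL) _ fun h => ?_⟩
    · exact (hN.map _ (QuotientGroup.mk'_surjective _)).isSubnormal
    · rw [Subgroup.map_eq_bot_iff, QuotientGroup.ker_mk'] at h
      let d : SpecialLinearGroup (Fin n) F := SpecialLinearGroup.diag2n h12 (-1) (by simp)
      have hd : d ∈ (extSL (F := F) l).range := by
        rw [mem_range_extSL, mul_single_iff, single_mul_iff]
        constructor <;> intro i <;> by_cases hi : i = l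
        · simp [d, SpecialLinearGroup.diag2n_coe, hi, h1l.symm, h2l.symm]
        · simp [d, SpecialLinearGroup.diag2n_coe, hi]
        · simp [d, SpecialLinearGroup.diag2n_coe, hi, h1l.symm, h2l.symm]
        · simp [d, SpecialLinearGroup.diag2n_coe, hi, Ne.symm hi]
      have hdL : SpecialLinearGroup.toGL d ∈ L := ⟨d, hd, rfl⟩
      have ho : orderOf d = 2 := by
        refine orderOf_eq_prime (Subtype.ext ?_) fun h => hne ?_
        · rw [sq]
          change d.1 * d.1 = 1
          rw [SpecialLinearGroup.diag2n_coe, diagonal_mul_diagonal, ← diagonal_one]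
          congr 1
          funext i
          split_ifs <;> simp
        · have := congrFun (congrFun (congrArg Subtype.val h) i₁) i₁
          rw [SpecialLinearGroup.diag2n_coe] at this
          simpa using this.symm
      have hm : (⟨_, hLC hdL⟩ : C) ∈ oddCore C := h hdL
      refine CL.Grp.not_dvd_card_pPrimeCore 2 C ?_
      have := Subgroup.orderOf_dvd_natCard _ hm
      rwa [← orderOf_injective C.subtype C.subtype_injective, subtype_apply,
        orderOf_injective _ SpecialLinearGroup.toGL_injective, ho] at this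

end Cfsg.Agent.S1340
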