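import Cfsg.Statements.S1628
import Cfsg.Agent.Spor.RuMin

set_option autoImplicit false
open Cfsg

namespace Cfsg.Agent.S1628

/-- The Conway–Wales lattice as stored is even with no vectors of true norm 2: stored norms are multiples of 8, never equal to 8, and the minimum over nonzero vectors is 16. -/
theorem result : (∀ x ∈ Cfsg.Spor.ruLattice, (8 : ℤ) ∣ Cfsg.Spor.ruNorm x) ∧ (∀ x ∈ Cfsg.Spor.ruLattice, Cfsg.Spor.ruNorm x ≠ 8) ∧ (∀ x ∈ Cfsg.Spor.ruLattice, x ≠ 0 → 16 ≤ Cfsg.Spor.ruNorm x) ∧ ∃ x ∈ Cfsg.Spor.ruLattice, Cfsg.Spor.ruNorm x = 16 := by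
  refine ⟨fun x => CL.Ru.eight_dvd, fun x hx h => ?_, fun x => CL.Ru.min_norm,
    _, CL.Ru.bas_mem 0, CL.Ru.norm_bas 0⟩
  have := CL.Ru.min_norm hx (by rintro rfl; simp [Cfsg.Spor.ruNorm] at h)
  omega

end Cfsg.Agent.S1628
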