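import Cfsg.Statements.S1763
import Cfsg.Agent.N9.Asm
import Cfsg.Agent.N9.LAsm
import Cfsg.Agent.N9.L0c
import Cfsg.Agent.N9.WC
import Cfsg.Agent.N9.AM
import Cfsg.Agent.N9.CC
import Cfsg.Agent.N9.C8M
import Cfsg.Agent.N9.PPre
import Cfsg.Agent.N9.PS81
import Cfsg.Agent.N9.PINN
import Cfsg.Agent.N9.PNORM
import Cfsg.Agent.N9.KillD
import Cfsg.Agent.N9.P45
import Cfsg.Agent.N9.M8All
import Cfsg.Agent.N9.NCase
import Cfsg.Agent.N9.C9
import Cfsg.Agent.N9.A9

set_option autoImplicit false
open Cfsg

namespace Cfsg.Agent.S1763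

/-- Let G be a non-abelian finite simple group and let z be an involution of G such that Q, the generalized Fitting subgroup of the centralizer C of z, is a 2-group of symplectic type (every characteristic abelian subgroup of Q is cyclic); suppose moreover that Q is extraspecial of order 2^9. Then G is isomorphic to one of: the projective special linear group of dimension 6 over the field with 2 elements; the projective special unitary group of dimension 6 over the field with 4 elements; the commutator subgroup of the plus-type or of a minus-type orthogonal group of dimension 8 over the field with 2 elements, modulo its centre; the triality-twisted group of type D₄ over the field with 2 elements (realised over the field with 8 elements); the commutator subgroup of the plus-type orthogonal group of dimension 8 over the field with 3 elements modulo its centre; the first or second Conway group; the Thompson group; or the Harada–Norton group. -/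
theorem result {G : Type*} [Group G] [Finite G] [IsSimpleGroup G]
    (hG : ¬ IsMulCommutative G) (z : G) (hz : orderOf z = 2) (hQ : Cfsg.IsOfSymplecticType ↥(Cfsg.generalizedFittingSubgroup ↥(Subgroup.centralizer ({z} : Set G)))) (hE : Cfsg.IsExtraspecial 2 ↥(Cfsg.generalizedFittingSubgroup ↥(Subgroup.centralizer ({z} : Set G)))) (hcard : Nat.card ↥(Cfsg.generalizedFittingSubgroup ↥(Subgroup.centralizer ({z} : Set G))) = 2 ^ 9) :
    (∃ (F : Type) (_ : Field F) (_ : Fintype F), Fintype.card F = 2 ∧ (Nonempty (G ≃* Matrix.ProjectiveSpecialLinearGroup (Fin 6) F) ∨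
        Nonempty (G ≃* Cfsg.POmega F (Cfsg.quadFormPlus 4 F)) ∨
        (∃ a b : F, (∀ z₁ z₂ : F, z₁ ^ 2 + a * z₁ * z₂ + b * z₂ ^ 2 = 0 → z₁ = 0 ∧ z₂ = 0) ∧
          Nonempty (G ≃* Cfsg.POmega F (Cfsg.quadFormMinus 3 F a b))))) ∨
      (∃ (F : Type) (_ : Field F) (_ : Fintype F), Fintype.card F = 4 ∧ Nonempty (G ≃* Cfsg.PSU 6 F 2)) ∨
      (∃ (K : Type) (_ : Field K) (_ : Fintype K), Fintype.card K = 8 ∧ Nonempty (G ≃* ↥(Cfsg.Lie.twistedD4 K 2))) ∨
      (∃ (F : Type) (_ : Field F) (_ : Fintype F), Fintype.card F = 3 ∧ Nonempty (G ≃* Cfsg.POmega F (Cfsg.quadFormPlus 4 F))) ∨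
      Cfsg.Spor.IsoCo1 G ∨ Cfsg.Spor.IsoCo2 G ∨ Cfsg.Spor.IsoTh G ∨ Cfsg.Spor.IsoHN G := by
  refine CL.N9.concl_of CL.N9.linDet CL.N9.lin0 CL.N9.caseWC CL.N9.caseOrth CL.N9.caseCC (fun D hD => ?_) hG (CL.N9.hy_of hG hz hE hcard)
  simp only [List.mem_cons, List.not_mem_nil, or_false] at hD
  rcases hD with rfl | rfl | rfl | rfl | rfl | rfl | rfl | rfl | rfl | rfl
  exacts [CL.N9.case27, CL.N9.P.case81_pre CL.N9.P.s81c CL.N9.P.inn CL.N9.P.norm, CL.N9.case45a, CL.N9.case45b, CL.N9.case105, CL.N9.case15, CL.N9.case45c, CL.N9.HN.case_d75, CL.N9.case9, CL.N9.case135]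

end Cfsg.Agent.S1763
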