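import Cfsg.Statements.S1907
import Cfsg.Agent.Even.Amb2
import Cfsg.Agent.Loc.PConstr
import Cfsg.Agent.Grp.Coprime

set_option autoImplicit false
open Cfsg

namespace Cfsg.Agent.S1907

/-- Let P be a Sylow p-subgroup of a finite group G, H = P ∩ O_{p',p}(G), N = N_G(H) and D = O_{p'}(G). (a) If y is an element of p-power order of N and d ∈ D with d⁻¹ y d ∈ N, then d = d₁ d₂ with d₁ ∈ C_D(y) and d₂ ∈ C_D(H). (b) Two elements of P that are conjugate in G are conjugate in N. -/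
theorem result {G : Type*} [Group G] [Finite G] {p : ℕ} [Fact p.Prime] (P : Sylow p G) :
    (∀ y ∈ Subgroup.normalizer (((P : Subgroup G) ⊓ Cfsg.pPrimePCore p G : Subgroup G) : Set G), (∃ k : ℕ, orderOf y = p ^ k) →
      ∀ d ∈ Cfsg.pPrimeCore p G, d⁻¹ * y * d ∈ Subgroup.normalizer (((P : Subgroup G) ⊓ Cfsg.pPrimePCore p G : Subgroup G) : Set G) →
        ∃ d₁ ∈ Cfsg.pPrimeCore p G ⊓ Subgroup.centralizer ({y} : Set G),
          ∃ d₂ ∈ Cfsg.pPrimeCore p G ⊓ Subgroup.centralizer (((P : Subgroup G) ⊓ Cfsg.pPrimePCore p G : Subgroup G) : Set G), d = d₁ * d₂) ∧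
    ∀ x y : G, x ∈ (P : Subgroup G) → y ∈ (P : Subgroup G) → IsConj x y →
      ∃ n ∈ Subgroup.normalizer (((P : Subgroup G) ⊓ Cfsg.pPrimePCore p G : Subgroup G) : Set G), n * x * n⁻¹ = y := by
  set H := (P : Subgroup G) ⊓ Cfsg.pPrimePCore p G with hH
  have hHp : IsPGroup p H := P.isPGroup'.to_inf_left
  have hD := CL.Grp.pPrimeCore_coprime p G
  have hE : Cfsg.pPrimeCore p G ⊓ Subgroup.normalizer (H : Set G) =
      Cfsg.pPrimeCore p G ⊓ Subgroup.centralizer (H : Set G) :=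
    CL.Grp.inf_normalizer_eq_inf_centralizer_of_disjoint Subgroup.le_normalizer_of_normal
      (disjoint_iff.mpr (CL.Loc.inf_eq_bot_of_isPGroup_of_coprime hHp hD))
  have h1 : ∀ y ∈ Subgroup.normalizer (H : Set G), (∃ k : ℕ, orderOf y = p ^ k) →
      ∀ d ∈ Cfsg.pPrimeCore p G, d⁻¹ * y * d ∈ Subgroup.normalizer (H : Set G) →
        ∃ d₁ ∈ Cfsg.pPrimeCore p G ⊓ Subgroup.centralizer ({y} : Set G),
          ∃ d₂ ∈ Cfsg.pPrimeCore p G ⊓ Subgroup.centralizer (H : Set G), d = d₁ * d₂ := by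
    rintro y hy ⟨k, hk⟩ d hd hdy
    obtain ⟨c, hc, hc'⟩ := CL.Grp.exists_centralizer_mem_leftCoset (A := Subgroup.zpowers y)
      Subgroup.le_normalizer_of_normal (by rw [Nat.card_zpowers, hk]; exact hD.symm.pow_left k)
      (Or.inl inferInstance) (N := Cfsg.pPrimeCore p G ⊓ Subgroup.normalizer (H : Set G)) inf_le_left
      (CL.Even.le_norm_inf Subgroup.le_normalizer_of_normal
        ((Subgroup.zpowers_le.mpr hy).trans Subgroup.le_normalizer)) hd (by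
      rintro _ ⟨n, rfl⟩
      refine ⟨Subgroup.mul_mem _ (inv_mem hd) (Subgroup.Normal.conj_mem inferInstance _ hd _), ?_⟩
      have h2 : d⁻¹ * (y ^ n * d * (y ^ n)⁻¹) = (d⁻¹ * y * d⁻¹⁻¹) ^ n * (y ^ n)⁻¹ := by
        rw [conj_zpow]; group
      change d⁻¹ * (y ^ n * d * (y ^ n)⁻¹) ∈ _
      rw [h2, inv_inv]
      exact Subgroup.mul_mem _ (zpow_mem hdy n) (inv_mem (zpow_mem hy n)))
    refine ⟨c, ⟨hc.1, Subgroup.centralizer_le ?_ hc.2⟩, _, inv_mem (hE.le hc'), by group⟩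
    rintro _ rfl
    exact Subgroup.mem_zpowers _
  refine ⟨h1, fun x y hx hy hxy => ?_⟩
  obtain ⟨g, rfl⟩ := isConj_iff.mp hxy
  have hS := CL.Grp.isSylowIn_inf_normal P (Cfsg.pPrimePCore p G)
  have hPN : (P : Subgroup G) ≤ Subgroup.normalizer (H : Set G) :=
    CL.Even.le_norm_inf Subgroup.le_normalizer Subgroup.le_normalizer_of_normal
  obtain ⟨a, ha, m, hm, rfl⟩ := CL.Even.frattini_mul hS le_top Subgroup.le_normalizer_of_normal
    (Subgroup.mem_top g)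
  rw [← CL.Loc.pPrimeCore_sup_eq_of_isSylowIn hS] at hm
  obtain ⟨h, hh, d, hd, rfl⟩ := (CL.Even.mem_sup_nr Subgroup.le_normalizer_of_normal).mp hm
  have hn : a * h ∈ Subgroup.normalizer (H : Set G) := mul_mem ha.2 (Subgroup.le_normalizer hh)
  obtain ⟨k, hk⟩ := IsPGroup.iff_orderOf.mp P.isPGroup' ⟨x, hx⟩
  obtain ⟨d₁, hd₁, d₂, hd₂, e⟩ := h1 x (hPN hx) ⟨k, by rw [← hk, Subgroup.orderOf_mk]⟩ d⁻¹ (inv_mem hd) (by
    have := mul_mem (mul_mem (inv_mem hn) (hPN hy)) hn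
    convert this using 1
    group)
  refine ⟨a * h * d₂⁻¹, mul_mem hn (inv_mem (hE.ge hd₂).2), ?_⟩
  have h3 := Subgroup.mem_centralizer_singleton_iff.mp hd₁.2
  rw [← inv_inv d, e]
  calc _ = a * h * d₂⁻¹ * (d₁⁻¹ * (d₁ * x)) * d₂ * (a * h)⁻¹ := by group
    _ = _ := by rw [h3]; group

end Cfsg.Agent.S1907
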