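import Cfsg.Statements.S1910
import Cfsg.Agent.Inv.StrongEmb
import Cfsg.Agent.Even.Amb2
import Cfsg.Agent.Loc.PConstr

set_option autoImplicit false
open Cfsg

namespace Cfsg.Agent.S1910

open CL.Grp CL.Even in
open scoped commutatorElement in
theorem aux {G : Type*} [Group G] [Finite G] {Q₁ Q₂ T S : Subgroup G} {g : G} (hg : cj g Q₁ = Q₂)
    (h12 : Odd (Nat.card ↥(Q₁ ⊓ Q₂))) (h2 : ∀ y, y ∉ 𝒩(Q₂) → Odd (Nat.card ↥(Q₂ ⊓ cj y Q₂)))
    (hT : IsSylowIn 2 T (Q₂ ⊓ 𝒩(Q₁))) (hTS : T ≤ S) (hS : IsSylowIn 2 S (Q₁ ⊔ T)) :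
    T ⊓ Q₁ = ⊥ ∧ ⁅T, S ⊓ 𝒩(T) ⊓ Q₁⁆ = ⊥ ∧ T ⊔ (S ⊓ 𝒩(T) ⊓ Q₁) = S ⊓ 𝒩(T) ∧
      ∃ f : T →* ↥(S ⊓ 𝒩(T) ⊓ Q₁), Function.Injective f := by
  have hb : ∀ {A B : Subgroup G}, IsPGroup 2 A → Odd (Nat.card B) → A ≤ B → A = ⊥ := fun hA hB h =>
    inf_eq_left.mpr h ▸ CL.Loc.inf_eq_bot_of_isPGroup_of_coprime hA (Nat.coprime_two_right.mpr hB)
  have hTQ : T ≤ 𝒩(Q₁) := hT.le.trans inf_le_right
  have h3 : T ⊓ Q₁ = ⊥ := hb hT.isPGroup.to_inf_left h12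
    (le_inf inf_le_right (inf_le_left.trans (hT.le.trans inf_le_left)))
  set R := S ⊓ 𝒩(T) ⊓ Q₁ with hR
  have h4 : ⁅T, R⁆ = ⊥ := le_bot_iff.mp (h3 ▸ le_inf
    (commutator_le_of_le_norm (inf_le_left.trans inf_le_right))
    ((Subgroup.commutator_mono le_rfl inf_le_right).trans (commutator_le_of_le_norm' hTQ)))
  have hRC : R ≤ 𝒞(T) := commutator_eq_bot_iff'.mp h4
  have hsup : ∀ U, T ≤ U → U ≤ S → T ⊔ U ⊓ Q₁ = U := fun U h h' => by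
    rw [inf_comm, ← inf_sup_eq_of_le_norm (Or.inl hTQ) h, inf_eq_right, sup_comm]
    exact h'.trans hS.le
  have h5 : T ⊔ R = S ⊓ 𝒩(T) := hsup _ (le_inf hTS Subgroup.le_normalizer) inf_le_left
  refine ⟨h3, h4, h5, ?_⟩
  by_cases hST : S ≤ 𝒩(T)
  · have h6 : IsSylowIn 2 R Q₁ := by
      rw [hR, inf_eq_left.mpr hST]
      exact hS.inf_of_normalized le_sup_left (sup_le Subgroup.le_normalizer hTQ)
    obtain ⟨h, -, h7⟩ := syl_conj_le h6 (isPGroup_cj hT.isPGroup g⁻¹)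
      (cj_le_iff.mpr (by rw [inv_inv, hg]; exact hT.le.trans inf_le_left))
    rw [← cj_mul] at h7
    exact ⟨(Subgroup.inclusion h7).comp (T.equivMapOfInjective _ (MulAut.conj _).injective).toMonoidHom,
      (Subgroup.inclusion_injective h7).comp (MulEquiv.injective _)⟩
  have h6 := lt_inf_normalizer_of_isPGroup hS.isPGroup (inf_lt_left.mpr hST)
  obtain ⟨y, hy, hyT⟩ : ∃ y ∈ S ⊓ 𝒩(S ⊓ 𝒩(T)) ⊓ Q₁, y ∉ 𝒩(T) := by
    by_contra hcon
    push Not at hcon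
    refine h6.not_ge ((hsup _ ((le_inf hTS Subgroup.le_normalizer).trans h6.le) inf_le_left).ge.trans ?_)
    exact sup_le (le_inf hTS Subgroup.le_normalizer) fun y hy => ⟨hy.1.1, hcon y hy⟩
  have h7 : cj y T ≤ S ⊓ 𝒩(T) := cj_le_of_le (le_inf hTS Subgroup.le_normalizer) hy.1.2
  have h8 : y ∉ 𝒩(Q₂) := fun h => hyT (mem_norm_of_cj_le (le_trans (le_inf (h7.trans inf_le_left)
    (cj_le_of_le hT.le (le_norm_inf (L := Subgroup.zpowers y) (Subgroup.zpowers_le.mpr h)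
      ((Subgroup.zpowers_le.mpr (Subgroup.le_normalizer hy.2)).trans Subgroup.le_normalizer)
      (Subgroup.mem_zpowers y))))
    (hT.eq_of_le hS.isPGroup.to_inf_left (le_inf hTS hT.le) inf_le_right).le))
  have h9 : ∀ t ∈ T, ⁅y, t⁆ ∈ R := fun t ht => by
    refine ⟨Subgroup.mul_mem _ (h7 (conj_mem_cj y ht)) ⟨S.inv_mem (hTS ht), Subgroup.le_normalizer
      (T.inv_mem ht)⟩, commutator_le_of_le_norm hTQ (Subgroup.commutator_mem_commutator hy.2 ht)⟩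
  refine ⟨MonoidHom.mk' (fun t => ⟨⁅y, (t : G)⁆, h9 t t.2⟩) fun a b => Subtype.ext ?_,
    (injective_iff_map_eq_one _).mpr fun t ht => Subtype.ext ?_⟩
  · have := comm_of_mem (hRC (h9 b b.2)) (T.inv_mem a.2)
    change ⁅y, (a : G) * b⁆ = ⁅y, (a : G)⁆ * ⁅y, (b : G)⁆
    calc _ = y * a * y⁻¹ * (⁅y, (b : G)⁆ * (a : G)⁻¹) := by simp only [commutatorElement_def]; group
      _ = _ := by rw [← this]; simp only [commutatorElement_def]; group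
  · have h10 : y * t = t * y := commutatorElement_eq_one_iff_mul_comm.mp (congrArg Subtype.val ht)
    have h11 : (t : G) ∈ T ⊓ cj y T := ⟨t.2, mem_cj.mpr (by
      rw [mul_assoc, ← h10, inv_mul_cancel_left]; exact t.2)⟩
    rwa [hb hT.isPGroup.to_inf_left (h2 y h8) (inf_le_inf (hT.le.trans inf_le_left)
      (cj_mono y (hT.le.trans inf_le_left)))] at h11

/-- Let Q be a tightly embedded subgroup of a finite group G, g an element outside N_G(Q), T a nontrivial Sylow 2-subgroup of Q^g ∩ N_G(Q), and S a Sylow 2-subgroup of QT containing T. Then T ∩ Q = 1, and N_S(T) is the direct product of T and N_S(T) ∩ Q, with N_S(T) ∩ Q isomorphic to T. -/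
theorem result {G : Type*} [Group G] [Finite G] (Q : Subgroup G) (hQ : Cfsg.IsTightlyEmbedded Q)
    (g : G) (hg : g ∉ Subgroup.normalizer (Q : Set G))
    (T : Subgroup G) (hT1 : T ≠ ⊥) (hT : T ≤ Q.map (MulAut.conj g).toMonoidHom ⊓ Subgroup.normalizer (Q : Set G))
    (hTsyl : IsPGroup 2 T ∧ ¬ 2 ∣ T.relIndex (Q.map (MulAut.conj g).toMonoidHom ⊓ Subgroup.normalizer (Q : Set G)))
    (S : Subgroup G) (hTS : T ≤ S) (hS : S ≤ Q ⊔ T) (hSsyl : IsPGroup 2 S ∧ ¬ 2 ∣ S.relIndex (Q ⊔ T)) :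
    T ⊓ Q = ⊥ ∧
      T ⊓ (S ⊓ Subgroup.normalizer (T : Set G) ⊓ Q) = ⊥ ∧
      ⁅T, S ⊓ Subgroup.normalizer (T : Set G) ⊓ Q⁆ = ⊥ ∧
      T ⊔ (S ⊓ Subgroup.normalizer (T : Set G) ⊓ Q) = S ⊓ Subgroup.normalizer (T : Set G) ∧
      Nonempty (↥(S ⊓ Subgroup.normalizer (T : Set G) ⊓ Q) ≃* T) := by
  have h2 : ∀ y, y ∉ Subgroup.normalizer ((Q.map (MulAut.conj g).toMonoidHom : Subgroup G) : Set G) →
      Odd (Nat.card ↥(Q.map (MulAut.conj g).toMonoidHom ⊓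
        (Q.map (MulAut.conj g).toMonoidHom).map (MulAut.conj y).toMonoidHom)) := by
    intro y hy
    rw [← CL.Even.cj_norm, CL.Even.mem_cj] at hy
    have := hQ.2 _ hy
    rwa [← CL.Even.card_cj g, CL.Even.cj_inf, ← CL.Even.cj_mul, ← mul_assoc, mul_inv_cancel_left,
      CL.Even.cj_mul] at this
  have hT' : CL.Grp.IsSylowIn 2 T _ := ⟨hT, hTsyl.1, hTsyl.2⟩
  obtain ⟨h3, h4, h5, f, hf⟩ := aux rfl (hQ.2 g hg) h2 hT' hTS ⟨hS, hSsyl.1, hSsyl.2⟩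
  refine ⟨h3, le_bot_iff.mp (h3 ▸ inf_le_inf_left _ inf_le_right), h4, h5, ⟨(MulEquiv.ofBijective f ?_).symm⟩⟩
  refine (Nat.bijective_iff_injective_and_card f).mpr ⟨hf, le_antisymm (Nat.card_le_card_of_injective f hf) ?_⟩
  set R := S ⊓ Subgroup.normalizer (T : Set G) ⊓ Q
  have hRp : IsPGroup 2 R := hSsyl.1.to_inf_left.to_inf_left
  obtain ⟨t, htT, ht⟩ := CL.Inv.SE.exists_inv_of_isPGroup hTsyl.1 hT1
  have h6 : R ≤ Q ⊓ Subgroup.normalizer ((Q.map (MulAut.conj g).toMonoidHom : Subgroup G) : Set G) := by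
    refine le_inf inf_le_right fun y hy => ?_
    by_contra hc
    refine (CL.Inv.SE.odd_card_iff _).mp (h2 y hc) t ⟨(hT htT).1, CL.Even.mem_cj.mpr ?_⟩ ht
    rw [mul_assoc, CL.Even.comm_of_mem (CL.Even.commutator_eq_bot_iff'.mp h4 hy) htT, inv_mul_cancel_left]
    exact (hT htT).1
  obtain ⟨U, hU, hRU⟩ := CL.Grp.exists_isSylowIn_ge hRp h6
  obtain ⟨S', hS', hUS⟩ := CL.Grp.exists_isSylowIn_ge hU.isPGroup
    (le_sup_right : U ≤ Q.map (MulAut.conj g).toMonoidHom ⊔ U)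
  obtain ⟨-, h7, -, f', hf'⟩ := aux (CL.Even.cj_inv_cj g Q) (by rw [inf_comm]; exact hQ.2 g hg) hQ.2 hU hUS hS'
  refine (Subgroup.card_le_of_le hRU).trans ((Nat.card_le_card_of_injective f' hf').trans
    (hT'.card_le hS'.isPGroup.to_inf_left.to_inf_left (le_inf inf_le_right fun y hy => ?_)))
  obtain ⟨u, huU, hu⟩ := CL.Inv.SE.exists_inv_of_isPGroup hU.isPGroup fun h => hT1 (by
    have h8 := (Nat.card_le_card_of_injective _ hf).trans (Subgroup.card_le_of_le hRU)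
    rw [h, Subgroup.card_bot] at h8
    exact Subgroup.eq_bot_of_card_le _ h8)
  by_contra hc
  refine (CL.Inv.SE.odd_card_iff _).mp (hQ.2 y hc) u ⟨(hU.le huU).1, CL.Even.mem_cj.mpr ?_⟩ hu
  rw [mul_assoc, CL.Even.comm_of_mem (CL.Even.commutator_eq_bot_iff'.mp h7 hy) huU, inv_mul_cancel_left]
  exact (hU.le huU).1

end Cfsg.Agent.S1910
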