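import Cfsg.Statements.S1921
import Cfsg.Agent.Loc.Diagonal

set_option autoImplicit false
open Cfsg

namespace Cfsg.Agent.S1921
open scoped Pointwise commutatorElement

/-- Let a be an involution of a finite group H and L a component of H with a L a⁻¹ ≠ L; put M = ⟨L, aLa⁻¹⟩ and let J be the subgroup generated by the elements x · a x a⁻¹ with x ∈ L (the diagonal). Then every element of M outside J·Z(M) generates M together with J. -/
theorem result {H : Type*} [Group H] [Finite H] (a : H) (ha : orderOf a = 2) (L : Subgroup H) (hL : Cfsg.IsComponent L)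
    (hLa : L.map (MulAut.conj a).toMonoidHom ≠ L) (x : H) (hxM : x ∈ L ⊔ L.map (MulAut.conj a).toMonoidHom)
    (hxJ : x ∉ Subgroup.closure {y : H | ∃ l ∈ L, y = l * (a * l * a⁻¹)} ⊔
      ((L ⊔ L.map (MulAut.conj a).toMonoidHom) ⊓ Subgroup.centralizer ((L ⊔ L.map (MulAut.conj a).toMonoidHom : Subgroup H) : Set H))) :
    Subgroup.closure {y : H | ∃ l ∈ L, y = l * (a * l * a⁻¹)} ⊔ Subgroup.zpowers x = L ⊔ L.map (MulAut.conj a).toMonoidHom := by
  have hc : ⁅L, MulAut.conj a • L⁆ = ⊥ :=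
    CL.Loc.IsComponent.commutator_eq_bot_of_ne hL (CL.Loc.IsComponent.conj hL a) hLa.symm
  change x ∈ L ⊔ MulAut.conj a • L at hxM
  change x ∉ CL.Loc.diagSub L a ⊔ ((L ⊔ MulAut.conj a • L) ⊓
    Subgroup.centralizer ((L ⊔ MulAut.conj a • L : Subgroup H) : Set H)) at hxJ
  change CL.Loc.diagSub L a ⊔ Subgroup.zpowers x = L ⊔ MulAut.conj a • L
  set K := CL.Loc.diagSub L a ⊔ Subgroup.zpowers x
  obtain ⟨l, hl, m', hm', rfl⟩ := (CL.Loc.mem_sup_of_commutator_eq_bot hc).mp hxM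
  obtain ⟨m, hm, rfl⟩ : ∃ m ∈ L, m' = a * m * a⁻¹ :=
    ⟨a⁻¹ * m' * a, (CL.Grp.mem_conj_smul_iff a m' L).mp hm', by group⟩
  have e : l * (a * m * a⁻¹) = (l * m⁻¹) * (m * (a * m * a⁻¹)) := by group
  have hy : l * m⁻¹ ∈ L ⊓ K := by
    refine ⟨L.mul_mem hl (L.inv_mem hm), ?_⟩
    have := K.mul_mem (Subgroup.mem_sup_right (Subgroup.mem_zpowers _))
      (K.inv_mem (Subgroup.mem_sup_left (CL.Loc.mem_diagSub (x := a) hm)))
    rwa [e, mul_inv_cancel_right] at this
  have hn : L ≤ Subgroup.normalizer ((L ⊓ K : Subgroup H) : Set H) := by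
    refine CL.Loc.le_normalizer_of_diagSub_le_normalizer hc inf_le_left
      (CL.Grp.le_normalizer_inf ?_ (le_sup_left.trans Subgroup.le_normalizer))
    exact CL.Loc.diagSub_le_sup.trans (sup_le Subgroup.le_normalizer
      (CL.Grp.le_normalizer_of_le_centralizer (Subgroup.le_centralizer_iff.mp
        (Subgroup.commutator_eq_bot_iff_le_centralizer.mp hc))))
  rcases CL.Loc.IsQuasisimple.eq_or_commutator_eq_bot hL.2 inf_le_left hn with h | h
  · refine le_antisymm (sup_le CL.Loc.diagSub_le_sup ((Subgroup.zpowers_le).mpr hxM)) ?_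
    rw [← CL.Loc.sup_diagSub_eq]
    exact sup_le (h ▸ inf_le_right) le_sup_left
  · exfalso
    apply hxJ
    have h1 : l * m⁻¹ ∈ (L ⊔ MulAut.conj a • L) ⊓
        Subgroup.centralizer ((L ⊔ MulAut.conj a • L : Subgroup H) : Set H) := by
      rw [CL.Loc.sup_inf_centralizer_eq hc]
      exact Subgroup.mem_sup_left ⟨hy.1, Subgroup.commutator_eq_bot_iff_le_centralizer.mp h hy⟩
    rw [e]
    exact mul_mem (Subgroup.mem_sup_right h1) (Subgroup.mem_sup_left (CL.Loc.mem_diagSub hm))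

end Cfsg.Agent.S1921
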