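import Cfsg.Statements.S1922
import Cfsg.Agent.Inv.StrongEmb
import Cfsg.Agent.Even.Amb2
import Cfsg.Agent.Inv.BF3
import Cfsg.Agent.Loc.QuadBasic

set_option autoImplicit false
open Cfsg

namespace Cfsg.Agent.S1922

open CL.Inv in
/-- If conjugates of `z` and products of distinct commuting conjugates of `z` have at most one fixed point, then
the conjugates of `z` fixing a given point are odd in number. -/
theorem aux {G Ω : Type*} [Group G] [Finite G] [MulAction G Ω] {z : G} (hz : orderOf z = 2)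
    (h1 : ∀ k, IsConj z k → ∀ x y : Ω, k • x = x → k • y = y → x = y)
    (h1' : ∀ k, IsConj z k → ∃ x : Ω, k • x = x)
    (h2 : ∀ k l, IsConj z k → IsConj z l → k ≠ l → k * l = l * k →
      ∀ x y : Ω, (k * l) • x = x → (k * l) • y = y → x = y)
    {s : G} (hs : IsConj z s) {α ω : Ω} (hα : s • α = α) (hω : z • ω = ω) (hne : α ≠ ω) :
    Odd (Nat.card {t : G // IsConj z t ∧ t • ω = ω}) := by
  have sq : ∀ k, IsConj z k → k * k = 1 := fun k hk =>
    bf_mul_self_of_isConj hk (mul_self_of_orderOf_two hz)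
  have cj : ∀ k l, IsConj z k → IsConj z l → ∀ m : ℕ, IsConj z (k * (k * l) ^ m) := by
    intro k l hk hl m
    rcases Nat.even_or_odd' m with ⟨j, rfl | rfl⟩
    · refine hk.trans (isConj_iff.mpr ⟨k * (k * l) ^ (j : ℤ), ?_⟩)
      rw [mul_zpow_conj_of_inverts (sq k hk) (left_inverts_mul (sq k hk) (sq l hl)), ← zpow_natCast]
      push_cast; rfl
    · refine hl.trans (isConj_iff.mpr ⟨(k * l) ^ (-(j : ℤ)), ?_⟩)
      rw [zpow_conj_of_inverts (right_inverts_mul (sq k hk) (sq l hl)), pow_succ', ← mul_assoc, ← mul_assoc,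
        sq k hk, one_mul, ← zpow_natCast]
      congr 2
      push_cast; ring
  have fixc : ∀ k, IsConj z k → ∀ (c : G) (x : Ω), Commute c k → k • x = x → c • x = x :=
    fun k hk c x hc hx => h1 k hk _ _ (by rw [← mul_smul, ← hc.eq, mul_smul, hx]) hx
  have f3 : ∀ k l, IsConj z k → IsConj z l → Even (orderOf (k * l)) → ∀ x y : Ω,
      (k * l) ^ (orderOf (k * l) / 2) • x = x → (k * l) ^ (orderOf (k * l) / 2) • y = y → x = y := by
    intro k l hk hl he
    obtain ⟨e1, e2, -⟩ := half_pow_central (sq k hk) (sq l hl) (orderOf_pos _).ne' he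
    have := h2 k _ hk (cj k l hk hl (orderOf (k * l) / 2))
      (fun h => ne_one_of_orderOf_two e1 (by simpa using h)) (by rw [mul_assoc, e2.eq])
    rwa [← mul_assoc, sq k hk, one_mul] at this
  have f4 : ∀ k l, IsConj z k → IsConj z l → ∀ x y : Ω, k • x = x → l • y = y → x ≠ y →
      Odd (orderOf (k * l)) := fun k l hk hl x y hx hy hxy => Nat.not_even_iff_odd.mp fun he => by
    obtain ⟨-, e2, e3⟩ := half_pow_central (sq k hk) (sq l hl) (orderOf_pos _).ne' he
    exact hxy (f3 k l hk hl he x y (fixc k hk _ x e2 hx) (fixc l hl _ y e3 hy))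
  have sw : ∀ k, IsConj z k → k • α = ω → k • ω = α := fun k hk h => by
    rw [← h, ← mul_smul, sq k hk, one_smul]
  have surj : ∀ t, IsConj z t → t • ω = ω → ∃ k, IsConj z k ∧ k • α = ω ∧ k * s * k⁻¹ = t := by
    intro t ht htω
    obtain ⟨m, -, hm⟩ := exists_invol_conj_of_odd (sq s hs) (sq t ht) (f4 s t hs ht α ω hα htω hne)
    refine ⟨_, cj s t hs ht m, h1 t ht _ _ ?_ htω, hm⟩
    generalize s * (s * t) ^ m = k at hm
    rw [← hm, mul_smul, mul_smul, inv_smul_smul, hα]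
  have e1 : Nat.card {k : G // IsConj z k ∧ k • α = ω} = Nat.card {t : G // IsConj z t ∧ t • ω = ω} := by
    refine Nat.card_eq_of_bijective (fun k => ⟨k.1 * s * k.1⁻¹, hs.trans (isConj_iff.mpr ⟨_, rfl⟩), ?_⟩) ⟨?_, ?_⟩
    · obtain ⟨k, hk, hk'⟩ := k
      change (k * s * k⁻¹) • ω = ω
      rw [← hk', mul_smul, mul_smul, inv_smul_smul, hα]
    · rintro ⟨k, hk, hk'⟩ ⟨l, hl, hl'⟩ e
      have e' : k * s * k⁻¹ = l * s * l⁻¹ := congrArg Subtype.val e
      have ik := inv_eq_self_of_mul_self (sq k hk)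
      have il := inv_eq_self_of_mul_self (sq l hl)
      have c1 : s * (l * k) * s⁻¹ = l * k := by
        have c0 : s * (l⁻¹ * k) * s⁻¹ = l⁻¹ * k := by
          calc _ = l⁻¹ * (l * s * l⁻¹) * k * s⁻¹ := by group
            _ = _ := by rw [← e']; group
        rwa [il] at c0
      have c2 : Odd (orderOf (l * k)) := Nat.not_even_iff_odd.mp fun he => hne (f3 l k hl hk he α ω
        (MulAction.mem_stabilizer_iff.mp (Subgroup.pow_mem _ (by
          rw [MulAction.mem_stabilizer_iff, mul_smul, hk', sw l hl hl']) _))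
        (MulAction.mem_stabilizer_iff.mp (Subgroup.pow_mem _ (by
          rw [MulAction.mem_stabilizer_iff, mul_smul, sw k hk hk', hl']) _)))
      obtain ⟨x, hx⟩ := h1' k hk
      obtain ⟨n, hn⟩ := f4 s k hs hk α x hα hx fun h => hne (by rw [← hk', h, hx])
      have c3 : s * k * (l * k) * (s * k)⁻¹ = (l * k)⁻¹ := by
        calc _ = s * (k * (l * k) * k⁻¹) * s⁻¹ := by group
          _ = (s * (l * k) * s⁻¹)⁻¹ := by rw [right_inverts_mul (sq l hl) (sq k hk)]; group
          _ = _ := by rw [c1]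
      have c4 : Commute ((s * k) ^ 2) (l * k) := by
        refine mul_inv_eq_iff_eq_mul.mp ?_
        calc _ = s * k * (s * k * (l * k) * (s * k)⁻¹) * (s * k)⁻¹ := by rw [pow_two]; group
          _ = s * k * (l * k)⁻¹ * (s * k)⁻¹ := by rw [c3]
          _ = (s * k * (l * k) * (s * k)⁻¹)⁻¹ := by group
          _ = _ := by rw [c3, inv_inv]
      have c5 : Commute (s * k) (l * k) := by
        have h3 : (s * k)⁻¹ = ((s * k) ^ 2) ^ n := by
          rw [← pow_mul, inv_eq_iff_mul_eq_one, ← pow_succ', ← hn, pow_orderOf_eq_one]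
        exact Commute.inv_left_iff.mp (h3 ▸ c4.pow_left n)
      rw [c5.eq, mul_inv_cancel_right] at c3
      have c6 : orderOf (l * k) ∣ 2 := orderOf_dvd_of_pow_eq_one (by
        rw [pow_two]; exact mul_eq_one_iff_eq_inv.mpr c3)
      have c7 := orderOf_eq_one_iff.mp (Nat.eq_one_of_dvd_coprimes (Nat.coprime_two_right.mpr c2) dvd_rfl c6)
      exact Subtype.ext ((eq_inv_of_mul_eq_one_right c7).trans il)
    · rintro ⟨t, ht, ht'⟩
      obtain ⟨k, h3, h4, h5⟩ := surj t ht ht'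
      exact ⟨⟨k, h3, h4⟩, Subtype.ext h5⟩
  rw [← e1]
  obtain ⟨k₀, hk₀, hk₀', -⟩ := surj z (IsConj.refl z) hω
  have i₀ := inv_eq_self_of_mul_self (sq k₀ hk₀)
  let τ : Function.End {k : G // IsConj z k ∧ k • α = ω} := fun k =>
    ⟨k₀ * k.1 * k₀⁻¹, k.2.1.trans (isConj_iff.mpr ⟨_, rfl⟩), by
      rw [i₀, mul_smul, mul_smul, hk₀', sw _ k.2.1 k.2.2, hk₀']⟩
  have : Fact (Nat.Prime 2) := ⟨Nat.prime_two⟩
  have := Fintype.ofFinite {k : G // IsConj z k ∧ k • α = ω}
  classical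
  have e2 := Equiv.Perm.card_fixedPoints_modEq (f := τ) (p := 2) (n := 1) (by
    refine funext fun k => Subtype.ext ?_
    change k₀ * (k₀ * k.1 * k₀⁻¹) * k₀⁻¹ = k.1
    rw [i₀, ← mul_assoc, ← mul_assoc, sq k₀ hk₀, one_mul, mul_assoc, sq k₀ hk₀, mul_one])
  have e3 : Fintype.card τ.fixedPoints = 1 := by
    rw [Fintype.card_eq_one_iff]
    refine ⟨⟨⟨k₀, hk₀, hk₀'⟩, Subtype.ext (mul_inv_cancel_right _ _)⟩, fun k => Subtype.ext (Subtype.ext ?_)⟩
    by_contra hc
    refine hne (h2 _ _ hk₀ k.1.2.1 (Ne.symm hc) (mul_inv_eq_iff_eq_mul.mp (congrArg Subtype.val k.2)) α ω ?_ ?_)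
    · rw [mul_smul, k.1.2.2, sw _ hk₀ hk₀']
    · rw [mul_smul, sw _ k.1.2.1 k.1.2.2, hk₀']
  rw [e3] at e2
  rw [Nat.card_eq_fintype_card, Nat.odd_iff]
  exact e2

/-- Let z be an involution of a finite group G and H a proper subgroup such that z lies in gHg⁻¹ exactly when g ∈ H. Then the following are equivalent: (1) for every conjugate t ≠ z of z commuting with z, the product zt lies in gHg⁻¹ exactly when g ∈ H; (2) z lies in the centre of some Sylow 2-subgroup of G, and for every conjugate t ≠ z of z commuting with z, the centralizer of zt is contained in H. -/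
theorem result {G : Type*} [Group G] [Finite G] (z : G) (hz : orderOf z = 2) (H : Subgroup G) (hH : H ≠ ⊤)
    (h0 : ∀ g : G, z ∈ H.map (MulAut.conj g).toMonoidHom ↔ g ∈ H) :
    (∀ t : G, IsConj z t → t ≠ z → t * z = z * t → ∀ g : G, z * t ∈ H.map (MulAut.conj g).toMonoidHom ↔ g ∈ H) ↔
      ((∃ P : Sylow 2 G, z ∈ (Subgroup.center ↥(P : Subgroup G)).map (P : Subgroup G).subtype) ∧
        ∀ t : G, IsConj z t → t ≠ z → t * z = z * t → Subgroup.centralizer ({z * t} : Set G) ≤ H) := by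
  have h0' : ∀ g : G, g⁻¹ * z * g ∈ H ↔ g ∈ H := fun g => CL.Even.mem_cj.symm.trans (h0 g)
  have hzH : z ∈ H := by simpa using (h0' 1).mpr H.one_mem
  have hC : ∀ u ∈ H, (∀ g : G, u ∈ H.map (MulAut.conj g).toMonoidHom → g ∈ H) →
      Subgroup.centralizer {u} ≤ H := fun u hu h c hc => h c (CL.Even.mem_cj.mpr (by
    rwa [mul_assoc, ← Subgroup.mem_centralizer_singleton_iff.mp hc, inv_mul_cancel_left]))
  have hCz := hC z hzH fun g => (h0 g).mp
  have hzt : ∀ t : G, t * z = z * t → z * t ∈ H := fun t ht =>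
    H.mul_mem hzH (hCz (Subgroup.mem_centralizer_singleton_iff.mpr ht))
  constructor
  · intro h
    refine ⟨?_, fun t h1 h2 h3 => hC _ (hzt t h3) fun g => (h t h1 h2 h3 g).mp⟩
    have key : ∀ (u a : G), (∀ g : G, g⁻¹ * u * g ∈ H → g ∈ H) → ∀ x y : G ⧸ H,
        (a * u * a⁻¹) • x = x → (a * u * a⁻¹) • y = y → x = y := by
      intro u a hu x y hx hy
      obtain ⟨x, rfl⟩ := QuotientGroup.mk_surjective x
      obtain ⟨y, rfl⟩ := QuotientGroup.mk_surjective y
      rw [CL.Inv.SE.smul_mk_eq_iff] at hx hy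
      have h1 := hu (a⁻¹ * x) (by simpa [mul_assoc] using hx)
      have h2 := hu (a⁻¹ * y) (by simpa [mul_assoc] using hy)
      exact QuotientGroup.eq.mpr (by simpa [mul_assoc] using H.mul_mem (H.inv_mem h1) h2)
    have hω := (CL.Inv.SE.smul_one_eq_iff H z).mpr hzH
    have h1 : ∀ k, IsConj z k → ∀ x y : G ⧸ H, k • x = x → k • y = y → x = y := fun k hk => by
      obtain ⟨a, rfl⟩ := isConj_iff.mp hk
      exact key z a fun g => (h0' g).mp
    obtain ⟨g, hg⟩ : ∃ g, g ∉ H := by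
      by_contra hc
      push Not at hc
      exact hH (eq_top_iff.mpr fun g _ => hc g)
    have hD := aux (Ω := G ⧸ H) hz h1 (fun k hk => by
        obtain ⟨a, rfl⟩ := isConj_iff.mp hk
        exact ⟨a, (CL.Inv.SE.smul_mk_eq_iff H _ a).mpr (by simpa [mul_assoc] using hzH)⟩)
      (fun k l hk hl hkl hc => by
        obtain ⟨a, rfl⟩ := isConj_iff.mp hk
        obtain ⟨t, rfl⟩ : ∃ t, l = a * t * a⁻¹ := ⟨a⁻¹ * l * a, by group⟩
        rw [conj_mul]
        refine key _ a fun g hg => (h t (hl.trans (isConj_iff.mpr ⟨a⁻¹, by group⟩))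
          (fun e => hkl (by rw [e])) ?_ g).mp (CL.Even.mem_cj.mpr hg)
        rw [conj_mul, conj_mul, mul_left_inj, mul_right_inj] at hc
        exact hc.symm)
      (isConj_iff.mpr ⟨g, rfl⟩) (α := g)
      ((CL.Inv.SE.smul_mk_eq_iff H _ g).mpr (by simpa [mul_assoc] using hzH)) hω
      fun e => hg (by simpa using QuotientGroup.eq.mp e.symm)
    have hi : Odd H.index := CL.Inv.SE.odd_of_existsUnique (CL.Inv.mul_self_of_orderOf_two hz)
      ⟨_, hω, fun y hy => h1 z (IsConj.refl z) _ _ hy hω⟩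
    obtain ⟨S, hS⟩ := CL.Grp.exists_isSylowIn (p := 2) H
    obtain ⟨P, rfl⟩ := CL.Grp.isSylowIn_top_iff.mp (⟨le_top, hS.isPGroup, by
      rw [Subgroup.relIndex_top_right, ← Subgroup.relIndex_mul_index hS.le, Nat.prime_two.dvd_mul]
      exact fun h => h.elim hS.not_dvd hi.not_two_dvd_nat⟩ : CL.Grp.IsSylowIn 2 S ⊤)
    let : MulAction (P : Subgroup G) {t : G // IsConj z t ∧ t • ((1 : G) : G ⧸ H) = ((1 : G) : G ⧸ H)} :=
      { smul := fun s t => ⟨s * t.1 * (s : G)⁻¹, t.2.1.trans (isConj_iff.mpr ⟨_, rfl⟩),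
          (CL.Inv.SE.smul_one_eq_iff H _).mpr (H.mul_mem (H.mul_mem (hS.le s.2)
            ((CL.Inv.SE.smul_one_eq_iff H _).mp t.2.2)) (H.inv_mem (hS.le s.2)))⟩
        one_smul := fun t => Subtype.ext (show ((1 : G) * t.1 * (1 : G)⁻¹) = t.1 by simp)
        mul_smul := fun a b t => Subtype.ext
          (show (a : G) * b * t.1 * ((a : G) * b)⁻¹ = a * (b * t.1 * (b : G)⁻¹) * (a : G)⁻¹ by group) }
    obtain ⟨t, ht⟩ := P.isPGroup'.nonempty_fixed_point_of_prime_not_dvd_card _ hD.not_two_dvd_nat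
    have h2 : ∀ s ∈ (P : Subgroup G), s * t.1 = t.1 * s := fun s hs =>
      mul_inv_eq_iff_eq_mul.mp (congrArg Subtype.val (ht ⟨s, hs⟩))
    obtain ⟨a, ha⟩ := isConj_iff.mp t.2.1
    have h3 : ((a⁻¹ • P : Sylow 2 G) : Subgroup G) ≤ Subgroup.centralizer {z} := fun s hs => by
      have := h2 _ ((CL.Grp.mem_sylow_smul_iff a⁻¹ s P).mp hs)
      rw [← ha, inv_inv, conj_mul, conj_mul, mul_left_inj, mul_right_inj] at this
      exact Subgroup.mem_centralizer_singleton_iff.mpr this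
    have h4 : z ∈ ((a⁻¹ • P : Sylow 2 G) : Subgroup G) :=
      (CL.Grp.isSylowIn_of_le _ h3).le_of_normalized (CL.Inv.SE.isPGroup_zpowers_of_inv hz)
        (Subgroup.zpowers_le.mpr (Subgroup.mem_centralizer_singleton_iff.mpr rfl))
        (by rw [← CL.Loc.centralizer_zpowers_eq]; exact CL.Even.cent_le_norm _) (Subgroup.mem_zpowers z)
    exact ⟨a⁻¹ • P, ⟨z, h4⟩, Subgroup.mem_center_iff.mpr fun s =>
      Subtype.ext (Subgroup.mem_centralizer_singleton_iff.mp (h3 s.2)), rfl⟩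
  · rintro ⟨⟨P, ⟨z, hzP⟩, hzc, rfl⟩, h⟩ t h1 h2 h3 g
    refine ⟨fun hg => ?_, fun hg => by rw [CL.Even.cj_eq (Subgroup.le_normalizer hg)]; exact hzt t h3⟩
    have hPC : (P : Subgroup G) ≤ Subgroup.centralizer {z} := fun s hs =>
      Subgroup.mem_centralizer_singleton_iff.mpr
        (congrArg Subtype.val (Subgroup.mem_center_iff.mp hzc ⟨s, hs⟩))
    have hz' : z * z = 1 := CL.Inv.mul_self_of_orderOf_two hz
    have h3' : t * z = z * t := h3
    have h4 : (g⁻¹ * (z * t) * g) ^ 2 ^ 1 = 1 := by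
      calc _ = g⁻¹ * (z * (t * z) * t) * g := by rw [pow_one, pow_two]; group
        _ = 1 := by
          rw [h3', ← mul_assoc z z, hz', one_mul, CL.Inv.bf_mul_self_of_isConj h1 hz']; group
    obtain ⟨m, hm, h5⟩ := CL.Even.syl_conj_le (CL.Grp.isSylowIn_of_le P (hPC.trans hCz))
      (CL.Even.isPGroup_zpowers h4) (Subgroup.zpowers_le.mpr (CL.Even.mem_cj.mp hg))
    have h6 := Subgroup.mem_centralizer_singleton_iff.mp
      (hPC (h5 (CL.Even.conj_mem_cj m (Subgroup.mem_zpowers _))))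
    have h7 : (m * g⁻¹)⁻¹ * z * (m * g⁻¹) ∈ H := by
      refine h t h1 h2 h3 (Subgroup.mem_centralizer_singleton_iff.mpr ?_)
      change _ * (z * t) = (z * t) * _
      calc _ = (m * g⁻¹)⁻¹ * (z * (m * (g⁻¹ * (z * t) * g) * m⁻¹)) * (m * g⁻¹) := by group
        _ = _ := by rw [← h6]; group
    simpa using H.mul_mem (H.inv_mem ((h0' _).mp h7)) hm

end Cfsg.Agent.S1922
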