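import Cfsg.Statements.S1930
import Cfsg.Agent.QAct.Kinf
import Cfsg.Agent.Loc.FStar

set_option autoImplicit false
open Cfsg

namespace Cfsg.Agent.S1930

/-- Inside a finite group let G be a nontrivial subgroup and R an r-subgroup (r a prime) normalizing G, with the order of G prime to r. Let p > 3 be a prime with F*(G) = O_p(G), and let P be the intersection of all R-invariant Sylow p-subgroups of G. Then P has a nontrivial characteristic subgroup that is normalized by G. -/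
theorem result {X : Type*} [Group X] [Finite X] (G R : Subgroup X) (r : ℕ) [Fact r.Prime] (hR : IsPGroup r ↥R) (hcop : (Nat.card ↥G).Coprime r) (hnorm : R ≤ Subgroup.normalizer (G : Set X)) (hG : G ≠ ⊥) (p : ℕ) [Fact p.Prime] (hp : 3 < p) (hF : Cfsg.generalizedFittingSubgroup ↥G = Cfsg.pCore p ↥G) (P : Subgroup X) (hP : P = ⨅ S : {S : Sylow p ↥G // ∀ a ∈ R, ((S : Subgroup ↥G).map G.subtype).map (MulAut.conj a).toMonoidHom = (S : Subgroup ↥G).map G.subtype}, ((S : Sylow p ↥G) : Subgroup ↥G).map G.subtype) : ∃ C : Subgroup ↥P, C.Characteristic ∧ C ≠ ⊥ ∧ G ≤ Subgroup.normalizer ((C.map P.subtype : Subgroup X) : Set X) := by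
  obtain ⟨n, hn⟩ := hR.exists_card_eq
  have hc : (Nat.card R).Coprime (Nat.card G) := hn ▸ hcop.symm.pow_left n
  have hs : Group.IsSolvable R ∨ Group.IsSolvable G := Or.inl (have := hR.isNilpotent; inferInstance)
  have hmem : ∀ x, x ∈ P ↔ ∀ S, CL.Grp.IsSylowIn p S G → R ≤ Subgroup.normalizer (S : Set X) → x ∈ S := by
    intro x
    rw [hP, Subgroup.mem_iInf]
    refine ⟨fun h S hS hRS => ?_, fun h S => h _ (CL.Grp.isSylowIn_map_subtype S.1) fun a ha =>
      Subgroup.mem_normalizer_iff_map_conj_eq.2 (S.2 a ha)⟩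
    obtain ⟨T, rfl⟩ := CL.Grp.isSylowIn_iff_exists.1 hS
    exact h ⟨T, fun a ha => Subgroup.mem_normalizer_iff_map_conj_eq.1 (hRS ha)⟩
  obtain ⟨S, hS, hRS⟩ := CL.Grp.exists_isSylowIn_le_normalizer p hnorm hc hs
  have hPS : P ≤ S := fun x hx => (hmem x).1 hx S hS hRS
  have h : CL.QAct.Inv p G R P := ⟨hnorm, hc, hs, hPS.trans hS.le, hS.isPGroup.to_le hPS,
    fun a ha => Subgroup.mem_normalizer_fintype fun x hx => (hmem _).2 fun T hT hRT =>
      (Subgroup.mem_normalizer_iff.1 (hRT ha) x).1 ((hmem x).1 hx T hT hRT),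
    fun c hc => Subgroup.mem_normalizer_fintype fun x hx => (hmem _).2 fun T hT hRT => by
      have := (hmem x).1 hx _ (hT.conj_smul_of_mem (G.inv_mem hc.1)) fun a ha => by
        rw [CL.Grp.normalizer_conj_smul, CL.Grp.mem_conj_smul_iff, inv_inv, ← hc.2 a ha, mul_inv_cancel_right]
        exact hRT ha
      rwa [CL.Grp.mem_conj_smul_iff, inv_inv] at this⟩
  have h1 : G ⊓ Subgroup.centralizer (pCoreOf p G : Set X) ≤ pCoreOf p G := fun x hx =>
    ⟨⟨x, hx.1⟩, hF ▸ CL.Loc.centralizer_fstar_le fun y hy => Subtype.ext (hx.2 _ ⟨y, hF ▸ hy, rfl⟩), rfl⟩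
  have h2 : pCoreOf p G ≤ P := fun x hx => (hmem x).2 fun T hT _ =>
    hT.le_of_normalized (CL.Grp.pCoreOf_isPGroup p G) (CL.Grp.pCoreOf_le p G) (CL.Grp.le_normalizer_pCoreOf p G) hx
  refine ⟨kInfLower P, inferInstance, (CL.Loc.isCharPFunctor_kInfLower p).1 P h.pg
    ((Subgroup.nontrivial_iff_ne_bot P).2 fun e => hG ?_), h.kInf_norm ((Fact.out : p.Prime).five_le_of_ne_two_of_ne_three (by omega) (by omega)) h1 h2⟩
  have h3 : pCoreOf p G = ⊥ := le_bot_iff.1 (e ▸ h2)
  rw [h3] at h1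
  exact eq_bot_iff.2 fun x hx => h1 ⟨hx, fun y hy => by rw [Subgroup.mem_bot.1 hy, one_mul, mul_one]⟩

end Cfsg.Agent.S1930
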