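import Cfsg.Statements.S1944
import Cfsg.Agent.S1907
import Cfsg.Agent.Even.Trace

set_option autoImplicit false
open Cfsg

namespace Cfsg.Agent.S1944

/-- Let S be a Sylow p-subgroup of the finite group G and suppose that the centre Z(S) lies in O_{p',p}(G). The elements of S each of which is its only G-conjugate in S form a subgroup W of Z(S); W is then a direct factor of Z(S): there is a subgroup K of Z(S) with W ∩ K = 1 and WK = Z(S). -/
theorem result {G : Type*} [Group G] [Finite G] {p : ℕ} [Fact p.Prime] (S : Sylow p G)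
    (hZ : ((S : Subgroup G) ⊓ Subgroup.centralizer ((S : Subgroup G) : Set G)) ≤ Cfsg.pPrimePCore p G) :
    ∃ W K : Subgroup G, (∀ x : G, x ∈ W ↔ (x ∈ (S : Subgroup G) ∧ ∀ g : G, g * x * g⁻¹ ∈ (S : Subgroup G) → g * x * g⁻¹ = x)) ∧
      K ≤ ((S : Subgroup G) ⊓ Subgroup.centralizer ((S : Subgroup G) : Set G)) ∧ W ⊓ K = ⊥ ∧ W ⊔ K = ((S : Subgroup G) ⊓ Subgroup.centralizer ((S : Subgroup G) : Set G)) := by
  set H := (S : Subgroup G) ⊓ Cfsg.pPrimePCore p G with hH
  let N := Subgroup.normalizer (H : Set G)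
  let V := H ⊓ Subgroup.centralizer (H : Set G)
  have hNV : N ≤ Subgroup.normalizer (V : Set G) :=
    CL.Even.le_norm_inf le_rfl (CL.Even.norm_le_norm_cent H)
  have hVV : V ≤ Subgroup.centralizer (V : Set G) := inf_le_right.trans (CL.Even.cent_mono inf_le_left)
  have hVS : V ≤ S := inf_le_left.trans inf_le_left
  have hSN : (S : Subgroup G) ≤ N :=
    CL.Even.le_norm_inf Subgroup.le_normalizer Subgroup.le_normalizer_of_normal
  have hZV : (S : Subgroup G) ⊓ Subgroup.centralizer ((S : Subgroup G) : Set G) ≤ V :=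
    le_inf (le_inf inf_le_left hZ) (inf_le_right.trans (CL.Even.cent_mono inf_le_left))
  obtain ⟨τ, h1, h2, -⟩ := CL.Even.exists_trace (S : Subgroup G) hVV hNV
  have hm : ¬ p ∣ (S : Subgroup G).relIndex N := (CL.Grp.isSylowIn_of_le S hSN).not_dvd
  have h3 : ∀ z : V, (z : G) ∈ Subgroup.centralizer (N : Set G) →
      τ z = z ^ (S : Subgroup G).relIndex N := fun z hz => by
    have := h2 z ⊥ fun c hc => commutatorElement_eq_one_iff_mul_comm.mpr (CL.Even.comm_of_mem hz hc)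
    exact Subtype.ext (mul_inv_eq_one.mp this)
  have hWZ : V ⊓ Subgroup.centralizer (N : Set G) ≤
      (S : Subgroup G) ⊓ Subgroup.centralizer ((S : Subgroup G) : Set G) :=
    inf_le_inf hVS (CL.Even.cent_mono hSN)
  refine ⟨V ⊓ Subgroup.centralizer (N : Set G), ((S : Subgroup G) ⊓
    Subgroup.centralizer ((S : Subgroup G) : Set G)) ⊓ τ.ker.map V.subtype, fun x => ⟨fun hx => ⟨hVS hx.1,
    fun g hg => ?_⟩, fun hx => ?_⟩, inf_le_left, ?_, le_antisymm (sup_le hWZ inf_le_left) fun x hx => ?_⟩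
  · obtain ⟨n, hn, e⟩ := (Cfsg.Agent.S1907.result S).2 x _ (hVS hx.1) hg (isConj_iff.mpr ⟨g, rfl⟩)
    rw [← e, CL.Even.comm_of_mem hx.2 hn, mul_inv_cancel_right]
  · have h4 : x ∈ V := hZV ⟨hx.1, fun s hs => mul_inv_eq_iff_eq_mul.mp
      (hx.2 s (S.1.mul_mem (S.1.mul_mem hs hx.1) (S.1.inv_mem hs)))⟩
    exact ⟨h4, fun n hn => mul_inv_eq_iff_eq_mul.mp (hx.2 n (hVS (CL.Even.conj_mem (hNV hn) h4)))⟩
  · rw [eq_bot_iff]
    rintro _ ⟨hx, -, z, hz, rfl⟩
    refine CL.Even.mem_of_pow_mem_of_not_dvd S.isPGroup' (hVS z.2) hm ?_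
    exact congrArg Subtype.val ((h3 z hx.2).symm.trans hz)
  · refine CL.Even.mem_of_pow_mem_of_not_dvd S.isPGroup' hx.1 hm ?_
    let z : V := ⟨x, hZV hx⟩
    have h4 : (τ z : G) ∈ V ⊓ Subgroup.centralizer (N : Set G) := ⟨(τ z).2, h1 z hx.2⟩
    have h5 : x ^ (S : Subgroup G).relIndex N = τ z * ((τ z : G)⁻¹ * x ^ (S : Subgroup G).relIndex N) := by
      group
    rw [h5]
    refine Subgroup.mul_mem _ (Subgroup.mem_sup_left h4) (Subgroup.mem_sup_right
      ⟨Subgroup.mul_mem _ (inv_mem (hWZ h4)) (pow_mem hx _), (τ z)⁻¹ * z ^ _, ?_, rfl⟩)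
    rw [SetLike.mem_coe, MonoidHom.mem_ker, map_mul, map_inv, map_pow, h3 _ h4.2, inv_mul_cancel]

end Cfsg.Agent.S1944
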