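import Cfsg.Statements.S1954
import Cfsg.Agent.Loc.FusSC

set_option autoImplicit false
open Cfsg

namespace Cfsg.Agent.S1954

/-- Let N be a normal subgroup of the finite group G, P a Sylow p-subgroup of G, and V a subgroup of P ∩ N normal in P ∩ N such that N_N(V) controls strong fusion in P ∩ N with respect to N (whenever a subgroup A of P ∩ N has n A n⁻¹ ≤ P ∩ N for some n in N, then n = h c with h in N_N(V) and c in C_N(A)). Let W be the subgroup generated by the conjugates of V under N_G(P ∩ N). Then N_G(W) controls strong fusion in P with respect to G. -/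
theorem result {G : Type*} [Group G] [Finite G] {p : ℕ} [Fact p.Prime] (N : Subgroup G) [N.Normal] (P : Sylow p G) (V : Subgroup G)
    (hV : V ≤ (P : Subgroup G) ⊓ N) (hVn : ∀ x ∈ (P : Subgroup G) ⊓ N, V.map (MulAut.conj x).toMonoidHom = V)
    (hctrl : ∀ A : Subgroup G, A ≤ (P : Subgroup G) ⊓ N → ∀ n ∈ N, A.map (MulAut.conj n).toMonoidHom ≤ (P : Subgroup G) ⊓ N →
      ∃ h ∈ N ⊓ Subgroup.normalizer (V : Set G), ∃ c ∈ N ⊓ Subgroup.centralizer (A : Set G), n = h * c)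
    (W : Subgroup G) (hW : W = Subgroup.closure (⋃ x ∈ Subgroup.normalizer (((P : Subgroup G) ⊓ N : Subgroup G) : Set G),
      ((V.map (MulAut.conj x).toMonoidHom : Subgroup G) : Set G))) :
    ∀ A : Subgroup G, A ≤ (P : Subgroup G) → ∀ g : G, A.map (MulAut.conj g).toMonoidHom ≤ (P : Subgroup G) →
        ∃ h ∈ Subgroup.normalizer (W : Set G), ∃ c ∈ Subgroup.centralizer (A : Set G), g = h * c := by
  have hP0 : CL.Grp.IsSylowIn p ((P : Subgroup G) ⊓ N) N :=
    (CL.Grp.isSylowIn_top P).inf_of_normalized le_top Subgroup.le_normalizer_of_normal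
  generalize hP₀ : (P : Subgroup G) ⊓ N = P₀ at *
  let C : Subgroup G → Prop := fun U => U ≤ P₀ ∧ ∀ A : Subgroup G, A ≤ P₀ → ∀ n ∈ N, A.map (MulAut.conj n).toMonoidHom ≤ P₀ →
    ∃ h ∈ N ⊓ Subgroup.normalizer (U : Set G), ∃ c ∈ N ⊓ Subgroup.centralizer (A : Set G), n = h * c
  have C1 : ∀ x ∈ Subgroup.normalizer (P₀ : Set G), C (V.map (MulAut.conj x).toMonoidHom) := by
    intro x hx
    refine ⟨CL.Even.cj_le_of_le hV hx, fun A hA n hn hnA => ?_⟩
    obtain ⟨h, hh, c, hc, e⟩ := hctrl (A.map (MulAut.conj x⁻¹).toMonoidHom) (CL.Even.cj_le_of_le hA (Subgroup.inv_mem _ hx))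
      (x⁻¹ * n * x) (Subgroup.Normal.conj_mem' inferInstance n hn x) (by
        rw [← CL.Even.cj_mul, mul_inv_cancel_right, CL.Even.cj_mul]
        exact CL.Even.cj_le_of_le hnA (Subgroup.inv_mem _ hx))
    refine ⟨x * h * x⁻¹, ⟨Subgroup.Normal.conj_mem inferInstance h hh.1 x, ?_⟩, x * c * x⁻¹,
      ⟨Subgroup.Normal.conj_mem inferInstance c hc.1 x, ?_⟩, by rw [conj_mul, ← e]; group⟩
    · rw [← CL.Even.cj_norm]; exact CL.Even.conj_mem_cj x hh.2
    · have := CL.Even.conj_mem_cj x hc.2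
      rwa [CL.Even.cj_cent, CL.Even.cj_cj_inv] at this
  have C2 : ∀ U U', C U → C U' → C (U ⊔ U') := by
    intro U U' hU hU'
    refine ⟨sup_le hU.1 hU'.1, fun A hA n hn hnA => ?_⟩
    obtain ⟨h, hh, c, hc, rfl⟩ := hU.2 A hA n hn hnA
    rw [CL.Even.cj_mul, CL.Even.cj_eq (CL.Even.cent_le_norm A hc.2)] at hnA
    obtain ⟨h', hh', c', hc', rfl⟩ := hU'.2 (A ⊔ U) (sup_le hA hU.1) h hh.1 (by
      rw [CL.Even.cj_sup, CL.Even.cj_eq hh.2]; exact sup_le hnA hU.1)
    have h1 : h' ∈ Subgroup.normalizer (U : Set G) := by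
      simpa using Subgroup.mul_mem _ hh.2 (Subgroup.inv_mem _
        (CL.Even.cent_le_norm U (Subgroup.centralizer_le (le_sup_right (a := A) (b := U)) hc'.2)))
    exact ⟨h', ⟨hh'.1, CL.Even.le_norm_sup (L := Subgroup.zpowers h') (Subgroup.zpowers_le.mpr h1)
      (Subgroup.zpowers_le.mpr hh'.2) (Subgroup.mem_zpowers h')⟩, c' * c,
      Subgroup.mul_mem _ ⟨hc'.1, Subgroup.centralizer_le (le_sup_left (a := A) (b := U)) hc'.2⟩ hc, mul_assoc _ _ _⟩
  have hVW : ∀ x ∈ Subgroup.normalizer (P₀ : Set G), V.map (MulAut.conj x).toMonoidHom ≤ W := fun x hx a ha =>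
    hW ▸ Subgroup.subset_closure (Set.mem_biUnion hx ha)
  have hWle : ∀ U : Subgroup G, (∀ x ∈ Subgroup.normalizer (P₀ : Set G), V.map (MulAut.conj x).toMonoidHom ≤ U) → W ≤ U :=
    fun U h => hW ▸ (Subgroup.closure_le _).mpr (Set.iUnion₂_subset h)
  have CW : C W := by
    obtain ⟨U, -, hU⟩ := Finite.exists_le_maximal (p := fun U => C U ∧ U ≤ W) ⟨C1 1 (one_mem _), hVW 1 (one_mem _)⟩
    rw [← le_antisymm hU.1.2 (hWle U fun x hx => le_sup_right.trans
      (hU.2 ⟨C2 _ _ hU.1.1 (C1 x hx), sup_le hU.1.2 (hVW x hx)⟩ le_sup_left))]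
    exact hU.1.1
  have hn : Subgroup.normalizer (P₀ : Set G) ≤ Subgroup.normalizer (W : Set G) :=
    CL.Even.le_norm_of_cj_le fun g hg => CL.Even.cj_le_iff.mpr (hWle _ fun x hx => by
      rw [← CL.Even.cj_le_iff, ← CL.Even.cj_mul]; exact hVW _ (Subgroup.mul_mem _ hg hx))
  have sc : ∀ Z : Subgroup G, Z ≤ W → Subgroup.normalizer (W : Set G) ≤ Subgroup.normalizer (Z : Set G) →
      IsStronglyClosed Z (P : Subgroup G) := by
    intro Z hZ hZn
    have hZ0 := hZ.trans CW.1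
    refine ⟨hZ0.trans (hP₀.ge.trans inf_le_left), fun a ha g hg => ?_⟩
    obtain ⟨x, hx, n, hnN, rfl⟩ := CL.Even.frattini_mul hP0 le_top Subgroup.le_normalizer_of_normal
      (Subgroup.mem_top g)
    have h1 : x * n * a * (x * n)⁻¹ ∈ P₀ :=
      hP₀.le ⟨hg, Subgroup.Normal.conj_mem inferInstance a (hP0.le (hZ0 ha)) _⟩
    obtain ⟨h, hh, c, hc, rfl⟩ := CW.2 (Subgroup.zpowers a) (Subgroup.zpowers_le.mpr (hZ0 ha)) n hnN (by
      rw [CL.Even.cj_le_iff, Subgroup.zpowers_le, CL.Even.mem_cj]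
      simpa [mul_assoc] using CL.Even.conj_mem' hx.2 h1)
    have h2 := CL.Even.conj_mem (hZn (Subgroup.mul_mem _ (hn hx.2) hh.2)) ha
    have h3 := hc.2 a (Subgroup.mem_zpowers a)
    convert h2 using 1
    calc _ = x * h * (c * a) * c⁻¹ * (x * h)⁻¹ := by group
      _ = _ := by rw [← h3]; group
  obtain ⟨n, hn'⟩ := CL.Loc.exists_le_map_upperCentralSeries (hP0.isPGroup.to_le CW.1)
  refine CL.Loc.ctl_of_sc_chain P (fun i => (Subgroup.upperCentralSeries W i).map W.subtype) (by simp)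
    (fun i => sc _ (Subgroup.map_subtype_le _) (CL.Grp.normalizer_le_normalizer_map_subtype _))
    (sc W le_rfl le_rfl) hn' fun i => Subgroup.commutator_le.mpr fun a ha x hx =>
      CL.Loc.commutatorElement_mem_map_upperCentralSeries ha hx

end Cfsg.Agent.S1954
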