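import Cfsg.Statements.S2038
import Cfsg.Agent.Known.PcCM24
import Cfsg.Agent.Known.MathieuIso

set_option autoImplicit false
open Cfsg

namespace Cfsg.Agent.S2038

/-- The Schur multiplier of the Mathieu group M₂₄ (the automorphism group of the length-24 binary code) is trivial; here the Schur multiplier is described through stem extensions, as in the definitions: surjective homomorphisms onto the group from a finite group, whose kernel is central in that finite group and contained in that finite group's commutator subgroup. -/
theorem result : Cfsg.HasCyclicSchurMultiplier ↥Cfsg.M24 1 := by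
  have hc := CL.Spor.card_M24
  refine CL.Pc.trivial_of_bounds [2, 3, 5, 7, 11, 23] ?_ 10 (by rw [hc]; decide +kernel)
  simp only [List.mem_cons, List.not_mem_nil, or_false]
  rintro p (rfl | rfl | rfl | rfl | rfl | rfl)
  · exact ⟨by norm_num, CL.Pc.M24p2.bound (by rw [hc]; decide +kernel)⟩
  · exact ⟨by norm_num, CL.Pc.M24p3.bound (by rw [hc]; decide +kernel)⟩
  all_goals exact ⟨by norm_num, CL.Pc.PBound.of_not_sq_dvd (by norm_num) (by rw [hc]; decide +kernel)⟩

end Cfsg.Agent.S2038
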