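import Cfsg.Statements.S2221
import Cfsg.Agent.Known.AltSylDec
import Cfsg.Agent.Known.AltSelfNorm

set_option autoImplicit false
open Cfsg
open scoped Pointwise

namespace Cfsg.Agent.S2221

/-- Direct decomposability of the Sylow 2-subgroups of the alternating groups. Let n ≥ 4 and let P be a Sylow 2-subgroup of the alternating group of degree n. Then P is the internal direct product of two nontrivial subgroups if and only if n = 4, n = 5, or n ≡ 2, 3 (mod 4) with 4⌊n/4⌋ not a power of 2. In the remaining cases (n ≡ 0, 1 (mod 4) with n ≥ 8, or n ≡ 2, 3 (mod 4) with 4⌊n/4⌋ a power of 2) P is directly indecomposable. -/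
theorem result (n : ℕ) (hn : 4 ≤ n)
    (P : Sylow 2 (alternatingGroup (Fin n))) :
    (∃ S₁ S₂ : Subgroup (alternatingGroup (Fin n)), S₁ ≠ ⊥ ∧ S₂ ≠ ⊥ ∧
        Cfsg.IsInternalDirectProduct S₁ S₂ (P : Subgroup (alternatingGroup (Fin n)))) ↔
      (n = 4 ∨ n = 5 ∨ ((n % 4 = 2 ∨ n % 4 = 3) ∧ ∀ r : ℕ, 4 * (n / 4) ≠ 2 ^ r)) := by
  have := Fact.mk Nat.prime_two
  refine (CL.Known.SylDec.dec_map (alternatingGroup (Fin n)).subtype_injective _).symm.trans ?_
  have hP := CL.Grp.isSylowIn_map_subtype P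
  obtain ⟨T, hT, e⟩ := CL.Known.exists_sylow_inf_alt_eq hP
  obtain ⟨Q, hQ⟩ := CL.Grp.exists_isSylowIn (p := 2) (⊤ : Subgroup (Equiv.Perm (Fin (n / 2))))
  obtain ⟨ι, rfl⟩ := CL.Known.exists_WR_eq hT (Fin (n / 2)) (by simp) hQ
  rw [← e, CL.Known.SylDec.dec_iff hQ (hT.isPGroup.to_le inf_le_left) (by simp; omega), Fintype.card_fin, Nat.odd_iff,
    ← or_assoc]
  refine or_congr (by omega) ⟨fun ⟨h1, h2⟩ => ⟨by omega, fun r hr => ?_⟩, fun ⟨h1, h2⟩ => ⟨by omega, fun r hr => ?_⟩⟩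
  · obtain _ | r := r
    · omega
    · exact h2 r (by omega)
  · exact h2 (r + 1) (by omega)

end Cfsg.Agent.S2221
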