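import Cfsg.Statements.S2245
import Cfsg.Agent.Known.AltSylowMax

set_option autoImplicit false
open Cfsg

namespace Cfsg.Agent.S2245

theorem not_pow {n : ℕ} (hn : 5 ≤ n) (hc : ¬ ∃ k : ℕ, 2 ≤ k ∧ n = 2 ^ k + 1) (k : ℕ) :
    Nat.card (Fin n) ≠ 2 ^ k + 1 := by
  intro e
  rw [Nat.card_eq_fintype_card, Fintype.card_fin] at e
  refine hc ⟨k, ?_, e⟩
  by_contra h
  have : k ≤ 1 := by omega
  have := Nat.pow_le_pow_right (n := 2) (by norm_num) this
  omega

theorem not_alt_le {n : ℕ} (hn : 5 ≤ n) (x : Fin n) :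
    ¬ alternatingGroup (Fin n) ≤ MulAction.stabilizer (Equiv.Perm (Fin n)) x := by
  intro h
  haveI : Nontrivial (Fin n) := Fin.nontrivial_iff_two_le.2 (by omega)
  obtain ⟨y, hy⟩ := exists_ne x
  obtain ⟨g, rfl⟩ := (alternatingGroup.isPretransitive_of_three_le_card (Fin n) (by simp; omega)).exists_smul_eq x y
  exact hy (h g.2)

theorem eq_top_of {n : ℕ} (hn : 2 ≤ n) (R : Sylow 2 (Equiv.Perm (Fin n))) {K : Subgroup (Equiv.Perm (Fin n))}
    (h1 : alternatingGroup (Fin n) ≤ K) (h2 : (R : Subgroup (Equiv.Perm (Fin n))) ≤ K) : K = ⊤ := by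
  haveI : Nontrivial (Fin n) := Fin.nontrivial_iff_two_le.2 hn
  have e1 := Subgroup.index_dvd_of_le h1
  have e2 := Subgroup.index_dvd_of_le h2
  rw [alternatingGroup.index_eq_two] at e1
  rcases (Nat.dvd_prime Nat.prime_two).1 e1 with h | h
  · exact Subgroup.index_eq_one.1 h
  · rw [h] at e2
    exact absurd e2 R.not_dvd_index

/-- For n ≥ 5 with n ≠ 6, a Sylow 2-subgroup of the alternating group A_n lies in exactly one maximal subgroup of A_n if and only if n = 2^k + 1 for some k ≥ 2; the same holds for the symmetric group S_n. -/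
theorem result (n : ℕ) (hn : 5 ≤ n) (h6 : n ≠ 6) :
    ((∀ R : Sylow 2 ↥(alternatingGroup (Fin n)), (∃! M : Subgroup ↥(alternatingGroup (Fin n)), IsCoatom M ∧ (R : Subgroup ↥(alternatingGroup (Fin n))) ≤ M) ↔ ∃ k : ℕ, 2 ≤ k ∧ n = 2 ^ k + 1) ∧
    (∀ R : Sylow 2 (Equiv.Perm (Fin n)), (∃! M : Subgroup (Equiv.Perm (Fin n)), IsCoatom M ∧ (R : Subgroup (Equiv.Perm (Fin n))) ≤ M) ↔ ∃ k : ℕ, 2 ≤ k ∧ n = 2 ^ k + 1)) := by
  have hcard : Nat.card (Fin n) = n := by simp
  constructor
  · intro R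
    obtain ⟨P, hP, e⟩ := CL.Known.exists_sylow_inf_alt_eq (CL.Grp.isSylowIn_map_subtype R)
    have hle : ∀ K : Subgroup (Equiv.Perm (Fin n)), P ≤ K →
        (R : Subgroup (alternatingGroup (Fin n))) ≤ K.subgroupOf (alternatingGroup (Fin n)) := by
      intro K hK g hg
      have : (g : Equiv.Perm (Fin n)) ∈ P ⊓ alternatingGroup (Fin n) := e ▸ ⟨g, hg, rfl⟩
      exact hK this.1
    constructor
    · intro h
      by_contra hc
      obtain ⟨K1, K2, h1, h2, n1, n2, hs⟩ := CL.Known.sylow_two_two_overgroups (by omega) (not_pow hn hc) hP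
      refine CL.Known.not_existsUnique_coatom (fun e => n1 (Subgroup.subgroupOf_eq_top.1 e))
        (fun e => n2 (Subgroup.subgroupOf_eq_top.1 e)) (hle K1 h1) (hle K2 h2) ?_ h
      rw [← Subgroup.inf_subgroupOf_right K1, ← Subgroup.inf_subgroupOf_right K2,
        ← Subgroup.subgroupOf_sup inf_le_right inf_le_right, Subgroup.subgroupOf_eq_top]
      exact hs
    · rintro ⟨k, hk, hnk⟩
      obtain ⟨x, hx, hu⟩ := CL.Known.sylow_two_unique_point hk hnk hP
      refine CL.Known.existsUnique_coatom (M := (MulAction.stabilizer (Equiv.Perm (Fin n)) x).subgroupOf _)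
        (fun e => not_alt_le hn x (Subgroup.subgroupOf_eq_top.1 e)) (hle _ hx) fun K hK => ?_
      by_cases hf : ∀ g ∈ K, (g : Equiv.Perm (Fin n)) x = x
      · exact Or.inr hf
      · push Not at hf
        obtain ⟨g, hg, hgx⟩ := hf
        have := hu (K.map (alternatingGroup (Fin n)).subtype) (e ▸ Subgroup.map_mono hK) ⟨g, ⟨g, hg, rfl⟩, hgx⟩
        left
        rw [eq_top_iff]
        intro a _
        exact (Subgroup.mem_map_iff_mem (alternatingGroup (Fin n)).subtype_injective).1 (this a.2)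
  · intro R
    have hP := CL.Grp.isSylowIn_top R
    constructor
    · intro h
      by_contra hc
      obtain ⟨K1, K2, h1, h2, n1, n2, hs⟩ := CL.Known.sylow_two_two_overgroups (by omega) (not_pow hn hc) hP
      refine CL.Known.not_existsUnique_coatom (H := K1) (K := K2) (fun e => n1 (e ▸ le_top)) (fun e => n2 (e ▸ le_top))
        h1 h2 ?_ h
      exact eq_top_of (by omega) R (hs.trans (sup_le_sup inf_le_left inf_le_left)) (h1.trans le_sup_left)
    · rintro ⟨k, hk, hnk⟩
      obtain ⟨x, hx, hu⟩ := CL.Known.sylow_two_unique_point hk hnk hP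
      refine CL.Known.existsUnique_coatom (M := MulAction.stabilizer (Equiv.Perm (Fin n)) x)
        (fun e => not_alt_le hn x (e ▸ le_top)) hx fun K hK => ?_
      by_cases hf : ∀ g ∈ K, g x = x
      · exact Or.inr hf
      · push Not at hf
        exact Or.inl (eq_top_of (by omega) R (hu K (inf_le_left.trans hK) hf) hK)

end Cfsg.Agent.S2245
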