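import Cfsg.Statements.S2271
import Cfsg.Agent.Known.AltOn2

set_option autoImplicit false
open Cfsg

namespace Cfsg.Agent.S2271

open Equiv Equiv.Perm Finset

variable {Ω : Type*} [Fintype Ω] [DecidableEq Ω]

theorem exists_even_ext {α : Type*} [Fintype α] {f g : α → Ω} (hf : Function.Injective f) (hg : Function.Injective g)
    (h : Fintype.card α + 2 ≤ Fintype.card Ω) : ∃ σ ∈ alternatingGroup Ω, ∀ i, σ (f i) = g i := by
  obtain ⟨σ, hσ⟩ := Perm.exists_extending_pair f g hf hg
  rcases Int.units_eq_one_or (sign σ) with e | e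
  · exact ⟨σ, e, hσ⟩
  obtain ⟨u, hu, v, hv, huv⟩ := one_lt_card.1 (show 1 < (univ.image f)ᶜ.card by
    rw [card_compl, card_image_of_injective _ hf, card_univ]; omega)
  simp only [mem_compl, mem_image, mem_univ, true_and, not_exists] at hu hv
  refine ⟨σ * swap u v, ?_, fun i => ?_⟩
  · rw [mem_alternatingGroup, map_mul, e, sign_swap huv]; rfl
  · rw [Perm.mul_apply, swap_apply_of_ne_of_ne (hu i) (hv i), hσ]

/-- the number of fixed points of `a * g * b * g⁻¹` -/
def cnt (a b g : Perm Ω) : ℕ := #{u | a (g (b u)) = g u}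

theorem cnt_symm (a b g : Perm Ω) : cnt b a g = cnt a b g⁻¹ := by
  refine card_bij (fun u _ => g (a u)) (fun u hu => ?_) (fun u _ v _ h => by simpa using h) fun v hv => ?_
  · simp only [mem_filter, mem_univ, true_and] at hu ⊢
    simp [hu]
  · simp only [mem_filter, mem_univ, true_and] at hv ⊢
    refine ⟨g⁻¹ (b v), ?_, by rw [hv]; simp⟩
    rw [hv]; simp

/-- the number of even permutations with two prescribed values -/
def N (u v x y : Ω) : ℕ := #{g : Perm Ω | sign g = 1 ∧ g u = x ∧ g v = y}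

theorem exists_even_pair (h4 : 4 ≤ Fintype.card Ω) {u v x y : Ω} (h : u ≠ v) (h' : x ≠ y) :
    ∃ σ ∈ alternatingGroup Ω, σ u = x ∧ σ v = y := by
  obtain ⟨σ, h1, h2⟩ := exists_even_ext (f := ![u, v]) (g := ![x, y])
    (by intro i j; fin_cases i <;> fin_cases j <;> simp [h, h.symm])
    (by intro i j; fin_cases i <;> fin_cases j <;> simp [h', h'.symm]) (by simpa using h4)
  exact ⟨σ, h1, h2 0, h2 1⟩

theorem N_eq (h4 : 4 ≤ Fintype.card Ω) {u v x y u' v' x' y' : Ω} (h1 : u ≠ v) (h2 : x ≠ y) (h3 : u' ≠ v')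
    (h5 : x' ≠ y') : N u v x y = N u' v' x' y' := by
  obtain ⟨σ, hσ, rfl, rfl⟩ := exists_even_pair h4 h3 h1
  obtain ⟨τ, hτ, rfl, rfl⟩ := exists_even_pair h4 h2 h5
  rw [mem_alternatingGroup] at hσ hτ
  refine card_bij (fun g _ => τ * g * σ) (fun g hg => ?_) (fun u _ v _ h => by simpa using h) fun g hg => ?_
  · simp only [mem_filter, mem_univ, true_and] at hg ⊢
    simp [hg, hσ, hτ]
  · simp only [mem_filter, mem_univ, true_and] at hg ⊢
    exact ⟨τ⁻¹ * g * σ⁻¹, by simp [hg, hσ, hτ], by group⟩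

theorem card_eq_sum_N (u v : Ω) (P : Ω → Ω → Prop) [∀ x y, Decidable (P x y)] :
    #{g : Perm Ω | sign g = 1 ∧ P (g u) (g v)} = ∑ p ∈ (univ ×ˢ univ).filter (fun p : Ω × Ω => P p.1 p.2),
      N u v p.1 p.2 := by
  rw [card_eq_sum_card_fiberwise (f := fun g : Perm Ω => (g u, g v))
    (t := (univ ×ˢ univ).filter (fun p : Ω × Ω => P p.1 p.2)) (fun g hg => by simpa using (by simpa using hg : _ ∧ _).2)]
  refine sum_congr rfl fun p hp => ?_
  unfold N
  congr 1
  ext g
  simp only [mem_filter, mem_univ, true_and, Prod.ext_iff] at hp ⊢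
  constructor
  · rintro ⟨⟨h1, -⟩, h2⟩; exact ⟨h1, h2⟩
  · rintro ⟨h1, h2, h3⟩; exact ⟨⟨h1, h2 ▸ h3 ▸ hp.2⟩, h2, h3⟩

theorem average (h4 : 4 ≤ Fintype.card Ω) {a b : Perm Ω} {c : ℕ} (h : ∀ g ∈ alternatingGroup Ω, cnt a b g = c) :
    c * (Fintype.card Ω * (Fintype.card Ω - 1)) =
      a.supportᶜ.card * b.supportᶜ.card * (Fintype.card Ω - 1) + a.support.card * b.support.card := by
  haveI : Nontrivial Ω := Fintype.one_lt_card_iff_nontrivial.1 (by omega)
  obtain ⟨u0, v0, h0⟩ := exists_pair_ne Ω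
  have hN : ∀ (u v : Ω) (P : Ω → Ω → Prop) [∀ x y, Decidable (P x y)], u ≠ v →
      #{g : Perm Ω | sign g = 1 ∧ P (g u) (g v)} =
        #((univ ×ˢ univ).filter fun p : Ω × Ω => p.1 ≠ p.2 ∧ P p.1 p.2) * N u0 v0 u0 v0 := by
    intro u v P _ huv
    rw [← smul_eq_mul, ← sum_const, ← sum_congr rfl fun p hp => N_eq h4 huv (mem_filter.1 hp).2.1 h0 h0,
      ← card_eq_sum_N u v fun x y => x ≠ y ∧ P x y]
    simp [huv]
  have hpos : 0 < N u0 v0 u0 v0 := card_pos.2 ⟨1, by simp⟩
  have h1 : ∑ g ∈ univ.filter (fun g : Perm Ω => sign g = 1), cnt a b g =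
      ∑ u, #{g : Perm Ω | sign g = 1 ∧ a (g (b u)) = g u} := by
    simp only [cnt, card_filter]
    rw [sum_comm' (t' := univ) (s' := fun _ => univ.filter fun g : Perm Ω => sign g = 1) (by simp)]
    refine sum_congr rfl fun u _ => ?_
    rw [sum_filter]
    refine sum_congr rfl fun g _ => ?_
    by_cases hg : sign g = 1 <;> simp [hg]
  have h2 : #{g : Perm Ω | sign g = 1} = Fintype.card Ω * (Fintype.card Ω - 1) * N u0 v0 u0 v0 := by
    have := hN u0 v0 (fun _ _ => True) h0
    simp only [and_true] at this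
    rw [this]
    congr 1
    rw [Nat.mul_sub_one, ← card_univ, ← offDiag_card]
    congr 1
    ext p
    simp
  have h3 : ∀ u ∈ b.supportᶜ, #{g : Perm Ω | sign g = 1 ∧ a (g (b u)) = g u} =
      a.supportᶜ.card * (Fintype.card Ω - 1) * N u0 v0 u0 v0 := by
    intro u hu
    obtain ⟨v, hv⟩ := exists_ne u
    rw [show b u = u by simpa using hu, hN u v (fun x _ => a x = x) hv.symm]
    congr 1
    rw [← smul_eq_mul, ← sum_const, card_eq_sum_card_fiberwise (f := Prod.fst) (t := a.supportᶜ)
      (fun p hp => by simpa using (by simpa using hp : _ ∧ _).2)]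
    refine sum_congr rfl fun x hx => ?_
    rw [← card_univ, ← card_erase_of_mem (mem_univ x)]
    refine card_bij (fun p _ => p.2) (fun p hp => ?_) (fun p hp q hq e => ?_) fun y hy => ⟨(x, y), ?_, rfl⟩
    · simp only [mem_filter] at hp
      simpa [← hp.2] using hp.1.2.1.symm
    · exact Prod.ext ((mem_filter.1 hp).2.trans (mem_filter.1 hq).2.symm) e
    · simpa using ⟨Ne.symm (by simpa using hy), by simpa using hx⟩
  have h5 : ∀ u ∈ b.support, #{g : Perm Ω | sign g = 1 ∧ a (g (b u)) = g u} =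
      a.support.card * N u0 v0 u0 v0 := by
    intro u hu
    rw [hN (b u) u (fun y x => a y = x) (mem_support.1 hu)]
    congr 1
    refine card_bij (fun p _ => p.1) (fun p hp => ?_) (fun p hp q hq e => ?_) fun y hy => ⟨(y, a y), ?_, rfl⟩
    · simp only [mem_filter] at hp
      rw [mem_support, hp.2.2]; exact hp.2.1.symm
    · exact Prod.ext e (by rw [← (mem_filter.1 hp).2.2, ← (mem_filter.1 hq).2.2, e])
    · simpa using Ne.symm (mem_support.1 hy)
  rw [sum_congr rfl fun g (hg : g ∈ univ.filter fun g : Perm Ω => sign g = 1) => h g (mem_filter.1 hg).2, ← sum_add_sum_compl b.support, sum_congr rfl h3,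
    sum_congr rfl h5, sum_const, sum_const, sum_const, h2] at h1
  simp only [smul_eq_mul] at h1
  apply Nat.eq_of_mul_eq_mul_right hpos
  linarith

theorem le_cnt {a b g : Perm Ω} {α : Type*} [Fintype α] {f : α → Ω} (hf : Function.Injective f)
    (h : ∀ i, a (g (b (f i))) = g (f i)) : Fintype.card α ≤ cnt a b g := by
  rw [← card_univ, ← card_image_of_injective _ hf]
  refine card_le_card fun x hx => ?_
  obtain ⟨i, -, rfl⟩ := mem_image.1 hx
  simpa using h i

theorem exists_two_arcs {a : Perm Ω} (h : 4 ≤ a.support.card) :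
    ∃ x y, Function.Injective ![x, y, a x, a y] := by
  obtain ⟨x, hx⟩ := card_pos.1 (show 0 < a.support.card by omega)
  obtain ⟨y, hy, h1, h2, h3⟩ := CL.Known.exists_fourth h x (a x) (a⁻¹ x)
  rw [mem_support] at hx hy
  have h4 : a y ≠ x := fun e => h3 (by rw [← e]; simp)
  have h5 : a x ≠ a y := by simpa
  refine ⟨x, y, fun i j => ?_⟩
  fin_cases i <;> fin_cases j <;> simp [h1, h2, h4, h5, hx, hy, h1.symm, h2.symm, h4.symm, h5.symm, hx.symm, hy.symm]

theorem main (n : ℕ) (hn : 5 ≤ n) {a b : Perm (Fin n)} (ha : a ≠ 1) (hb : b ≠ 1)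
    (hab : a.supportᶜ.card ≤ b.supportᶜ.card) {c : ℕ} (h : ∀ g ∈ alternatingGroup (Fin n), cnt a b g = c) : False := by
  have hav := average (by simp; omega) h
  have ea := card_add_card_compl a.support
  have eb := card_add_card_compl b.support
  have ha2 := two_le_card_support_of_ne_one ha
  have hb2 := two_le_card_support_of_ne_one hb
  rw [Fintype.card_fin] at hav ea eb
  obtain ⟨u, hu⟩ := card_pos.1 (show 0 < b.support.card by omega)
  obtain ⟨y, hy⟩ := card_pos.1 (show 0 < a.support.card by omega)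
  rw [mem_support] at hu hy
  obtain ⟨k, rfl⟩ : ∃ k, n = k + 1 := ⟨n - 1, by omega⟩
  rw [Nat.add_sub_cancel] at hav
  replace hav : c * k + a.supportᶜ.card + b.supportᶜ.card = k + 1 + a.supportᶜ.card * b.supportᶜ.card := by
    apply Nat.eq_of_mul_eq_mul_left (Nat.succ_pos k)
    simp only [Nat.succ_eq_add_one]
    zify at hav ea eb ⊢
    rw [← eq_sub_iff_add_eq] at ea eb
    rw [ea, eb] at hav
    linear_combination hav
  by_cases h2 : 2 ≤ a.supportᶜ.card
  · obtain ⟨f, hf⟩ := Function.Embedding.exists_of_card_le_finset (α := ↥(a.supportᶜ)) (s := b.supportᶜ)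
      (by rwa [Fintype.card_coe])
    obtain ⟨σ, hσ, h3⟩ := exists_even_ext f.injective Subtype.val_injective
      (by rw [Fintype.card_coe, Fintype.card_fin]; omega)
    have h4 := le_cnt (a := a) (b := b) (g := σ) f.injective fun i => by
      rw [show b (f i) = f i by simpa using hf ⟨i, rfl⟩, h3]
      exact notMem_support.1 (mem_compl.1 i.2)
    rw [Fintype.card_coe, h σ hσ] at h4
    obtain ⟨i, hi⟩ := Nat.exists_eq_add_of_le h2
    obtain ⟨j, hj⟩ : ∃ j, k = b.supportᶜ.card + 1 + j := ⟨k - b.supportᶜ.card - 1, by omega⟩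
    have := Nat.mul_le_mul_right k h4
    rw [hi] at hav this
    generalize b.supportᶜ.card = fb at *
    subst hj
    nlinarith
  by_cases h1 : a.supportᶜ.card = 1
  · obtain ⟨v, hv⟩ := card_pos.1 (show 0 < b.supportᶜ.card by omega)
    obtain ⟨x, hx⟩ := card_pos.1 (show 0 < a.supportᶜ.card by omega)
    simp only [mem_compl, mem_support, not_not] at hv hx
    have n1 : v ≠ u := fun e => hu (e ▸ hv)
    have n2 : v ≠ b u := fun e => n1 (b.injective (hv.trans e))
    have n3 : x ≠ y := fun e => hy (e ▸ hx)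
    have n4 : x ≠ a y := fun e => n3 (a.injective (hx.trans e))
    obtain ⟨σ, hσ, h3⟩ := exists_even_ext (f := ![v, u, b u]) (g := ![x, a y, y])
      (by intro i j; fin_cases i <;> fin_cases j <;> simp [n1, n2, hu, n1.symm, n2.symm, hu.symm])
      (by intro i j; fin_cases i <;> fin_cases j <;> simp [n3, n4, hy, n3.symm, n4.symm, hy.symm]) (by simp; omega)
    have h4 := le_cnt (a := a) (b := b) (g := σ) (f := ![v, u])
      (by intro i j; fin_cases i <;> fin_cases j <;> simp [n1, n1.symm]) fun i => by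
        have e0 : σ v = x := h3 0
        have e1 : σ u = a y := h3 1
        have e2 : σ (b u) = y := h3 2
        fin_cases i <;> simp [hv, hx, e0, e1, e2]
    rw [Fintype.card_fin, h σ hσ] at h4
    rw [h1] at hav
    have := Nat.mul_le_mul_right k h4
    omega
  have h0 : a.supportᶜ.card = 0 := by omega
  rw [h0] at hav ea
  by_cases h5 : b.supportᶜ.card = 1
  · obtain ⟨x, x', hx⟩ := exists_two_arcs (a := a) (by omega)
    obtain ⟨v, v', hv⟩ := exists_two_arcs (a := b) (by omega)
    have hx' : Function.Injective ![a x, a x', x, x'] := by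
      have : ![a x, a x', x, x'] = ![x, x', a x, a x'] ∘ ![2, 3, 0, 1] := by
        ext i; fin_cases i <;> rfl
      rw [this]
      exact hx.comp (by decide)
    have key : ∀ σ : Perm (Fin (k + 1)), (∀ i, σ (![v, v', b v, b v'] i) = ![a x, a x', x, x'] i) → 2 ≤ cnt a b σ := by
      intro σ h3
      have := le_cnt (a := a) (b := b) (g := σ) (f := ![v, v'])
        (by
          have : v ≠ v' := fun e => absurd (hv (a₁ := 0) (a₂ := 1) e) (by decide)
          intro i j; fin_cases i <;> fin_cases j <;> simp [this, this.symm]) fun i => by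
          have e0 : σ v = a x := h3 0
          have e1 : σ v' = a x' := h3 1
          have e2 : σ (b v) = x := h3 2
          have e3 : σ (b v') = x' := h3 3
          fin_cases i <;> simp [e0, e1, e2, e3]
      simpa using this
    have h6 : 2 ≤ c := by
      by_cases h6 : 5 ≤ k
      · obtain ⟨σ, hσ, h3⟩ := exists_even_ext hv hx' (by simp; omega)
        exact h σ hσ ▸ key σ h3
      · obtain rfl : k = 4 := by omega
        obtain ⟨σ, h3⟩ := Perm.exists_extending_pair _ _ hv hx'
        rcases Int.units_eq_one_or (sign σ) with e | e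
        · exact h σ e ▸ key σ h3
        obtain ⟨t, ht, ht'⟩ := (by decide +kernel :
          ∀ b : Perm (Fin 5), b.supportᶜ.card = 1 → ∃ t : Perm (Fin 5), sign t = -1 ∧ t * b = b * t) b h5
        rw [← h (σ * t) (by rw [mem_alternatingGroup, map_mul, e, ht]; rfl)]
        refine (key σ h3).trans (le_of_eq ?_)
        symm
        refine card_bij (fun u _ => t u) (fun u hu => ?_) (fun u _ v _ h => by simpa using h) fun v hv => ?_
        · simp only [mem_filter, mem_univ, true_and] at hu ⊢
          rwa [← Perm.mul_apply b, ← ht']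
        · simp only [mem_filter, mem_univ, true_and] at hv ⊢
          obtain ⟨v, rfl⟩ := t.surjective v
          refine ⟨v, ?_, rfl⟩
          rwa [← Perm.mul_apply b, ← ht'] at hv
    rw [h5] at hav
    have := Nat.mul_le_mul_right k h6
    omega
  · obtain ⟨σ, hσ, e1, e2⟩ := exists_even_pair (Ω := Fin (k + 1)) (by simp; omega) hu hy.symm
    have h4 := le_cnt (a := a) (b := b) (g := σ) (f := fun _ : Unit => u) (fun _ _ _ => rfl) fun _ => by rw [e1, e2]
    rw [Fintype.card_unit, h σ hσ] at h4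
    rcases h4.eq_or_lt with rfl | h8
    · omega
    · have := Nat.mul_le_mul_right k h8
      omega

theorem card_fixed (a b g : Perm Ω) :
    Nat.card (Function.fixedPoints ⇑(1 * a * 1⁻¹ * (g * b * g⁻¹))) = cnt a b g := by
  rw [Nat.card_eq_fintype_card, Fintype.card_subtype]
  symm
  refine card_bij (fun u _ => g u) (fun u hu => ?_) (fun u _ v _ h => by simpa using h) fun v hv => ?_
  · simpa [Function.IsFixedPt] using hu
  · obtain ⟨v, rfl⟩ := g.surjective v
    exact ⟨v, by simpa [Function.IsFixedPt] using hv, rfl⟩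


/-- Let n ≥ 5 and let a, b be non-identity permutations in the symmetric group S_n. Then the number of fixed points is not constant on the set of products a′b′ with a′ conjugate to a and b′ conjugate to b under the alternating group: there are even permutations g₁, h₁, g₂, h₂ such that (g₁ a g₁⁻¹)(h₁ b h₁⁻¹) and (g₂ a g₂⁻¹)(h₂ b h₂⁻¹) have different numbers of fixed points. -/
theorem result (n : ℕ) (hn : 5 ≤ n) (a b : Equiv.Perm (Fin n)) (ha : a ≠ 1) (hb : b ≠ 1) :
    ∃ g₁ h₁ g₂ h₂ : Equiv.Perm (Fin n), g₁ ∈ alternatingGroup (Fin n) ∧ h₁ ∈ alternatingGroup (Fin n) ∧ g₂ ∈ alternatingGroup (Fin n) ∧ h₂ ∈ alternatingGroup (Fin n) ∧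
      Nat.card (Function.fixedPoints ⇑(g₁ * a * g₁⁻¹ * (h₁ * b * h₁⁻¹))) ≠
        Nat.card (Function.fixedPoints ⇑(g₂ * a * g₂⁻¹ * (h₂ * b * h₂⁻¹))) := by
  by_contra hh
  push Not at hh
  have h : ∀ g ∈ alternatingGroup (Fin n), cnt a b g = cnt a b 1 := fun g hg => by
    rw [← card_fixed, ← card_fixed]
    exact hh 1 g 1 1 (one_mem _) hg (one_mem _) (one_mem _)
  rcases le_total a.supportᶜ.card b.supportᶜ.card with e | e
  · exact main n hn ha hb e h
  · exact main n hn hb ha e fun g hg => (cnt_symm a b g).trans (h _ (inv_mem hg))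

end Cfsg.Agent.S2271
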