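import Cfsg.Statements.S2272
import Cfsg.Agent.Cls.AHTrace
-- import your own Cfsg.Agent.* helpers here

set_option autoImplicit false
open Cfsg

namespace Cfsg.Agent.S2272

open Matrix in
theorem trace_eq_zero_of_isConj {F : Type*} [Field F] {d : ℕ} {x y : SpecialLinearGroup (Fin d) F}
    (h : IsConj (QuotientGroup.mk x : ProjectiveSpecialLinearGroup (Fin d) F) (QuotientGroup.mk y))
    (hx : x.1.trace = 0) : y.1.trace = 0 := by
  obtain ⟨c, hc⟩ := isConj_iff.1 h
  obtain ⟨c, rfl⟩ := QuotientGroup.mk_surjective c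
  have h1 : (c * x * c⁻¹)⁻¹ * y ∈ Subgroup.center (SpecialLinearGroup (Fin d) F) := QuotientGroup.eq.1 hc
  obtain ⟨r, -, hr⟩ := Matrix.SpecialLinearGroup.mem_center_iff.1 h1
  have h2 : y = c * x * c⁻¹ * ((c * x * c⁻¹)⁻¹ * y) := (mul_inv_cancel_left _ _).symm
  have h3 : (c * x * c⁻¹).1.trace = 0 := by
    change (c.1 * x.1 * (c⁻¹).1).trace = 0
    have h4 : (c⁻¹).1 * c.1 = 1 := congrArg Subtype.val (inv_mul_cancel c)
    rw [trace_mul_cycle, h4, one_mul, hx]
  have h5 : y.1 = (c * x * c⁻¹).1 * scalar (Fin d) r := by rw [hr]; exact congrArg Subtype.val h2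
  rw [h5, scalar_apply, ← smul_one_eq_diagonal, Matrix.mul_smul, mul_one, trace_smul, h3, smul_zero]

open Matrix in
theorem nonscalar {F : Type*} [Field F] {d : ℕ} {x : SpecialLinearGroup (Fin d) F}
    (h : (QuotientGroup.mk x : ProjectiveSpecialLinearGroup (Fin d) F) ≠ 1) (c : F) : toLin' x.1 ≠ c • 1 := fun e =>
  h ((QuotientGroup.eq_one_iff x).2 (Subgroup.mem_center_iff.2 fun y => Subtype.ext (by
    have : x.1 = c • 1 := toLin'.injective (by rw [e, map_smul, toLin'_one]; rfl)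
    change y.1 * x.1 = x.1 * y.1
    simp [this])))


/-- Let F be a finite field and d ≥ 3, and let a, b be non-identity elements of PSL_d(F). Then the product of the conjugacy classes of a and b is not a single conjugacy class: there are conjugates a′ of a and b′ of b such that a′b′ is not conjugate to ab. -/
theorem result {F : Type*} [Field F] [Fintype F] (d : ℕ) (hd : 3 ≤ d)
    (a b : Matrix.ProjectiveSpecialLinearGroup (Fin d) F) (ha : a ≠ 1) (hb : b ≠ 1) :
    ∃ g h : Matrix.ProjectiveSpecialLinearGroup (Fin d) F, ¬ IsConj (a * b) (g * a * g⁻¹ * (h * b * h⁻¹)) := by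
  obtain ⟨a, rfl⟩ := QuotientGroup.mk_surjective a
  obtain ⟨b, rfl⟩ := QuotientGroup.mk_surjective b
  have key : ∀ t : F, ∃ h : Matrix.SpecialLinearGroup (Fin d) F, (a * (h * b * h⁻¹)).1.trace = t := by
    intro t
    obtain ⟨_, ⟨h, rfl⟩, e⟩ := CL.SLn.AH.exists_trace
      (C := Set.range fun h : Matrix.SpecialLinearGroup (Fin d) F => Matrix.toLin' (h * b * h⁻¹).1) (by
        rintro _ ⟨h, rfl⟩ u φ hφ
        let g : Matrix.SpecialLinearGroup (Fin d) F :=
          ⟨_, CL.SLn.mem_specialLinear.1 (CL.SLn.tv_mem_specialLinear u φ hφ)⟩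
        have h1 : ∀ x, g • x = x + φ x • u := CL.SLn.tv_smul u φ hφ
        refine ⟨g * h, LinearMap.ext fun x => ?_⟩
        rw [CL.SLn.AH.cjt_apply, ← CL.SLn.inv_smul_of_tv hφ h1, ← h1]
        change (g * h * b * (g * h)⁻¹) • x = g • (h * b * h⁻¹) • g⁻¹ • x
        simp only [← mul_smul, mul_inv_rev, mul_assoc])
      (by simpa using hd) (nonscalar ha) ⟨1, by simp⟩ (nonscalar hb) t
    exact ⟨h, by rw [← e, Module.End.mul_eq_comp, ← Matrix.toLin'_mul, Matrix.trace_toLin'_eq]; rfl⟩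
  by_contra hc
  push Not at hc
  obtain ⟨h0, e0⟩ := key 0
  obtain ⟨h1, e1⟩ := key 1
  have h2 := (hc 1 (QuotientGroup.mk h0)).symm.trans (hc 1 (QuotientGroup.mk h1))
  simp only [one_mul, inv_one, mul_one] at h2
  exact one_ne_zero (e1.symm.trans (trace_eq_zero_of_isConj h2 e0))

end Cfsg.Agent.S2272
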