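import Cfsg.Statements.S2276
import Cfsg.Agent.Known.FreePair2

set_option autoImplicit false
open Cfsg

namespace Cfsg.Agent.S2276

open Equiv Equiv.Perm CL.Known.FreePair

section
variable {Ω : Type*} [Fintype Ω] [DecidableEq Ω] {p : ℕ} {w : Perm Ω}

theorem orb_emb (hp : p.Prime) {b P : ℕ} [NeZero P] (hP : P = p ^ (b + 1)) {x : Ω} (h1 : (w ^ P) x = x)
    (h2 : (w ^ p ^ b) x ≠ x) : ∃ e : ZMod P ↪ Ω, (∀ y, w (e y) = e (y + 1)) ∧ ∀ y, e y = (w ^ y.val) x := by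
  have hm : Function.minimalPeriod w x = P := hP ▸ Nat.eq_prime_pow_of_dvd_least_prime_pow hp
    (fun h => h2 (Function.isPeriodicPt_iff_minimalPeriod_dvd.2 h))
    (hP ▸ Function.isPeriodicPt_iff_minimalPeriod_dvd.1 h1)
  haveI : Fact (1 < P) := ⟨hP ▸ Nat.one_lt_pow (by omega) hp.one_lt⟩
  refine ⟨⟨fun y => (w ^ y.val) x, fun y z e => ZMod.val_injective P
    (Function.iterate_injOn_Iio_minimalPeriod (f := w) (x := x) (hm ▸ y.val_lt) (hm ▸ z.val_lt) e)⟩, fun y => ?_,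
    fun _ => rfl⟩
  change w ((w ^ y.val) x) = w^[(y + 1).val] x
  rw [ZMod.val_add, ZMod.val_one]
  generalize y.val = k
  rw [← hm, Function.iterate_mod_minimalPeriod_eq, Function.iterate_succ_apply']
  rfl

theorem orb_set (hp : p.Prime) {b : ℕ} {X : Finset Ω} (hX : ∀ x, w x ∈ X ↔ x ∈ X) {x : Ω} (hx : x ∈ X)
    (h1 : (w ^ p ^ (b + 1)) x = x) (h2 : (w ^ p ^ b) x ≠ x) :
    ∃ Γ ⊆ X, x ∈ Γ ∧ (∀ x, w x ∈ Γ ↔ x ∈ Γ) ∧ Γ.card = p ^ (b + 1) := by
  haveI : NeZero (p ^ (b + 1)) := ⟨pow_ne_zero _ hp.ne_zero⟩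
  obtain ⟨e, e1, e2⟩ := orb_emb hp rfl h1 h2
  have hk : ∀ k : ℕ, (w ^ k) x ∈ X := fun k => by
    induction k with
    | zero => exact hx
    | succ k ih => rw [pow_succ', Perm.mul_apply, hX]; exact ih
  refine ⟨Finset.univ.map e, fun y hy => ?_, Finset.mem_map.2 ⟨0, Finset.mem_univ _, by simp [e2]⟩, fun y => ?_,
    by simp⟩
  · obtain ⟨z, -, rfl⟩ := Finset.mem_map.1 hy
    exact e2 z ▸ hk _
  · simp only [Finset.mem_map, Finset.mem_univ, true_and]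
    exact ⟨fun ⟨z, hz⟩ => ⟨z - 1, w.injective (by rw [e1, sub_add_cancel, hz])⟩, fun ⟨z, hz⟩ => ⟨z + 1, by rw [← e1, hz]⟩⟩

theorem exists_inv (hp : p.Prime) (b : ℕ) : ∀ (j : ℕ) (X : Finset Ω), (∀ x, w x ∈ X ↔ x ∈ X) →
    (∀ x ∈ X, (w ^ p ^ b) x = x) → j * p ^ b ≤ X.card → ∃ Γ ⊆ X, (∀ x, w x ∈ Γ ↔ x ∈ Γ) ∧ Γ.card = j * p ^ b := by
  induction b with
  | zero =>
    intro j X hX h hj
    obtain ⟨Γ, h1, h2⟩ := Finset.exists_subset_card_eq hj
    simp only [pow_zero, pow_one] at h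
    exact ⟨Γ, h1, fun x => ⟨fun e => w.injective (h _ (h1 e)) ▸ e, fun e => (h _ (h1 e)).symm ▸ e⟩, h2⟩
  | succ b ih =>
    intro j
    induction j with
    | zero => exact fun X _ _ _ => ⟨∅, Finset.empty_subset _, by simp, by simp⟩
    | succ j ihj =>
      intro X hX h hj
      obtain ⟨A, a1, a2, a3⟩ : ∃ Γ ⊆ X, (∀ x, w x ∈ Γ ↔ x ∈ Γ) ∧ Γ.card = p ^ (b + 1) := by
        by_cases hc : ∀ x ∈ X, (w ^ p ^ b) x = x
        · rw [pow_succ']
          exact ih p X hX hc (by rw [← pow_succ']; exact (Nat.le_mul_of_pos_left _ j.succ_pos).trans hj)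
        · push Not at hc
          obtain ⟨x, hx, hx'⟩ := hc
          obtain ⟨Γ, h1, -, h2⟩ := orb_set hp hX hx (h x hx) hx'
          exact ⟨Γ, h1, h2⟩
      obtain ⟨B, b1, b2, b3⟩ := ihj (X \ A) (fun x => by simp [hX, a2]) (fun x hx => h x (Finset.mem_sdiff.1 hx).1)
        (by rw [Finset.card_sdiff_of_subset a1, a3]; rw [add_mul, one_mul] at hj; omega)
      refine ⟨B ∪ A, Finset.union_subset (b1.trans Finset.sdiff_subset) a1, fun x => by simp [a2, b2], ?_⟩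
      rw [Finset.card_union_of_disjoint (Finset.sdiff_disjoint.mono_left b1), a3, b3, add_mul, one_mul]

theorem exists_moved (hp : p.Prime) {b : ℕ} (ho : orderOf w = p ^ (b + 1)) : ∃ x, (w ^ p ^ b) x ≠ x :=
  not_forall.1 fun h => (Nat.le_of_dvd (pow_pos hp.pos _) (ho ▸ orderOf_dvd_of_pow_eq_one (Equiv.ext h))).not_gt
    (Nat.pow_lt_pow_right hp.one_lt b.lt_succ_self)

theorem exists_restrict (hp : p.Prime) {b j : ℕ} (ho : orderOf w = p ^ (b + 1)) (α : Type*) [Fintype α]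
    (hα : Fintype.card α = (j + 1) * p ^ (b + 1)) (hle : Fintype.card α ≤ Fintype.card Ω) :
    ∃ (f : α ↪ Ω) (v : Perm α), (∀ y, w (f y) = f (v y)) ∧ v ≠ 1 ∧ v ^ p ^ (b + 1) = 1 := by
  obtain ⟨x, hx⟩ := exists_moved hp ho
  have h1 : w ^ p ^ (b + 1) = 1 := ho ▸ pow_orderOf_eq_one w
  obtain ⟨A, -, a1, a2, a3⟩ := orb_set hp (X := Finset.univ) (by simp) (Finset.mem_univ x) (by rw [h1]; rfl) hx
  obtain ⟨B, b1, b2, b3⟩ := exists_inv (w := w) hp (b + 1) j Aᶜ (fun x => by simp [a2]) (fun x _ => by rw [h1]; rfl)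
    (by rw [Finset.card_compl, a3]; rw [add_mul, one_mul] at hα; omega)
  have hΓ : ∀ x, w x ∈ B ∪ A ↔ x ∈ B ∪ A := fun x => by simp [a2, b2]
  let φ : α ≃ {x // x ∈ B ∪ A} := Fintype.equivOfCardEq (by
    rw [Fintype.card_coe, Finset.card_union_of_disjoint (disjoint_compl_left.mono_left b1), a3, b3, hα, add_mul,
      one_mul])
  have key : ∀ y, w (φ y).1 = (φ (φ.symm.permCongr (w.subtypePerm hΓ) y)).1 := fun y => by simp
  refine ⟨φ.toEmbedding.trans (Function.Embedding.subtype _), φ.symm.permCongr (w.subtypePerm hΓ), key, fun e => ?_, ?_⟩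
  · have := key (φ.symm ⟨x, Finset.mem_union_right _ a1⟩)
    rw [e] at this
    exact hx (pow_apply_eq_self_of_apply_eq_self (by simpa using this) _)
  · have : ∀ (k : ℕ) y, (w ^ k) (φ y).1 = (φ (((φ.symm.permCongr (w.subtypePerm hΓ) : Perm α) ^ k) y)).1 := fun k y => by
      induction k with
      | zero => rfl
      | succ k ih => rw [pow_succ', pow_succ', Perm.mul_apply, Perm.mul_apply, ih, key]
    exact Equiv.ext fun y => φ.injective (Subtype.ext ((this _ y).symm.trans (by rw [h1]; rfl)))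

end

theorem main {n : ℕ} (hn : 5 ≤ n) {p : ℕ} (hp : p.Prime) (hp3 : 3 ≤ p) {u w : alternatingGroup (Fin n)} {a b : ℕ}
    (hu : orderOf u = p ^ (a + 1)) (hw : orderOf w = p ^ (b + 1)) (hab : b ≤ a) : ∃ g, Good p u (g * w * g⁻¹) := by
  rw [← Subgroup.orderOf_coe] at hu hw
  by_cases h3 : p ^ (a + 1) = 3
  · obtain ⟨rfl, h4⟩ := (Nat.prime_three.pow_eq_iff).1 h3
    obtain rfl : a = 0 := by omega
    obtain rfl : b = 0 := by omega
    rcases hn.eq_or_lt with rfl | hn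
    · exact (both_fin5 (u := u.1) (w := w.1) (orderOf_dvd_iff_pow_eq_one.1 hu.dvd) (fun e => by simp [e] at hu)
        (orderOf_dvd_iff_pow_eq_one.1 hw.dvd) (fun e => by simp [e] at hw)).embed (Function.Embedding.refl _)
        (Function.Embedding.refl _) (fun _ => rfl) fun _ => rfl
    · obtain ⟨e, u₀, e1, e2, e3⟩ := exists_restrict (j := 1) hp hu (Fin 6) (by simp) (by simp; omega)
      obtain ⟨f, w₀, f1, f2, f3⟩ := exists_restrict (j := 1) hp hw (Fin 6) (by simp) (by simp; omega)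
      exact (both_fin6 e3 e2 f3 f2).embed e f e1 f1
  obtain ⟨P, hP⟩ : ∃ P, P = p ^ (a + 1) := ⟨_, rfl⟩
  haveI : NeZero P := ⟨hP ▸ pow_ne_zero _ hp.ne_zero⟩
  obtain ⟨x, hx⟩ := exists_moved hp hu
  obtain ⟨e, e1, -⟩ := orb_emb hp hP (by rw [hP, ← hu, pow_orderOf_eq_one]; rfl) hx
  obtain ⟨j, hj⟩ : ∃ j, p ^ (a - b) = j + 1 := ⟨_, (Nat.succ_pred_eq_of_pos (pow_pos hp.pos _)).symm⟩
  have hP' : P = p ^ (a - b) * p ^ (b + 1) := by rw [hP, ← pow_add]; congr 1; omega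
  obtain ⟨f, v, f1, f2, f3⟩ := exists_restrict (j := j) hp hw (ZMod P) (by rw [ZMod.card, ← hj, ← hP'])
    (Fintype.card_le_of_embedding e)
  have hv : v ^ P = 1 := by
    have : v ^ (p ^ (a - b) * p ^ (b + 1)) = 1 := by rw [mul_comm, pow_mul, f3, one_pow]
    rwa [← hP'] at this
  refine Both.embed (u₀ := Equiv.addRight (1 : ZMod P)) ?_ e f e1 f1
  by_cases h5 : P = 5
  · subst h5
    obtain ⟨rfl, -⟩ := (Nat.prime_five.pow_eq_iff).1 hP.symm
    exact both_five hv f2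
  · have h6 : Odd P := hP ▸ (hp.odd_of_ne_two (by omega)).pow
    have h7 : p ≤ P := hP ▸ Nat.le_self_pow (by omega) p
    rw [← hP] at h3
    exact both_big hp (by omega) hP (by obtain ⟨k, hk⟩ := h6; omega) hv f2

/-- Let n ≥ 5, p ≥ 3 a prime, and u, w non-identity elements of p-power order in the alternating group A_n. Then there is g ∈ A_n such that u·(g w g⁻¹) does not have p-power order and ⟨u, g w g⁻¹⟩ is not solvable. -/
theorem result (n : ℕ) (hn : 5 ≤ n) (p : ℕ) (hp : p.Prime) (hp3 : 3 ≤ p) (u w : alternatingGroup (Fin n)) (hu : u ≠ 1) (hw : w ≠ 1)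
    (hu' : ∃ k : ℕ, orderOf u = p ^ k) (hw' : ∃ k : ℕ, orderOf w = p ^ k) :
    ∃ g : alternatingGroup (Fin n), (¬ ∃ k : ℕ, orderOf (u * (g * w * g⁻¹)) = p ^ k) ∧
      ¬ Group.IsSolvable ↥(Subgroup.closure ({u, g * w * g⁻¹} : Set (alternatingGroup (Fin n)))) := by
  obtain ⟨a, ha⟩ := hu'
  obtain ⟨b, hb⟩ := hw'
  obtain _ | a := a
  · exact absurd (orderOf_eq_one_iff.1 ha) hu
  obtain _ | b := b
  · exact absurd (orderOf_eq_one_iff.1 hb) hw
  suffices h : ∃ g, Good p u (g * w * g⁻¹) from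
    h.imp fun g hg => ⟨fun ⟨k, hk⟩ => hg.1 k (hk ▸ pow_orderOf_eq_one _), hg.2⟩
  rcases le_total b a with h | h
  · exact main hn hp hp3 ha hb h
  · obtain ⟨g, hg⟩ := main hn hp hp3 hb ha h
    refine ⟨g⁻¹, ?_⟩
    convert hg.symm.conj g⁻¹ using 1
    group

end Cfsg.Agent.S2276
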