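import Cfsg.Statements.S2277
import Cfsg.Agent.Grp.CoprimeAct
import Cfsg.Agent.Grp.Coprime2

set_option autoImplicit false
open Cfsg

namespace Cfsg.Agent.S2277

open CL.Grp
open scoped Pointwise commutatorElement

/-- fixed points of an automorphism -/
def fix {V : Type*} [Group V] (c : MulAut V) : Subgroup V := c.toMonoidHom.eqLocus (MonoidHom.id V)

theorem mem_fix {V : Type*} [Group V] {c : MulAut V} {v : V} : v ∈ fix c ↔ c v = v := Iff.rfl

theorem exists_small_fix {V : Type*} [CommGroup V] [Finite V] {p : ℕ} [hp : Fact p.Prime] (hp3 : 3 ≤ p)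
    {H : Subgroup (MulAut V)} (hH : IsPGroup p H) (h0 : H ≠ ⊥)
    (hirr : ∀ U : Subgroup V, (∀ h ∈ H, ∀ x ∈ U, h x ∈ U) → U = ⊥ ∨ U = ⊤) {C : Set (MulAut V)}
    (hC : Subgroup.closure C = H) : ∃ c ∈ C, Nat.card (fix c) ^ 3 ≤ Nat.card V := by
  have hCH : ∀ c ∈ C, c ∈ H := fun c hc => hC ▸ Subgroup.subset_closure hc
  have hfpf : ∀ z : H, z ∈ Subgroup.center H → z ≠ 1 → ∀ v, z.1 v = v → v = 1 := by
    intro z hz hz1 v hv
    rcases hirr (fix z.1) (fun h hh x hx => by
      have := congrArg (fun y : H => y.1 x) (Subgroup.mem_center_iff.1 hz ⟨h, hh⟩)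
      simp only [Subgroup.coe_mul, MulAut.mul_apply] at this
      rw [mem_fix, ← this, mem_fix.1 hx]) with h | h
    · exact Subgroup.mem_bot.1 (h ▸ mem_fix.2 hv)
    · exact (hz1 (Subtype.ext (MulEquiv.ext fun x => mem_fix.1 (h ▸ Subgroup.mem_top x)))).elim
  by_cases hZ : Subgroup.center H = ⊤
  · obtain ⟨c, hc, hc1⟩ : ∃ c ∈ C, c ≠ 1 := by
      by_contra h
      push Not at h
      exact h0 (hC ▸ (Subgroup.closure_eq_bot_iff.2 h))
    refine ⟨c, hc, ?_⟩
    have : fix c = ⊥ := eq_bot_iff.2 fun v hv => hfpf ⟨c, hCH c hc⟩ (hZ ▸ Subgroup.mem_top _)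
      (fun h => hc1 (congrArg Subtype.val h)) v hv
    rw [this, Subgroup.card_bot, one_pow]
    exact Nat.card_pos
  haveI : Nontrivial (H ⧸ Subgroup.center H) := QuotientGroup.nontrivial_iff.2 hZ
  haveI := (hH.to_quotient (Subgroup.center H)).center_nontrivial
  obtain ⟨⟨e', he'⟩, he1⟩ := exists_ne (1 : Subgroup.center (H ⧸ Subgroup.center H))
  obtain ⟨e, rfl⟩ := QuotientGroup.mk_surjective e'
  have he : e ∉ Subgroup.center H := fun h => he1 (Subtype.ext ((QuotientGroup.eq_one_iff _).2 h))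
  obtain ⟨c, hc, hce⟩ : ∃ c ∈ C, c * e.1 ≠ e.1 * c := by
    by_contra h
    push Not at h
    refine he (Subgroup.mem_center_iff.2 fun g => Subtype.ext ?_)
    have : H ≤ Subgroup.centralizer {e.1} := by
      exact hC.symm.trans_le ((Subgroup.closure_le _).2 fun c hc =>
        Subgroup.mem_centralizer_singleton_iff.2 (h c hc))
    exact Subgroup.mem_centralizer_singleton_iff.1 (this g.2)
  refine ⟨c, hc, ?_⟩
  let c' : H := ⟨c, hCH c hc⟩
  let w : H := c' * e * c'⁻¹ * e⁻¹
  have hw : w ∈ Subgroup.center H := by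
    rw [← QuotientGroup.eq_one_iff]
    simp only [w, QuotientGroup.mk_mul, QuotientGroup.mk_inv]
    rw [Subgroup.mem_center_iff.1 he' c']
    group
  have hw1 : w ≠ 1 := fun h => hce (congrArg Subtype.val (commutatorElement_eq_one_iff_mul_comm.1 h))
  have hw2 : w * w ≠ 1 := fun h => by
    obtain ⟨k, hk⟩ := hH w
    have h1 : orderOf w ∣ Nat.gcd 2 (p ^ k) :=
      Nat.dvd_gcd (orderOf_dvd_of_pow_eq_one (by rw [pow_two, h])) (orderOf_dvd_of_pow_eq_one hk)
    rw [Nat.Coprime.gcd_eq_one (Nat.Coprime.pow_right _ ((Nat.coprime_primes Nat.prime_two hp.out).2 (by omega))),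
      Nat.dvd_one, orderOf_eq_one_iff] at h1
    exact hw1 h1
  have hcomm : ∀ (g : H) (v : V), w.1 (g.1 v) = g.1 (w.1 v) := fun g v => by
    have := congrArg (fun y : H => y.1 v) (Subgroup.mem_center_iff.1 hw g)
    simpa using this.symm
  have hce' : ∀ v, c (e.1 v) = w.1 (e.1 (c v)) := fun v => by
    have : c' * e = w * (e * c') := by simp only [w]; group
    exact congrArg (fun y : H => y.1 v) this
  let f : fix c × fix c × fix c →* V :=
    (fix c).subtype.coprod ((e.1.toMonoidHom.comp (fix c).subtype).coprod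
      ((e.1 * e.1).toMonoidHom.comp (fix c).subtype))
  have hf : Function.Injective f := by
    rw [injective_iff_map_eq_one]
    rintro ⟨⟨a, ha⟩, ⟨b, hb⟩, ⟨d, hd⟩⟩ h
    replace h : a * (e.1 b * e.1 (e.1 d)) = 1 := h
    have hb' : c (e.1 b) = w.1 (e.1 b) := by rw [hce', mem_fix.1 hb]
    have hd' : c (e.1 (e.1 d)) = w.1 (w.1 (e.1 (e.1 d))) := by rw [hce', hce', mem_fix.1 hd, ← hcomm e (e.1 d)]
    generalize hB : e.1 b = B at h hb'
    generalize hD : e.1 (e.1 d) = D at h hd'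
    have h1 := congrArg c h
    rw [map_mul, map_mul, mem_fix.1 ha, hb', hd', map_one] at h1
    have h2 : B * D = w.1 B * w.1 (w.1 D) := mul_left_cancel (h.trans h1.symm)
    have hu : B * w.1 D * D = 1 := hfpf w hw hw1 _ (by
      rw [map_mul, map_mul, mul_right_comm B, h2, mul_right_comm])
    have h3 := congrArg c hu
    rw [map_mul, map_mul, hb', ← hcomm c', map_one] at h3
    change w.1 B * w.1 (c D) * c D = 1 at h3
    rw [hd', ← map_mul, ← map_mul, MulEquiv.map_eq_one_iff] at h3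
    have hD1 : D = 1 := hfpf (w * w) (Subgroup.mul_mem _ hw hw) hw2 _ (by
      change w.1 (w.1 D) = D
      apply mul_left_cancel (a := B * w.1 D)
      rw [hu, mul_right_comm, h3])
    rw [hD1, map_one, mul_one, mul_one] at hu
    rw [hD1, hu, mul_one, mul_one] at h
    rw [hu, MulEquiv.map_eq_one_iff] at hB
    rw [hD1, MulEquiv.map_eq_one_iff, MulEquiv.map_eq_one_iff] at hD
    simp [h, hB, hD, Prod.ext_iff]
  have := Nat.card_le_card_of_injective f hf
  rwa [Nat.card_prod, Nat.card_prod, ← pow_two, ← pow_succ'] at this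

theorem factor {G : Type*} [Group G] [Finite G] {p : ℕ} [Fact p.Prime] (P : Sylow p G) {M : Subgroup G}
    (hPM : (P : Subgroup G) ≤ Subgroup.normalizer (M : Set G)) (hM : (Nat.card P).Coprime (Nat.card M))
    {c d x : G} (hc : c ∈ (P : Subgroup G)) (hd : d ∈ (P : Subgroup G)) (hx : x ∈ M)
    (h : IsPGroup p (Subgroup.closure ({x * c * x⁻¹, d} : Set G))) :
    ∃ a ∈ M, ∃ b ∈ M, c * a * c⁻¹ = a ∧ d * b * d⁻¹ = b ∧ x = b * a := by
  have hle : Subgroup.closure ({x * c * x⁻¹, d} : Set G) ≤ (P : Subgroup G) ⊔ M := by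
    rw [Subgroup.closure_le]
    rintro _ (rfl | rfl)
    · exact Subgroup.mul_mem _ (Subgroup.mul_mem _ (Subgroup.mem_sup_right hx) (Subgroup.mem_sup_left hc))
        (Subgroup.inv_mem _ (Subgroup.mem_sup_right hx))
    · exact Subgroup.mem_sup_left hd
  obtain ⟨g, hg, hg'⟩ := (isSylowIn_of_le P le_sup_left).exists_conj_le h hle
  obtain ⟨u, hu, n, hn, rfl⟩ := (mem_sup_iff_of_le_normalizer' hPM).1 hg
  rw [conj_smul_le_iff] at hg'
  have hdis := Subgroup.disjoint_of_coprime_natCard hM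
  have key : ∀ y ∈ M, ∀ t ∈ (P : Subgroup G), u * (y * t * y⁻¹) * u⁻¹ ∈ (P : Subgroup G) → t * y * t⁻¹ = y := by
    intro y hy t ht h
    have h1 : y * t * y⁻¹ * t⁻¹ ∈ (P : Subgroup G) := by
      refine Subgroup.mul_mem _ ?_ (Subgroup.inv_mem _ ht)
      have := Subgroup.mul_mem _ (Subgroup.mul_mem _ (Subgroup.inv_mem _ hu) h) hu
      simpa [mul_assoc] using this
    have h2 : y * t * y⁻¹ * t⁻¹ ∈ M := by
      have := M.mul_mem hy ((Subgroup.mem_normalizer_iff.1 (hPM ht) _).1 (M.inv_mem hy))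
      simpa [mul_assoc] using this
    have := Subgroup.disjoint_def.1 hdis h1 h2
    rw [mul_inv_eq_iff_eq_mul]
    exact (commutatorElement_eq_one_iff_mul_comm.1 this).symm
  refine ⟨n * x, M.mul_mem hn hx, n⁻¹, M.inv_mem hn, key _ (M.mul_mem hn hx) c hc ?_, ?_, by group⟩
  · have := hg' _ (Subgroup.subset_closure (Set.mem_insert _ _))
    simpa [mul_assoc] using this
  · have := key n hn d hd (by
      have := hg' d (Subgroup.subset_closure (by simp))
      simpa [mul_assoc] using this)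
    rw [← inv_inj]
    simpa [mul_assoc] using this

theorem key {G : Type*} [Group G] [Finite G] {p : ℕ} [Fact p.Prime] (hp3 : 3 ≤ p) (P : Sylow p G)
    (C D : Set G) (hC : Subgroup.closure C = (P : Subgroup G)) (hD : Subgroup.closure D = (P : Subgroup G))
    (n : ℕ) : ∀ M : Subgroup G, Nat.card M = n → (P : Subgroup G) ≤ Subgroup.normalizer (M : Set G) →
      (Nat.card (P : Subgroup G)).Coprime (Nat.card M) →
      (∀ x ∈ M, ∀ c ∈ C, ∀ d ∈ D, IsPGroup p (Subgroup.closure ({x * c * x⁻¹, d} : Set G))) →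
      M ≤ Subgroup.centralizer (P : Subgroup G) := by
  induction n using Nat.strong_induction_on with
  | _ n ih =>
  intro M hn hPM hcop h
  have ih' : ∀ U : Subgroup G, U < M → (P : Subgroup G) ≤ Subgroup.normalizer (U : Set G) →
      U ≤ Subgroup.centralizer (P : Subgroup G) := fun U hU hPU =>
    ih _ (hn ▸ lt_of_le_of_ne (Subgroup.card_le_of_le hU.le) fun e => hU.ne (Subgroup.eq_of_le_of_card_ge hU.le e.ge))
       U rfl hPU (hcop.coprime_dvd_right (Subgroup.card_dvd_of_le hU.le))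
      fun x hx => h x (hU.le hx)
  by_contra hnot
  haveI : Group.IsNilpotent (P : Subgroup G) := P.isPGroup'.isNilpotent
  obtain ⟨r, hr, hM⟩ : ∃ r : ℕ, r.Prime ∧ IsPGroup r M := by
    by_contra hc
    refine hnot (le_of_forall_exists_isSylowIn_le fun r hr _ => ?_)
    haveI := Fact.mk hr
    obtain ⟨S, hS, hS'⟩ := exists_isSylowIn_le_normalizer r hPM hcop (Or.inl inferInstance)
    exact ⟨S, hS, ih' S (lt_of_le_of_ne hS.le fun e => hc ⟨r, hr, e ▸ hS.isPGroup⟩) hS'⟩
  haveI := Fact.mk hr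
  haveI : Group.IsNilpotent M := hM.isNilpotent
  let Z : Subgroup G := M ⊓ Subgroup.centralizer (P : Subgroup G)
  have hZ : Z < M := lt_of_le_of_ne inf_le_left fun e => hnot (e ▸ inf_le_right)
  have hMM : ⁅M, M⁆ ≤ Z := le_inf (Subgroup.commutator_le_self M)
    (ih' _ (lt_of_le_of_lt le_sup_left (commutator_sup_lt_of_isNilpotent hZ)) (le_normalizer_commutator' hPM hPM))
  have hcomm : commutator M ≤ Z.subgroupOf M := by
    rw [commutator_def, Subgroup.commutator_le]
    intro x _ y _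
    exact hMM (Subgroup.commutator_mem_commutator x.2 y.2)
  haveI : (Z.subgroupOf M).Normal := Subgroup.Normal.of_commutator_le _ hcomm
  letI : CommGroup (M ⧸ Z.subgroupOf M) :=
    { (inferInstance : Group (M ⧸ Z.subgroupOf M)) with
      mul_comm := (Subgroup.Normal.quotient_commutative_iff_commutator_le.2 hcomm).is_comm.comm }
  letI := conjAction hPM
  have hZP : (P : Subgroup G) ≤ Subgroup.normalizer (Z : Set G) :=
    le_normalizer_inf' hPM (le_normalizer_centralizer' Subgroup.le_normalizer)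
  have hinv := invariant_conjAction_subgroupOf hPM hZP
  letI := quotAction (A := (P : Subgroup G)) (Z.subgroupOf M) hinv
  let φ := MulDistribMulAction.toMulAut (P : Subgroup G) (M ⧸ Z.subgroupOf M)
  have hφ : ∀ (a : (P : Subgroup G)) (x : M), φ a (x : M ⧸ Z.subgroupOf M) = ((a • x : M) : M ⧸ Z.subgroupOf M) :=
    fun _ _ => rfl
  have hH : IsPGroup p φ.range := P.isPGroup'.of_surjective _ φ.rangeRestrict_surjective
  have h0 : φ.range ≠ ⊥ := by
    intro hb
    apply hnot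
    rw [Subgroup.le_centralizer_iff]
    refine le_centralizer_of_commutator_le_of_le_centralizer hPM hcop (N := Z) ?_
      (Subgroup.le_centralizer_iff.1 inf_le_right)
    rw [Subgroup.commutator_comm, Subgroup.commutator_le]
    intro a ha x hx
    have h1 : φ ⟨a, ha⟩ = 1 := Subgroup.mem_bot.1 (hb ▸ ⟨_, rfl⟩)
    have h2 := hφ ⟨a, ha⟩ ⟨x, hx⟩
    rw [h1, MulAut.one_apply, eq_comm, QuotientGroup.eq_iff_div_mem] at h2
    simpa [Subgroup.mem_subgroupOf, div_eq_mul_inv, commutatorElement_def, conjAction_smul_coe] using h2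
  have hirr : ∀ U : Subgroup (M ⧸ Z.subgroupOf M), (∀ h ∈ φ.range, ∀ x ∈ U, h x ∈ U) → U = ⊥ ∨ U = ⊤ := by
    intro U hU
    let U' : Subgroup G := (U.comap (QuotientGroup.mk' _)).map M.subtype
    have hU' : (P : Subgroup G) ≤ Subgroup.normalizer (U' : Set G) :=
      (invariant_conjAction_iff hPM _).1 fun a x hx => hU _ ⟨a, rfl⟩ _ hx
    rcases (Subgroup.map_subtype_le _ : U' ≤ M).lt_or_eq with hlt | he
    · left
      rw [eq_bot_iff]
      intro v hv
      obtain ⟨x, rfl⟩ := QuotientGroup.mk_surjective v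
      exact (QuotientGroup.eq_one_iff _).2 ⟨x.2, ih' _ hlt hU' ⟨x, hv, rfl⟩⟩
    · right
      rw [eq_top_iff]
      intro v _
      obtain ⟨x, rfl⟩ := QuotientGroup.mk_surjective v
      obtain ⟨y, hy, e⟩ : x.1 ∈ U' := he.ge x.2
      rwa [← Subtype.ext e]
  have hcl : ∀ E : Set G, Subgroup.closure E = (P : Subgroup G) →
      Subgroup.closure (φ '' ((P : Subgroup G).subtype ⁻¹' E)) = φ.range := by
    intro E hE
    rw [← MonoidHom.map_closure, MonoidHom.range_eq_map]
    congr 1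
    have := Subgroup.closure_preimage_eq_top E
    rwa [hE] at this
  obtain ⟨_, ⟨c, hc, rfl⟩, hc'⟩ := exists_small_fix hp3 hH h0 hirr (hcl C hC)
  obtain ⟨_, ⟨d, hd, rfl⟩, hd'⟩ := exists_small_fix hp3 hH h0 hirr (hcl D hD)
  have hs : Function.Surjective fun y : fix (φ d) × fix (φ c) => y.1.1 * y.2.1 := by
    intro v
    obtain ⟨x, rfl⟩ := QuotientGroup.mk_surjective v
    obtain ⟨a, ha, b, hb, h1, h2, h3⟩ := factor P hPM hcop c.2 d.2 x.2 (h x x.2 c hc d hd)
    refine ⟨(⟨((⟨b, hb⟩ : M) : M ⧸ Z.subgroupOf M), ?_⟩, ⟨((⟨a, ha⟩ : M) : M ⧸ Z.subgroupOf M), ?_⟩), ?_⟩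
    · rw [mem_fix, hφ]; congr 1; exact Subtype.ext h2
    · rw [mem_fix, hφ]; congr 1; exact Subtype.ext h1
    · change ((⟨b, hb⟩ * ⟨a, ha⟩ : M) : M ⧸ Z.subgroupOf M) = _
      congr 1
      exact Subtype.ext h3.symm
  have h1 := Nat.card_le_card_of_surjective _ hs
  rw [Nat.card_prod] at h1
  have h2 : Nat.card (M ⧸ Z.subgroupOf M) ^ 3 ≤ Nat.card (M ⧸ Z.subgroupOf M) ^ 2 :=
    calc _ ≤ (Nat.card (fix (φ d)) * Nat.card (fix (φ c))) ^ 3 := Nat.pow_le_pow_left h1 3
      _ ≤ _ := by rw [mul_pow, pow_two]; exact Nat.mul_le_mul hd' hc'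
  have h3 : 1 < Nat.card (M ⧸ Z.subgroupOf M) :=
    Finite.one_lt_card_iff_nontrivial.2 (QuotientGroup.nontrivial_iff.2 fun e =>
      hZ.not_ge (Subgroup.subgroupOf_eq_top.1 e))
  exact absurd h2 (Nat.pow_lt_pow_right h3 (by norm_num)).not_ge


/-- Let p ≥ 3 be prime and G a finite group with a Sylow p-subgroup P and a normal p-complement N (N normal, of order prime to p, with NP = G). Suppose P is generated by a subset C and also by a subset D, and that ⟨x c x⁻¹, d⟩ is a p-group for all x ∈ N, c ∈ C, d ∈ D. Then P centralizes N, so that G = N × P. -/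
theorem result {G : Type*} [Group G] [Finite G] (p : ℕ) [Fact p.Prime] (hp3 : 3 ≤ p) (P : Sylow p G)
    (N : Subgroup G) [N.Normal] (hN : (Nat.card N).Coprime p) (hNP : N ⊔ (P : Subgroup G) = ⊤)
    (C D : Set G) (hC : Subgroup.closure C = (P : Subgroup G)) (hD : Subgroup.closure D = (P : Subgroup G))
    (h : ∀ x ∈ N, ∀ c ∈ C, ∀ d ∈ D, IsPGroup p ↥(Subgroup.closure ({x * c * x⁻¹, d} : Set G))) :
    ⁅(P : Subgroup G), N⁆ = ⊥ := by
  rw [Subgroup.commutator_eq_bot_iff_le_centralizer, ← Subgroup.le_centralizer_iff]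
  refine key hp3 P C D hC hD _ N rfl (by simp [Subgroup.normalizer_eq_top]) ?_ h
  obtain ⟨k, hk⟩ := IsPGroup.iff_card.1 P.isPGroup'
  rw [hk]
  exact Nat.Coprime.pow_left _ hN.symm

end Cfsg.Agent.S2277
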