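import Cfsg.Statements.S2468
import Cfsg.Agent.Known.SpecLU2

set_option autoImplicit false
open Cfsg

namespace Cfsg.Agent.S2468

/-- Adjacency of two odd primes in the prime graph of PSL(n,q): let F be a finite field of characteristic p with q elements, n ≥ 2 with PSL(n,F) simple, and let r ≠ s be odd primes different from p dividing the order of PSL(n,F). Let k and l be the multiplicative orders of q modulo r and modulo s, and suppose 2 ≤ k ≤ l. Then PSL(n,F) has NO element of order r·s if and only if k + l > n and k does not divide l. -/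
theorem result {F : Type*} [Field F] [Fintype F] (p : ℕ) [Fact p.Prime] [CharP F p] (n : ℕ) (hn : 2 ≤ n) (hsmall : n = 2 → 4 ≤ Fintype.card F)
    (r s : ℕ) (hr : r.Prime) (hs : s.Prime) (hr2 : r ≠ 2) (hs2 : s ≠ 2) (hrp : r ≠ p) (hsp : s ≠ p) (hrs : r ≠ s)
    (hrG : r ∣ Nat.card (Matrix.ProjectiveSpecialLinearGroup (Fin n) F)) (hsG : s ∣ Nat.card (Matrix.ProjectiveSpecialLinearGroup (Fin n) F))
    (k l : ℕ) (hk : k = orderOf ((Fintype.card F : ℕ) : ZMod r)) (hl : l = orderOf ((Fintype.card F : ℕ) : ZMod s))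
    (h2k : 2 ≤ k) (hkl : k ≤ l) :
    (r * s ∉ Set.range (orderOf : Matrix.ProjectiveSpecialLinearGroup (Fin n) F → ℕ)) ↔ (n < k + l ∧ ¬ k ∣ l) := by
  have h := CL.Spec.lu_PSL (F := F) p (n := n) (by omega)
  have e : ∀ r i : ℕ, (r : ℤ) ∣ (Fintype.card F : ℤ) ^ i - 1 ↔ orderOf ((Fintype.card F : ℕ) : ZMod r) ∣ i :=
    fun r i => by rw [CL.Spec.int_dvd_pow_sub_one_iff, Int.cast_natCast]
  have c : ∀ r : ℕ, r.Prime → 2 ≤ orderOf ((Fintype.card F : ℕ) : ZMod r) →
      IsCoprime (r : ℤ) ((Fintype.card F : ℤ) - 1) := fun r hr h2 =>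
    (Nat.prime_iff_prime_int.1 hr).irreducible.coprime_iff_not_dvd.2 fun h' => by
      have := Nat.le_of_dvd one_pos ((e r 1).1 (by simpa)); omega
  have c1 := c r hr (hk ▸ h2k)
  have c2 := c s hs (hl ▸ h2k.trans hkl)
  have c3 := (Nat.coprime_primes hr hs).2 hrs
  constructor
  · intro hm
    refine ⟨not_le.1 fun h1 => hm (h.mul_mem_of_add_le (by omega) (by omega) h1 ((e r k).2 hk.symm.dvd) c1
      ((e s l).2 hl.symm.dvd) c2 c3), fun h1 => hm ?_⟩
    obtain ⟨d, d0, d1, d2⟩ := h.exists_dvd ((CL.Perm.prime_mem_spec_iff hs).2 hsG) hs hsp dvd_rfl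
    have := Nat.le_of_dvd d0 (hl ▸ (e s d).1 d2)
    simpa using h.mul_pow_mem (N := r * s) (d := l) (k := 0) (by omega) (by omega) (by
      rw [Nat.cast_mul]
      exact (Nat.isCoprime_iff_coprime.2 c3).mul_dvd ((e r l).2 (hk ▸ h1)) ((e s l).2 hl.symm.dvd))
      (by rw [Nat.cast_mul]; exact c1.mul_left c2) (Or.inl rfl)
  · rintro ⟨h1, h2⟩ hm
    obtain ⟨a, b, a0, b0, ha, hb, hab⟩ := h.exists_dvd_dvd hm hr hrp (dvd_mul_right _ _) hs hsp (dvd_mul_left _ _)
    rw [e, ← hk] at ha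
    rw [e, ← hl] at hb
    have h3 := Nat.le_of_dvd a0 ha
    have h4 := Nat.le_of_dvd b0 hb
    rcases hab with hab | ⟨rfl, hab⟩
    · omega
    obtain ⟨t, rfl⟩ := hb
    have : t ≠ 1 := by rintro rfl; exact h2 (by simpa using ha)
    have : l * 2 ≤ l * t := Nat.mul_le_mul_left l (by have := Nat.pos_of_mul_pos_left a0; omega)
    omega

end Cfsg.Agent.S2468
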