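import Cfsg.Statements.S2470
import Cfsg.Agent.Known.SpecLU2

set_option autoImplicit false
open Cfsg

namespace Cfsg.Agent.S2470

/-- Adjacency of an odd prime and the characteristic in the prime graph of PSL(n,q): let F be a finite field of characteristic p with q elements, n ≥ 2 with PSL(n,F) simple, and let r ≠ p be an odd prime dividing the order of PSL(n,F), with k the multiplicative order of q modulo r. Then PSL(n,F) has NO element of order r·p if and only if either k > n − 2, or n = 3, r = 3 and 3 divides q − 1 exactly once. -/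
theorem result {F : Type*} [Field F] [Fintype F] (p : ℕ) [Fact p.Prime] [CharP F p] (n : ℕ) (hn : 2 ≤ n) (hsmall : n = 2 → 4 ≤ Fintype.card F)
    (r : ℕ) (hr : r.Prime) (hr2 : r ≠ 2) (hrp : r ≠ p) (hrG : r ∣ Nat.card (Matrix.ProjectiveSpecialLinearGroup (Fin n) F))
    (k : ℕ) (hk : k = orderOf ((Fintype.card F : ℕ) : ZMod r)) :
    (r * p ∉ Set.range (orderOf : Matrix.ProjectiveSpecialLinearGroup (Fin n) F → ℕ)) ↔
      (n - 2 < k ∨ (n = 3 ∧ r = 3 ∧ 3 ∣ Fintype.card F - 1 ∧ ¬ 9 ∣ Fintype.card F - 1)) := by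
  have h := CL.Spec.lu_PSL (F := F) p (n := n) (by omega)
  have e : ∀ i : ℕ, (r : ℤ) ∣ (Fintype.card F : ℤ) ^ i - 1 ↔ k ∣ i :=
    fun i => by rw [CL.Spec.int_dvd_pow_sub_one_iff, Int.cast_natCast, hk]
  have e1 : ∀ a : ℕ, (a : ℤ) ∣ (Fintype.card F : ℤ) - 1 ↔ a ∣ Fintype.card F - 1 := fun a => by
    rw [← Int.natCast_dvd_natCast, Nat.cast_sub Fintype.card_pos, Nat.cast_one]
  have hr' := Nat.prime_iff_prime_int.1 hr
  have hp' := Nat.prime_iff_prime_int.1 (Fact.out : p.Prime)
  constructor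
  · intro hm
    by_contra hc
    rw [not_or, not_lt] at hc
    obtain ⟨d, d0, -, d2⟩ := h.exists_dvd ((CL.Perm.prime_mem_spec_iff hr).2 hrG) hr hrp dvd_rfl
    have k0 := Nat.pos_of_dvd_of_pos ((e d).1 d2) d0
    apply hm
    by_cases k1 : k = 1
    · have h1 : (r : ℤ) ∣ (Fintype.card F : ℤ) - 1 := by simpa using (e 1).2 k1.dvd
      by_cases n3 : n = 3
      · subst n3
        refine (h.mem_three_iff _).2 (Or.inr (Or.inr (Or.inr (Or.inl ?_))))
        rw [Nat.cast_mul, ← mul_assoc, mul_comm (p : ℤ)]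
        refine mul_dvd_mul_right ?_ _
        by_cases r3 : r = 3
        · subst r3
          refine (mul_dvd_mul_right (Int.gcd_dvd_left _ _) _).trans ((e1 9).2 ?_)
          by_contra h9
          exact hc.2 ⟨rfl, rfl, (e1 3).1 h1, h9⟩
        · exact IsCoprime.mul_dvd ((Nat.isCoprime_iff_coprime.2 ((Nat.coprime_primes Nat.prime_three hr).2
            (Ne.symm r3))).of_isCoprime_of_dvd_left (Int.gcd_dvd_left _ _)) (Int.gcd_dvd_right _ _) h1
      · simpa using h.mul_pow_mem_of_dvd_sub_one (k := 1) (by omega) h1 (Or.inr (by simp; omega))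
    · simpa using h.mul_pow_mem (k := 1) k0 (by omega) ((e k).2 dvd_rfl) (hr'.irreducible.coprime_iff_not_dvd.2
        fun h' => k1 (Nat.dvd_one.1 ((e 1).1 (by simpa)))) (Or.inr (by simp; omega))
  · rintro (h1 | ⟨rfl, rfl, h1, h2⟩) hm
    · obtain ⟨-, d, d0, d1, d2⟩ := h.exists_dvd_char hm hr hrp (dvd_mul_right _ _) (dvd_mul_left _ _)
      have := Nat.le_of_dvd d0 ((e d).1 d2)
      omega
    have h3 : (p : ℤ) ∣ (3 * p : ℕ) := by simp
    rcases (h.mem_three_iff _).1 hm with h4 | h4 | h4 | h4 | ⟨rfl, h4⟩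
    · exact h.char.not_dvd_pow_sub_one (d := 3) (by omega) (((h3.mul_left _).trans h4).trans ⟨_ - 1, by ring⟩)
    · exact h.char.not_dvd_pow_sub_one (by omega) ((h3.mul_left _).trans h4)
    · exact h.char.not_dvd_pow_sub_one one_ne_zero (by simpa using h3.trans h4)
    · rw [Int.gcd_eq_left (a := 3) (by norm_num) ((e1 3).2 h1), Nat.cast_mul, ← mul_assoc, mul_comm (p : ℤ),
        mul_dvd_mul_iff_right hp'.ne_zero] at h4
      exact h2 ((e1 9).1 h4)
    · norm_num at h4

end Cfsg.Agent.S2470
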