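import Cfsg.Statements.S2477
import Cfsg.Agent.Known.AltOrders

set_option autoImplicit false
open Cfsg

namespace Cfsg.Agent.S2477

def tbl : List (ℕ × ℕ × ℕ) := [(0, 0, 1), (2, 1, 2), (3, 1, 3), (4, 0, 2), (4, 1, 4), (5, 0, 6), (5, 1, 5), (6, 0, 3), (6, 0, 4), (6, 1, 2), (6, 1, 6), (7, 0, 10), (7, 0, 12), (7, 1, 6), (7, 1, 7), (8, 0, 2), (8, 0, 4), (8, 0, 6), (8, 0, 15), (8, 1, 4), (8, 1, 6), (8, 1, 8), (9, 0, 6), (9, 0, 14), (9, 0, 20), (9, 1, 3), (9, 1, 9), (9, 1, 10), (9, 1, 12), (10, 0, 4), (10, 0, 5), (10, 0, 6), (10, 0, 8), (10, 0, 12), (10, 0, 21), (10, 1, 2), (10, 1, 4), (10, 1, 6), (10, 1, 10), (10, 1, 12), (10, 1, 30)]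

/-- The set of element orders of the alternating group of degree 10 is {1, 2, 3, 4, 5, 6, 7, 8, 9, 10, 12, 15, 21}. -/
theorem result : Set.range (orderOf : alternatingGroup (Fin 10) → ℕ) = {1, 2, 3, 4, 5, 6, 7, 8, 9, 10, 12, 15, 21} := by
  ext k
  rw [CL.Known.mem_range_orderOf_alt_iff, Fintype.card_fin]
  constructor
  · rintro ⟨m, h1, h2, h3, rfl⟩
    have h4 := CL.Known.cycleType_triple_mem 10 tbl (by decide) (by decide +kernel) m h1 h2
    have h5 : ∀ t ∈ tbl, (t.1 + t.2.1) % 2 = 0 → t.2.2 ∈ [1, 2, 3, 4, 5, 6, 7, 8, 9, 10, 12, 15, 21] := by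
      decide +kernel
    have h6 := h5 _ h4 (by rw [Nat.even_iff] at h3; simp only; omega)
    simpa using h6
  · intro hk
    simp only [Set.mem_insert_iff, Set.mem_singleton_iff] at hk
    rcases hk with rfl | rfl | rfl | rfl | rfl | rfl | rfl | rfl | rfl | rfl | rfl | rfl | rfl
    · exact ⟨([] : List ℕ), by decide, by decide, by decide, by decide⟩
    · exact ⟨([2, 2] : List ℕ), by decide, by decide, by decide, by decide⟩
    · exact ⟨([3] : List ℕ), by decide, by decide, by decide, by decide⟩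
    · exact ⟨([4, 2] : List ℕ), by decide, by decide, by decide, by decide⟩
    · exact ⟨([5] : List ℕ), by decide, by decide, by decide, by decide⟩
    · exact ⟨([3, 2, 2] : List ℕ), by decide, by decide, by decide, by decide⟩
    · exact ⟨([7] : List ℕ), by decide, by decide, by decide, by decide⟩
    · exact ⟨([8, 2] : List ℕ), by decide, by decide, by decide, by decide⟩
    · exact ⟨([9] : List ℕ), by decide, by decide, by decide, by decide⟩
    · exact ⟨([5, 2, 2] : List ℕ), by decide, by decide, by decide, by decide⟩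
    · exact ⟨([4, 3, 2] : List ℕ), by decide, by decide, by decide, by decide⟩
    · exact ⟨([5, 3] : List ℕ), by decide, by decide, by decide, by decide⟩
    · exact ⟨([7, 3] : List ℕ), by decide, by decide, by decide, by decide⟩

end Cfsg.Agent.S2477
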