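import Cfsg.Statements.S2488
import Cfsg.Agent.Loc.SylMeet
import Cfsg.Agent.S4231
import Cfsg.Agent.Cls.PermIso

set_option autoImplicit false
open scoped Pointwise
open Cfsg

namespace Cfsg.Agent.S2488

open Equiv Equiv.Perm in
theorem exists_sym_six {G : Type*} [Group G] [Finite G] (N : Subgroup G) [N.Normal]
    (e : N ≃* alternatingGroup (Fin 6)) (hidx : N.index = 4) (hC : Subgroup.centralizer (N : Set G) = ⊥) :
    ∃ ι : Perm (Fin 6) →* G, Function.Injective ι ∧ ι.range.index = 2 := by
  let φ : G →* MulAut (alternatingGroup (Fin 6)) := (MulAut.congr e).toMonoidHom.comp (MulAut.conjNormal (H := N))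
  have hφ : Function.Injective φ := (MulAut.congr e).injective.comp ((injective_iff_map_eq_one _).2 fun z hz => by
    rw [← Subgroup.mem_bot, ← hC, Subgroup.mem_centralizer_iff]
    intro k hk
    have := MulAut.conjNormal_apply (H := N) z ⟨k, hk⟩
    rw [hz] at this
    exact eq_mul_inv_iff_mul_eq.1 this)
  let ψ : Perm (Fin 6) →* MulAut (alternatingGroup (Fin 6)) := MulAut.conjNormal
  have hψ : Function.Injective ψ :=
    (injective_iff_map_eq_one _).2 fun g hg => CL.Known.eq_one_of_commute_alt (by simp) fun c hc => by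
      have := MulAut.conjNormal_apply (H := alternatingGroup (Fin 6)) g ⟨c, hc.mem_alternatingGroup⟩
      rw [hg] at this
      exact (eq_mul_inv_iff_mul_eq.1 this).symm
  have key : ∀ β : MulAut (alternatingGroup (Fin 6)), (∀ c : alternatingGroup (Fin 6), IsThreeCycle c.1 →
      IsThreeCycle (β c).1) → β ∈ ψ.range := by
    intro β hβ
    obtain ⟨g, hg⟩ := CL.Known.exists_conj_of_three_cycles (by simp) β hβ
    exact ⟨g, MulEquiv.ext fun x => Subtype.ext (by rw [MulAut.conjNormal_apply, hg])⟩
  have hconj : ∀ (β : MulAut (alternatingGroup (Fin 6))) {x y : alternatingGroup (Fin 6)}, IsConj x y →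
      IsThreeCycle (β x).1 → IsThreeCycle (β y).1 := by
    intro β x y hxy h
    have := isConj_iff_cycleType_eq.1 ((alternatingGroup (Fin 6)).subtype.map_isConj (β.toMonoidHom.map_isConj hxy))
    exact this.symm.trans h
  have hnot : ∀ β : MulAut (alternatingGroup (Fin 6)), β ∉ ψ.range → ∀ c : alternatingGroup (Fin 6),
      IsThreeCycle c.1 → ¬ IsThreeCycle (β c).1 := fun β hβ c hc h =>
    hβ (key β fun d hd => hconj β (alternatingGroup.isThreeCycle_isConj (by simp) hc hd) h)
  have hmul : ∀ α β : MulAut (alternatingGroup (Fin 6)), α ∉ ψ.range → β ∉ ψ.range → α * β ∈ ψ.range := by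
    intro α β hα hβ
    refine key _ fun c hc => ?_
    have hoc : orderOf c = 3 := by rw [← Subgroup.orderOf_coe, hc.orderOf]
    change IsThreeCycle (α (β c)).1
    by_contra h2
    have h3 := Cfsg.Agent.S4231.isConj_alt_of_two_threes (x := α c) (y := α (β c)) (by rw [α.orderOf_eq, hoc])
      (by rw [α.orderOf_eq, β.orderOf_eq, hoc]) (hnot α hα c hc) h2
    exact hnot β hβ c hc (by simpa using hconj α⁻¹ h3 (by simpa using hc))
  let K : Subgroup G := ψ.range.comap φ
  have hK : K.index ∣ 2 := by
    rw [Subgroup.index_dvd_two_iff]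
    by_cases h : ∃ a, a ∉ K
    · obtain ⟨a, ha⟩ := h
      refine ⟨a, fun b => ?_⟩
      by_cases hb : b ∈ K
      · exact Or.inr hb
      · exact Or.inl (by
          change φ (b * a) ∈ ψ.range
          rw [map_mul]
          exact hmul _ _ hb ha)
    · push Not at h
      exact ⟨1, fun b => Or.inr (h b)⟩
  let f : K →* Perm (Fin 6) :=
    (MonoidHom.ofInjective hψ).symm.toMonoidHom.comp ((φ.comp K.subtype).codRestrict _ fun g => g.2)
  have hf : Function.Injective f := (MonoidHom.ofInjective hψ).symm.injective.comp fun a b h =>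
    Subtype.ext (hφ (congrArg Subtype.val h))
  have h1 := N.card_mul_index
  rw [Nat.card_congr e.toEquiv, nat_card_alternatingGroup, hidx] at h1
  have h2 := K.card_mul_index
  have h3 := Nat.card_le_card_of_injective f hf
  have h4 : Nat.card (Perm (Fin 6)) = 720 := by rw [Nat.card_perm]; simp [Nat.factorial]
  have h5 : Nat.card G = 1440 := by rw [← h1]; simp [Nat.factorial]
  rw [h4] at h3
  have h6 : K.index = 2 := by
    rcases (Nat.dvd_prime Nat.prime_two).1 hK with h | h
    · rw [h] at h2; omega
    · exact h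
  rw [h6] at h2
  let g := MulEquiv.ofBijective f (hf.bijective_of_nat_card_le (by omega))
  refine ⟨K.subtype.comp g.symm.toMonoidHom, K.subtype_injective.comp g.symm.injective, ?_⟩
  rw [MonoidHom.range_comp, MonoidHom.range_eq_top.2 g.symm.surjective, ← MonoidHom.range_eq_map,
    Subgroup.range_subtype, h6]

open Equiv in
theorem isPGroup_normalizer {U : Subgroup (Perm (Fin 6))} (hU : CL.Grp.IsSylowIn 2 U ⊤) :
    IsPGroup 2 (Subgroup.normalizer (U : Set (Perm (Fin 6)))) := by
  let z : Perm (Fin 6) := swap 0 1 * swap 2 3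
  let C : Subgroup (Perm (Fin 6)) := Subgroup.centralizer {z}
  have hz : z.cycleType = Multiset.replicate 2 2 := by decide +kernel
  have hC : Nat.card C = 2 ^ 4 := by
    rw [CL.Known.card_centralizer_of_replicate (by norm_num) hz]
    simp [Nat.factorial]
  have hP : IsPGroup 2 C := IsPGroup.of_card hC
  have hS : CL.Grp.IsSylowIn 2 C ⊤ := ⟨le_top, hP, by
    have h := C.card_mul_index
    rw [hC, Nat.card_perm] at h
    simp [Nat.factorial] at h
    rw [Subgroup.relIndex_top_right]
    omega⟩
  have key : ∀ g : Perm (Fin 6), swap 0 1 * (g * z * g⁻¹) = g * z * g⁻¹ * swap 0 1 →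
      swap 0 2 * swap 1 3 * (g * z * g⁻¹) = g * z * g⁻¹ * (swap 0 2 * swap 1 3) → g * z = z * g := by
    decide +kernel
  have hN : Subgroup.normalizer (C : Set (Perm (Fin 6))) ≤ C := fun g hg => by
    have h : ∀ y ∈ C, y * (g * z * g⁻¹) = g * z * g⁻¹ * y := fun y hy => by
      have h1 : g⁻¹ * y * g ∈ C := (Subgroup.mem_normalizer_iff''.1 hg y).1 hy
      rw [Subgroup.mem_centralizer_singleton_iff] at h1
      calc y * (g * z * g⁻¹) = g * (g⁻¹ * y * g * z) * g⁻¹ := by group
        _ = g * z * g⁻¹ * y := by rw [h1]; group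
    rw [Subgroup.mem_centralizer_singleton_iff]
    exact key g (h _ (Subgroup.mem_centralizer_singleton_iff.2 (by decide)))
      (h _ (Subgroup.mem_centralizer_singleton_iff.2 (by decide)))
  obtain ⟨g, -, rfl⟩ := hS.exists_conj_eq hU
  rw [CL.Grp.normalizer_conj_smul]
  exact CL.Grp.IsPGroup.conj_smul (hP.to_le hN) g

/-- Let G be a finite group with a normal subgroup N of index 4 isomorphic to the alternating group of degree 6 and with trivial centralizer in G (so G is the full automorphism group of A₆). Then any two Sylow 2-subgroups of G have a non-trivial intersection: for a Sylow 2-subgroup H and every x ∈ G, H ∩ H^x ≠ 1. -/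
theorem result {G : Type*} [Group G] [Finite G] (N : Subgroup G) [N.Normal]
    (e : N ≃* alternatingGroup (Fin 6)) (hidx : N.index = 4)
    (hC : Subgroup.centralizer (N : Set G) = ⊥)
    (H : Sylow 2 G) (x : G) :
    (H : Subgroup G) ⊓ MulAut.conj x • (H : Subgroup G) ≠ ⊥ := by
  obtain ⟨ι, hι, hK⟩ := exists_sym_six N e hidx hC
  obtain ⟨f⟩ := CL.Cls.nonempty_Sp4_two (ZMod.card 2)
  obtain ⟨Q, L, -⟩ := (CL.Chev.hasPreLie_Sp (F := ZMod 2) 2 2).of_equiv f.symm
  refine CL.Loc.sylow_meet_of_preLie ι hι hK L ?_ H x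
  rw [← Q.normalizer_U]
  exact isPGroup_normalizer (CL.Loc.preLie_isSylowIn L)

end Cfsg.Agent.S2488
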