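import Cfsg.Statements.S2495
import Cfsg.Agent.Known.SpecLU2
import Cfsg.Agent.S2904

set_option autoImplicit false
open Cfsg

namespace Cfsg.Agent.S2495

/-- Let q be an odd prime power, n ≥ 4 even, and L = PSL(n,q). Then L has an element of order q^(n/2) + 1 if and only if the 2-part of n exceeds the 2-part of q − 1. -/
theorem result {F : Type*} [Field F] [Fintype F] {q : ℕ} (hF : Fintype.card F = q) (hodd : Odd q)
    {n : ℕ} (hn : 4 ≤ n) (heven : Even n) :
    (∃ g : Matrix.ProjectiveSpecialLinearGroup (Fin n) F, orderOf g = q ^ (n / 2) + 1) ↔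
      padicValNat 2 (q - 1) < padicValNat 2 n := by
  obtain ⟨p, hp⟩ := CharP.exists F
  haveI := Fact.mk (CharP.char_is_prime F p)
  have h := CL.Spec.lu_PSL (F := F) p (n := n) (by omega)
  rw [hF] at h
  have hq : 1 < q := hF ▸ Fintype.one_lt_card
  obtain ⟨s, hs, h1, h2⟩ := Cfsg.Agent.S2904.result q n hq (by omega)
    (by rintro ⟨rfl, -⟩; exact absurd hodd (by decide)) (by omega)
  have := h.half_mem_iff (t := n / 2) (Nat.two_mul_div_two_of_even heven).symm (by omega) hodd.natCast hs
    (by simpa using (CL.Fgs.dvd_sub_one_of_primitive s q n hs hq.le (by omega) h1 h2).1)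
  rwa [show ((q : ℤ) - 1).natAbs = q - 1 by omega, ← Nat.cast_pow, ← Nat.cast_succ, Int.natAbs_natCast] at this

end Cfsg.Agent.S2495
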