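import Cfsg.Statements.S2496
import Cfsg.Agent.Known.SpecLU2
import Cfsg.Agent.S2904

set_option autoImplicit false
open Cfsg

namespace Cfsg.Agent.S2496

theorem exists_prime_orderOf_neg {q t : ℕ} (hq : 2 < q) (ht : 2 ≤ t) :
    ∃ s : ℕ, s.Prime ∧ orderOf ((-(q : ℤ) : ℤ) : ZMod s) = 2 * t := by
  obtain ⟨n, h3, hn⟩ : ∃ n, 3 ≤ n ∧ ((Even t ∧ n = 2 * t) ∨ (Odd t ∧ n = t)) := by
    rcases Nat.even_or_odd t with h | h
    · exact ⟨_, by omega, Or.inl ⟨h, rfl⟩⟩
    · exact ⟨_, by obtain ⟨k, rfl⟩ := h; omega, Or.inr ⟨h, rfl⟩⟩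
  obtain ⟨s, hs, h1, h2⟩ := Cfsg.Agent.S2904.result q n (by omega) (by omega) (by omega) (by omega)
  obtain ⟨h4, h5⟩ := CL.Fgs.dvd_sub_one_of_primitive s q n hs (by omega) (by omega) h1 h2
  haveI := Fact.mk hs
  haveI : Fact (2 < s) := ⟨by have := Nat.le_of_dvd (by have := hs.two_le; omega) h5; omega⟩
  refine ⟨s, hs, ?_⟩
  rw [Int.cast_neg, Int.cast_natCast]
  generalize (q : ZMod s) = x at h4
  have key : ∀ i, (-x) ^ i = 1 → 2 * t ∣ i := fun i hi => by
    rcases Nat.even_or_odd i with e | e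
    · rw [e.neg_pow, ← orderOf_dvd_iff_pow_eq_one, h4] at hi
      rcases hn with ⟨-, rfl⟩ | ⟨h, rfl⟩
      · exact hi
      · exact (Nat.coprime_two_left.2 h).mul_dvd_of_dvd_of_dvd e.two_dvd hi
    · rw [e.neg_pow, neg_eq_iff_eq_neg] at hi
      have h6 : n ∣ i * 2 := h4 ▸ orderOf_dvd_of_pow_eq_one (by rw [pow_mul, hi]; simp)
      rcases hn with ⟨h, rfl⟩ | ⟨h, rfl⟩
      · exact absurd (h.two_dvd.trans (Nat.dvd_of_mul_dvd_mul_left two_pos (mul_comm i 2 ▸ h6))) e.not_two_dvd_nat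
      · have := orderOf_dvd_iff_pow_eq_one.1 (h4 ▸ (Nat.coprime_two_right.2 h).dvd_of_dvd_mul_right h6)
        exact absurd (hi.symm.trans this) (ZMod.neg_one_ne_one (n := s))
  refine Nat.dvd_antisymm (orderOf_dvd_of_pow_eq_one ?_) (key _ (pow_orderOf_eq_one _))
  rw [(even_two_mul t).neg_pow, ← orderOf_dvd_iff_pow_eq_one, h4]
  rcases hn with ⟨-, rfl⟩ | ⟨-, rfl⟩ <;> simp

/-- Let q be an odd prime power, n ≥ 4 even, and U = PSU(n,q) (realised over the field with q² elements). Then U has an element of order q^(n/2) + (−1)^(n/2) — that is, q^(n/2) + 1 when n/2 is even and q^(n/2) − 1 when n/2 is odd — if and only if the 2-part of n exceeds the 2-part of q + 1. -/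
theorem result {F : Type*} [Field F] [Fintype F] {q : ℕ} (hF : Fintype.card F = q ^ 2) (hodd : Odd q)
    {n : ℕ} (hn : 4 ≤ n) (heven : Even n) :
    (∃ g : Cfsg.PSU n F q, orderOf g = if Even (n / 2) then q ^ (n / 2) + 1 else q ^ (n / 2) - 1) ↔
      padicValNat 2 (q + 1) < padicValNat 2 n := by
  obtain ⟨p, hp⟩ := CharP.exists F
  haveI := Fact.mk (CharP.char_is_prime F p)
  have h := CL.Spec.lu_PSU (F := F) p hF (n := n) (by omega)
  have hq := CL.Uni.two_le_q hF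
  obtain ⟨s, hs, h1⟩ := exists_prime_orderOf_neg (q := q) (t := n / 2) (by obtain ⟨k, rfl⟩ := hodd; omega) (by omega)
  have e := Nat.two_mul_div_two_of_even heven
  have := h.half_mem_iff (t := n / 2) e.symm (by omega) hodd.natCast.neg hs (h1.trans e)
  rw [show (-(q : ℤ) - 1).natAbs = q + 1 by omega] at this
  rw [← this]
  have h2 := Nat.one_le_pow (n / 2) q (by omega)
  split_ifs with e
  · rw [e.neg_pow, ← Nat.cast_pow, ← Nat.cast_succ, Int.natAbs_natCast]; rfl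
  · rw [(Nat.not_even_iff_odd.1 e).neg_pow, ← Nat.cast_pow,
      show (-((q ^ (n / 2) : ℕ) : ℤ) + 1).natAbs = q ^ (n / 2) - 1 by omega]; rfl

end Cfsg.Agent.S2496
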