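import Cfsg.Statements.S2509
import Cfsg.Agent.Cls.Pron7


set_option autoImplicit false
open Cfsg

namespace Cfsg.Agent.S2509

/-- Let G be a finite direct product of groups PSp_{2m_i}(F_i) (the symplectic group on a 2m_i-dimensional space modulo its centre), where each m_i is a power of 2 (m_i = 1, giving PSL₂, is allowed), each F_i is a finite field of odd order, and each factor PSp_{2m_i}(F_i) is a simple group. Then every subgroup H of G of odd index is pronormal in G: for every g ∈ G the subgroups H and gHg⁻¹ are conjugate by an element of the subgroup they generate. -/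
theorem result {t : ℕ}
    (m : Fin t → ℕ) (F : Fin t → Type*) [∀ i, Field (F i)] [∀ i, Fintype (F i)]
    (hm : ∀ i, ∃ k : ℕ, m i = 2 ^ k) (hodd : ∀ i, Odd (Fintype.card (F i)))
    (hs : ∀ i, IsSimpleGroup (Cfsg.PSp (m i) (F i)))
    (H : Subgroup (Π i, Cfsg.PSp (m i) (F i))) (hH : Odd H.index) : Cfsg.IsPronormal H := by
  choose k hk using hm
  choose φ hφ using fun i => CL.Pron.exists_surj_psp (F := F i) (m i)
  have : ∀ i, Finite ((Fin (m i) → CL.Pron.U2 (F i)) ≃ₗ[F i] (Fin (m i) → CL.Pron.U2 (F i))) := fun i =>
    DFunLike.finite _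
  exact (CL.Pron.allPron_pi fun i => (hk i).symm ▸ CL.Pron.good_isom (hodd i) (k i)).of_surjective
    (MonoidHom.piMap φ) (fun y => ⟨fun i => (hφ i (y i)).choose, funext fun i => (hφ i (y i)).choose_spec⟩) H
    hH.not_two_dvd_nat

end Cfsg.Agent.S2509
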