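import Cfsg.Statements.S2517
import Cfsg.Agent.Cls.OSpec6

set_option autoImplicit false
open Cfsg

namespace Cfsg.Agent.S2517

open CL.Cls


/-- Let F be a finite field of odd order q, let Ω₉ be the simple orthogonal group PΩ(9, F), and let Ω₈⁻ be the commutator subgroup of the isometry group of a minus-type non-singular quadratic form on V = F⁸ (the simple group PΩ⁻(8, F), acting on its natural module V). Then Ω₉ and the semidirect product V ⋊ Ω₈⁻ have exactly the same set of element orders. -/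
theorem result {F : Type*} [Field F] [Fintype F] (hF : Odd (Fintype.card F)) (a b : F)
    (hab : ∀ z₁ z₂ : F, z₁ ^ 2 + a * z₁ * z₂ + b * z₂ ^ 2 = 0 → z₁ = 0 ∧ z₂ = 0) :
    Set.range (orderOf : Cfsg.POmega F (Cfsg.quadFormOdd 4 F) → ℕ) =
      Set.range (orderOf :
        (Multiplicative (((Fin 3 ⊕ Fin 3) ⊕ Fin 2) → F)) ⋊[
          (MulAutMultiplicative (((Fin 3 ⊕ Fin 3) ⊕ Fin 2) → F)).symm.toMonoidHom.comp
           ((DistribMulAction.toAddAut (LinearMap.GeneralLinearGroup F (((Fin 3 ⊕ Fin 3) ⊕ Fin 2) → F))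
              (((Fin 3 ⊕ Fin 3) ⊕ Fin 2) → F)).comp
            (Matrix.GeneralLinearGroup.toLin.toMonoidHom.comp
              ((Cfsg.isometryGroup F (Cfsg.quadFormMinus 3 F a b)).subtype.comp
                (Cfsg.Omega F (Cfsg.quadFormMinus 3 F a b)).subtype)))]
          ↥(Cfsg.Omega F (Cfsg.quadFormMinus 3 F a b)) → ℕ) := by
  obtain ⟨p, hp⟩ := CharP.exists F
  have := Fact.mk (CharP.char_is_prime F p)
  have h2 := two_ne_zero_of_odd_card hF
  have hQ := nondeg_qfMinus (m := 3) a b hab
  have hV : Module.finrank F ((Fin 3 ⊕ Fin 3) ⊕ Fin 2 → F) = 8 := by simp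
  have hd : ¬ CL.Known.sqDisc (QuadraticMap.polarBilin (qfMinus 3 F a b)) := fun h => by
    have h1 := (negOG_mem_commutator_qfMinus h2 3 a b hab).1
      ((negOG_mem_commutator_iff hQ h2 (Module.finBasis F _)).2 ⟨hV ▸ by decide, h⟩)
    have h4 : Fintype.card F % 4 = 1 ∨ Fintype.card F % 4 = 3 := by obtain ⟨t, ht⟩ := hF; omega
    rcases h4 with h | h <;> simp [Nat.pow_mod, h] at h1
  have h := afS_aff p hQ h2 hV hd
  have h' := omS_POmega p hF (n := 4) (by omega)
  refine ((h.superset h').antisymm (h.subset h')).trans (CL.Perm.spec_congr (MulEquiv.symm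
    { toFun := fun x => ⟨x.left.toAdd, omegaEquiv (qfMinus 3 F a b) x.right⟩
      invFun := fun x => ⟨Multiplicative.ofAdd x.v, (omegaEquiv (qfMinus 3 F a b)).symm x.g⟩
      left_inv := fun x => SemidirectProduct.ext rfl ((omegaEquiv (qfMinus 3 F a b)).symm_apply_apply x.right)
      right_inv := fun x => by simp
      map_mul' := fun x y => CL.Perm.Aff.ext rfl (map_mul _ _ _) }))

end Cfsg.Agent.S2517
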