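import Cfsg.Statements.S2804
import Cfsg.Agent.Even.PRed

set_option autoImplicit false
open Cfsg

namespace Cfsg.Agent.S2804

/-- Let L be a finite group and p a prime with C_L(O_p(L)) ≤ O_p(L), V a p-reduced normal subgroup of L and K a subnormal subgroup of L. Then [V, O^p(K)] is contained in K and is a p-reduced normal subgroup of K, where O^p(K) is the subgroup of K generated by its elements of order prime to p. -/
theorem result {L : Type*} [Group L] [Finite L] {p : ℕ} [Fact p.Prime] (hchar : Subgroup.centralizer (Cfsg.pCore p L : Set L) ≤ Cfsg.pCore p L) (V : Subgroup L) (hV : Cfsg.IsPReducedNormal p V) (K : Subgroup L) (hK : K.IsSubnormal) : ⁅V, (Cfsg.pResidual p ↥K).map K.subtype⁆ ≤ K ∧ Cfsg.IsPReducedNormal p ((⁅V, (Cfsg.pResidual p ↥K).map K.subtype⁆).subgroupOf K) := by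
  open Subgroup CL.Even CL.Grp commutatorElement in
  rw [res_def]
  have hV' := isPReducedNormal_iff_top.mp hV
  have hK' := subnIn_top_iff.mpr hK
  have h1 : ⁅V, pResidualOf p K⁆ ≤ pResidualOf p K :=
    commutator_le_of_le_norm' (hV'.le_core.trans (core_le_norm_res hK'))
  have h2 : ⁅V, pResidualOf p K⁆ ≤ V := commutator_le_of_le_norm (le_top.trans hV'.norm)
  refine ⟨h1.trans (res_le K), (isPReducedNormal_subgroupOf (h1.trans (res_le K))).mpr
    ⟨h1.trans (res_le K), le_norm_commutator (le_top.trans hV'.norm) (self_le_norm_res K),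
      elem_of_le hV'.elem h2, fun D hD hn hr => le_trans ?_ (cent_mono h2)⟩⟩
  refine hV'.red.le_cent_of_subnIn hV'.norm ((SubnIn.of_le_normalizer hD hn).trans hK') ?_
  exact res_le_cent ((elem_isP hV'.elem).to_le h2) (commutator_mono le_rfl (res_mono hD)) hr

end Cfsg.Agent.S2804
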