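import Cfsg.Statements.S2806
import Cfsg.Agent.Even.SubnSyl

set_option autoImplicit false
open Cfsg

namespace Cfsg.Agent.S2806

/-- Let H be a finite group of local characteristic p, T a Sylow p-subgroup, and L₁, L₂ subnormal subgroups of H generating the subgroup L. Then the point stabilizer of L with respect to T ∩ L is generated by the point stabilizers of L₁ and L₂ with respect to T ∩ L₁ and T ∩ L₂ (point stabilizer of X w.r.t. R: the subgroup generated by the p-elements of X centralizing Ω₁(Z(R))). -/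
theorem result {H : Type*} [Group H] [Finite H] {p : ℕ} [Fact p.Prime] (hH : Cfsg.IsOfLocalCharacteristic p H) (T : Sylow p H) (L₁ L₂ : Subgroup H) (h₁ : L₁.IsSubnormal) (h₂ : L₂.IsSubnormal) : Cfsg.pointStabilizer p (L₁ ⊔ L₂) ((T : Subgroup H) ⊓ (L₁ ⊔ L₂)) = Cfsg.pointStabilizer p L₁ ((T : Subgroup H) ⊓ L₁) ⊔ Cfsg.pointStabilizer p L₂ ((T : Subgroup H) ⊓ L₂) := by
  open Subgroup CL.Even CL.Grp commutatorElement in
  have hT := isSylowIn_top T
  have hloc : LocCharP p (⊤ : Subgroup H) := fun U _ hp hne => by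
    rw [top_inf_eq]; exact isCharP_iff.mpr (hH.2 U hp hne)
  set C := 𝒞(Cfsg.omegaOneCenter p (T : Subgroup H))
  have key : ∀ X : Subgroup H, SubnIn X ⊤ →
      Cfsg.pointStabilizer p X ((T : Subgroup H) ⊓ X) = Cfsg.pElementClosure p (X ⊓ C) := by
    intro X hX
    change Cfsg.pElementClosure p (X ⊓ 𝒞(Cfsg.omegaOneCenter p ((T : Subgroup H) ⊓ X))) = _
    by_cases e : (T : Subgroup H) ⊓ X = ⊥
    · have h1 : Cfsg.pElementClosure p X = ⊥ := by
        have := (syl_inf_of_subnIn hX hT).not_dvd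
        rw [e, relIndex_bot_left] at this
        exact CL.Loc.pElementClosure_eq_bot_iff.mpr this
      rw [eq_bot_iff.mpr ((CL.Loc.pElementClosure_mono inf_le_left).trans h1.le),
        eq_bot_iff.mpr ((CL.Loc.pElementClosure_mono inf_le_left).trans h1.le)]
    · rw [LocCharP.kieler hX hloc hT e]
  have s₁ := subnIn_top_iff.mpr h₁
  have s₂ := subnIn_top_iff.mpr h₂
  rw [key _ s₁, key _ s₂, key _ (s₁.sup s₂)]
  refine le_antisymm (CL.Loc.pElementClosure_le_iff.mpr fun P hP hp => ?_)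
    (sup_le (CL.Loc.pElementClosure_mono (inf_le_inf_right _ le_sup_left))
      (CL.Loc.pElementClosure_mono (inf_le_inf_right _ le_sup_right)))
  have hS := syl_inf_of_subnIn (s₁.sup s₂) hT
  have hS' : IsSylowIn p _ ((L₁ ⊔ L₂) ⊓ C) := hS.of_le (le_inf inf_le_right (inf_le_left.trans (le_cent_ozc _))) inf_le_left
  obtain ⟨S, hS₁, hPS⟩ := exists_isSylowIn_ge hp hP
  have hS₂ : IsSylowIn p S (L₁ ⊔ L₂) := hS.of_card_le hS₁.isPGroup (hS₁.le.trans inf_le_left)
    (hS'.card_eq hS₁).le
  have h3 := sup_inf_syl_eq hS₂ (s₁.of_le le_sup_left le_top) (s₂.of_le le_sup_right le_top)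
  refine (le_inf (hP.trans inf_le_left) hPS).trans (h3.le.trans (sup_le_sup ?_ ?_))
  all_goals
    exact CL.Loc.le_pElementClosure (hS₁.isPGroup.to_le inf_le_right)
      (inf_le_inf_left _ (hS₁.le.trans inf_le_right))

end Cfsg.Agent.S2806
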