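import Cfsg.Statements.S2814
import Cfsg.Agent.Even.FStarAct

set_option autoImplicit false
open Cfsg

namespace Cfsg.Agent.S2814

/-- Let A be a subgroup of the finite group H and K the subnormal closure of A (intersection of the subnormal subgroups containing A). Then K is the normal closure of A inside K and N_H(A) ≤ N_H(K); K = A·O^p(K), O^p(K) being generated by the elements of K of order prime to p; and if A is a p-group, O^p(K) = [O^p(K), A]. -/
theorem result {H : Type*} [Group H] [Finite H] {p : ℕ} [Fact p.Prime] (A : Subgroup H) (K : Subgroup H) (hK : K = Cfsg.subnormalClosure A) : (Subgroup.normalClosure ((A.subgroupOf K : Subgroup ↥K) : Set ↥K)).map K.subtype = K ∧ Subgroup.normalizer (A : Set H) ≤ Subgroup.normalizer (K : Set H) ∧ A ⊔ (Cfsg.pResidual p ↥K).map K.subtype = K ∧ (IsPGroup p ↥A → ⁅(Cfsg.pResidual p ↥K).map K.subtype, A⁆ = (Cfsg.pResidual p ↥K).map K.subtype) := by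
  open Subgroup CL.Even CL.Grp commutatorElement in
  have hA : A ≤ K := hK ▸ le_sInf fun _ h => h.1
  have hmin : ∀ X : Subgroup H, A ≤ X → SubnIn X ⊤ → K ≤ X := fun X h1 h2 =>
    hK ▸ sInf_le ⟨h1, subnIn_top_iff.mp h2⟩
  have hs : SubnIn K ⊤ := by
    obtain ⟨X, ⟨h1, h2⟩, h3⟩ := (Set.toFinite {X : Subgroup H | A ≤ X ∧ SubnIn X ⊤}).exists_minimal
      ⟨⊤, le_top, SubnIn.refl _⟩
    have : X = K := le_antisymm (hK ▸ le_sInf fun Y hY => (h3 ⟨le_inf h1 hY.1,
      h2.inf (subnIn_top_iff.mpr hY.2)⟩ inf_le_left).trans inf_le_right) (hmin X h1 h2)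
    exact this ▸ h2
  have h1 : A ⊔ Cfsg.pResidualOf p K = K := le_antisymm (sup_le hA (res_le K)) (hmin _ le_sup_left
    ((subnIn_of_res_le le_sup_right (sup_le hA (res_le K))).trans hs))
  rw [map_normalClosure_subgroupOf hA, res_def]
  refine ⟨le_antisymm (ncl_le_self hA) (hmin _ (le_ncl _ _) ((SubnIn.of_le_normalizer (ncl_le_self hA)
    (le_norm_ncl _ _)).trans hs)), le_norm_of_cj_le fun g hg => cj_le_iff.mpr (hmin _ ?_ ?_), h1,
    fun hp => le_antisymm (commutator_le_of_le_norm (hA.trans (self_le_norm_res K))) ?_⟩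
  · rw [← cj_le_iff, cj_eq hg]; exact hA
  · have := hs.map (MulAut.conj g⁻¹).toMonoidHom
    rwa [cj_top] at this
  · have h2 : K ≤ A ⊔ ⁅Cfsg.pResidualOf p K, A⁆ := hmin _ le_sup_left ((SubnIn.of_le_normalizer
      (sup_le hA ((commutator_le_of_le_norm (hA.trans (self_le_norm_res K))).trans (res_le K)))
      (h1.ge.trans (sup_le (le_norm_of_le le_sup_left) (le_norm_sup_commutator _ _)))).trans hs)
    exact (res_mono h2).trans (res_sup_le_of_isPGroup hp (normalizer_commutator_ge_right _ _))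

end Cfsg.Agent.S2814
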