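import Cfsg.Statements.S2815
import Cfsg.Agent.Even.FStarAct

set_option autoImplicit false
open Cfsg

namespace Cfsg.Agent.S2815

/-- Let H be a finite group and p a prime dividing its order with O_p(H) = 1, and suppose K = O^p(H) (generated by the elements of order prime to p) is quasisimple. Then K = F*(H); for every nontrivial p-subgroup Y of H, K = [K, Y] and K lies in the subgroup generated by the K-conjugates of Y; every normal subgroup of H not containing K has order prime to p; and H is p-irreducible. -/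
theorem result {H : Type*} [Group H] [Finite H] {p : ℕ} [Fact p.Prime] (hp : p ∣ Nat.card H) (hO : Cfsg.pCore p H = ⊥) (hq : Cfsg.IsQuasisimple ↥(Cfsg.pResidual p H)) : Cfsg.pResidual p H = Cfsg.generalizedFittingSubgroup H ∧ (∀ Y : Subgroup H, IsPGroup p ↥Y → Y ≠ ⊥ → ⁅Cfsg.pResidual p H, Y⁆ = Cfsg.pResidual p H ∧ Cfsg.pResidual p H ≤ ⨆ k : ↥(Cfsg.pResidual p H), Y.map (MulAut.conj (k : H)).toMonoidHom) ∧ (∀ C : Subgroup H, C.Normal → ¬ Cfsg.pResidual p H ≤ C → (Nat.card ↥C).Coprime p) ∧ Cfsg.IsPIrreducible p H := by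
  open Subgroup CL.Even CL.Grp commutatorElement in
  rw [← res_top] at hq ⊢
  rw [← core_top] at hO
  rw [← CL.Loc.fstarOf_top]
  set K := Cfsg.pResidualOf p (⊤ : Subgroup H)
  have hK : CL.Loc.IsCompIn K ⊤ := ⟨subnIn_res ⊤, hq⟩
  have h1 : K = CL.Loc.fstarOf ⊤ := by
    refine le_antisymm (hK.le_subgroupLayer.trans (CL.Loc.subgroupLayer_le_fstarOf _)) ?_
    rw [← res_eq_self_of_fstar (fstarOf_fstarOf ⊤) (core_eq_bot_of_subnIn (fstarOf_subnIn ⊤) hO)]
    exact res_mono le_top
  have h2 : ∀ C : Subgroup H, C.Normal → ¬ K ≤ C → (Nat.card C).Coprime p := fun C hC h => by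
    have h3 := (hK.le_or_commutator_eq_bot_of_le_normalizer le_top
      (le_top.trans (normal_iff_top_le.mp hC))).resolve_left h
    rw [commutator_eq_bot_iff', h1] at h3
    exact coprime_card_of_forall fun P hP hp => eq_bot_of_le_cent_fstar hO hp le_top (hP.trans h3)
  refine ⟨h1, fun Y hY hne => ?_, h2, pIrr_top.mpr ⟨fun h => ?_, fun N _ hn hc => ?_⟩⟩
  · have h3 : ⁅K, Y⁆ = K := by
      refine (CL.Loc.IsQuasisimple.eq_or_commutator_eq_bot hq (commutator_le_of_le_norm
        (le_top.trans (self_le_norm_res ⊤))) (normalizer_commutator_ge_left _ _)).resolve_right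
        fun e => hne (eq_bot_of_le_cent_fstar hO hY le_top ?_)
      rw [← h1, le_centralizer_iff, ← commutator_eq_bot_iff']
      exact CL.Loc.commutator_eq_bot_of_perfect hK.commutator_self (by rwa [commutator_comm Y])
    refine ⟨h3, ?_⟩
    change K ≤ ncl K Y
    rw [ncl_eq_sup_commutator, h3]
    exact le_sup_right
  · have h3 := h.syl.not_dvd
    rw [hO, relIndex_bot_left, card_top] at h3
    exact h3 hp
  · by_contra e
    refine hc fun U hU hp' => ?_
    rw [eq_bot_of_isPGroup_of_coprime hp' (Nat.Coprime.coprime_dvd_left (card_dvd_of_le hU)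
      (h2 N (normal_iff_top_le.mpr hn) e))]
    exact bot_le

end Cfsg.Agent.S2815
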