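import Cfsg.Statements.S2816
import Cfsg.Agent.Even.FStarAct

set_option autoImplicit false
open Cfsg

namespace Cfsg.Agent.S2816

/-- Let H be a finite group and p a prime with O_p(H) = 1, and Y a p-subgroup of H. Then for every subnormal subgroup K of H containing Y, [F*(H), Y] = [F*(K), Y] = [F*(K), Y, Y]; and if Y₀ ≤ Y with [F*(H), Y, Y₀] = 1 then Y₀ = 1 (in particular [F*(H), Y] = 1 forces Y = 1). -/
theorem result {H : Type*} [Group H] [Finite H] {p : ℕ} [Fact p.Prime] (hO : Cfsg.pCore p H = ⊥) (Y : Subgroup H) (hY : IsPGroup p ↥Y) : (∀ K : Subgroup H, K.IsSubnormal → Y ≤ K → ⁅Cfsg.generalizedFittingSubgroup H, Y⁆ = ⁅(Cfsg.generalizedFittingSubgroup ↥K).map K.subtype, Y⁆ ∧ ⁅(Cfsg.generalizedFittingSubgroup ↥K).map K.subtype, Y⁆ = ⁅⁅(Cfsg.generalizedFittingSubgroup ↥K).map K.subtype, Y⁆, Y⁆) ∧ (∀ Y₀ : Subgroup H, Y₀ ≤ Y → ⁅⁅Cfsg.generalizedFittingSubgroup H, Y⁆, Y₀⁆ = ⊥ → Y₀ = ⊥) := by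
  open Subgroup CL.Even CL.Grp commutatorElement in
  rw [← core_top] at hO
  have hO' := core_eq_bot_of_subnIn (fstarOf_subnIn ⊤) hO
  have hn : Y ≤ 𝒩(CL.Loc.fstarOf ⊤) := le_top.trans (CL.Loc.le_normalizer_fstarOf ⊤)
  have h1 := fstar_commutator_commutator (fstarOf_fstarOf ⊤) hO' hY hn
  have h2 := fstar_eq_commutator_sup_cent (fstarOf_fstarOf ⊤) hO' hY hn
  refine ⟨fun K hK hYK => ⟨le_antisymm ?_ (commutator_mono (CL.Loc.fstarOf_le_fstar hK) le_rfl), ?_⟩,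
    fun Y₀ hY₀ h => eq_bot_of_le_cent_fstar hO (hY.to_le hY₀) le_top ?_⟩
  · rw [CL.Loc.fstarOf_top] at h1
    refine h1.le.trans (commutator_mono ((le_inf (commutator_le_left _ _) ?_).trans
      (CL.Loc.fstar_inf_eq_of_subnormal hK).le) le_rfl)
    exact le_of_commutator_eq_of_subnIn (subnIn_top_iff.mpr hK) le_top hYK h1.le
  · exact fstar_commutator_commutator (fstarOf_fstarOf K) (core_eq_bot_of_subnIn
      ((fstarOf_subnIn K).trans (subnIn_top_iff.mpr hK)) hO) hY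
      (hYK.trans (CL.Loc.le_normalizer_fstarOf K))
  · rw [← CL.Loc.fstarOf_top, commutator_eq_bot_iff', le_centralizer_iff] at h
    rw [le_centralizer_iff, ← h2]
    exact sup_le h (inf_le_right.trans (cent_mono hY₀))

end Cfsg.Agent.S2816
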