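import Cfsg.Statements.S2817
import Cfsg.Agent.Even.FStarAct

set_option autoImplicit false
open Cfsg

namespace Cfsg.Agent.S2817

/-- Let H be a finite group and p a prime with O_p(H) = 1, Q a p-subgroup of H, L = [F*(H), Q], and F the largest normal subgroup of F*(H) centralized by Q (a normal subgroup of F*(H) centralized by Q and containing every such). Then F = C_{F*(H)}(LQ); L = [L, Q]; L ∩ F ≤ Φ(L); every p-subgroup B of N_H(Q) with [L, B] ≤ F satisfies [L, B] = 1; and C_H(FL) has order prime to p. -/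
theorem result {H : Type*} [Group H] [Finite H] {p : ℕ} [Fact p.Prime] (hO : Cfsg.pCore p H = ⊥) (Q : Subgroup H) (hQ : IsPGroup p ↥Q) (L : Subgroup H) (hL : L = ⁅Cfsg.generalizedFittingSubgroup H, Q⁆) (F : Subgroup H) (hF : F ≤ Cfsg.generalizedFittingSubgroup H ∧ Cfsg.generalizedFittingSubgroup H ≤ Subgroup.normalizer (F : Set H) ∧ Q ≤ Subgroup.centralizer (F : Set H) ∧ ∀ N : Subgroup H, N ≤ Cfsg.generalizedFittingSubgroup H → Cfsg.generalizedFittingSubgroup H ≤ Subgroup.normalizer (N : Set H) → Q ≤ Subgroup.centralizer (N : Set H) → N ≤ F) : F = Cfsg.generalizedFittingSubgroup H ⊓ Subgroup.centralizer ((L ⊔ Q : Subgroup H) : Set H) ∧ ⁅L, Q⁆ = L ∧ L ⊓ F ≤ (frattini ↥L).map L.subtype ∧ (∀ B : Subgroup H, IsPGroup p ↥B → B ≤ Subgroup.normalizer (Q : Set H) → ⁅L, B⁆ ≤ F → ⁅L, B⁆ = ⊥) ∧ (Nat.card ↥(Subgroup.centralizer ((F ⊔ L : Subgroup H) : Set H))).Coprime p := by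
  open Subgroup CL.Even CL.Grp commutatorElement in
  rw [← core_top] at hO
  rw [← CL.Loc.fstarOf_top] at hL hF ⊢
  set E := CL.Loc.fstarOf (⊤ : Subgroup H)
  have hE : ∀ X : Subgroup H, X ≤ 𝒩(E) := fun X => le_top.trans (CL.Loc.le_normalizer_fstarOf ⊤)
  have hO' := core_eq_bot_of_subnIn (fstarOf_subnIn ⊤) hO
  have hLE : L ≤ E := hL ▸ commutator_le_of_le_norm (hE Q)
  have hEL : E ≤ 𝒩(L) := hL ▸ normalizer_commutator_ge_left _ _
  have hQL : Q ≤ 𝒩(L) := hL ▸ normalizer_commutator_ge_right _ _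
  have hsub : ∀ W : Subgroup H, W ≤ E → E ≤ 𝒩(W) → CL.Loc.fstarOf W = W ∧ Cfsg.pCoreOf p W = ⊥ :=
    fun W h1 h2 => ⟨fstarOf_eq_self_of_subnIn ((SubnIn.of_le_normalizer h1 h2).trans
      (fstarOf_subnIn ⊤)) h1, core_eq_bot_of_subnIn (SubnIn.of_le_normalizer h1 h2) hO'⟩
  have hcent : ∀ B : Subgroup H, IsPGroup p B → ⁅⁅E, B⁆, B⁆ = ⊥ → B = ⊥ := fun B hB h =>
    eq_bot_of_le_cent_fstar hO hB le_top (commutator_eq_bot_iff'.mp
      (commutator_eq_bot_of_core_eq_bot hO' hB (hE B) h))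
  have hELQ : E ≤ 𝒩(L ⊔ Q) := by rw [hL, sup_comm]; exact le_norm_sup_commutator _ _
  have h1 : F = E ⊓ 𝒞(L ⊔ Q) := by
    refine le_antisymm (le_inf hF.1 (le_centralizer_iff.mpr ?_)) (hF.2.2.2 _ inf_le_left
      (le_norm_inf le_normalizer (le_norm_cent hELQ)) (le_centralizer_iff.mp
        (inf_le_right.trans (cent_mono le_sup_right))))
    rw [hL, sup_comm, ← ncl_eq_sup_commutator]
    exact ncl_le hF.2.2.1 (le_norm_cent hF.2.1)
  have h2 : ⁅L, Q⁆ = L := by
    rw [hL]; exact (fstar_commutator_commutator (fstarOf_fstarOf ⊤) hO' hQ (hE Q)).symm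
  have h3 : L ⊓ F ≤ phi L := by
    have h4 : Cfsg.pCoreOf p (L ⊔ Q) = ⊥ := by
      refine hcent _ (core_isP _) (eq_bot_iff.mpr ?_)
      have h5 : ⁅E, Cfsg.pCoreOf p (L ⊔ Q)⁆ ≤ L := (commutator_mono le_rfl (core_le _)).trans
        (commutator_sup_le le_normalizer hQL (commutator_le_of_le_norm' hEL) hL.ge)
      have h6 : L ≤ 𝒩(Cfsg.pCoreOf p (L ⊔ Q)) := le_sup_left.trans (self_le_norm_core _)
      exact (commutator_mono h5 le_rfl).trans ((le_inf (commutator_le_of_le_norm' h6)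
        (commutator_le_of_le_norm ((core_le _).trans (sup_le le_normalizer hQL)))).trans
        ((core_inf_le h6).trans (hsub L hLE hEL).2.le))
    have h5 : Cfsg.pElementClosure p (L ⊔ Q) = L ⊔ Q := by
      have h6 := CL.Loc.le_pElementClosure hQ (le_sup_right : Q ≤ L ⊔ Q)
      refine le_antisymm (CL.Loc.pElementClosure_le _ _) (sup_le (h2.ge.trans ?_) h6)
      exact (commutator_mono le_rfl h6).trans (commutator_le_of_le_norm'
        (le_sup_left.trans (CL.Loc.le_normalizer_pElementClosure _)))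
    have h6 := inf_cent_le_phi h4 h5
    rw [phi_eq_phi_res h4, sup_comm L, res_sup_eq_of_isPGroup hQ hQL,
      res_eq_self_of_fstar (hsub L hLE hEL).1 (hsub L hLE hEL).2, sup_comm Q] at h6
    exact le_trans (inf_le_inf le_sup_left (h1.le.trans inf_le_right)) h6
  refine ⟨h1, h2, h3, fun B hB hBQ h => ?_, coprime_card_of_forall fun B hB hp => hcent B hp ?_⟩
  · have hBL : B ≤ 𝒩(L) := hL ▸ le_norm_commutator (hE B) hBQ
    have h4 := fstar_eq_commutator_sup_cent (hsub L hLE hEL).1 (hsub L hLE hEL).2 hB hBL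
    have h5 := le_of_le_phi_sup inf_le_left (h4.ge.trans (sup_le_sup_right
      ((le_inf (commutator_le_of_le_norm hBL) h).trans h3) _))
    exact commutator_eq_bot_iff'.mpr (le_centralizer_iff.mp (h5.trans inf_le_right))
  · rw [cent_sup] at hB
    have hW := hsub (E ⊓ 𝒞(L)) inf_le_left (le_norm_inf le_normalizer (le_norm_cent hEL))
    have h4 := fstar_eq_commutator_sup_cent hW.1 hW.2 hQ (le_norm_inf (hE Q) (le_norm_cent hQL))
    have h5 : E ⊓ 𝒞(L) ≤ 𝒞(B) := by
      rw [← h4]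
      refine sup_le (((commutator_mono inf_le_left le_rfl).trans hL.ge).trans
        (le_centralizer_iff.mp (hB.trans inf_le_right)))
        (le_trans ?_ (le_centralizer_iff.mp (hB.trans inf_le_left)))
      rw [h1, cent_sup, inf_assoc]
    have h6 : ⁅E, B⁆ ≤ 𝒞(L) := (commutator_mono le_rfl (hB.trans inf_le_right)).trans
      (commutator_le_of_le_norm' (le_norm_cent hEL))
    exact commutator_eq_bot_iff'.mpr (le_centralizer_iff.mp
      ((le_inf (commutator_le_of_le_norm (hE B)) h6).trans h5))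

end Cfsg.Agent.S2817
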