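import Cfsg.Statements.S2818
import Cfsg.Agent.Even.FStarAct
import Cfsg.Agent.Even.Trace

set_option autoImplicit false
open Cfsg

namespace Cfsg.Agent.S2818

/-- Let P be a finite p-subgroup of a group G and H a subgroup of N_G(P) with [P, H] ≤ Ω₁(Z(P)) (the elements of order dividing p in the centre of P). Then H centralizes the Frattini subgroup of P. -/
theorem result {G : Type*} [Group G] [Finite G] {p : ℕ} [Fact p.Prime] (P : Subgroup G) (hP : IsPGroup p ↥P) (H : Subgroup G) (hH : H ≤ Subgroup.normalizer (P : Set G)) (h : ⁅P, H⁆ ≤ Cfsg.omegaOne p (P ⊓ Subgroup.centralizer (P : Set G))) : ⁅(frattini ↥P).map P.subtype, H⁆ = ⊥ := by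
  open Subgroup CL.Even CL.Grp commutatorElement in
  rw [ozc_def] at h
  rw [commutator_eq_bot_iff', le_centralizer_iff, map_subtype_frattini_le_iff hP]
  have key : ∀ x ∈ P, ∀ g ∈ H, ∃ z ∈ Cfsg.omegaOneCenter p P, g * x * g⁻¹ = x * z := fun x hx g hg =>
    ⟨_, h (commutator_mem_commutator (P.inv_mem hx) hg), by simp [commutatorElement_def, mul_assoc]⟩
  refine ⟨commutator_le.mpr fun x hx y hy => mem_centralizer_iff.mpr fun g hg => ?_,
    fun x hx => mem_centralizer_iff.mpr fun g hg => ?_⟩
  · obtain ⟨z, hz, e⟩ := key x hx g hg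
    obtain ⟨w, hw, e'⟩ := key y hy g hg
    rw [← mul_inv_eq_iff_eq_mul, conjugate_commutatorElement, e, e']
    have h1 : Commute z (y * w) := (comm_of_mem (ozc_le_cent P hz) (P.mul_mem hy (ozc_le P hw))).symm
    have h2 : Commute x w := comm_of_mem (ozc_le_cent P hw) hx
    rw [commutatorElement_mul_of_comm h1, ← commutatorElement_inv, commutatorElement_mul_of_comm h2.symm,
      commutatorElement_inv]
  · obtain ⟨z, hz, e⟩ := key x hx g hg
    have h1 : Commute x z := comm_of_mem (ozc_le_cent P hz) hx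
    rw [← mul_inv_eq_iff_eq_mul, ← conj_pow, e, h1.mul_pow, (mem_ozc.mp hz).2.2, mul_one]

end Cfsg.Agent.S2818
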