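import Cfsg.Statements.S2819
import Cfsg.Agent.Even.FStarAct

set_option autoImplicit false
open Cfsg

namespace Cfsg.Agent.S2819

section
open Subgroup CL.Even CL.Grp
open scoped commutatorElement

theorem mul_pow_mem {G : Type*} [Group G] {P : Subgroup G} {a b : G} (ha : a ∈ P) (hb : b ∈ P) (n : ℕ) :
    (a * b) ^ n * (b ^ n)⁻¹ * (a ^ n)⁻¹ ∈ ⁅P, P⁆ := by
  have h : ((⟨a, ha⟩ * ⟨b, hb⟩ : P) ^ n * ((⟨b, hb⟩ : P) ^ n)⁻¹ * ((⟨a, ha⟩ : P) ^ n)⁻¹) ∈
      commutator P := by
    rw [← Abelianization.ker_of, MonoidHom.mem_ker]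
    simp only [map_mul, map_pow, map_inv, mul_pow]
    group
  rw [← map_subtype_commutator]
  exact mem_map_of_mem P.subtype h
end

/-- Let P be a finite p-subgroup of a group G, H a subgroup of N_G(P), and Y a subgroup of H centralizing the derived subgroup P' such that [P, Y] is elementary abelian. Then O^p(⟨Y^H⟩), the subgroup of the normal closure of Y in H generated by its elements of order prime to p, centralizes the Frattini subgroup of P. -/
theorem result {G : Type*} [Group G] [Finite G] {p : ℕ} [Fact p.Prime] (P : Subgroup G) (hP : IsPGroup p ↥P) (H : Subgroup G) (hH : H ≤ Subgroup.normalizer (P : Set G)) (Y : Subgroup G) (hYH : Y ≤ H) (hYc : Y ≤ Subgroup.centralizer ((⁅P, P⁆ : Subgroup G) : Set G)) (hel : Cfsg.IsElementaryAbelian p ⁅P, Y⁆) (NY : Subgroup G) (hNY : NY = (Subgroup.normalClosure ((Y.subgroupOf H : Subgroup ↥H) : Set ↥H)).map H.subtype) : (Cfsg.pResidual p ↥NY).map NY.subtype ≤ Subgroup.centralizer (((frattini ↥P).map P.subtype : Subgroup G) : Set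 G) := by
  open Subgroup CL.Even CL.Grp commutatorElement in
  rw [map_normalClosure_subgroupOf hYH] at hNY
  rw [res_def, hNY]
  have hn : H ≤ 𝒩(⁅P, P⁆) := le_norm_commutator hH hH
  have h1 : ncl H Y ≤ 𝒞(⁅P, P⁆) := ncl_le hYc (le_norm_cent hn)
  have h2 : phi P ≤ cmod Y ⁅P, P⁆ := by
    refine (map_subtype_frattini_le_iff hP).mpr ⟨le_cmod le_normalizer
      (commutator_le_of_le_norm' (hYH.trans hn)), fun x hx => mem_cmod.mpr
      ⟨normalizer_commutator_ge_left P P (P.pow_mem hx p), fun y hy => ?_⟩⟩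
    have hc : ⁅y, x⁆ ∈ ⁅P, Y⁆ := by rw [commutator_comm]; exact commutator_mem_commutator hy hx
    have h3 := mul_pow_mem (commutator_le_of_le_norm (hYH.trans hH) hc) hx p
    rw [(elem_iff.mp hel).2 _ hc, inv_one, mul_one, commutatorElement_def, inv_mul_cancel_right,
      conj_pow] at h3
    exact h3
  have h3 : ncl H Y ≤ cmod (phi P) ⁅P, P⁆ := ncl_le (le_cmod (hYH.trans hn)
    (by rw [commutator_comm]; exact commutator_le_of_le_cmod h2)) (le_norm_cmod (le_norm_phi hH) hn)
  exact res_le_cent (hP.to_le (commutator_le_of_le_norm le_normalizer))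
    (commutator_le_of_le_cmod ((res_le _).trans h3)) ((res_le _).trans h1)

end Cfsg.Agent.S2819
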