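import Cfsg.Statements.S2823
import Cfsg.Agent.Even.Trace

set_option autoImplicit false
open Cfsg

namespace Cfsg.Agent.S2823

/-- Let H be a finite group, p a prime, T a Sylow p-subgroup and L a subgroup of characteristic p containing T; let Z_L be the subgroup generated by the Ω₁(Z(S)) over the Sylow p-subgroups S of L and O^p(L) the subgroup generated by the elements of L of order prime to p. Then Z_L = Ω₁(Z(L))·[Z_L, O^p(L)] and [Z_L, L] = [Z_L, O^p(L)]. -/
theorem result {H : Type*} [Group H] [Finite H] {p : ℕ} [Fact p.Prime] (T : Sylow p H) (L : Subgroup H) (hTL : (T : Subgroup H) ≤ L) (hL : Subgroup.centralizer (Cfsg.pCore p ↥L : Set ↥L) ≤ Cfsg.pCore p ↥L) : Cfsg.sylowCenterClosure p L = (Cfsg.omegaOne p (L ⊓ Subgroup.centralizer ((L : Subgroup H) : Set H))) ⊔ ⁅Cfsg.sylowCenterClosure p L, (Cfsg.pResidual p ↥L).map L.subtype⁆ ∧ ⁅Cfsg.sylowCenterClosure p L, L⁆ = ⁅Cfsg.sylowCenterClosure p L, (Cfsg.pResidual p ↥L).map L.subtype⁆ := by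
  open Subgroup CL.Even CL.Grp commutatorElement in
  rw [ozc_def, res_def]
  have hT := isSylowIn_of_le T hTL
  have h := predIn_Z (isCharP_iff.mpr hL)
  have hW : L ≤ 𝒩(⁅Cfsg.sylowCenterClosure p L, Cfsg.pResidualOf p L⁆) :=
    le_norm_commutator h.norm (self_le_norm_res L)
  have hWV : ⁅Cfsg.sylowCenterClosure p L, Cfsg.pResidualOf p L⁆ ≤ Cfsg.sylowCenterClosure p L :=
    commutator_le_of_le_norm ((res_le L).trans h.norm)
  have h1 : Cfsg.sylowCenterClosure p L = Cfsg.omegaOneCenter p L ⊔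
      ⁅Cfsg.sylowCenterClosure p L, Cfsg.pResidualOf p L⁆ := by
    refine le_antisymm ((Z_eq_ncl hT).le.trans (ncl_le ?_ (le_norm_sup (le_norm_ozc le_normalizer) hW)))
      (sup_le (le_trans ?_ (ozc_le_Z hT)) hWV)
    · refine (le_inf (ozc_le_Z hT) (ozc_le_cent _)).trans ((inf_cent_syl_le (elem_le_cent h.elem)
        (elem_isP h.elem) h.norm hT).trans (sup_le_sup_right ?_ _))
      exact le_ozc (elem_of_le h.elem inf_le_left) (inf_le_left.trans h.le) inf_le_right
    · exact le_ozc (ozc_elem L) ((le_core (ozc_le L) (ozc_isP L) (le_norm_ozc le_normalizer)).trans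
        (core_le_syl hT)) ((ozc_le_cent L).trans (cent_mono hTL))
  refine ⟨h1, le_antisymm ?_ (commutator_mono le_rfl (res_le L))⟩
  conv_lhs => rw [h1]
  refine commutator_sup_le' ((ozc_le L).trans hW) le_normalizer ?_ (commutator_le_of_le_norm hW)
  rw [commutator_eq_bot_iff'.mpr (le_cent_ozc L)]
  exact bot_le

end Cfsg.Agent.S2823
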