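import Cfsg.Statements.S2824
import Cfsg.Agent.Even.PRed

set_option autoImplicit false
open Cfsg

namespace Cfsg.Agent.S2824

/-- Let H be a finite group, p a prime, T a Sylow p-subgroup, L and M subgroups of characteristic p containing T, Y_L the largest p-reduced normal subgroup of L and T₀ = C_T(Y_L). If M·C_H(Y_L) = L·C_H(Y_L), then L* := N_M(T₀) has Y_{L*} = Y_L and L·C_H(Y_L) = L*·C_H(Y_L). -/
theorem result {H : Type*} [Group H] [Finite H] {p : ℕ} [Fact p.Prime] (T : Sylow p H) (L M : Subgroup H) (hTL : (T : Subgroup H) ≤ L) (hTM : (T : Subgroup H) ≤ M) (hL : Subgroup.centralizer (Cfsg.pCore p ↥L : Set ↥L) ≤ Cfsg.pCore p ↥L) (hM : Subgroup.centralizer (Cfsg.pCore p ↥M : Set ↥M) ≤ Cfsg.pCore p ↥M) (T₀ : Subgroup H) (hT₀ : T₀ = (T : Subgroup H) ⊓ Subgroup.centralizer (((Cfsg.largestPReducedOf p L) : Subgroup H) : Set H)) (hfac : M ⊔ Subgroup.centralizer (((Cfsg.largestPReducedOf p L) : Subgroup H) : Set H) = L ⊔ Subgroup.centralizer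 (((Cfsg.largestPReducedOf p L) : Subgroup H) : Set H)) (Ls : Subgroup H) (hLs : Ls = M ⊓ Subgroup.normalizer ((T₀ : Subgroup H) : Set H)) : (Cfsg.largestPReducedOf p Ls) = (Cfsg.largestPReducedOf p L) ∧ L ⊔ Subgroup.centralizer (((Cfsg.largestPReducedOf p L) : Subgroup H) : Set H) = Ls ⊔ Subgroup.centralizer (((Cfsg.largestPReducedOf p L) : Subgroup H) : Set H) := by
  open Subgroup CL.Even CL.Grp commutatorElement in
  have hTL' := isSylowIn_of_le T hTL
  have hTM' := isSylowIn_of_le T hTM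
  set Y := largestPReducedOf p L
  have hMY : M ≤ 𝒩(Y) := le_sup_left.trans (hfac.le.trans (sup_le (self_le_norm_Y L) (cent_le_norm _)))
  subst hT₀
  have h1 : Ls ⊔ 𝒞(Y) = L ⊔ 𝒞(Y) := by rw [hLs, norm_cent_sup_cent hTM' hMY, hfac]
  have hTLs : (T : Subgroup H) ≤ Ls := hLs ▸ syl_le_norm_cent hTM' hMY
  have h2 : Y ≤ largestPReducedOf p Ls :=
    Y_le_Y_of_sup_eq (((Y_le_core L).trans (core_le_syl hTL')).trans hTLs) h1
  refine ⟨le_antisymm ?_ h2, h1.symm⟩
  refine le_trans ?_ (Y_eq_ozc (isCharP_iff.mpr hL) hTL').ge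
  refine le_ozc (Y_elem Ls) (le_inf ((Y_le_core Ls).trans (core_le_syl (isSylowIn_of_le T hTLs)))
    ((Y_le_cent Ls).trans (cent_mono h2))) (le_centralizer_iff.mp ?_)
  exact (Y_red Ls).le_cent_of_isPGroup T.2.to_inf_left (inf_le_left.trans hTLs) (hLs ▸ inf_le_right)

end Cfsg.Agent.S2824
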