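import Cfsg.Statements.S2825
import Cfsg.Agent.Even.PRed2

set_option autoImplicit false
open Cfsg

namespace Cfsg.Agent.S2825

/-- Let L be a subnormal subgroup of the finite group H, p a prime, Y_H and Y_L the largest p-reduced normal subgroups. Then Y_H ∩ L = Y_H ∩ Y_L and this subgroup is a p-reduced normal subgroup of L; C_L(Y_L) = C_L(Y_H) = C_L(Y_H ∩ L); and if O^p(H) ≤ L, then [Y_L, L] = 1 if and only if [Y_H, H] = 1. -/
theorem result {H : Type*} [Group H] [Finite H] {p : ℕ} [Fact p.Prime] (L : Subgroup H) (hL : L.IsSubnormal) : Cfsg.largestPReduced p H ⊓ L = Cfsg.largestPReduced p H ⊓ (Cfsg.largestPReducedOf p L) ∧ Cfsg.IsPReducedNormal p ((Cfsg.largestPReduced p H ⊓ L).subgroupOf L) ∧ L ⊓ Subgroup.centralizer ((Cfsg.largestPReducedOf p L : Subgroup H) : Set H) = L ⊓ Subgroup.centralizer (Cfsg.largestPReduced p H : Set H) ∧ L ⊓ Subgroup.centralizer (Cfsg.largestPReduced p H : Set H) = L ⊓ Subgroup.centralizer ((Cfsg.largestPReduced p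 H ⊓ L : Subgroup H) : Set H) ∧ (Cfsg.pResidual p H ≤ L → (⁅(Cfsg.largestPReducedOf p L), L⁆ = ⊥ ↔ ⁅Cfsg.largestPReduced p H, (⊤ : Subgroup H)⁆ = ⊥)) := by
  open Subgroup CL.Even CL.Grp commutatorElement in
  have h := subnIn_top_iff.mpr hL
  rw [← Y_top, ← res_top]
  have h1 := inf_cent_Y_eq_of_subnIn (p := p) h
  refine ⟨le_antisymm (le_inf inf_le_left (Y_inf_le_Y h)) (inf_le_inf_left _ (Y_le L)),
    (isPReducedNormal_subgroupOf inf_le_right).mpr ((predIn_Y ⊤).inf_of_subnIn h), h1,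
    le_antisymm (inf_le_inf_left _ (cent_mono inf_le_left))
      (le_inf inf_le_left ((predIn_Y ⊤).inf_cent_inf_le h)), fun hr => ?_⟩
  rw [commutator_eq_bot_iff', commutator_eq_bot_iff']
  refine ⟨fun e => Y_red ⊤ ⊤ le_rfl le_normalizer (hr.trans ?_), fun e => ?_⟩
  · exact ((le_inf le_rfl e).trans h1.le).trans inf_le_right
  · exact ((le_inf le_rfl (le_top.trans e)).trans h1.ge).trans inf_le_right

end Cfsg.Agent.S2825
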