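import Cfsg.Statements.S2826
import Cfsg.Agent.Even.Trace

set_option autoImplicit false
open Cfsg

namespace Cfsg.Agent.S2826

/-- Let H be a finite group of characteristic p, T a Sylow p-subgroup, and V a normal elementary abelian p-subgroup of H containing Ω₁(Z(T)). Then C_H(Ω₁(Z(T))) = C_H([V, O^p(H)] ∩ Ω₁(Z(T))), O^p(H) being generated by the elements of order prime to p. -/
theorem result {H : Type*} [Group H] [Finite H] {p : ℕ} [Fact p.Prime] (hH : Subgroup.centralizer (Cfsg.pCore p H : Set H) ≤ Cfsg.pCore p H) (T : Sylow p H) (V : Subgroup H) [V.Normal] (hV : Cfsg.IsElementaryAbelian p V) (hZV : (Cfsg.omegaOne p ((T : Subgroup H) ⊓ Subgroup.centralizer (((T : Subgroup H) : Subgroup H) : Set H))) ≤ V) : Subgroup.centralizer ((Cfsg.omegaOne p ((T : Subgroup H) ⊓ Subgroup.centralizer (((T : Subgroup H) : Subgroup H) : Set H))) : Set H) = Subgroup.centralizer (((⁅V, Cfsg.pResidual p H⁆ ⊓ (Cfsg.omegaOne p ((T : Subgroup H) ⊓ Subgroup.centralizer (((T : Subgroup H) : Subgroup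 H) : Set H)))) : Subgroup H) : Set H) := by
  open Subgroup CL.Even CL.Grp commutatorElement in
  rw [ozc_def] at hZV ⊢
  have hT := isSylowIn_top T
  refine le_antisymm (cent_mono inf_le_right) (le_centralizer_iff.mpr fun z hz => ?_)
  have h1 := inf_cent_syl_le (elem_le_cent hV) (elem_isP hV) (normal_iff_top_le.mp inferInstance) hT
    ⟨hZV hz, ozc_le_cent _ hz⟩
  rw [res_top, mem_sup_nr (inf_le_right.trans ((cent_mono le_top).trans (cent_le_norm _)))] at h1
  obtain ⟨a, ha, b, hb, rfl⟩ := h1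
  have ha' : a ∈ Cfsg.omegaOneCenter p (T : Subgroup H) := mem_ozc.mpr
    ⟨core_le_syl hT (le_core le_top (elem_isP hV) (normal_iff_top_le.mp inferInstance) ha.1),
      cent_mono le_top ha.2, (elem_iff.mp hV).2 a ha.1⟩
  refine mul_mem (cent_mono le_top ha.2) (le_centralizer_iff.mp le_rfl ⟨hb, ?_⟩)
  simpa using mul_mem (inv_mem ha') hz

end Cfsg.Agent.S2826
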