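import Cfsg.Statements.S2828
import Cfsg.Agent.Even.PMin

set_option autoImplicit false
open Cfsg

namespace Cfsg.Agent.S2828

/-- Let H be a finite group, p a prime and D a normal p-subgroup of H. Then H is p-irreducible if and only if H/D is p-irreducible, and H is strongly p-irreducible if and only if H/D is strongly p-irreducible. -/
theorem result {H : Type*} [Group H] [Finite H] {p : ℕ} [Fact p.Prime] (D : Subgroup H) [D.Normal] (hD : IsPGroup p ↥D) : (Cfsg.IsPIrreducible p H ↔ Cfsg.IsPIrreducible p (H ⧸ D)) ∧ (Cfsg.IsStronglyPIrreducible p H ↔ Cfsg.IsStronglyPIrreducible p (H ⧸ D)) := by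
  open Subgroup CL.Even CL.Grp commutatorElement in
  have e : (⊤ : Subgroup H).map (QuotientGroup.mk' D) = ⊤ :=
    map_top_of_surjective _ (QuotientGroup.mk'_surjective D)
  have hk : IsPGroup p ((QuotientGroup.mk' D).ker ⊓ ⊤ : Subgroup H) := by
    rwa [QuotientGroup.ker_mk', inf_top_eq]
  refine ⟨by rw [pIrr_top, pIrr_top, ← e, pIrr_map_iff hk], and_congr (not_congr ?_)
    ⟨fun h N hN hc => ?_, fun h N hN hc => ?_⟩⟩
  · rw [pClo_top, pClo_top, ← e]
    exact ⟨fun h => h.map _, fun h => h.of_map hk⟩
  · rw [← res_top, ← e, ← map_res, res_top, map_le_iff_le_comap]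
    refine h _ (hN.comap _) fun e' => hc ?_
    have := map_mono (f := QuotientGroup.mk' D) e'
    rwa [Subgroup.map_commutator, map_comap_eq_self_of_surjective (QuotientGroup.mk'_surjective D), e,
      map_pCore_quotient hD] at this
  · rw [← res_top]
    refine res_le_of_map_le hk le_top (normal_iff_top_le.mp hN) ?_
    rw [e, res_top]
    refine h _ (hN.map _ (QuotientGroup.mk'_surjective D)) fun e' => hc ?_
    rwa [← e, ← Subgroup.map_commutator, map_le_iff_le_comap, comap_pCore_quotient hD] at e'

end Cfsg.Agent.S2828
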