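import Cfsg.Statements.S2829
import Cfsg.Agent.Even.PMin

set_option autoImplicit false
open Cfsg

namespace Cfsg.Agent.S2829

/-- Every strongly p-irreducible finite group is p-irreducible. -/
theorem result {H : Type*} [Group H] [Finite H] {p : ℕ} [Fact p.Prime] (hH : Cfsg.IsStronglyPIrreducible p H) : Cfsg.IsPIrreducible p H := by
  open Subgroup CL.Even CL.Grp commutatorElement in
  refine ⟨hH.1, fun N hN hc => hH.2 N hN fun e => hc (pClo_iff.mpr fun U hU hp => ?_)⟩
  have h1 : U ⊔ Cfsg.pCore p H ≤ Cfsg.pCore p H := by
    refine le_pCore_of (normal_iff_top_le.mpr (le_norm_of_commutator_le ?_))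
      (isPGroup_sup hp pCore_isP (le_top.trans (normal_iff_top_le.mp inferInstance)))
    refine le_sup_of_le_right (commutator_sup_le' (le_top.trans (normal_iff_top_le.mp inferInstance))
      le_normalizer ((commutator_mono hU le_rfl).trans e) (commutator_le_left _ _))
  refine (le_inf (le_sup_left.trans h1) hU).trans ?_
  rw [← core_top]
  exact core_inf_le (le_top.trans (self_le_norm_core ⊤))

end Cfsg.Agent.S2829
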