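import Cfsg.Statements.S2832
import Cfsg.Agent.Even.PMin

set_option autoImplicit false
open Cfsg

namespace Cfsg.Agent.S2832

/-- Let H be a finite group with Sylow p-subgroup T such that H is T-minimal (generated by the conjugates of T, with T in exactly one maximal subgroup), and let N be a normal subgroup of H. Then either H/N is a p-group or H/N is minimal over the image of T in the same sense. -/
theorem result {H : Type*} [Group H] [Finite H] {p : ℕ} [Fact p.Prime] (T : Sylow p H) (hmin : Cfsg.IsMinimalOver (T : Subgroup H)) (N : Subgroup H) [N.Normal] : IsPGroup p (H ⧸ N) ∨ Cfsg.IsMinimalOver ((T : Subgroup H).map (QuotientGroup.mk' N)) := by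
  open Subgroup CL.Even CL.Grp commutatorElement in
  obtain ⟨h1, M, h2⟩ := isMinimalOver_iff.mp hmin
  have e : (⊤ : Subgroup H).map (QuotientGroup.mk' N) = ⊤ :=
    map_top_of_surjective _ (QuotientGroup.mk'_surjective N)
  by_cases hN : N ≤ M
  · refine Or.inr (isMinimalOver_iff.mpr ⟨?_, M.map (QuotientGroup.mk' N), ?_⟩)
    · rw [← e, ← map_ncl, h1]
    · rw [← e]; exact h2.map _ (by rw [QuotientGroup.ker_mk']; exact inf_le_left.trans hN)
  · have h3 := h2.sup_eq le_top hN
    have h4 : (T : Subgroup H).map (QuotientGroup.mk' N) = ⊤ := by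
      rw [← e, ← h3, Subgroup.map_sup, map_mk'_eq_bot_iff.mpr le_rfl, sup_bot_eq]
    have h5 := T.isPGroup'.map (QuotientGroup.mk' N)
    rw [h4] at h5
    exact Or.inl (h5.of_equiv topEquiv)

end Cfsg.Agent.S2832
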