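import Cfsg.Statements.S2835
import Cfsg.Agent.Even.PMin

set_option autoImplicit false
open Cfsg

namespace Cfsg.Agent.S2835

/-- Let L be a finite group, L₀ a maximal subgroup, T a Sylow p-subgroup of L₀ and Y ≤ T, and suppose L is Y-minimal (generated by the conjugates of Y, with Y in exactly one maximal subgroup, necessarily L₀). Then N_L(T) ≤ L₀, O_p(L) ≤ L₀ and T is a Sylow p-subgroup of L; N_L(L₀) = L₀; L = ⟨Y, gYg⁻¹⟩ for each g ∈ L outside L₀; and if Y is abelian then Y ∩ gYg⁻¹ = C_Y(L) for each such g. -/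
theorem result {L : Type*} [Group L] [Finite L] {p : ℕ} [Fact p.Prime] (L₀ : Subgroup L) (hL₀ : IsCoatom L₀) (T : Sylow p ↥L₀) (Y : Subgroup L) (hYT : Y ≤ (T : Subgroup ↥L₀).map L₀.subtype) (hmin : Cfsg.IsMinimalOver Y) : Subgroup.normalizer (((T : Subgroup ↥L₀).map L₀.subtype : Subgroup L) : Set L) ≤ L₀ ∧ Cfsg.pCore p L ≤ L₀ ∧ (∃ P : Sylow p L, (P : Subgroup L) = (T : Subgroup ↥L₀).map L₀.subtype) ∧ Subgroup.normalizer (L₀ : Set L) = L₀ ∧ (∀ g : L, g ∉ L₀ → Y ⊔ Y.map (MulAut.conj g).toMonoidHom = ⊤) ∧ (IsMulCommutative ↥Y → ∀ g : L, g ∉ L₀ → Y ⊓ Y.map (MulAut.conj g).toMonoidHom = Y ⊓ Subgroup.center L) := by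
  open Subgroup CL.Even CL.Grp commutatorElement in
  have hT := isSylowIn_map_subtype T
  have h := umax_of_isMinimalOver hmin hL₀ (hYT.trans hT.le)
  have h1 := (isMinimalOver_iff.mp hmin).1
  have hp := hT.isPGroup.to_le hYT
  refine ⟨(le_inf le_top le_rfl).trans (h.inf_norm_le (le_norm_of_le hYT)
    (h.not_le_norm h1 hYT hT.le)), core_top (p := p) (G := L) ▸ h.core_le h1 hp,
    isSylowIn_top_iff.mp (h.syl h1 hT hYT),
    le_antisymm ((le_inf le_top le_rfl).trans (h.norm_le h1)) le_normalizer,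
    fun g hg => h.sup_cj_eq h1 (mem_top g) hg, fun hc g hg => ?_⟩
  have h2 : Y ≤ 𝒞(Y) := le_centralizer_iff_isMulCommutative.mpr hc
  refine le_antisymm (le_inf inf_le_left ?_) (le_inf inf_le_left fun x hx => ?_)
  · rw [← centralizer_univ, ← coe_top, ← h.sup_cj_eq h1 (mem_top g) hg, cent_sup, ← cj_cent]
    exact inf_le_inf h2 (cj_mono g h2)
  · rw [mem_cj, mul_assoc, ← mem_center_iff.mp hx.2 g]
    simpa using hx.1

end Cfsg.Agent.S2835
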