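import Cfsg.Statements.S2836
import Cfsg.Agent.Even.PMin
import Cfsg.Agent.Grp.PGroupFrattini

set_option autoImplicit false
open Cfsg

namespace Cfsg.Agent.S2836

/-- Let L be a finite group, L₀ a maximal subgroup, T a Sylow p-subgroup of L₀, Y ≤ T, and suppose L is Y-minimal. Let D be the intersection of the conjugates of L₀ (the core of L₀). Then D contains O_p(L) and D/O_p(L) is the Frattini subgroup of L/O_p(L), so D is p-closed; and every normal subgroup N of L contained in L₀ is p-closed with N/O_p(N) a nilpotent group of order prime to p. -/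
theorem result {L : Type*} [Group L] [Finite L] {p : ℕ} [Fact p.Prime] (L₀ : Subgroup L) (hL₀ : IsCoatom L₀) (T : Sylow p ↥L₀) (Y : Subgroup L) (hYT : Y ≤ (T : Subgroup ↥L₀).map L₀.subtype) (hmin : Cfsg.IsMinimalOver Y) : (Cfsg.pCore p L ≤ L₀.normalCore ∧ (L₀.normalCore).map (QuotientGroup.mk' (Cfsg.pCore p L)) = frattini (L ⧸ Cfsg.pCore p L) ∧ Cfsg.IsPClosed p ↥(L₀.normalCore)) ∧ ∀ (N : Subgroup L) [N.Normal], N ≤ L₀ → Cfsg.IsPClosed p ↥N ∧ Group.IsNilpotent (↥N ⧸ Cfsg.pCore p ↥N) ∧ (Nat.card (↥N ⧸ Cfsg.pCore p ↥N)).Coprime p := by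
  open Subgroup CL.Even CL.Grp commutatorElement in
  have hT := isSylowIn_map_subtype T
  set T' := (T : Subgroup ↥L₀).map L₀.subtype
  have h := umax_of_isMinimalOver hmin hL₀ (hYT.trans hT.le)
  have h1 := (isMinimalOver_iff.mp hmin).1
  have hp := hT.isPGroup.to_le hYT
  have hT' := h.syl h1 hT hYT
  have h' := h.of_le hYT hT.le
  have hO : Cfsg.pCore p L ≤ L₀ := core_top (p := p) (G := L) ▸ h.core_le h1 hp
  have hOD : Cfsg.pCore p L ≤ L₀.normalCore := normal_le_normalCore.mpr hO
  have hcl : ∀ N : Subgroup L, N.Normal → N ≤ L₀ → PClo p N := fun N hN hle =>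
    h'.pClo_of_le hT' (normal_iff_top_le.mp hN) hle
  have hD := hcl _ inferInstance (normalCore_le L₀)
  have hF : (L₀.normalCore).map (QuotientGroup.mk' (Cfsg.pCore p L)) = frattini (L ⧸ Cfsg.pCore p L) := by
    apply le_antisymm
    · rw [le_frattini_iff]
      intro M' hM'
      rw [map_le_iff_le_comap]
      have hM := (isCoatom_comap_of_surjective (QuotientGroup.mk'_surjective _) hM')
      set M := M'.comap (QuotientGroup.mk' (Cfsg.pCore p L))
      have hOM : Cfsg.pCore p L ≤ M := by
        intro x hx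
        rw [mem_comap, QuotientGroup.mk'_apply, (QuotientGroup.eq_one_iff x).mpr hx]
        exact M'.one_mem
      by_contra e
      have h2 : M ⊔ L₀.normalCore = ⊤ := hM.2 _ (left_lt_sup.mpr e)
      obtain ⟨S₁, hS₁⟩ := exists_isSylowIn p M
      obtain ⟨S, hS, hle⟩ := exists_isSylowIn_ge hS₁.isPGroup (le_top : S₁ ≤ ⊤)
      have h3 : S ≤ S₁ ⊔ L₀.normalCore := by
        have h4 := syl_map (QuotientGroup.mk' L₀.normalCore) hS₁
        have h5 : M.map (QuotientGroup.mk' L₀.normalCore) = ⊤ := by
          rw [← map_top_of_surjective _ (QuotientGroup.mk'_surjective L₀.normalCore), ← h2,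
            Subgroup.map_sup, map_mk'_eq_bot_iff.mpr le_rfl, sup_bot_eq]
        have h6 := h4.eq_of_le (hS.isPGroup.map _) (map_mono hle) (h5 ▸ le_top)
        have h7 := le_sup_of_map_le le_top le_top h6.le
        rwa [QuotientGroup.ker_mk', inf_top_eq, sup_comm] at h7
      have h4 : S ≤ M := by
        have h5 := inf_sup_eq_of_le_norm (B := L₀.normalCore)
          (Or.inl (le_top.trans (normal_iff_top_le.mp inferInstance))) hle
        rw [inf_eq_right.mpr h3] at h5
        rw [h5]
        refine sup_le hS₁.le (le_trans ?_ hOM)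
        rw [← core_top]
        exact hD.le_core_of_normal le_top (normal_iff_top_le.mp inferInstance) inf_le_left
          (hS.isPGroup.to_le inf_le_right)
      obtain ⟨g, -, rfl⟩ := syl_conj hT' hS
      have h5 := (h'.cj_mem (mem_top g)).2.2 M h4 hM.lt_top
      have h6 : M = cj g L₀ := ((hM.le_iff.mp h5).resolve_left (h'.cj_mem (mem_top g)).lt.ne).symm
      refine e (h6 ▸ le_cj_iff.mpr ?_)
      rw [cj_eq (normal_iff_top_le.mp inferInstance (mem_top _))]
      exact normalCore_le L₀
    · rw [← map_comap_eq_self_of_surjective (QuotientGroup.mk'_surjective _) (frattini _)]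
      refine map_mono (normal_le_normalCore.mpr ?_)
      have h2 := umax_top_iff.mp (map_top_of_surjective _ (QuotientGroup.mk'_surjective (Cfsg.pCore p L)) ▸
        h.map (QuotientGroup.mk' (Cfsg.pCore p L)) (by
          rw [QuotientGroup.ker_mk']; exact inf_le_left.trans hO))
      refine (comap_mono (frattini_le_coatom h2.1)).trans ?_
      rw [comap_map_eq, QuotientGroup.ker_mk']
      exact sup_le le_rfl hO
  refine ⟨⟨hOD, hF, pClo_iff.mpr hD⟩, fun N hN hle => ⟨pClo_iff.mpr (hcl N hN hle), ?_, ?_⟩⟩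
  · let f : N →* L ⧸ Cfsg.pCore p L := (QuotientGroup.mk' _).comp N.subtype
    have hk : f.ker = Cfsg.pCore p N := by
      rw [← subgroupOf_core, pCoreOf_eq_inf_of_normal, inf_subgroupOf_right]
      ext x
      simp [f, mem_subgroupOf]
    have hr : f.range ≤ frattini (L ⧸ Cfsg.pCore p L) := by
      rw [← hF, MonoidHom.range_eq_map, ← map_map, map_subtype_top]
      exact map_mono (normal_le_normalCore.mpr hle)
    have := frattini_nilpotent (G := L ⧸ Cfsg.pCore p L)
    have : Group.IsNilpotent f.range := Group.nilpotent_of_mulEquiv (subgroupOfEquivOfLe hr)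
    exact Group.nilpotent_of_mulEquiv ((QuotientGroup.quotientKerEquivRange f).symm.trans
      (QuotientGroup.quotientMulEquivOfEq hk))
  · have := (hcl N hN hle).syl.not_dvd
    rw [relIndex, subgroupOf_core] at this
    exact ((Nat.Prime.coprime_iff_not_dvd Fact.out).mpr this).symm

end Cfsg.Agent.S2836
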