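import Cfsg.Statements.S2837
import Cfsg.Agent.Even.PMin
import Cfsg.Agent.Grp.PGroupFrattini
import Cfsg.Agent.Grp.Comm1

set_option autoImplicit false
open Cfsg

namespace Cfsg.Agent.S2837

/-- Let L be a finite group of characteristic p, L₀ a maximal subgroup, Y an elementary abelian p-subgroup of L₀ with L Y-minimal and O_p(L) ≤ N_L(Y). Put A = the normal closure of O_p(L) ∩ Y in L. Then for every g ∈ L outside L₀: Φ(A) = A' = [A ∩ Y, A] = [A ∩ Y, A ∩ gYg⁻¹] ≤ C_Y(L), and Y ∩ gYg⁻¹ = (A ∩ Y) ∩ (A ∩ gYg⁻¹) = C_Y(L) = C_A(L). -/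
theorem result {L : Type*} [Group L] [Finite L] {p : ℕ} [Fact p.Prime] (hchar : Subgroup.centralizer (Cfsg.pCore p L : Set L) ≤ Cfsg.pCore p L) (L₀ : Subgroup L) (hL₀ : IsCoatom L₀) (Y : Subgroup L) (hYL₀ : Y ≤ L₀) (hYel : Cfsg.IsElementaryAbelian p Y) (hmin : Cfsg.IsMinimalOver Y) (hOY : Cfsg.pCore p L ≤ Subgroup.normalizer (Y : Set L)) (A : Subgroup L) (hA : A = Subgroup.normalClosure (((Cfsg.pCore p L ⊓ Y : Subgroup L)) : Set L)) (g : L) (hg : g ∉ L₀) : (frattini ↥A).map A.subtype = ⁅A, A⁆ ∧ ⁅A, A⁆ = ⁅A ⊓ Y, A⁆ ∧ ⁅A ⊓ Y, A⁆ = ⁅A ⊓ Y, A ⊓ Y.map (MulAut.conj g).toMonoidHom⁆ ∧ ⁅A ⊓ Y, A⁆ ≤ Y ⊓ Subgroup.center L ∧ Y ⊓ Y.map (MulAut.conj g).toMonoidHom = Y ⊓ Subgroup.center L ∧ (A ⊓ Y) ⊓ (A ⊓ Y.map (MulAut.conj g).toMonoidHom) = Y ⊓ Subgroup.center L ∧ A ⊓ Subgroup.center L = Y ⊓ Subgroup.center L := by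
  open Subgroup CL.Even CL.Grp commutatorElement in
  have h := umax_of_isMinimalOver hmin hL₀ hYL₀
  have h1 := (isMinimalOver_iff.mp hmin).1
  have hgen := h.sup_cj_eq h1 (mem_top g) hg
  set Q := Cfsg.pCore p L
  have hQ : ∀ X : Subgroup L, X ≤ 𝒩(Q) := fun X => le_top.trans (normal_iff_top_le.mp inferInstance)
  have hYc : Y ≤ 𝒞(Y) := elem_le_cent hYel
  have hYc' : cj g Y ≤ 𝒞(cj g Y) := elem_le_cent (elem_map _ hYel)
  have hOY' : Q ≤ 𝒩(cj g Y) := by rw [← cj_norm, ← cj_eq (hQ ⊤ (mem_top g))]; exact cj_mono g hOY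
  have hZ : Subgroup.center L = 𝒞(Y) ⊓ 𝒞(cj g Y) := by
    rw [← cent_sup, hgen, coe_top, centralizer_univ]
  have hZ1 : Y ⊓ Subgroup.center L ≤ cj g Y := fun x hx => by
    rw [mem_cj, mul_assoc, ← mem_center_iff.mp hx.2 g]
    simpa using hx.1
  have hZ2 : cj g Y ⊓ Subgroup.center L ≤ Y := fun x hx => by
    have h3 := (mem_inf.mp hx).1
    rw [mem_cj, mul_assoc, ← mem_center_iff.mp hx.2 g] at h3
    simpa using h3
  have hYY : Y ⊓ cj g Y = Y ⊓ Subgroup.center L :=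
    le_antisymm (le_inf inf_le_left (hZ ▸ inf_le_inf hYc hYc')) (le_inf inf_le_left hZ1)
  have hQY : ⁅Q, Y⁆ ≤ Q ⊓ Y := le_inf (commutator_le_left _ _) (commutator_le_of_le_norm' hOY)
  have hQY' : ⁅Q, cj g Y⁆ ≤ Q ⊓ cj g Y :=
    le_inf (commutator_le_left _ _) (commutator_le_of_le_norm' hOY')
  have hAeq : A = (Q ⊓ Y) ⊔ (Q ⊓ cj g Y) := by
    rw [hA, ← ncl_top]
    refine le_antisymm (ncl_le le_sup_left ?_) (sup_le (le_ncl _ _) ?_)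
    · rw [← hgen]
      refine sup_le (le_norm_of_commutator_le (le_sup_of_le_left ?_))
        (le_norm_of_commutator_le (le_sup_of_le_right ?_))
      · exact (commutator_mono (sup_le inf_le_left inf_le_left) le_rfl).trans hQY
      · exact (commutator_mono (sup_le inf_le_left inf_le_left) le_rfl).trans hQY'
    · rw [← cj_eq (hQ ⊤ (mem_top g)), ← cj_inf, cj_eq (hQ ⊤ (mem_top g))]
      exact cj_le_ncl _ (mem_top g)
  have hAQ : A ≤ Q := hAeq ▸ sup_le inf_le_left inf_le_left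
  have hAY : A ⊓ Y = Q ⊓ Y := le_antisymm (inf_le_inf_right _ hAQ)
    (le_inf (hAeq ▸ le_sup_left) inf_le_right)
  have hAY' : A ⊓ cj g Y = Q ⊓ cj g Y := le_antisymm (inf_le_inf_right _ hAQ)
    (le_inf (hAeq ▸ le_sup_right) inf_le_right)
  have hBB : ⁅Q ⊓ Y, Q ⊓ cj g Y⁆ ≤ Y ⊓ Subgroup.center L := by
    rw [← hYY]
    refine le_inf ?_ (((commutator_mono inf_le_left inf_le_right).trans hQY').trans inf_le_right)
    rw [commutator_comm]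
    exact ((commutator_mono inf_le_left inf_le_right).trans hQY).trans inf_le_right
  have hN : ∀ X : Subgroup L, X ≤ 𝒩(⁅Q ⊓ Y, Q ⊓ cj g Y⁆) := fun X => le_trans (fun x _ => by
    rw [mem_centralizer_iff]; intro y hy; exact (mem_center_iff.mp (hBB hy).2 x).symm)
    (cent_le_norm _)
  have hb1 : ⁅Q ⊓ Y, Q ⊓ Y⁆ = ⊥ := commutator_eq_bot_iff'.mpr
    (inf_le_right.trans (hYc.trans (cent_mono inf_le_right)))
  have hb2 : ⁅Q ⊓ cj g Y, Q ⊓ cj g Y⁆ = ⊥ := commutator_eq_bot_iff'.mpr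
    (inf_le_right.trans (hYc'.trans (cent_mono inf_le_right)))
  have hAA : ⁅A, A⁆ ≤ ⁅Q ⊓ Y, Q ⊓ cj g Y⁆ := by
    rw [hAeq]
    refine commutator_sup_le (hN _) (hN _) (commutator_sup_le' (hN _) (hN _) ?_ ?_)
      (commutator_sup_le' (hN _) (hN _) le_rfl ?_)
    · rw [hb1]; exact bot_le
    · rw [commutator_comm]
    · rw [hb2]; exact bot_le
  have hle1 : ⁅Q ⊓ Y, Q ⊓ cj g Y⁆ ≤ ⁅Q ⊓ Y, A⁆ := commutator_mono le_rfl (hAeq ▸ le_sup_right)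
  have hle2 : ⁅Q ⊓ Y, A⁆ ≤ ⁅A, A⁆ := commutator_mono (hAeq ▸ le_sup_left) le_rfl
  have hZQ : Subgroup.center L ≤ Q := le_trans (fun x hx => by
    rw [mem_centralizer_iff]; intro y _; exact mem_center_iff.mp hx y) hchar
  have hAp : IsPGroup p A := pCore_isP.to_le hAQ
  change _ ∧ _ ∧ ⁅A ⊓ Y, A⁆ = ⁅A ⊓ Y, A ⊓ cj g Y⁆ ∧ _ ∧ Y ⊓ cj g Y = _ ∧ (A ⊓ Y) ⊓ (A ⊓ cj g Y) = _ ∧ _
  rw [hAY, hAY']
  have hn : Q ⊓ Y ≤ 𝒩(Q ⊓ cj g Y) := le_norm_inf (hQ _) (inf_le_left.trans hOY')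
  refine ⟨le_antisymm ((map_subtype_frattini_le_iff hAp).mpr ⟨le_rfl, fun x hx => ?_⟩)
    ((map_subtype_frattini_le_iff hAp).mp le_rfl).1, le_antisymm (hAA.trans hle1) hle2,
    le_antisymm (hle2.trans hAA) hle1, (hle2.trans hAA).trans hBB, hYY, ?_, ?_⟩
  · rw [hAeq, mem_sup_nr hn] at hx
    obtain ⟨a, ha, b, hb, rfl⟩ := hx
    have hc : ⁅b, a⁆ ∈ ⁅A, A⁆ := commutator_mem_commutator (hAeq ▸ mem_sup_right hb)
      (hAeq ▸ mem_sup_left ha)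
    rw [mul_pow_of_central (hBB (hAA hc)).2, (elem_iff.mp hYel).2 a ha.2,
      (elem_iff.mp (elem_map _ hYel)).2 b hb.2, one_mul, one_mul]
    exact pow_mem hc _
  · rw [← inf_inf_distrib_left, hYY, inf_eq_right]
    exact inf_le_right.trans hZQ
  · refine le_antisymm (fun x hx => mem_inf.mpr ⟨?_, hx.2⟩) (le_inf (le_trans (le_inf
      (inf_le_right.trans hZQ) inf_le_left) ?_) inf_le_right)
    · have h3 := (mem_inf.mp hx).1
      rw [hAeq, mem_sup_nr hn] at h3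
      obtain ⟨a, ha, b, hb, rfl⟩ := h3
      refine Y.mul_mem ha.2 (hZ2 ⟨hb.2, ?_⟩)
      rw [hZ] at hx ⊢
      refine ⟨?_, hYc' hb.2⟩
      simpa using (𝒞(Y)).mul_mem ((𝒞(Y)).inv_mem (hYc ha.2)) hx.2.1
    · exact hAeq ▸ le_sup_left

end Cfsg.Agent.S2837
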