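import Cfsg.Statements.S2840
import Cfsg.Agent.Even.WClo

set_option autoImplicit false
open Cfsg

namespace Cfsg.Agent.S2840

/-- Let Q be a nontrivial p-subgroup of the finite group H that is a weakly closed subgroup and K a subgroup containing Q; let K° be the weak closure of Q in K (generated by the H-conjugates of Q inside K). Then K° is generated by the K-conjugates of Q, and K° is the subnormal closure of Q in K. -/
theorem result {H : Type*} [Group H] [Finite H] {p : ℕ} [Fact p.Prime] (Q : Subgroup H) (hQp : IsPGroup p ↥Q) (hQ1 : Q ≠ ⊥) (hwc : Cfsg.IsWeaklyClosedSubgroup p Q) (K : Subgroup H) (hQK : Q ≤ K) (Kc : Subgroup H) (hKc : Kc = Cfsg.weakClosure Q K) : Kc = ⨆ k : ↥K, ((Q : Subgroup H).map (MulAut.conj ((k : H) : H)).toMonoidHom) ∧ Kc = (Cfsg.subnormalClosure (Q.subgroupOf K)).map K.subtype := by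
  open Subgroup CL.Even CL.Grp commutatorElement in
  have h := (wc_iff.mp hwc).2
  rw [h.weakClosure_eq hQp hQK] at hKc
  subst hKc
  refine ⟨rfl, le_antisymm ?_ ?_⟩
  · rw [← map_subgroupOf_eq_of_le (ncl_le_self hQK)]
    refine map_mono (le_sInf fun X hX => ?_)
    rw [← map_le_map_iff_of_injective K.subtype_injective, map_subgroupOf_eq_of_le (ncl_le_self hQK)]
    refine (h.mono le_top).ncl_le_of_subnIn (subnIn_map_subtype hX.2) hQp ?_
    rw [← map_subgroupOf_eq_of_le hQK]
    exact map_mono hX.1
  · exact le_subgroupOf_iff.mp (sInf_le ⟨comap_mono (le_ncl K Q),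
      (subnIn_iff.mp (SubnIn.of_le_normalizer (ncl_le_self hQK) (le_norm_ncl K Q))).2⟩)

end Cfsg.Agent.S2840
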