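import Cfsg.Statements.S2841
import Cfsg.Agent.Even.WClo

set_option autoImplicit false
open Cfsg

namespace Cfsg.Agent.S2841

/-- Let Q be a nontrivial p-subgroup of the finite group H that is a weakly closed subgroup and N a normal subgroup of H. Then N = N_N(Q)·[N, Q] and [N, Q] = (Q ∩ [N, Q])·[N, Q, Q]. -/
theorem result {H : Type*} [Group H] [Finite H] {p : ℕ} [Fact p.Prime] (Q : Subgroup H) (hQp : IsPGroup p ↥Q) (hQ1 : Q ≠ ⊥) (hwc : Cfsg.IsWeaklyClosedSubgroup p Q) (N' : Subgroup H) [N'.Normal] : (∀ n : H, n ∈ N' → ∃ a ∈ N' ⊓ Subgroup.normalizer ((Q : Subgroup H) : Set H), ∃ b ∈ ⁅N', Q⁆, n = a * b) ∧ (∀ c : H, c ∈ ⁅N', Q⁆ → ∃ a ∈ Q ⊓ ⁅N', Q⁆, ∃ b ∈ ⁅⁅N', Q⁆, Q⁆, c = a * b) := by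
  open Subgroup CL.Even CL.Grp commutatorElement in
  have h := (wc_iff.mp hwc).2
  have hn : Q ≤ 𝒩(⁅N', Q⁆) := normalizer_commutator_ge_right _ _
  refine ⟨fun n hn' => ?_, fun c hc => ?_⟩
  · obtain ⟨x, hx, m, hm, e⟩ := h.exists_mul hQp (le_ncl N' Q) le_top (mem_top n⁻¹)
      (cj_le_ncl Q (N'.inv_mem hn'))
    rw [ncl_eq_sup_commutator, sup_comm, mem_sup_nl hn] at hx
    obtain ⟨b, hb, q, hq, rfl⟩ := hx
    have e' : n = (q * m)⁻¹ * b⁻¹ := by rw [← mul_inv_rev, ← mul_assoc, ← e, inv_inv]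
    refine ⟨(q * m)⁻¹, mem_inf.mpr ⟨?_, inv_mem (mul_mem (le_normalizer hq) hm)⟩, b⁻¹, inv_mem hb, e'⟩
    rw [← mul_inv_eq_iff_eq_mul, inv_inv] at e'
    exact e' ▸ N'.mul_mem hn' (commutator_le_left N' Q hb)
  · have h1 : ncl N' Q ≤ Q ⊔ ⁅⁅N', Q⁆, Q⁆ := by
      refine (h.ncl_le_ncl hQp le_top le_top le_rfl).trans (ncl_le le_sup_left ?_)
      rw [ncl_eq_sup_commutator]
      exact sup_le (le_norm_of_le le_sup_left) (le_norm_sup_commutator _ _)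
    have h2 := h1 (by rw [ncl_eq_sup_commutator]; exact mem_sup_right hc)
    rw [mem_sup_nr (normalizer_commutator_ge_right _ _)] at h2
    obtain ⟨a, ha, b, hb, rfl⟩ := h2
    refine ⟨a, ⟨ha, ?_⟩, b, hb, rfl⟩
    simpa using mul_mem hc (inv_mem (commutator_le_of_le_norm hn hb))

end Cfsg.Agent.S2841
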