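import Cfsg.Statements.S2844
import Cfsg.Agent.Even.WClo

set_option autoImplicit false
open Cfsg

namespace Cfsg.Agent.S2844

/-- Let Q be a nontrivial large p-subgroup of the finite group H and Q• = O_p(N_H(Q)). Then for every g ∈ H outside N_H(Q): C_H(Q) ∩ C_H(gQg⁻¹) = 1, C_H(Q•) ∩ C_H(gQ•g⁻¹) = 1, Z(Q) ∩ Z(gQg⁻¹) = 1 and Z(Q•) ∩ Z(gQ•g⁻¹) = 1; moreover N_H(Q) = N_H(Q•) and Q• is large in H. -/
theorem result {H : Type*} [Group H] [Finite H] {p : ℕ} [Fact p.Prime] (Q : Subgroup H) (hQp : IsPGroup p ↥Q) (hQ1 : Q ≠ ⊥) (hL : Cfsg.IsLarge Q) (Qb : Subgroup H) (hQb : Qb = Cfsg.largeBullet p Q) : (∀ g : H, g ∉ Subgroup.normalizer ((Q : Subgroup H) : Set H) → Subgroup.centralizer ((Q : Subgroup H) : Set H) ⊓ Subgroup.centralizer ((((Q : Subgroup H).map (MulAut.conj (g : H)).toMonoidHom) : Subgroup H) : Set H) = ⊥ ∧ Subgroup.centralizer ((Qb : Subgroup H) : Set H) ⊓ Subgroup.centralizer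 ((((Qb : Subgroup H).map (MulAut.conj (g : H)).toMonoidHom) : Subgroup H) : Set H) = ⊥ ∧ (Q ⊓ Subgroup.centralizer ((Q : Subgroup H) : Set H)) ⊓ (((Q : Subgroup H).map (MulAut.conj (g : H)).toMonoidHom) ⊓ Subgroup.centralizer ((((Q : Subgroup H).map (MulAut.conj (g : H)).toMonoidHom) : Subgroup H) : Set H)) = ⊥ ∧ (Qb ⊓ Subgroup.centralizer ((Qb : Subgroup H) : Set H)) ⊓ (((Qb : Subgroup H).map (MulAut.conj (g : H)).toMonoidHom) ⊓ Subgroup.centralizer ((((Qb : Subgroup H).map (MulAut.conj (g : H)).toMonoidHom) : Subgroup H) : Set H)) = ⊥) ∧ Subgroup.normalizer ((Q : Subgroup H) : Set H) = Subgroup.normalizer ((Qb : Subgroup H) : Set H) ∧ Cfsg.IsLarge Qb := by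
  open Subgroup CL.Even CL.Grp commutatorElement in
  have h : WCIn p Q ⊤ := IsLarge.wc hL hQ1
  have h1 : Q ≤ Qb := hQb ▸ le_core le_normalizer hQp le_rfl
  have h2 : 𝒩(Q) = 𝒩(Qb) := le_antisymm (hQb ▸ self_le_norm_core _)
    ((le_inf le_top le_rfl).trans (h.norm_le (hQb ▸ core_isP _) h1))
  refine ⟨fun g hg => ?_, h2, ((cent_mono h1).trans hL.1).trans h1,
    fun U hU hne => h2 ▸ hL.2 U (hU.trans (cent_mono h1)) hne⟩
  have h3 := IsLarge.cent_inf_cent hL hQp hQ1 hg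
  have h4 : 𝒞(Qb) ⊓ 𝒞(cj g Qb) = ⊥ :=
    eq_bot_iff.mpr ((inf_le_inf (cent_mono h1) (cent_mono (cj_mono g h1))).trans h3.le)
  exact ⟨h3, h4, eq_bot_iff.mpr ((inf_le_inf inf_le_right inf_le_right).trans h3.le),
    eq_bot_iff.mpr ((inf_le_inf inf_le_right inf_le_right).trans h4.le)⟩

end Cfsg.Agent.S2844
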