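import Cfsg.Statements.S2845
import Cfsg.Agent.Even.WClo

set_option autoImplicit false
open Cfsg

namespace Cfsg.Agent.S2845

/-- Let Q be a nontrivial large p-subgroup of the finite group H. Then for every subgroup L ≥ Q with O_p(L) ≠ 1, C_H(O_p(L)) is a p-group and L has characteristic p, and either the weak closure L° of Q in L equals Q or C_H(L°) = 1; for every subgroup R of H containing a Sylow p-subgroup of H with O_p(R) ≠ 1, C_H(O_p(R)) ≤ O_p(R); and H has parabolic characteristic p. -/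
theorem result {H : Type*} [Group H] [Finite H] {p : ℕ} [Fact p.Prime] (Q : Subgroup H) (hQp : IsPGroup p ↥Q) (hQ1 : Q ≠ ⊥) (hL : Cfsg.IsLarge Q) : (∀ L : Subgroup H, Q ≤ L → Cfsg.pCore p ↥L ≠ ⊥ → IsPGroup p ↥(Subgroup.centralizer (((Cfsg.pCoreOf p L) : Subgroup H) : Set H)) ∧ Subgroup.centralizer (Cfsg.pCore p ↥L : Set ↥L) ≤ Cfsg.pCore p ↥L ∧ (Cfsg.weakClosure Q L = Q ∨ Subgroup.centralizer (((Cfsg.weakClosure Q L) : Subgroup H) : Set H) = ⊥)) ∧ (∀ R : Subgroup H, Cfsg.IsParabolic p R → Cfsg.pCore p ↥R ≠ ⊥ → Subgroup.centralizer (((Cfsg.pCoreOf p R) : Subgroup H) : Set H) ≤ (Cfsg.pCoreOf p R)) ∧ Cfsg.IsOfParabolicCharacteristic p H := by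
  open Subgroup CL.Even CL.Grp commutatorElement in
  have h : WCIn p Q ⊤ := IsLarge.wc hL hQ1
  have h2 : ∀ R : Subgroup H, Cfsg.IsParabolic p R → Cfsg.pCoreOf p R ≠ ⊥ →
      𝒞(Cfsg.pCoreOf p R) ≤ Cfsg.pCoreOf p R := fun R ⟨T, hT⟩ hR =>
    IsLarge.cent_core_le hL hQp hQ1 (isSylowIn_top T) hT hR
  refine ⟨fun L hQL hO => ?_, fun R hR hO => h2 R hR (by rwa [Ne, core_eq_bot_iff]),
    fun R hR hne hP => isCharP_iff.mp (inf_le_right.trans (h2 _ hP fun e => hne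
      (eq_bot_iff.mpr ((le_core le_normalizer hR le_rfl).trans e.le))))⟩
  have h1 := IsLarge.cent_core hL hQp hQ1 hQL (by rwa [Ne, core_eq_bot_iff])
  refine ⟨h1.1, isCharP_iff.mp h1.2, ?_⟩
  rw [h.weakClosure_eq hQp hQL]
  by_cases e : L ≤ 𝒩(Q)
  · exact Or.inl (ncl_eq_self e)
  · obtain ⟨g, hg, hg'⟩ := SetLike.not_le_iff_exists.mp e
    exact Or.inr (eq_bot_iff.mpr ((le_inf (cent_mono (le_ncl L Q)) (cent_mono (cj_le_ncl Q hg))).trans
      (IsLarge.cent_inf_cent hL hQp hQ1 hg').le))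

end Cfsg.Agent.S2845
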