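import Cfsg.Statements.S2850
import Cfsg.Agent.Even.FrakM

set_option autoImplicit false
open Cfsg

namespace Cfsg.Agent.S2850

/-- Standing hypotheses: G a finite group, S a Sylow p-subgroup, Q a nontrivial large p-subgroup of G contained in S (C_G(Q) ≤ Q and N_G(U) ≤ N_G(Q) for all nontrivial U ≤ C_G(Q)), and M a subgroup containing S with the basic property (M ∈ 𝔐_G(S)); Y_M denotes the largest p-reduced normal subgroup of M and M† = M·C_G(Y_M). Suppose Y_M is asymmetric in G. Then N_G(L) ≤ N_G(O_p(M)) ≤ M† for every p-subgroup L containing O_p(M); O_p(M) is a weakly closed subgroup of G; for every subgroup L containing O_p(M), L ∩ M† contains a Sylow p-subgroup of L; and two elements of Y_M conjugate in G are conjugate in M. -/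
theorem result {G : Type*} [Group G] [Finite G] {p : ℕ} [Fact p.Prime] (S : Sylow p G) (Q : Subgroup G) (hQp : IsPGroup p ↥Q) (hQ1 : Q ≠ ⊥) (hQS : Q ≤ (S : Subgroup G)) (hQ : Cfsg.IsLarge Q) (M : Subgroup G) (hSM : (S : Subgroup G) ≤ M) (hM : Cfsg.IsInFrakM p M) (hasym : ¬ Cfsg.IsSymmetricIn (Cfsg.largestPReducedOf p M)) : (∀ L : Subgroup G, IsPGroup p ↥L → (Cfsg.pCoreOf p M) ≤ L → Subgroup.normalizer ((L : Subgroup G) : Set G) ≤ Subgroup.normalizer (((Cfsg.pCoreOf p M) : Subgroup G) : Set G) ∧ Subgroup.normalizer (((Cfsg.pCoreOf p M) : Subgroup G) : Set G) ≤ (M ⊔ Subgroup.centralizer (((Cfsg.largestPReducedOf p M) : Subgroup G) : Set G))) ∧ Cfsg.IsWeaklyClosedSubgroup p (Cfsg.pCoreOf p M) ∧ (∀ L : Subgroup G, (Cfsg.pCoreOf p M) ≤ L → Cfsg.IsParabolic p ((L ⊓ (M ⊔ Subgroup.centralizer (((Cfsg.largestPReducedOf p M) : Subgroup G) : Set G))).subgroupOf L)) ∧ (∀ x ∈ (Cfsg.largestPReducedOf p M), ∀ g : G, g * x * g⁻¹ ∈ (Cfsg.largestPReducedOf p M)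 → ∃ m ∈ M, m * x * m⁻¹ = g * x * g⁻¹) := by
  open Subgroup CL.Even CL.Grp commutatorElement in
  have hT : IsSylowIn p (S : Subgroup G) ⊤ := isSylowIn_top_iff.mpr ⟨S, rfl⟩
  have hw := FrakM.wc_of_asym hM hT hSM hQ hQp hQ1 hasym
  refine ⟨fun L hL hO => ⟨(le_inf le_top le_rfl).trans (hw.norm_le hL hO), FrakM.norm_core_le hM⟩,
    wc_iff.mpr ⟨core_isP M, hw⟩, fun L hO => ?_, fun x hx g hg => ?_⟩
  · obtain ⟨T, hT', hle⟩ := exists_isSylowIn_ge (core_isP M) hO
    exact isParabolic_subgroupOf_of hT' (le_inf hT'.le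
      ((hw.le_norm hT'.isPGroup hle le_top).trans (FrakM.norm_core_le hM)))
  · have hc : ∀ y ∈ largestPReducedOf p M, pCoreOf p M ≤ centralizer ({y} : Set G) := fun y hy =>
      (core_le_cent_Y M).trans (centralizer_le (Set.singleton_subset_iff.mpr hy))
    obtain ⟨c, hc', n, hn, e⟩ := hw.exists_mul (core_isP M) (hc _ hg) le_top (mem_top g) (by
      intro y hy
      have := hc x hx (mem_cj.mp hy)
      rw [mem_centralizer_singleton_iff] at this ⊢
      calc y * (g * x * g⁻¹) = g * (g⁻¹ * y * g * x) * g⁻¹ := by group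
        _ = _ := by rw [this]; group)
    obtain ⟨m, hm, d, hd, e'⟩ := (mem_sup_nr (le_norm_cent (self_le_norm_Y M))).mp
      (FrakM.norm_core_le hM hn)
    refine ⟨m, hm, ?_⟩
    have h1 : n * x * n⁻¹ = m * x * m⁻¹ := by
      rw [← e', mul_inv_rev, ← conj_eq_of_mem hd hx]
      simp only [mul_assoc, conj_eq_of_mem hd hx]
      have := conj_eq_of_mem hd hx
      rw [← mul_assoc d x, ← mul_assoc (d * x), this]
    have h2 := mem_centralizer_singleton_iff.mp hc'
    rw [← h1]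
    have h3 : n = c⁻¹ * g := by rw [e]; group
    calc n * x * n⁻¹ = c⁻¹ * (g * x * g⁻¹ * c) := by rw [h3]; group
      _ = _ := by rw [← h2]; group

end Cfsg.Agent.S2850
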