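import Cfsg.Statements.S2851
import Cfsg.Agent.Even.FrakH

set_option autoImplicit false
open Cfsg

namespace Cfsg.Agent.S2851

/-- Standing hypotheses: G a finite group, S a Sylow p-subgroup, Q a nontrivial large p-subgroup of G contained in S, M a subgroup containing S with the basic property (M ∈ 𝔐_G(S)); Y_M the largest p-reduced normal subgroup of M and M† = M·C_G(Y_M). Let F be the preimage in M† of the generalized Fitting subgroup of M†/C_{M†}(Y_M). If Y_M is asymmetric in G and H is a subgroup of characteristic p containing F, then Y_M ≤ Y_H. -/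
theorem result {G : Type*} [Group G] [Finite G] {p : ℕ} [Fact p.Prime] (S : Sylow p G) (Q : Subgroup G) (hQp : IsPGroup p ↥Q) (hQ1 : Q ≠ ⊥) (hQS : Q ≤ (S : Subgroup G)) (hQ : Cfsg.IsLarge Q) (M : Subgroup G) (hSM : (S : Subgroup G) ≤ M) (hM : Cfsg.IsInFrakM p M) (hasym : ¬ Cfsg.IsSymmetricIn (Cfsg.largestPReducedOf p M)) [hn : ((Subgroup.centralizer (((Cfsg.largestPReducedOf p M) : Subgroup G) : Set G)).subgroupOf (M ⊔ Subgroup.centralizer (((Cfsg.largestPReducedOf p M) : Subgroup G) : Set G))).Normal] (F : Subgroup G) (hF : F = ((Cfsg.generalizedFittingSubgroup (↥(M ⊔ Subgroup.centralizer (((Cfsg.largestPReducedOf p M) : Subgroup G) : Set G)) ⧸ (Subgroup.centralizer (((Cfsg.largestPReducedOf p M) : Subgroup G) : Set G)).subgroupOf (M ⊔ Subgroup.centralizer (((Cfsg.largestPReducedOf p M) : Subgroup G) : Set G)))).comap (QuotientGroup.mk' ((Subgroup.centralizer (((Cfsg.largestPReducedOf p M) : Subgroup G) : Set G)).subgroupOf (M ⊔ Subgroup.centralizer (((Cfsg.largestPReducedOf p M) : Subgroup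 G) : Set G))))).map ((M ⊔ Subgroup.centralizer (((Cfsg.largestPReducedOf p M) : Subgroup G) : Set G))).subtype) (H : Subgroup G) (hFH : F ≤ H) (hH : Subgroup.centralizer (Cfsg.pCore p ↥H : Set ↥H) ≤ Cfsg.pCore p ↥H) : (Cfsg.largestPReducedOf p M) ≤ Cfsg.largestPReducedOf p H := by
  open Subgroup CL.Even CL.Grp commutatorElement in
  have hT := isSylowIn_top S
  have hw := FrakM.wc_of_asym hM hT hSM hQ hQp hQ1 hasym
  set Y := largestPReducedOf p M
  set D := M ⊔ centralizer (Y : Set G) with hD
  set f := QuotientGroup.mk' ((centralizer (Y : Set G)).subgroupOf D)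
  have hCF : centralizer (Y : Set G) ≤ F := by
    rw [hF]
    conv_lhs => rw [← map_subgroupOf_eq_of_le (le_sup_right : _ ≤ D)]
    refine map_mono ?_
    rw [← map_le_iff_le_comap, map_mk'_eq_bot_iff.mpr le_rfl]; exact bot_le
  have hFD : F ≤ D := hF ▸ map_subtype_le _
  have hOH : pCoreOf p M ≤ H := ((core_le_cent_Y M).trans hCF).trans hFH
  obtain ⟨T, h1, h2⟩ := exists_isSylowIn_ge (core_isP M) hOH
  have h3 : T ≤ H ⊓ D :=
    le_inf h1.le ((hw.le_norm h1.isPGroup h2 le_top).trans (FrakM.norm_core_le hM))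
  have hred : pCoreOf p (⊤ : Subgroup (D ⧸ (centralizer (Y : Set G)).subgroupOf D)) = ⊥ := by
    rw [core_top]
    exact red_iff_pCore.mp ((Y_red M).of_sup_eq (FrakM.dag_le_norm M) (by rw [sup_assoc, sup_idem]))
  refine le_trans (PRedIn.le_Y (L := H ⊓ D) ⟨le_inf ((Y_le_core M).trans hOH)
    (le_sup_of_le_left (Y_le M)), inf_le_right.trans (FrakM.dag_le_norm M), Y_elem M,
    fun E hE hn' hr => ?_⟩) (Y_le_Y_of_syl (isCharP_iff.mpr hH) h1 h3 inf_le_left)
  have hED : E ≤ D := hE.trans inf_le_right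
  have h4 : IsPGroup p ((E.subgroupOf D).map f) := isPGroup_of_res_eq_bot (by
    rw [← map_res, map_mk'_eq_bot_iff, le_subgroupOf_iff, map_res, map_subgroupOf_eq_of_le hED]
    exact hr)
  have h5 : CL.Loc.fstarOf ⊤ ≤ normalizer (SetLike.coe ((E.subgroupOf D).map f)) := by
    have h6 : F.subgroupOf D ≤ normalizer ((E.subgroupOf D : Subgroup D) : Set D) := by
      rw [← map_norm_of_injective D.subtype_injective, map_subgroupOf_eq_of_le hFD,
        map_subgroupOf_eq_of_le hED]
      exact (le_inf hFH hFD).trans hn'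
    have h7 : F.subgroupOf D = (generalizedFittingSubgroup _).comap f := by
      rw [hF]; exact comap_map_eq_self_of_injective D.subtype_injective _
    have := map_le_norm_map f h6
    rwa [h7, map_comap_eq_self_of_surjective (QuotientGroup.mk'_surjective _),
      ← CL.Loc.fstarOf_top] at this
  have h6 := eq_bot_of_le_cent_fstar hred h4 le_top (commutator_eq_bot_iff'.mp (eq_bot_iff.mpr
    (le_trans (le_core (commutator_le_of_le_norm (le_top.trans (CL.Loc.le_normalizer_fstarOf ⊤)))
      (h4.to_le (commutator_le_of_le_norm' h5)) (normalizer_commutator_ge_left _ _))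
      (core_eq_bot_of_subnIn (fstarOf_subnIn ⊤) hred).le)))
  rwa [map_mk'_eq_bot_iff, le_subgroupOf_iff, map_subgroupOf_eq_of_le hED] at h6

end Cfsg.Agent.S2851
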