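import Cfsg.Statements.S2852
import Cfsg.Agent.Even.FrakH

set_option autoImplicit false
open Cfsg

namespace Cfsg.Agent.S2852

/-- Standing hypotheses: G a finite group, S a Sylow p-subgroup, Q a nontrivial large p-subgroup of G contained in S, M a subgroup containing S with the basic property (M ∈ 𝔐_G(S)); Y_M the largest p-reduced normal subgroup of M. If Y_M is char-p-tall and asymmetric in G, then some subgroup H of G lies in ℌ_G(O_p(M)): H has characteristic p, O_p(M) ≤ H, Y_M ≰ O_p(H), and Y_M ≤ O_p(P) for every proper subgroup P of H containing O_p(M). -/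
theorem result {G : Type*} [Group G] [Finite G] {p : ℕ} [Fact p.Prime] (S : Sylow p G) (Q : Subgroup G) (hQp : IsPGroup p ↥Q) (hQ1 : Q ≠ ⊥) (hQS : Q ≤ (S : Subgroup G)) (hQ : Cfsg.IsLarge Q) (M : Subgroup G) (hSM : (S : Subgroup G) ≤ M) (hM : Cfsg.IsInFrakM p M) (htall : Cfsg.IsCharPTall p (Cfsg.largestPReducedOf p M)) (hasym : ¬ Cfsg.IsSymmetricIn (Cfsg.largestPReducedOf p M)) : ∃ H : Subgroup G, Cfsg.IsInFrakH p M H := by
  open Subgroup CL.Even CL.Grp commutatorElement in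
  have hT := isSylowIn_top S
  obtain ⟨T, L, h1, h2, h3⟩ := htall
  obtain ⟨c, hc, e⟩ := syl_conj (isSylowIn_map_subtype T) (FrakM.syl_cent hM hT hSM)
  have h4 : pCoreOf p M ≤ cj c L := e ▸ cj_mono c h1
  have h5 : ¬ largestPReducedOf p M ≤ pCoreOf p (cj c L) := fun e' => h3 (by
    rwa [← cj_core, ← cj_eq_of_mem_cent hc, cj_le_cj] at e')
  have hw := FrakM.wc_of_asym hM hT hSM hQ hQp hQ1 hasym
  obtain ⟨H, ⟨h6, h7, h8⟩, hmin⟩ := (Set.toFinite {X : Subgroup G | pCoreOf p M ≤ X ∧ X ≤ cj c L ∧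
    ¬ largestPReducedOf p M ≤ pCoreOf p X}).exists_minimal ⟨_, h4, le_rfl, h5⟩
  refine ⟨H, isCharP_iff.mp (((isCharP_iff.mpr h2).cj c).of_selfcent_le (core_isP M)
    (hw.core_le_norm (core_isP M) h4 le_top) (inf_le_right.trans (FrakM.cent_core_le hM)) h6 h7),
    h6, h8, fun P h9 hlt => ?_⟩
  by_contra e'
  exact hlt.not_ge (hmin ⟨h9, hlt.le.trans h7, e'⟩ hlt.le)

end Cfsg.Agent.S2852
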