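import Cfsg.Statements.S2854
import Cfsg.Agent.Even.FrakH

set_option autoImplicit false
open Cfsg

namespace Cfsg.Agent.S2854

/-- Standing hypotheses: G a finite group, S a Sylow p-subgroup, Q a nontrivial large p-subgroup of G contained in S, M a subgroup containing S with the basic property (M ∈ 𝔐_G(S)); Y_M the largest p-reduced normal subgroup of M and M† = M·C_G(Y_M). Suppose Y_M is asymmetric in G, H ∈ ℌ_G(O_p(M)), and H ≤ N_G(gQg⁻¹) for some g ∈ G. Then gQg⁻¹ ≤ O_p(H·gQg⁻¹) ≤ N_G(O_p(M)) ≤ N_G(Y_M) = M†; H is normal in H·gQg⁻¹ with O^p(H) = O^p(H·gQg⁻¹); and H·gQg⁻¹ is p-irreducible. -/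
theorem result {G : Type*} [Group G] [Finite G] {p : ℕ} [Fact p.Prime] (S : Sylow p G) (Q : Subgroup G) (hQp : IsPGroup p ↥Q) (hQ1 : Q ≠ ⊥) (hQS : Q ≤ (S : Subgroup G)) (hQ : Cfsg.IsLarge Q) (M : Subgroup G) (hSM : (S : Subgroup G) ≤ M) (hM : Cfsg.IsInFrakM p M) (hasym : ¬ Cfsg.IsSymmetricIn (Cfsg.largestPReducedOf p M)) (H : Subgroup G) (hH : Cfsg.IsInFrakH p M H) (g : G) (hHQ : H ≤ Subgroup.normalizer ((((Q : Subgroup G).map (MulAut.conj (g : G)).toMonoidHom) : Subgroup G) : Set G)) : ((Q : Subgroup G).map (MulAut.conj (g : G)).toMonoidHom) ≤ Cfsg.pCoreOf p (H ⊔ ((Q : Subgroup G).map (MulAut.conj (g : G)).toMonoidHom)) ∧ Cfsg.pCoreOf p (H ⊔ ((Q : Subgroup G).map (MulAut.conj (g : G)).toMonoidHom)) ≤ Subgroup.normalizer (((Cfsg.pCoreOf p M) : Subgroup G) : Set G) ∧ Subgroup.normalizer (((Cfsg.pCoreOf p M) : Subgroup G) : Set G) ≤ Subgroup.normalizer (((Cfsg.largestPReducedOf p M) : Subgroup G) : Set G)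 ∧ Subgroup.normalizer (((Cfsg.largestPReducedOf p M) : Subgroup G) : Set G) = (M ⊔ Subgroup.centralizer (((Cfsg.largestPReducedOf p M) : Subgroup G) : Set G)) ∧ (H.subgroupOf (H ⊔ ((Q : Subgroup G).map (MulAut.conj (g : G)).toMonoidHom))).Normal ∧ (Cfsg.pResidual p ↥H).map H.subtype = (Cfsg.pResidual p ↥(H ⊔ ((Q : Subgroup G).map (MulAut.conj (g : G)).toMonoidHom))).map (H ⊔ ((Q : Subgroup G).map (MulAut.conj (g : G)).toMonoidHom)).subtype ∧ Cfsg.IsPIrreducible p ↥(H ⊔ ((Q : Subgroup G).map (MulAut.conj (g : G)).toMonoidHom)) := by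
  open Subgroup CL.Even CL.Grp commutatorElement in
  have hT := isSylowIn_top S
  have h := FrakM.fh hM hT hSM hQ hQp hQ1 hasym hH
  have hp := isPGroup_cj hQp g
  have h1 : cj g Q ≤ pCoreOf p (H ⊔ cj g Q) := le_core le_sup_right hp (sup_le hHQ le_normalizer)
  have h2 : pCoreOf p (H ⊔ cj g Q) ≤ normalizer (pCoreOf p M : Set G) :=
    h.wc.core_le_norm h.isP (le_sup_of_le_left h.le) le_top
  have h3 : cj g Q ≤ normalizer (H : Set G) := by
    refine le_norm_of_cj_le fun x hx => ?_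
    conv_lhs => rw [← h.ncl_O]
    rw [cj_le_iff, ncl_le_iff]
    intro y hy
    have h4 : y⁻¹ * x * y ∈ normalizer (pCoreOf p M : Set G) := h2 (h1 (conj_mem' (hHQ hy) hx))
    rw [← cj_le_iff, ← cj_mul, show x * y = y * (y⁻¹ * x * y) by group, cj_mul, cj_eq h4]
    exact cj_le_of_mem h.le hy
  refine ⟨h1, h2, h.norm, le_antisymm (FrakM.norm_le_dag hM hT hSM hQ hQp hQ1 (Y_isP M)
    (FrakM.Y_ne_bot hM hT hSM) (self_le_norm_Y M)) (FrakM.dag_le_norm M),
    (normal_subgroupOf_iff_le_normalizer le_sup_left).mpr (sup_le le_normalizer h3), ?_,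
    pIrr_iff.mpr (h.pIrr.sup hp hHQ)⟩
  rw [res_def, res_def, sup_comm, res_sup_eq_of_isPGroup hp h3]

end Cfsg.Agent.S2854
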