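import Cfsg.Statements.S2855
import Cfsg.Agent.Even.FrakH

set_option autoImplicit false
open Cfsg

namespace Cfsg.Agent.S2855

section
open Subgroup CL.Even CL.Grp
open scoped commutatorElement

variable {H : Type*} [Group H] [Finite H] {p : ℕ} [Fact p.Prime]

theorem dedek {E O X : Subgroup H} [O.Normal] (h : O ≤ X) (h' : X ≤ E ⊔ O) : X ⊓ E ⊔ O = X := by
  rw [sup_comm, inf_comm, ← inf_sup_eq_of_le_norm (Or.inr le_normalizer_of_normal) h, sup_comm,
    inf_eq_right.mpr h']

theorem umax_sup {E S : Subgroup H} (hsub : SubnIn (E ⊔ pCore p H) ⊤)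
    (hS : IsSylowIn p S (E ⊔ pCore p H))
    (h : ∀ T : Sylow p E, IsMinimalOver (T : Subgroup E)) :
    ncl (E ⊔ pCore p H) S = E ⊔ pCore p H ∧ ∃ M, UMax S M (E ⊔ pCore p H) := by
  have hO : pCore p H ≤ S := (le_core le_sup_right pCore_isP le_normalizer_of_normal).trans
    (core_le_syl hS)
  have h1 : IsSylowIn p (S ⊓ E) E := isSylowIn_of_maximal inf_le_right
    (hS.isPGroup.to_le inf_le_left) fun U hU h2 h3 => le_antisymm (le_inf (le_sup_left.trans
      (hS.eq_of_le (isPGroup_sup hU pCore_isP le_normalizer_of_normal) ((dedek hO hS.le).ge.trans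
        (sup_le_sup_right h2 _)) (sup_le_sup_right h3 _)).le) h3) h2
  obtain ⟨h2, M, h3⟩ := isMinimalOver_iff.mp (h h1.toSylow)
  rw [umax_subtype_iff, h1.map_toSylow] at h3
  have h4 := congrArg (Subgroup.map E.subtype) h2
  rw [map_ncl, h1.map_toSylow, map_subtype_top] at h4
  refine ⟨le_antisymm (ncl_le_self hS.le) (sup_le (h4.ge.trans (ncl_mono le_sup_left inf_le_left))
    (hO.trans (le_ncl _ _))), M.map E.subtype ⊔ pCore p H, (dedek hO hS.le).ge.trans
      (sup_le_sup_right h3.le _), lt_of_le_of_ne (sup_le_sup_right h3.le_top _) fun e => h3.not_le ?_,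
      fun X h5 h6 => (dedek (hO.trans h5) h6.le).ge.trans (sup_le_sup_right (h3.le_of_not_le
        (inf_le_inf_right _ h5) inf_le_right fun e => h6.not_ge
          (sup_le (e.trans inf_le_left) (hO.trans h5))) _)⟩
  have h5 := inf_sup_eq_of_le_norm (A := M.map E.subtype) (B := pCore p H)
    (Or.inl le_normalizer_of_normal) h3.le_top
  rw [e, inf_eq_right.mpr le_sup_left] at h5
  exact h5.le.trans (sup_le le_rfl ((inf_le_inf_right _ hO).trans h3.le))

theorem res_le_of_strong {E N : Subgroup H} (hsub : SubnIn (E ⊔ pCore p H) ⊤)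
    (h : IsStronglyPIrreducible p E) (hN : N ≤ E ⊔ pCore p H)
    (hn : E ⊔ pCore p H ≤ normalizer (N : Set H)) (hc : ¬ ⁅N, E ⊔ pCore p H⁆ ≤ pCore p H) :
    pResidualOf p (E ⊔ pCore p H) ≤ N := by
  have hO : pCoreOf p E ≤ pCore p H := by
    rw [← core_top]
    refine le_trans (le_sup_left.trans (le_core (sup_le_sup_right (core_le E) (pCore p H))
      (isPGroup_sup (core_isP E) pCore_isP le_normalizer_of_normal) (sup_le (le_norm_sup
        (self_le_norm_core E) le_normalizer_of_normal) (le_norm_of_le le_sup_right))))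
      (core_le_core_of_subnIn hsub)
  have h1 := dedek (X := N ⊔ pCore p H) le_sup_right (sup_le hN le_sup_right)
  have h2 : E ≤ normalizer (((N ⊔ pCore p H) ⊓ E : Subgroup H) : Set H) :=
    le_norm_inf (le_norm_sup (le_sup_left.trans hn) le_normalizer_of_normal) le_normalizer
  have h3 := h.2 (((N ⊔ pCore p H) ⊓ E).subgroupOf E)
    ((normal_subgroupOf_iff_le_normalizer inf_le_right).mpr h2) fun e => hc (by
      rw [← subgroupOf_core, le_subgroupOf_iff, map_commutator, map_subtype_top,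
        map_subgroupOf_eq_of_le inf_le_right] at e
      refine (commutator_mono (le_sup_left.trans h1.ge) le_rfl).trans (commutator_sup_le'
        le_normalizer_of_normal le_normalizer_of_normal (commutator_sup_le le_normalizer_of_normal
          le_normalizer_of_normal (e.trans hO) (commutator_le_right _ _)) (commutator_le_left _ _)))
  rw [le_subgroupOf_iff, res_def] at h3
  have h4 : pResidualOf p (E ⊔ pCore p H) ≤ pCore p H ⊔ N := by
    have := res_sup_le (D := E) (K := N ⊔ pCore p H) (le_norm_sup (le_sup_left.trans hn)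
      le_normalizer_of_normal) (h3.trans inf_le_left)
    rw [sup_comm _ N]
    exact (res_mono (sup_le_sup_left le_sup_right _)).trans this
  rw [← res_res]
  exact (res_mono h4).trans (res_sup_le_of_isPGroup pCore_isP (le_sup_right.trans hn))

theorem commutator_le_of_strong {E K : Subgroup H} (hsub : SubnIn (E ⊔ pCore p H) ⊤)
    (h : IsStronglyPIrreducible p E) (hK : SubnIn K ⊤)
    (hn : E ⊔ pCore p H ≤ normalizer (K : Set H))
    (hc : ⁅⁅K, E ⊔ pCore p H⁆, E ⊔ pCore p H⁆ ≤ pCore p H) : ⁅K, E ⊔ pCore p H⁆ ≤ pCore p H := by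
  obtain ⟨T, hT, hO⟩ := exists_isSylowIn_ge pCore_isP (le_sup_right : _ ≤ E ⊔ pCore p H)
  have h0 := commutator_le_of_le_norm (hT.le.trans hn)
  have h1 : SubnIn T (K ⊔ T) := SubnIn.step _ (T ⊔ ⁅K, T⁆) _ le_sup_left
    (sup_le le_normalizer (le_norm_of_commutator_le (by
      rw [commutator_comm]
      exact ((commutator_mono (commutator_mono le_rfl hT.le) hT.le).trans hc).trans hO)))
    (SubnIn.of_le_normalizer (sup_le le_sup_right (le_sup_of_le_left h0))
      (sup_le (le_norm_sup_commutator K T) (le_norm_of_le le_sup_left)))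
  have h3 : K ≤ normalizer (pCoreOf p (K ⊔ T) : Set H) := le_sup_left.trans (self_le_norm_core _)
  have h4 : ⁅K, T⁆ ≤ pCore p H := ((le_inf ((commutator_mono le_rfl (le_core_of_subnIn h1
    hT.isPGroup)).trans (commutator_le_of_le_norm' h3)) h0).trans (core_inf_le h3)).trans
      ((core_le_core_of_subnIn hK).trans core_top.le)
  have h5 : T ≤ (E ⊔ pCore p H) ⊓ cmod K (pCore p H) :=
    le_inf hT.le (le_cmod le_normalizer_of_normal h4)
  refine commutator_le_of_le_cmod (le_of_syl_of_res hT (h5.trans inf_le_right)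
    ((res_le_of_strong hsub h inf_le_left (le_norm_inf le_normalizer
      (le_norm_cmod hn le_normalizer_of_normal)) fun e => h.1 ?_).trans inf_le_right))
  exact pClo_iff.mpr ((pClo_of_syl_norm hT (le_norm_of_commutator_le
    (((commutator_mono h5 le_rfl).trans e).trans hO))).of_le le_sup_left)
end

/-- Let H be a finite group, p a prime, and 𝒦 a nonempty set of subgroups of H permuted transitively by conjugation, with R the subgroup generated by the members of 𝒦. Suppose O^p(H) ≤ R, each E ∈ 𝒦 has E·O_p(H) normal in R·O_p(H), and each E ∈ 𝒦 is p-minimal (generated by the conjugates of a Sylow p-subgroup T_E of E, with T_E in exactly one maximal subgroup of E). Then H is p-minimal in the same sense. If instead each E ∈ 𝒦 is strongly p-irreducible, then H is p-irreducible and, for E, K ∈ 𝒦, either O^p(E·O_p(H)) = O^p(K·O_p(H)) or [E, K] ≤ O_p(H). -/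
theorem result {H : Type*} [Group H] [Finite H] {p : ℕ} [Fact p.Prime] (𝒦 : Set (Subgroup H)) (hne : 𝒦.Nonempty) (hinv : ∀ h : H, ∀ E ∈ 𝒦, E.map (MulAut.conj h).toMonoidHom ∈ 𝒦) (htr : ∀ E ∈ 𝒦, ∀ K ∈ 𝒦, ∃ h : H, K = E.map (MulAut.conj h).toMonoidHom) (hres : Cfsg.pResidual p H ≤ sSup 𝒦) (hnorm : ∀ E ∈ 𝒦, sSup 𝒦 ⊔ Cfsg.pCore p H ≤ Subgroup.normalizer ((E ⊔ Cfsg.pCore p H : Subgroup H) : Set H)) : ((∀ E ∈ 𝒦, ∀ T : Sylow p ↥E, Cfsg.IsMinimalOver (T : Subgroup ↥E)) → ∀ T : Sylow p H, Cfsg.IsMinimalOver (T : Subgroup H)) ∧ ((∀ E ∈ 𝒦, Cfsg.IsStronglyPIrreducible p ↥E) → Cfsg.IsPIrreducible p H ∧ ∀ E ∈ 𝒦, ∀ K ∈ 𝒦, (Cfsg.pResidual p ↥(E ⊔ Cfsg.pCore p H)).map (E ⊔ Cfsg.pCore p H).subtype = (Cfsg.pResidual p ↥(K ⊔ Cfsg.pCore p H)).map (K ⊔ Cfsg.pCore p H).subtype ∨ ⁅E, K⁆ ≤ Cfsg.pCore p H) := by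
  open Subgroup CL.Even CL.Grp commutatorElement in
  set O := pCore p H
  have hRn : (sSup 𝒦 ⊔ O).Normal := normal_iff_top_le.mpr (le_norm_sup (le_norm_of_cj_le fun g _ => by
    rw [cj_le_iff]
    exact sSup_le fun E hE => cj_le_iff.mp (le_sSup (hinv g E hE))) le_normalizer_of_normal)
  have hle : ∀ E ∈ 𝒦, E ⊔ O ≤ sSup 𝒦 ⊔ O := fun E hE => sup_le_sup_right (le_sSup hE) _
  have hsub : ∀ E ∈ 𝒦, SubnIn (E ⊔ O) ⊤ := fun E hE => SubnIn.step _ _ _ (hle E hE)
    (hnorm E hE) (SubnIn.of_le_normalizer le_top le_normalizer_of_normal)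
  have hcj : ∀ (g : H) (E : Subgroup H), cj g (E ⊔ O) = cj g E ⊔ O := fun g E => by
    rw [cj_sup, cj_eq (H := O) (le_normalizer_of_normal (mem_top g))]
  obtain ⟨E₀, hE₀⟩ := hne
  refine ⟨fun h T => ?_, fun h => ⟨pIrr_top.mpr ⟨fun e => (h E₀ hE₀).1 (pClo_iff.mpr (e.of_le le_top)),
    fun N _ hn hc => ?_⟩, fun E hE K hK => ?_⟩⟩
  · have hT := isSylowIn_top T
    have hO : O ≤ T := core_top.ge.trans (core_le_syl hT)
    have key := fun E hE => umax_sup (hsub E hE) (syl_inf_of_subnIn (hsub E hE) hT) (h E hE)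
    have hall : ∀ X : Subgroup H, T ≤ X → ∀ E ∈ 𝒦, E ≤ X → ⊤ ≤ X := fun X hX E hE hEX => by
      refine le_of_syl_of_res hT hX (res_top.le.trans (hres.trans (sSup_le fun K hK => ?_)))
      obtain ⟨g, rfl⟩ := htr E hE K hK
      obtain ⟨s, hs, r, hr, rfl⟩ := exists_syl_mul_res hT (mem_top g)
      rw [cj_mul]
      refine cj_le_of_mem ((cj_le_of_le le_sup_left (hnorm E hE ?_)).trans
        (sup_le hEX (hO.trans hX))) (hX hs)
      exact mem_sup_left (hres (res_top (p := p) (G := H) ▸ hr))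
    let m : Subgroup H → Subgroup H := fun D => sSup {X | (T : Subgroup H) ⊓ D ≤ X ∧ X < D}
    have hm : ∀ E ∈ 𝒦, UMax (T ⊓ (E ⊔ O)) (m (E ⊔ O)) (E ⊔ O) := fun E hE => by
      obtain ⟨M, hM⟩ := (key E hE).2
      have : m (E ⊔ O) = M := le_antisymm (sSup_le fun X hX => hM.2.2 X hX.1 hX.2)
        (le_sSup ⟨hM.le, hM.lt⟩)
      rwa [this]
    let K : Subgroup H :=
      { carrier := {g | ∀ E ∈ 𝒦, cj g (m (E ⊔ O)) = m (cj g E ⊔ O)}
        one_mem' := fun E _ => by rw [cj_one, cj_one]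
        mul_mem' := fun {a b} ha hb E hE => by
          rw [cj_mul, cj_mul, hb E hE, ha _ (hinv b E hE)]
        inv_mem' := fun {a} ha E hE => by
          have := ha _ (hinv a⁻¹ E hE)
          rw [cj_cj_inv] at this
          rw [← this, cj_inv_cj] }
    have hK : ∀ X : Subgroup H, T ≤ X → (∀ E ∈ 𝒦, ¬ E ≤ X) → X ≤ K := fun X hX hE x hx E hE' => by
      have h1 := (hm E hE').cj x
      rw [hcj] at h1
      have h2 := (hm E hE').le_of_not_le (inf_le_inf_right _ hX) inf_le_right
        fun e => hE E hE' ((le_sup_left.trans e).trans inf_le_left)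
      refine (h1.eq_of_lt ((hm _ (hinv x E hE')).2.2 _ ?_ h1.lt) (hm _ (hinv x E hE')).lt).symm
      rw [← hcj, le_cj_iff, cj_inf, cj_inv_cj]
      exact (inf_le_inf_right _ (cj_le_of_mem hX (X.inv_mem hx))).trans h2
    have hTE : ∀ E ∈ 𝒦, ¬ E ≤ T := fun E hE e => (hm E hE).not_le
      ((le_inf (sup_le e hO) le_rfl).trans (hm E hE).le)
    refine isMinimalOver_iff.mpr ⟨eq_top_iff.mpr (hall _ (le_ncl _ _) E₀ hE₀ ((le_sup_left.trans
      (key E₀ hE₀).1.ge).trans (ncl_mono le_top inf_le_left))), K, hK _ le_rfl hTE,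
      lt_top_iff_ne_top.mpr fun e => (hm E₀ hE₀).not_le_norm (key E₀ hE₀).1 (hm E₀ hE₀).le le_rfl
        fun x hx => cj_eq_iff_mem.mp ?_, fun X h1 h2 => hK X h1 fun E hE e =>
          h2.not_ge (hall X h1 E hE e)⟩
    rw [(e.ge (mem_top x) : x ∈ K) E₀ hE₀, ← hcj, cj_eq (le_normalizer hx)]
  · have hN := normal_iff_top_le.mpr hn
    by_cases h1 : ∃ E ∈ 𝒦, pResidualOf p (E ⊔ O) ≤ N
    · obtain ⟨E, hE, h1⟩ := h1
      have h2 : (sSup 𝒦).map (QuotientGroup.mk' N) ≤ pCore p _ := by
        rw [map_le_iff_le_comap]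
        refine sSup_le fun K hK => le_sup_left.trans (map_le_iff_le_comap.mp (?_ : (K ⊔ O).map _ ≤ _))
        have h3 := (hsub K hK).map (QuotientGroup.mk' N)
        rw [map_top_of_surjective _ (QuotientGroup.mk'_surjective _)] at h3
        rw [← core_top]
        refine le_core_of_subnIn h3 (isPGroup_of_res_eq_bot ?_)
        obtain ⟨g, rfl⟩ := htr E hE K hK
        rw [← map_res, map_mk'_eq_bot_iff, ← hcj, ← cj_res]
        exact cj_le_of_le h1 (hn (mem_top g))
      rw [← res_res, ← map_mk'_eq_bot_iff, map_res]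
      exact res_eq_bot_of_isPGroup (pCore_isP.to_le ((map_mono (res_top.le.trans hres)).trans h2))
    exfalso
    have hR : ∀ K : Subgroup H, (∀ E ∈ 𝒦, ⁅K, E ⊔ O⁆ ≤ O) → ⁅K, sSup 𝒦 ⊔ O⁆ ≤ O := fun K hK =>
      commutator_le_of_le_cmod (sup_le (sSup_le fun E hE => le_sup_left.trans
        (le_cmod le_normalizer_of_normal (hK E hE)))
          (le_cmod le_normalizer_of_normal (commutator_le_right _ _)))
    have h2 : ⁅N ⊓ (sSup 𝒦 ⊔ O), sSup 𝒦 ⊔ O⁆ ≤ O := hR _ fun E hE => by
      refine commutator_le_of_strong (hsub E hE) (h E hE) (SubnIn.of_le_normalizer le_top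
        le_normalizer_of_normal) le_normalizer_of_normal ((commutator_mono (le_inf
          ((commutator_mono inf_le_left le_rfl).trans (commutator_le_left _ _))
            (commutator_le_of_le_norm' (inf_le_right.trans (hnorm E hE)))) le_rfl).trans ?_)
      by_contra e
      exact h1 ⟨E, hE, (res_le_of_strong (hsub E hE) (h E hE) inf_le_right
        (le_norm_inf le_normalizer_of_normal le_normalizer) e).trans inf_le_left⟩
    have h3 : ⁅N, sSup 𝒦 ⊔ O⁆ ≤ O := hR _ fun E hE =>
      commutator_le_of_strong (hsub E hE) (h E hE) (SubnIn.of_le_normalizer le_top hn)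
        le_normalizer_of_normal ((commutator_mono (le_inf (commutator_le_left _ _)
          ((commutator_mono le_rfl (hle E hE)).trans (commutator_le_right _ _))) (hle E hE)).trans h2)
    refine hc fun U hU hp => ?_
    obtain ⟨T, hT, hUT⟩ := exists_isSylowIn_ge hp (le_top : U ≤ ⊤)
    have h4 : ⊤ ≤ normalizer ((T ⊓ N : Subgroup H) : Set H) := by
      refine le_of_syl_of_res hT (le_norm_inf le_normalizer le_normalizer_of_normal)
        (le_norm_of_commutator_le (le_inf ?_ ?_))
      · exact (commutator_mono inf_le_right (res_top.le.trans (hres.trans le_sup_left))).trans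
          (h3.trans (core_top.ge.trans (core_le_syl hT)))
      · exact (commutator_mono inf_le_right le_rfl).trans (commutator_le_left _ _)
    exact (le_inf hUT hU).trans (le_core inf_le_right (hT.isPGroup.to_le inf_le_left) (le_top.trans h4))
  · have h1 := (hle E hE).trans (hnorm K hK)
    have h2 := (hle K hK).trans (hnorm E hE)
    by_cases e : ⁅⁅K ⊔ O, E ⊔ O⁆, E ⊔ O⁆ ≤ O
    · right
      rw [commutator_comm]
      exact (commutator_mono le_sup_left le_sup_left).trans
        (commutator_le_of_strong (hsub E hE) (h E hE) (hsub K hK) h1 e)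
    · left
      have h3 := res_mono (p := p) ((res_le_of_strong (hsub E hE) (h E hE) (commutator_le_of_le_norm' h2)
        (normalizer_commutator_ge_right _ _) e).trans (commutator_le_of_le_norm h1))
      rw [res_res] at h3
      rw [res_def, res_def]
      refine eq_of_le_of_card_ge h3 (le_of_eq ?_)
      obtain ⟨g, rfl⟩ := htr E hE K hK
      rw [← hcj, ← cj_res, card_cj]

end Cfsg.Agent.S2855
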