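import Cfsg.Statements.S2859
import Cfsg.Agent.Even.WClo
import Cfsg.Agent.Loc.Chief

set_option autoImplicit false
open Cfsg

namespace Cfsg.Agent.S2859

section
open Subgroup CL.Even CL.Grp
open scoped commutatorElement

theorem aux {G : Type*} [Group G] [Finite G] {p : ℕ} [Fact p.Prime] {Q H₁ H₂ : Subgroup G}
    (hQ : IsPGroup p Q) (hw : WCIn p Q ⊤) (h₁ : ncl ⊤ Q ≤ normalizer (H₁ : Set G))
    (h₂ : ncl ⊤ Q ≤ normalizer (H₂ : Set G)) (e : H₁ ⊔ H₂ = ncl ⊤ Q)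
    (hc : ⁅H₁, H₂⁆ ≤ normalizer (Q : Set G)) {K : Subgroup G}
    (hK : K = pResidualOf p (ncl (H₁ ⊔ Q) Q)) :
    (⁅K, Q⁆ = K ∧ ⁅K, H₁⁆ = K ∧ K ≤ ⁅H₁, H₁⁆ ∧ ncl ⊤ Q ≤ normalizer (K : Set G)) ∧
      ⁅K, H₂⁆ ≤ pCoreOf p (ncl ⊤ Q) ∧ K ≤ H₁ ∧ H₁ ≤ normalizer ((Q ⊔ K : Subgroup G) : Set G) := by
  have hQc : Q ≤ ncl ⊤ Q := le_ncl _ _
  have l₁ : H₁ ≤ ncl ⊤ Q := le_sup_left.trans e.le
  have l₂ : H₂ ≤ ncl ⊤ Q := le_sup_right.trans e.le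
  have hD := le_norm_commutator h₁ h₂
  have hD₁ : ⁅H₁, H₂⁆ ≤ H₁ := commutator_le_of_le_norm (l₂.trans h₁)
  have hB : ncl ⊤ Q ≤ normalizer (pCoreOf p ⁅H₁, H₂⁆ : Set G) := le_norm_core hD
  have hB₁ : pCoreOf p ⁅H₁, H₂⁆ ≤ H₁ := (core_le _).trans hD₁
  have a1 : ⁅⁅H₁, H₂⁆, ncl ⊤ Q⁆ ≤ pCoreOf p ⁅H₁, H₂⁆ := by
    refine commutator_le_of_le_cmod ?_
    rw [← hw.ncl_ncl hQ le_top]
    refine ncl_le (le_cmod (hQc.trans hB) (le_trans (le_inf (commutator_le_of_le_norm (hQc.trans hD))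
      (commutator_le_of_le_norm' hc)) (le_core inf_le_left (hQ.to_le inf_le_right)
        (le_norm_inf le_normalizer hc)))) (le_norm_cmod hD hB)
  have a2 : ⁅⁅H₁, H₁⁆, H₂⁆ ≤ pCoreOf p ⁅H₁, H₂⁆ :=
    CL.Loc.three_subgroups_of_le_normalizer (l₁.trans hB) (l₁.trans hB) (l₂.trans hB)
      ((commutator_mono le_rfl l₁).trans a1)
      (by rw [commutator_comm H₂]; exact (commutator_mono le_rfl l₁).trans a1)
  have k1 : ⁅K, Q⁆ = K := hK ▸ (hw.mono le_top).commutator_res_ncl hQ le_sup_right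
  have k2 : K ≤ H₁ := by
    rw [hK]
    refine (res_mono (ncl_le_self le_sup_right)).trans ?_
    rw [sup_comm]
    exact res_sup_le_of_isPGroup hQ (hQc.trans h₁)
  have k3 : H₁ ⊔ Q ≤ normalizer (K : Set G) := hK ▸ le_norm_res (le_norm_ncl _ _)
  have k0 : pResidualOf p K = K := by rw [hK, res_res]
  have hH := le_norm_commutator h₁ h₁
  have k4 : K ≤ ⁅H₁, H₁⁆ ⊔ ⁅H₁, H₂⁆ := by
    rw [← k1]
    refine (commutator_mono k2 (hQc.trans e.ge)).trans (commutator_sup_le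
      (l₁.trans (le_norm_sup hH hD)) (l₂.trans (le_norm_sup hH hD)) le_sup_left le_sup_right)
  have k5 : ⁅K, H₂⁆ ≤ pCoreOf p ⁅H₁, H₂⁆ := (commutator_mono k4 le_rfl).trans (commutator_sup_le'
    (((commutator_le_of_le_norm le_normalizer).trans l₁).trans hB) ((hD₁.trans l₁).trans hB) a2
    ((commutator_mono le_rfl l₂).trans a1))
  have k6 : ncl ⊤ Q ≤ normalizer (K : Set G) := by
    rw [← e]
    refine sup_le (le_sup_left.trans k3) ?_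
    rw [← k0, ← res_sup_eq_of_isPGroup (core_isP ⁅H₁, H₂⁆) ((hB₁.trans le_sup_left).trans k3)]
    refine le_norm_res (le_norm_of_commutator_le (commutator_sup_le' (le_norm_of_le le_sup_left)
      (le_norm_of_le le_sup_right) (le_sup_of_le_left (commutator_le_of_le_norm (l₂.trans hB)))
      (le_sup_of_le_left k5)))
  have hKH := le_norm_commutator k6 h₁
  have k7 : K ≤ ⁅K, H₁⁆ := by
    have : K ≤ pCoreOf p ⁅H₁, H₂⁆ ⊔ ⁅K, H₁⁆ := by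
      conv_lhs => rw [← k1]
      exact (commutator_mono le_rfl (hQc.trans e.ge)).trans (commutator_sup_le
        (l₁.trans (le_norm_sup hB hKH)) (l₂.trans (le_norm_sup hB hKH)) le_sup_right
        (le_sup_of_le_left k5))
    conv_lhs => rw [← k0]
    exact (res_mono this).trans (res_sup_le_of_isPGroup (core_isP _) ((hB₁.trans l₁).trans hKH))
  refine ⟨⟨k1, le_antisymm (commutator_le_of_le_norm (l₁.trans k6)) k7,
    k7.trans (commutator_mono k2 le_rfl), k6⟩,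
    k5.trans (core_le_core_of_normal (hD₁.trans l₁) hD), k2, ?_⟩
  rw [hK, (hw.mono le_top).sup_res_ncl hQ le_sup_right]
  exact le_sup_left.trans (le_norm_ncl _ _)
end

/-- Let Q be a nontrivial p-subgroup of the finite group H that is a weakly closed subgroup, H° the weak closure of Q in H (generated by the conjugates of Q) and H_∘ = O^p(H°). Suppose H₁, H₂ are normal subgroups of H° with H° = H₁H₂ and [H₁, H₂] ≤ N_H(Q), and put Kᵢ = O^p of the weak closure of Q in HᵢQ. Then for i = 1, 2: Kᵢ = [Kᵢ, Q] = [Kᵢ, Hᵢ] ≤ Hᵢ′ and Kᵢ is normal in H°; H_∘ = K₁K₂; and [K₁, K₂] ≤ O_p(H°). -/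
theorem result {G : Type*} [Group G] [Finite G] {p : ℕ} [Fact p.Prime] (Q : Subgroup G) (hQp : IsPGroup p ↥Q) (hQ1 : Q ≠ ⊥) (hwc : Cfsg.IsWeaklyClosedSubgroup p Q) (Hc : Subgroup G) (hHc : Hc = Cfsg.weakClosure Q ⊤) (H₁ H₂ : Subgroup G) (hn₁ : H₁ ≤ Hc ∧ Hc ≤ Subgroup.normalizer ((H₁ : Subgroup G) : Set G)) (hn₂ : H₂ ≤ Hc ∧ Hc ≤ Subgroup.normalizer ((H₂ : Subgroup G) : Set G)) (hprod : H₁ ⊔ H₂ = Hc) (hcomm : ⁅H₁, H₂⁆ ≤ Subgroup.normalizer ((Q : Subgroup G) : Set G)) (K₁ K₂ : Subgroup G) (hK₁ : K₁ = ((Cfsg.pResidual p ↥(Cfsg.weakClosure Q (H₁ ⊔ Q))).map ((Cfsg.weakClosure Q (H₁ ⊔ Q))).subtype)) (hK₂ : K₂ = ((Cfsg.pResidual p ↥(Cfsg.weakClosure Q (H₂ ⊔ Q))).map ((Cfsg.weakClosure Q (H₂ ⊔ Q))).subtype)) : (⁅K₁, Q⁆ = K₁ ∧ ⁅K₁, H₁⁆ = K₁ ∧ K₁ ≤ ⁅H₁, H₁⁆ ∧ Hc ≤ Subgroup.normalizer ((K₁ : Subgroup G) : Set G)) ∧ (⁅K₂, Q⁆ = K₂ ∧ ⁅K₂, H₂⁆ = K₂ ∧ K₂ ≤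 ⁅H₂, H₂⁆ ∧ Hc ≤ Subgroup.normalizer ((K₂ : Subgroup G) : Set G)) ∧ K₁ ⊔ K₂ = ((Cfsg.pResidual p ↥Hc).map (Hc).subtype) ∧ ⁅K₁, K₂⁆ ≤ (Cfsg.pCoreOf p Hc) := by
  open Subgroup CL.Even CL.Grp commutatorElement in
  have hw := (wc_iff.mp hwc).2
  have hQc : Q ≤ ncl ⊤ Q := le_ncl _ _
  rw [hw.weakClosure_eq hQp le_top] at hHc
  subst hHc
  rw [res_def, hw.weakClosure_eq hQp le_sup_right] at hK₁ hK₂
  obtain ⟨a1, a2, a3, a4⟩ := aux hQp hw hn₁.2 hn₂.2 hprod hcomm hK₁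
  obtain ⟨b1, -, b3, b4⟩ := aux hQp hw hn₂.2 hn₁.2 (by rwa [sup_comm]) (by rwa [commutator_comm]) hK₂
  refine ⟨a1, b1, le_antisymm (sup_le ?_ ?_) ?_, (commutator_mono le_rfl b3).trans a2⟩
  · rw [hK₁]; exact res_mono (ncl_mono le_top le_rfl)
  · rw [hK₂]; exact res_mono (ncl_mono le_top le_rfl)
  · have h1 : ncl ⊤ Q ≤ Q ⊔ (K₁ ⊔ K₂) := by
      rw [← hw.ncl_ncl hQp le_top]
      refine ncl_le le_sup_left ?_
      conv_lhs => rw [← hprod]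
      refine sup_le ?_ ?_
      · rw [← sup_assoc]; exact le_norm_sup a4 (hn₁.1.trans b1.2.2.2)
      · rw [sup_comm K₁, ← sup_assoc]; exact le_norm_sup b4 (hn₂.1.trans a1.2.2.2)
    exact (res_mono h1).trans (res_sup_le_of_isPGroup hQp (hQc.trans (le_norm_sup a1.2.2.2 b1.2.2.2)))

end Cfsg.Agent.S2859
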