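import Cfsg.Statements.S2860
import Cfsg.Agent.Even.WClo
import Cfsg.Agent.S2815

set_option autoImplicit false
open Cfsg

namespace Cfsg.Agent.S2860

/-- Let Q be a nontrivial large p-subgroup of the finite group H, U a nontrivial elementary abelian p-subgroup of H, and Q ≤ E ≤ N_H(U) with Q not normal in E. Suppose O_p(E/C_E(U)) = 1 and O^p(E)·C_E(U)/C_E(U) is quasisimple. Let E° be the weak closure of Q in E (generated by the conjugates of Q inside E) and E_∘ = O^p(E°). Then O^p(E)·C_E(U) = E_∘·C_E(U); E_∘ is perfect and equals O^p(E_∘); E_∘/C_{E_∘}(U) and E_∘/O_p(E_∘) are quasisimple; and E_∘ = [E_∘, Y] for every p-subgroup Y of E not centralizing U. -/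
theorem result {G : Type*} [Group G] [Finite G] {p : ℕ} [Fact p.Prime] (Q : Subgroup G) (hQp : IsPGroup p ↥Q) (hQ1 : Q ≠ ⊥) (hQ : Cfsg.IsLarge Q) (U : Subgroup G) (hU : Cfsg.IsElementaryAbelian p U) (hU1 : U ≠ ⊥) (E : Subgroup G) (hQE : Q ≤ E) (hEU : E ≤ Subgroup.normalizer ((U : Subgroup G) : Set G)) (hQn : ¬ E ≤ Subgroup.normalizer ((Q : Subgroup G) : Set G)) [hn : ((Subgroup.centralizer ((U : Subgroup G) : Set G)).subgroupOf E).Normal] (hred : Cfsg.pCore p (↥E ⧸ (Subgroup.centralizer ((U : Subgroup G) : Set G)).subgroupOf E) = ⊥) (hqs : Cfsg.IsQuasisimple ↥(((Cfsg.pResidual p ↥E) ⊔ (Subgroup.centralizer ((U : Subgroup G) : Set G)).subgroupOf E).map (QuotientGroup.mk' ((Subgroup.centralizer ((U : Subgroup G) : Set G)).subgroupOf E)))) (Er : Subgroup G) (hEr : Er = ((Cfsg.pResidual p ↥(Cfsg.weakClosure Q E)).map ((Cfsg.weakClosure Q E)).subtype)) [hn2 : ((Subgroup.centralizer ((U : Subgroup G) : Set G)).subgroupOf Er).Normal] : ((Cfsg.pResidual p ↥E).map (E).subtype) ⊔ (E ⊓ Subgroup.centralizer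 ((U : Subgroup G) : Set G)) = Er ⊔ (E ⊓ Subgroup.centralizer ((U : Subgroup G) : Set G)) ∧ ⁅Er, Er⁆ = Er ∧ ((Cfsg.pResidual p ↥Er).map (Er).subtype) = Er ∧ Cfsg.IsQuasisimple (↥Er ⧸ (Subgroup.centralizer ((U : Subgroup G) : Set G)).subgroupOf Er) ∧ Cfsg.IsQuasisimple (↥Er ⧸ Cfsg.pCore p ↥Er) ∧ ∀ Y : Subgroup G, Y ≤ E → IsPGroup p ↥Y → ¬ Y ≤ Subgroup.centralizer ((U : Subgroup G) : Set G) → ⁅Er, Y⁆ = Er := by
  open Subgroup CL.Even CL.Grp commutatorElement in
  have hw : WCIn p Q ⊤ := IsLarge.wc hQ hQ1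
  rw [res_def, hw.weakClosure_eq hQp hQE] at hEr
  set C := centralizer (U : Set G)
  set f := QuotientGroup.mk' (C.subgroupOf E)
  have hUp := elem_isP hU
  have hres : ∀ X : Subgroup G, X ≤ E → ((pResidualOf p X).subgroupOf E).map f =
      pResidualOf p ((X.subgroupOf E).map f) := fun X hX => by
    rw [← map_res]
    congr 1
    apply map_injective E.subtype_injective
    rw [map_res, map_subgroupOf_eq_of_le hX, map_subgroupOf_eq_of_le ((res_le X).trans hX)]
  have hq : IsQuasisimple (pResidual p (E ⧸ C.subgroupOf E)) := by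
    rwa [Subgroup.map_sup, map_mk'_eq_bot_iff.mpr le_rfl, sup_bot_eq, ← res_top, map_res,
      map_top_of_surjective _ (QuotientGroup.mk'_surjective _), res_top] at hqs
  have hne : ∀ Y : Subgroup G, Y ≤ E → ¬ Y ≤ C → (Y.subgroupOf E).map f ≠ ⊥ := fun Y hY h e => h (by
    rwa [map_mk'_eq_bot_iff, le_subgroupOf_iff, map_subgroupOf_eq_of_le hY] at e)
  have hQC : ¬ Q ≤ C := fun e => hQn (hEU.trans (hQ.2 U (le_centralizer_iff.mp e) hU1))
  have hdvd : p ∣ Nat.card (E ⧸ C.subgroupOf E) := by
    by_contra e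
    exact hne Q hQE hQC (eq_bot_of_isPGroup_of_coprime (hQp.comap_subtype.map f)
      (((Nat.Prime.coprime_iff_not_dvd Fact.out).mpr e).symm.coprime_dvd_left
        (card_subgroup_dvd_card _)))
  have key := fun (Y : Subgroup G) (hY : Y ≤ E) (hp : IsPGroup p Y) (h : ¬ Y ≤ C) =>
    ((Cfsg.Agent.S2815.result hdvd hred hq).2.1 _ (hp.comap_subtype.map f) (hne Y hY h)).1
  have hEc : ncl E Q ≤ E := ncl_le_self hQE
  have hErE : Er ≤ E := hEr ▸ (res_le _).trans hEc
  have hEn : E ≤ normalizer (Er : Set G) := hEr ▸ le_norm_res (le_norm_ncl E Q)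
  have h0 : pResidualOf p Er = Er := by rw [hEr, res_res]
  have h1 : (Er.subgroupOf E).map f = pResidual p (E ⧸ C.subgroupOf E) := by
    rw [hEr, hres _ hEc, ← res_top]
    refine le_antisymm (res_mono le_top) ?_
    rw [← res_res]
    refine res_mono ?_
    rw [res_top, ← key Q hQE hQp hQC]
    have : (ncl E Q).subgroupOf E = ncl ⊤ (Q.subgroupOf E) := by
      apply map_injective E.subtype_injective
      rw [map_ncl, map_subtype_top, map_subgroupOf_eq_of_le hQE, map_subgroupOf_eq_of_le hEc]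
    rw [this, map_ncl, ncl_eq_sup_commutator]
    exact le_sup_of_le_right (commutator_mono (le_top.trans
      (map_top_of_surjective _ (QuotientGroup.mk'_surjective _)).ge) le_rfl)
  have lift : ∀ A B : Subgroup G, A ≤ E → B ≤ E → (A.subgroupOf E).map f ≤ (B.subgroupOf E).map f →
      A ≤ B ⊔ (E ⊓ C) := fun A B hA hB h => by
    have := map_mono (f := E.subtype) (le_sup_of_map_le le_top le_top h)
    rwa [inf_top_eq, QuotientGroup.ker_mk', Subgroup.map_sup, map_subgroupOf_eq_of_le hA,
      map_subgroupOf_eq_of_le hB, subgroupOf_map_subtype, sup_comm, inf_comm] at this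
  have lift' : ∀ B : Subgroup G, B ≤ Er → pResidual p _ ≤ (B.subgroupOf E).map f →
      Er ≤ B ⊔ (Er ⊓ C) := fun B hB h => by
    have := le_inf (lift Er B hErE (hB.trans hErE) (h1.le.trans h)) le_rfl
    rwa [inf_sup_eq_of_le_norm (Or.inl ((hB.trans hErE).trans (le_norm_inf le_normalizer
      (le_norm_cent hEU)))) hB, inf_comm E, inf_assoc, inf_eq_right.mpr hErE, inf_comm] at this
  have hcom : ∀ A B : Subgroup G, A ≤ E → B ≤ E → (⁅A, B⁆.subgroupOf E).map f =
      ⁅(A.subgroupOf E).map f, (B.subgroupOf E).map f⁆ := fun A B hA hB => by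
    rw [← map_commutator]
    congr 1
    apply map_injective E.subtype_injective
    rw [map_commutator, map_subgroupOf_eq_of_le hA, map_subgroupOf_eq_of_le hB,
      map_subgroupOf_eq_of_le ((commutator_mono hA hB).trans (commutator_le_of_le_norm le_normalizer))]
  have hO := IsLarge.commutator_ncl_cent hQ hQp hQE hUp hU1 hEU
  have hOn : E ≤ normalizer (pCoreOf p (ncl E Q) : Set G) := le_norm_core (le_norm_ncl E Q)
  have fin : ∀ N : Subgroup G, ncl E Q ≤ normalizer (N : Set G) ∨ Er ≤ normalizer (N : Set G) →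
      N ≤ Er → Er ≤ N ⊔ pCoreOf p (ncl E Q) → N = Er := fun N hN hle h => by
    refine le_antisymm hle ?_
    have h2 : Er ≤ pCoreOf p (ncl E Q) ⊓ Er ⊔ N := by
      have := le_inf h le_rfl
      rwa [inf_sup_eq_of_le_norm (Or.inl ((hle.trans hErE).trans hOn)) hle, sup_comm] at this
    conv_lhs => rw [← h0]
    exact (res_mono h2).trans (res_sup_le_of_isPGroup ((core_isP _).to_le inf_le_left)
      (inf_le_right.trans (hN.elim (fun h => (hEr ▸ res_le _ : Er ≤ _).trans h) id)))
  have hEE : ⁅Er, Er⁆ ≤ Er := commutator_le_of_le_norm le_normalizer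
  have hEEn : E ≤ normalizer ((⁅Er, Er⁆ : Subgroup G) : Set G) := le_norm_commutator hEn hEn
  have h2 : ⁅Er, Er⁆ = Er := by
    refine fin _ (Or.inl (hEc.trans hEEn)) hEE ?_
    have h3 := lift' _ hEE (by rw [hcom _ _ hErE hErE, h1, CL.Loc.IsQuasisimple.commutator_self hq])
    have h4 := le_norm_sup hEEn hOn
    conv_lhs => rw [hEr, ← (hw.mono le_top).commutator_res_ncl hQp hQE, ← hEr]
    refine (commutator_mono h3 le_rfl).trans (commutator_sup_le' ((hEE.trans hErE).trans h4)
      ((inf_le_left.trans hErE).trans h4)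
      (le_sup_of_le_left (commutator_le_of_le_norm (hQE.trans hEEn))) (le_sup_of_le_right ?_))
    rw [commutator_comm]
    exact (commutator_mono (le_ncl E Q) inf_le_right).trans hO
  have h3 : ⁅Er ⊓ C, Er⁆ ≤ pCoreOf p (ncl E Q) := by
    rw [commutator_comm]
    exact (commutator_mono (hEr ▸ res_le _) inf_le_right).trans hO
  have h4 : IsQuasisimple (Er ⧸ C.subgroupOf Er) := by
    have e1 : C.subgroupOf Er = (f.comp (inclusion hErE)).ker := by
      ext x
      simp only [mem_subgroupOf, MonoidHom.mem_ker, MonoidHom.comp_apply, f, QuotientGroup.mk'_apply,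
        QuotientGroup.eq_one_iff, coe_inclusion]
    have e2 : (f.comp (inclusion hErE)).range = pResidual p _ := by
      rw [← h1, MonoidHom.range_comp, inclusion_range]
    exact CL.Loc.IsQuasisimple.of_mulEquiv (e2 ▸ hq) ((QuotientGroup.quotientMulEquivOfEq e1).trans
      (QuotientGroup.quotientKerEquivRange _)).symm
  refine ⟨le_antisymm (sup_le (lift _ _ (res_le E) hErE ?_) le_sup_right)
    (sup_le_sup_right (hEr ▸ res_mono hEc) _), h2, h0, h4, ?_, fun Y hY hp hC => ?_⟩
  · rw [h1, res_def, hres E le_rfl, ← res_top]; exact res_mono le_top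
  · have h5 : pCore p Er ≤ (C.subgroupOf Er).comap (MonoidHom.id Er) := by
      rw [comap_id, le_subgroupOf_iff]
      exact (red_iff_pCore.mpr hred).le_cent_of_isPGroup (core_isP Er) ((core_le Er).trans hErE)
        (le_norm_core hEn)
    have hs := QuotientGroup.mk'_surjective (pCore p Er)
    have ht : (⊤ : Subgroup (Er ⧸ pCore p Er)) = (⊤ : Subgroup Er).map (QuotientGroup.mk' _) :=
      (map_top_of_surjective _ hs).symm
    rw [← CL.Loc.isQuasisimple_top_iff]
    refine CL.Loc.isQuasisimple_of_map (QuotientGroup.map _ _ (MonoidHom.id Er) h5) ?_ ?_ ?_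
    · rw [ht, ← map_commutator]
      congr 1
      apply map_injective Er.subtype_injective
      rw [map_commutator, map_subtype_top, h2]
    · rwa [map_top_of_surjective _ (QuotientGroup.map_surjective_of_surjective _ _
        (MonoidHom.id Er) (QuotientGroup.mk'_surjective _) h5), CL.Loc.isQuasisimple_top_iff]
    · rw [top_inf_eq, QuotientGroup.ker_map, comap_id, ht, ← map_commutator, map_mk'_eq_bot_iff,
        ← subgroupOf_core, le_subgroupOf_iff, map_commutator, map_subtype_top,
        subgroupOf_map_subtype, inf_comm]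
      exact (le_inf h3 (commutator_le_of_le_norm' (inf_le_left.trans le_normalizer))).trans
        (core_inf_le (hErE.trans hOn))
  · have h5 : ⁅Er, Y⁆ ≤ Er := commutator_le_of_le_norm (hY.trans hEn)
    have h6 := lift' _ h5 (by rw [hcom _ _ hErE hY, h1]; exact (key Y hY hp hC).ge)
    have h7 := le_norm_sup (normalizer_commutator_ge_left Er Y) (hErE.trans hOn)
    refine fin _ (Or.inr (normalizer_commutator_ge_left _ _)) h5 ?_
    conv_lhs => rw [← h2]
    exact (commutator_mono h6 le_rfl).trans (commutator_sup_le' (h5.trans h7) (inf_le_left.trans h7)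
      (le_sup_of_le_left (commutator_le_of_le_norm (normalizer_commutator_ge_left _ _)))
      (le_sup_of_le_right h3))

end Cfsg.Agent.S2860
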