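import Cfsg.Statements.S2861
import Cfsg.Agent.Even.FrakL

set_option autoImplicit false
open Cfsg

namespace Cfsg.Agent.S2861

/-- Standing hypotheses: G a finite group, S a Sylow p-subgroup, Q a nontrivial large p-subgroup of G contained in S, M a subgroup containing S with the basic property (M ∈ 𝔐_G(S)); Y_M the largest p-reduced normal subgroup of M and M† = M·C_G(Y_M). Let L ∈ 𝔏_G(Y_M) (L ∈ 𝔏_G(Y_M): Y_M ≤ L; O_p(L) is the normal closure in L of Y_M ∩ O_p(L) and normalizes Y_M; L is Y_M-minimal of characteristic p with N_L(Y_M) its unique maximal subgroup over Y_M; and L/O_p(L) ≅ SL₂(q) with q = |Y_M : Y_M ∩ O_p(L)|, or p = 2 and L/O_p(L) is a Suzuki group Sz(q) or dihedral of order 2r, r an odd prime) and A = O_p(L). Then Y_M·A/A is the unique nontrivial elementary abelian normal p-subgroup of N_L(Y_M)/A. -/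
theorem result {G : Type*} [Group G] [Finite G] {p : ℕ} [Fact p.Prime] (S : Sylow p G) (Q : Subgroup G) (hQp : IsPGroup p ↥Q) (hQ1 : Q ≠ ⊥) (hQS : Q ≤ (S : Subgroup G)) (hQ : Cfsg.IsLarge Q) (M : Subgroup G) (hSM : (S : Subgroup G) ≤ M) (hM : Cfsg.IsInFrakM p M) (L : Subgroup G) (hL : Cfsg.IsInFrakL p M L) (NL : Subgroup G) (hNL : NL = L ⊓ Subgroup.normalizer (((Cfsg.largestPReducedOf p M) : Subgroup G) : Set G)) [hn : (((Cfsg.pCoreOf p L)).subgroupOf NL).Normal] : let Ybar : Subgroup (↥NL ⧸ ((Cfsg.pCoreOf p L)).subgroupOf NL) := (((Cfsg.largestPReducedOf p M)).subgroupOf NL).map (QuotientGroup.mk' (((Cfsg.pCoreOf p L)).subgroupOf NL)); Ybar ≠ ⊥ ∧ Ybar.Normal ∧ Cfsg.IsElementaryAbelian p Ybar ∧ ∀ (V : Subgroup (↥NL ⧸ ((Cfsg.pCoreOf p L)).subgroupOf NL)), V.Normal → Cfsg.IsElementaryAbelian p V → V ≠ ⊥ → V = Ybar := by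
  open Subgroup CL.Even CL.Grp commutatorElement in
  intro Ybar
  subst hNL
  have hrk := FrakL.rk1 hL
  set Y := largestPReducedOf p M
  have hYN : Y ≤ L ⊓ normalizer (Y : Set G) := (FrakL.umax hL).le
  have hle : ((pCoreOf p L).subgroupOf (L ⊓ normalizer (Y : Set G))) ≤
      (pCore p L).comap (inclusion inf_le_left) := fun x hx => by
    rw [← subgroupOf_core]; exact hx
  set ψ := QuotientGroup.map _ _ (inclusion inf_le_left) hle
  have hψ : Function.Injective ψ := by
    rw [← MonoidHom.ker_eq_bot_iff, QuotientGroup.ker_map, map_mk'_eq_bot_iff, ← subgroupOf_core]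
    exact fun x hx => hx
  have hmap : ∀ K : Subgroup G, K ≤ L ⊓ normalizer (Y : Set G) →
      ((K.subgroupOf _).map (QuotientGroup.mk' _)).map ψ =
        (K.subgroupOf L).map (QuotientGroup.mk' (pCore p L)) := fun K hK => by
    rw [map_map, show ψ.comp (QuotientGroup.mk' _) = (QuotientGroup.mk' (pCore p L)).comp
      (inclusion inf_le_left) from rfl, ← map_map]
    congr 1
    apply map_injective L.subtype_injective
    rw [map_map, subtype_comp_inclusion, map_subgroupOf_eq_of_le hK,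
      map_subgroupOf_eq_of_le (hK.trans inf_le_left)]
  have hn' : Ybar.Normal := ((normal_subgroupOf_iff_le_normalizer hYN).mpr inf_le_right).map _
    (QuotientGroup.mk'_surjective _)
  have hN : normalizer (SetLike.coe (Ybar.map ψ)) ≤ (⊤ : Subgroup _).map ψ := by
    rw [← map_top_of_surjective _ (QuotientGroup.mk'_surjective _), ← subgroupOf_self, hmap _ le_rfl,
      hmap _ hYN]
    intro x hx
    obtain ⟨x, rfl⟩ := QuotientGroup.mk'_surjective _ x
    refine mem_map_of_mem _ ?_
    have hD : Y ⊔ pCoreOf p L ≤ L := sup_le hL.1 (core_le L)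
    refine (FrakL.umax hL).inf_norm_le (D := Y ⊔ pCoreOf p L) (le_norm_of_le le_sup_left) (fun e =>
      FrakL.not_le_core hL (le_sup_left.trans (le_core hD (isPGroup_sup' (Y_isP M) (core_isP L)
        hL.2.2.1) e))) ⟨x.2, mem_norm_of_cj_le ?_⟩
    have h1 := comap_mono (f := QuotientGroup.mk' (pCore p L)) (cj_eq hx).le
    rw [← cj_map, comap_map_eq, comap_map_eq, QuotientGroup.ker_mk'] at h1
    have h2 := map_mono (f := L.subtype) h1
    rw [Subgroup.map_sup, Subgroup.map_sup, cj_map, map_subgroupOf_eq_of_le hL.1, core_def] at h2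
    rw [cj_sup]
    exact sup_le (le_sup_left.trans h2) (le_sup_of_le_right (cj_eq (self_le_norm_core L x.2)).le)
  refine ⟨fun e => FrakL.not_le_core hL ?_, hn', elem_map _ (elem_subgroupOf (Y_elem M) _),
    fun V hV hel hne => map_injective hψ ?_⟩
  · rwa [map_mk'_eq_bot_iff, le_subgroupOf_iff, map_subgroupOf_eq_of_le hYN] at e
  · rw [← hmap _ hYN] at hrk
    refine hrk.irr _ (fun x hx => hrk.mem x ?_ ((elem_iff.mp (elem_map ψ hel)).2 x hx))
      (fun e => hne ((map_eq_bot_iff_of_injective _ hψ).mp e))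
      (hN.trans (map_le_norm_map ψ (normal_iff_top_le.mp hV)))
    exact map_le_norm_map ψ (normal_iff_top_le.mp hn') (map_mono le_top hx)

end Cfsg.Agent.S2861
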