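import Cfsg.Statements.S2864
import Cfsg.Agent.Even.FrakH

set_option autoImplicit false
open Cfsg

namespace Cfsg.Agent.S2864

/-- Standing hypotheses: G a finite group, S a Sylow p-subgroup, Q a nontrivial large p-subgroup of G contained in S, M a subgroup containing S with the basic property (M ∈ 𝔐_G(S)); Y_M the largest p-reduced normal subgroup of M and M† = M·C_G(Y_M). Let I be a nontrivial normal p-subgroup of M and Y ≤ O_p(M†); let L be a subgroup of G containing Y and A a normal p-subgroup of L with I ≤ A ≤ M. If [Y, A] ≤ [I, A], then Y ≤ O_p(L). -/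
theorem result {G : Type*} [Group G] [Finite G] {p : ℕ} [Fact p.Prime] (S : Sylow p G) (Q : Subgroup G) (hQp : IsPGroup p ↥Q) (hQ1 : Q ≠ ⊥) (hQS : Q ≤ (S : Subgroup G)) (hQ : Cfsg.IsLarge Q) (M : Subgroup G) (hSM : (S : Subgroup G) ≤ M) (hM : Cfsg.IsInFrakM p M) (I : Subgroup G) (hI1 : I ≠ ⊥) (hIp : IsPGroup p ↥I) (hIM : I ≤ M ∧ M ≤ Subgroup.normalizer ((I : Subgroup G) : Set G)) (Y : Subgroup G) (hY : Y ≤ (Cfsg.pCoreOf p (M ⊔ Subgroup.centralizer (((Cfsg.largestPReducedOf p M) : Subgroup G) : Set G)))) (L : Subgroup G) (hYL : Y ≤ L) (A : Subgroup G) (hAp : IsPGroup p ↥A) (hAL : A ≤ L ∧ L ≤ Subgroup.normalizer ((A : Subgroup G) : Set G)) (hIA : I ≤ A) (hAM : A ≤ M) (hc : ⁅Y, A⁆ ≤ ⁅I, A⁆) : Y ≤ (Cfsg.pCoreOf p L) := by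
  open Subgroup CL.Even CL.Grp commutatorElement in
  have h1 : ncl L Y ≤ cmod A (phi A) := ncl_le (le_cmod ((hYL.trans hAL.2).trans
    (norm_le_norm_phi A)) (by
      rw [commutator_comm]
      exact hc.trans ((commutator_mono hIA le_rfl).trans (commutator_le_phi hAp.isNilpotent))))
    (le_norm_cmod hAL.2 (le_norm_phi hAL.2))
  have h2 := ((res_le_cent_of_commutator_le_phi hAp ((ncl_le_self hYL).trans hAL.2)
    (commutator_le_of_le_cmod h1)).trans ((cent_mono hIA).trans (cent_le_norm I))).trans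
    (FrakM.norm_le_dag hM (isSylowIn_top S) hSM hQ hQp hQ1 hIp hI1 hIM.2)
  have h3 : pResidualOf p (ncl L Y) ⊔ Y ≤ ncl L Y := sup_le (res_le _) (le_ncl L Y)
  exact (((le_inf hY le_sup_right).trans (core_inf_le ((sup_le h2 (hY.trans (core_le _))).trans
    (self_le_norm_core _)))).trans (core_le_core_of_subnIn (subnIn_of_res_le le_sup_left h3))).trans
    (core_le_core_of_normal (ncl_le_self hYL) (le_norm_ncl L Y))

end Cfsg.Agent.S2864
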