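import Cfsg.Statements.S2872
import Cfsg.Agent.Transfer.CentralElt

set_option autoImplicit false
open Cfsg
open scoped IsMulCommutative

namespace Cfsg.Agent.S2872

/-- Let S be a Sylow 2-subgroup of the finite group G. Then G has a proper normal subgroup of 2-power index (O²(G) ≠ G), or Ω₁(Z(S)) is contained in the Frattini subgroup of S, or N_G(S) acts nontrivially on Ω₁(Z(S)) by conjugation. -/
theorem result {G : Type*} [Group G] [Finite G] (S : Sylow 2 G) : Cfsg.pResidual 2 G ≠ ⊤ ∨ Cfsg.omegaOne 2 ((S : Subgroup G) ⊓ Subgroup.centralizer ((S : Subgroup G) : Set G)) ≤ (frattini ↥(S : Subgroup G)).map (S : Subgroup G).subtype ∨ ∃ g ∈ Subgroup.normalizer ((S : Subgroup G) : Set G), ∃ z ∈ Cfsg.omegaOne 2 ((S : Subgroup G) ⊓ Subgroup.centralizer ((S : Subgroup G) : Set G)), g * z * g⁻¹ ≠ z := by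
  by_contra! h
  obtain ⟨h1, h2, h3⟩ := h
  rw [Cfsg.omegaOne, Subgroup.closure_le] at h2
  apply h2
  rintro z ⟨⟨hzS, hzC⟩, hz2⟩
  by_contra hz
  have := CL.Grp.isMulCommutative_quotient_frattini S.2
  refine CL.Transfer.pResidual_ne_top_of_central S (S.2.to_quotient (frattini (S : Subgroup G)))
    (QuotientGroup.mk' _) ⟨z, hzS⟩ ?_ (Subtype.ext hz2) ?_ ?_ h1
  · exact Subgroup.mem_center_iff.mpr fun s => Subtype.ext (hzC s s.2)
  · exact fun h => hz ⟨_, (QuotientGroup.eq_one_iff _).mp h, rfl⟩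
  · intro g hg
    have := h3 g⁻¹ (inv_mem hg) z (Subgroup.subset_closure ⟨⟨hzS, hzC⟩, hz2⟩)
    rw [inv_inv] at this
    rw [this, CL.Transfer.extOne_of_mem _ hzS]

end Cfsg.Agent.S2872
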