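import Cfsg.Statements.S2873
import Cfsg.Agent.Grp.Cores
import Cfsg.Agent.Grp.SylowIn
import Cfsg.Agent.Grp.CoresPi

set_option autoImplicit false
open Cfsg

namespace Cfsg.Agent.S2873

open CL.Grp Cfsg Subgroup DihedralGroup
open scoped Pointwise

section
variable {r : ℕ} [hr' : Fact r.Prime]

theorem two_ne (hr : r ≠ 2) : (2 : ZMod r) ≠ 0 := by
  intro h
  have : ((2 : ℕ) : ZMod r) = 0 := by exact_mod_cast h
  rw [ZMod.natCast_eq_zero_iff] at this
  exact hr ((Nat.prime_dvd_prime_iff_eq hr'.out Nat.prime_two).1 this)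

theorem eq_sr (hr : r ≠ 2) {d : DihedralGroup r} (h : d * d = 1) (h1 : d ≠ 1) : ∃ i, d = sr i := by
  rcases d with i | i
  · exfalso
    rw [r_mul_r, one_def, DihedralGroup.r.injEq, ← two_mul, mul_eq_zero] at h
    rcases h with h | h
    · exact two_ne hr h
    · exact h1 (by rw [h]; rfl)
  · exact ⟨i, rfl⟩

theorem eq_r (hr : r ≠ 2) {d : DihedralGroup r} (h : d ^ r = 1) : ∃ i, d = DihedralGroup.r i := by
  rcases d with i | i
  · exact ⟨i, rfl⟩
  · exfalso
    have := orderOf_dvd_of_pow_eq_one h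
    rw [orderOf_sr] at this
    exact hr ((Nat.prime_dvd_prime_iff_eq Nat.prime_two hr'.out).1 this).symm

theorem conj_sr (hr : r ≠ 2) (i j : ZMod r) :
    ∃ d : DihedralGroup r, d * sr i * d⁻¹ = sr j := by
  refine ⟨DihedralGroup.r ((i - j) / 2), ?_⟩
  rw [r_mul_sr, inv_r, sr_mul_r]
  congr 1
  field_simp [two_ne hr]
  ring

end

theorem main {G : Type*} [Group G] [Finite G] {r : ℕ} [hr' : Fact r.Prime] (hr : r ≠ 2)
    {Q : Subgroup G} [Q.Normal] (hQ : IsPGroup 2 Q) (π : G →* DihedralGroup r)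
    (hπ : Function.Surjective π) (hker : π.ker = Q) (R : Sylow r G)
    (hC : Q ⊓ centralizer ((R : Subgroup G) : Set G) = ⊥) :
    Nonempty (↥(normalizer ((R : Subgroup G) : Set G)) ≃* DihedralGroup r) ∧
    ∀ a : G, a ∈ normalizer ((R : Subgroup G) : Set G) → orderOf a = 2 →
      (∀ b : G, orderOf b = 2 → b ∉ Q → ∃ g : G, g * a * g⁻¹ = b) ∧
      Nat.card ↥(Q ⊓ centralizer ({a} : Set G)) ^ 2 = Nat.card Q := by
  classical
  haveI : Fact (Nat.Prime 2) := ⟨Nat.prime_two⟩
  set N := normalizer ((R : Subgroup G) : Set G) with hN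
  have hmem : ∀ x, x ∈ Q ↔ π x = 1 := fun x => by rw [← hker]; rfl
  have hQR : Disjoint Q (R : Subgroup G) := IsPGroup.disjoint_of_ne 2 r hr.symm _ _ hQ R.2
  have hNQ : ∀ x ∈ N, x ∈ Q → x = 1 := by
    intro x hxN hxQ
    rw [← mem_bot, ← hC]
    refine ⟨hxQ, mem_centralizer_iff.2 fun c hc => ?_⟩
    have h1 : x * c * x⁻¹ * c⁻¹ ∈ (R : Subgroup G) :=
      mul_mem ((mem_normalizer_iff.1 hxN c).1 hc) (inv_mem hc)
    have h2 : x * c * x⁻¹ * c⁻¹ ∈ Q := by
      have := mul_mem hxQ (‹Q.Normal›.conj_mem _ (inv_mem hxQ) c)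
      simpa [mul_assoc] using this
    have h3 := disjoint_def.1 hQR h2 h1
    rw [mul_inv_eq_one, mul_inv_eq_iff_eq_mul] at h3
    exact h3.symm
  have hinj : ∀ x ∈ N, ∀ y ∈ N, π x = π y → x = y := fun x hx y hy h => by
    rw [← mul_inv_eq_one]
    exact hNQ _ (mul_mem hx (inv_mem hy)) ((hmem _).2 (by rw [map_mul, map_inv, h, mul_inv_cancel]))
  have hG : Nat.card G = Nat.card Q * (2 * r) := by
    have := card_comap_of_surjective hπ ⊤
    rwa [comap_top, card_top, card_top, hker, DihedralGroup.nat_card] at this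
  obtain ⟨m, hm⟩ := IsPGroup.iff_card.1 hQ
  have hR : Nat.card (R : Subgroup G) = r := by
    rw [R.card_eq_multiplicity, hG, hm, ← mul_assoc, ← pow_succ,
      Nat.factorization_mul (by positivity) hr'.out.ne_zero, Finsupp.add_apply,
      Nat.Prime.factorization_self hr'.out, Nat.factorization_eq_zero_of_not_dvd, zero_add, pow_one]
    intro h
    exact hr ((Nat.prime_dvd_prime_iff_eq hr'.out Nat.prime_two).1 (hr'.out.dvd_of_dvd_pow h))
  -- `G = Q N`
  have hQN : ∀ g : G, ∃ u ∈ Q, u * g ∈ N := by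
    intro g
    have h1 : Nat.card ((R : Subgroup G).map π) = r := by
      have := card_eq_card_inf_ker_mul_card_map π R
      rw [hker, hQR.eq_bot, card_bot, one_mul, hR] at this
      exact this.symm
    have h2 : ((R : Subgroup G).map π).index = 2 := by
      have := ((R : Subgroup G).map π).card_mul_index
      rw [h1, DihedralGroup.nat_card, mul_comm 2] at this
      exact Nat.eq_of_mul_eq_mul_left hr'.out.pos this
    haveI := normal_of_index_eq_two h2
    have h3 : (((R : Subgroup G).map π).comap π) = (R : Subgroup G) ⊔ Q := by rw [comap_map_eq, hker]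
    have h4 : ((R : Subgroup G) ⊔ Q).Normal := h3 ▸ Normal.comap inferInstance π
    obtain ⟨k, hk, hkg⟩ := (isSylowIn_of_le R (le_sup_left : (R : Subgroup G) ≤ (R : Subgroup G) ⊔ Q)).frattini
      (H := ⊤) (by rw [normalizer_eq_top]) (mem_top g)
    obtain ⟨c, hc, u, hu, rfl⟩ := mem_sup_of_normal_right.1 hk
    refine ⟨u, hu, ?_⟩
    rw [mul_assoc] at hkg
    exact (mul_mem_cancel_left (le_normalizer hc)).1 hkg
  have hsurj : ∀ d, ∃ n ∈ N, π n = d := fun d => by
    obtain ⟨g, rfl⟩ := hπ d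
    obtain ⟨u, hu, h⟩ := hQN g
    exact ⟨_, h, by rw [map_mul, (hmem u).1 hu, one_mul]⟩
  -- elements inverting an element of order divisible by `r` are conjugate into `N`
  have hkey : ∀ y : G, (π y) ^ r = 1 → π y ≠ 1 →
      ∃ u ∈ Q, ∀ s : G, s * y * s⁻¹ = y⁻¹ → u * s * u⁻¹ ∈ N := by
    intro y h1 h2
    have h3 : r ∣ orderOf y := (orderOf_eq_prime h1 h2) ▸ orderOf_map_dvd π y
    set x := y ^ (orderOf y / r) with hx
    have h4 : orderOf x = r := orderOf_pow_orderOf_div (orderOf_pos _).ne' h3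
    have h5 : IsPGroup r (zpowers x) := IsPGroup.of_card (n := 1) (by rw [Nat.card_zpowers, h4, pow_one])
    obtain ⟨g, hg⟩ := exists_conj_le_sylow R h5
    have h6 : MulAut.conj g • zpowers x = R :=
      eq_of_le_of_card_ge hg (by rw [card_conj_smul, Nat.card_zpowers, h4, hR])
    obtain ⟨u, hu, hug⟩ := hQN g⁻¹
    refine ⟨u, hu, fun s hs => ?_⟩
    have h7 : s ∈ normalizer ((zpowers x : Subgroup G) : Set G) := by
      rw [mem_normalizer_iff_map_conj_eq, MonoidHom.map_zpowers]
      have : (MulAut.conj s).toMonoidHom x = x⁻¹ := by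
        change s * x * s⁻¹ = x⁻¹
        rw [hx, ← conj_pow, hs, inv_pow]
      exact (congrArg _ this).trans zpowers_inv
    have h8 : g * s * g⁻¹ ∈ N := by
      rw [hN, ← h6, normalizer_conj_smul]
      exact conj_mem_conj_smul g h7
    have := mul_mem (mul_mem hug h8) (inv_mem hug)
    convert this using 1
    group
  obtain ⟨c, hc, hc1⟩ : ∃ c ∈ (R : Subgroup G), c ≠ 1 := by
    refine (bot_or_exists_ne_one _).resolve_left fun h => ?_
    rw [h, card_bot] at hR
    exact hr'.out.one_lt.ne hR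
  have hcN : c ∈ N := le_normalizer hc
  obtain ⟨j, hj⟩ := eq_r hr (d := π c) (by
    have : c ^ Nat.card (R : Subgroup G) = 1 :=
      congrArg Subtype.val (pow_card_eq_one' (x := (⟨c, hc⟩ : (R : Subgroup G))))
    rw [hR] at this
    rw [← map_pow, this, map_one])
  have hj0 : j ≠ 0 := by
    rintro rfl
    exact hc1 (hNQ c hcN ((hmem c).2 hj))
  have hsr : ∀ b : G, orderOf b = 2 → b ∉ Q → b * b = 1 ∧ ∃ i, π b = sr i := fun b hb hbQ => by
    have h1 : b * b = 1 := by rw [← sq, ← hb, pow_orderOf_eq_one]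
    exact ⟨h1, eq_sr hr (by rw [← map_mul, h1, map_one]) fun h => hbQ ((hmem b).2 h)⟩
  have hrot : ∀ i : ZMod r, (sr i * (DihedralGroup.r j * sr i * (DihedralGroup.r j)⁻¹)) ^ r = 1 ∧
      sr i * (DihedralGroup.r j * sr i * (DihedralGroup.r j)⁻¹) ≠ 1 := fun i => by
    rw [r_mul_sr, inv_r, sr_mul_r, sr_mul_sr, r_pow]
    refine ⟨by simp, fun h => ?_⟩
    rw [one_def, DihedralGroup.r.injEq] at h
    have : (2 : ZMod r) * j = 0 := by linear_combination -h
    exact (mul_ne_zero (two_ne hr) hj0) this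
  refine ⟨⟨MulEquiv.ofBijective (π.comp N.subtype) ⟨fun x y h => Subtype.ext (hinj _ x.2 _ y.2 h),
    fun d => ?_⟩⟩, fun a haN ha => ?_⟩
  · obtain ⟨n, hn, h⟩ := hsurj d
    exact ⟨⟨n, hn⟩, h⟩
  have ha1 : a ≠ 1 := by rintro rfl; simp at ha
  have haQ : a ∉ Q := fun h => ha1 (hNQ a haN h)
  obtain ⟨haa, i, hi⟩ := hsr a ha haQ
  have hai : a⁻¹ = a := inv_eq_of_mul_eq_one_right haa
  constructor
  · intro b hb hbQ
    obtain ⟨hbb, k, hk⟩ := hsr b hb hbQ
    have hbi : b⁻¹ = b := inv_eq_of_mul_eq_one_right hbb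
    obtain ⟨u, hu, h⟩ := hkey (b * (c * b * c⁻¹))
      (by simp only [map_mul, map_inv, hk, hj]; exact (hrot k).1)
      (by simp only [map_mul, map_inv, hk, hj]; exact (hrot k).2)
    have h1 := h b (by simp only [mul_inv_rev, hbi, inv_inv, ← mul_assoc, hbb, one_mul])
    obtain ⟨d, hd⟩ := conj_sr hr i k
    obtain ⟨n, hn, rfl⟩ := hsurj d
    have h2 : n * a * n⁻¹ = u * b * u⁻¹ := hinj _ (mul_mem (mul_mem hn haN) (inv_mem hn)) _ h1 (by
      simp only [map_mul, map_inv, hi, hk, (hmem u).1 hu, hd, one_mul, inv_one, mul_one])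
    refine ⟨u⁻¹ * n, ?_⟩
    calc u⁻¹ * n * a * (u⁻¹ * n)⁻¹ = u⁻¹ * (n * a * n⁻¹) * u := by group
      _ = b := by rw [h2]; group
  · set a' := c * a * c⁻¹ with ha'
    have ha'N : a' ∈ N := mul_mem (mul_mem hcN haN) (inv_mem hcN)
    have ha'i : a'⁻¹ = a' := by rw [ha', mul_inv_rev, mul_inv_rev, hai, inv_inv, mul_assoc]
    have ha'a : a' * a' = 1 := by nth_rewrite 1 [← ha'i]; exact inv_mul_cancel _
    set A : Subgroup G := Q ⊓ centralizer {a} with hA
    set A' : Subgroup G := Q ⊓ centralizer {a'} with hA'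
    have hcard : Nat.card A' = Nat.card A := by
      rw [← card_conj_smul c A]
      congr 2
      ext x
      rw [mem_conj_smul_iff, hA, hA', mem_inf, mem_inf, mem_centralizer_singleton_iff,
        mem_centralizer_singleton_iff, ha']
      refine and_congr ⟨fun h => ?_, fun h => ?_⟩ ⟨fun h => ?_, fun h => ?_⟩
      · simpa using ‹Q.Normal›.conj_mem _ h c⁻¹
      · simpa [mul_assoc] using ‹Q.Normal›.conj_mem _ h c
      · calc c⁻¹ * x * c * a = c⁻¹ * (x * (c * a * c⁻¹)) * c := by group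
          _ = a * (c⁻¹ * x * c) := by rw [h]; group
      · calc x * (c * a * c⁻¹) = c * (c⁻¹ * x * c * a) * c⁻¹ := by group
          _ = c * a * c⁻¹ * x := by rw [h]; group
    have hbij : Function.Bijective (fun p : A' × A => (⟨p.1 * p.2, mul_mem p.1.2.1 p.2.2.1⟩ : Q)) := by
      constructor
      · rintro ⟨u, v⟩ ⟨u', v'⟩ h
        have h1 : (u : G) * v = u' * v' := congrArg Subtype.val h
        have h2 : (u' : G)⁻¹ * u = v' * (v : G)⁻¹ := by
          rw [inv_mul_eq_iff_eq_mul, ← mul_assoc, ← h1, mul_inv_cancel_right]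
        set w : G := (u' : G)⁻¹ * u with hw
        have hw1 : w ∈ A' := mul_mem (inv_mem u'.2) u.2
        have hw2 : w ∈ A := h2 ▸ mul_mem v'.2 (inv_mem v.2)
        have hw3 : w = 1 := by
          rw [← mem_bot, ← hC]
          refine ⟨hw1.1, ?_⟩
          have e1 : a * a' ∈ (R : Subgroup G) := by
            have := mul_mem ((mem_normalizer_iff.1 haN c).1 hc) (inv_mem hc)
            rwa [hai, mul_assoc, mul_assoc, ← mul_assoc c] at this
          have e2 : a * a' ≠ 1 := fun e => (hrot i).2 (by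
            rw [← hi, ← hj, ← map_inv, ← map_mul, ← map_mul, ← map_mul, e, map_one])
          have e3 : zpowers (a * a') = R := by
            haveI : Fact (Nat.card (R : Subgroup G)).Prime := ⟨hR.symm ▸ hr'.out⟩
            refine eq_of_le_of_card_ge (zpowers_le.2 e1) ?_
            rw [Nat.card_zpowers, hR]
            have := (R : Subgroup G).orderOf_dvd_natCard e1
            rw [hR] at this
            exact (((Nat.dvd_prime hr'.out).1 this).resolve_left
              fun e => e2 (orderOf_eq_one_iff.1 e)).ge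
          rw [← e3]
          refine mem_centralizer_iff.2 ?_
          rintro _ ⟨l, rfl⟩
          have f1 : Commute a w := (mem_centralizer_singleton_iff.1 hw2.2).symm
          have f2 : Commute a' w := (mem_centralizer_singleton_iff.1 hw1.2).symm
          exact ((f1.mul_left f2).zpow_left l).eq
        have h3 : u = u' := Subtype.ext (inv_mul_eq_one.1 hw3).symm
        subst h3
        exact Prod.ext rfl (Subtype.ext (mul_left_cancel h1))
      · rintro ⟨q, hq⟩
        have hq1 := (hmem q).1 hq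
        obtain ⟨u, hu, h⟩ := hkey (q * a * q⁻¹ * a')
          (by simp only [ha', map_mul, map_inv, hi, hj, hq1, one_mul, inv_one, mul_one]; exact (hrot i).1)
          (by simp only [ha', map_mul, map_inv, hi, hj, hq1, one_mul, inv_one, mul_one]; exact (hrot i).2)
        have hu1 := (hmem u).1 hu
        have h1 := h a' (by
          simp only [mul_inv_rev, ha'i, hai, inv_inv, mul_assoc, ha'a, mul_one])
        have h2 := h (q * a * q⁻¹) (by
          simp only [mul_inv_rev, ha'i, hai, inv_inv, mul_assoc, inv_mul_cancel_left]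
          rw [← mul_assoc a a, haa, one_mul, mul_inv_cancel_left])
        have h3 := hinj _ h1 _ ha'N (by simp only [map_mul, map_inv, hu1, one_mul, inv_one, mul_one])
        have h4 := hinj _ h2 _ haN (by
          simp only [map_mul, map_inv, hu1, hq1, one_mul, inv_one, mul_one])
        refine ⟨⟨⟨u⁻¹, inv_mem ⟨hu, mem_centralizer_singleton_iff.2 (mul_inv_eq_iff_eq_mul.1 h3)⟩⟩,
          ⟨u * q, mul_mem hu hq, mem_centralizer_singleton_iff.2 ?_⟩⟩, Subtype.ext (by simp)⟩
        calc u * q * a = u * (q * a * q⁻¹) * u⁻¹ * (u * q) := by group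
          _ = a * (u * q) := by rw [h4]
    rw [← Nat.card_congr (Equiv.ofBijective _ hbij), Nat.card_prod, hcard, sq]


/-- Let G be a finite group and r an odd prime such that G ⧸ O₂(G) is dihedral of order 2r, and let R be a Sylow r-subgroup of G with C_{O₂(G)}(R) = 1. Then N_G(R) is dihedral of order 2r; for any involution a of N_G(R), every involution of G outside O₂(G) is conjugate to a; and |C_{O₂(G)}(a)|² = |O₂(G)|. -/
theorem result {G : Type*} [Group G] [Finite G] {r : ℕ} [Fact r.Prime] (hr : r ≠ 2) [hN : (Cfsg.pCore 2 G).Normal] (hquot : Nonempty (G ⧸ Cfsg.pCore 2 G ≃* DihedralGroup r)) (R : Sylow r G) (hC : Cfsg.pCore 2 G ⊓ Subgroup.centralizer ((R : Subgroup G) : Set G) = ⊥) : Nonempty (↥(Subgroup.normalizer ((R : Subgroup G) : Set G)) ≃* DihedralGroup r) ∧ ∀ a : G, a ∈ Subgroup.normalizer ((R : Subgroup G) : Set G) → orderOf a = 2 → (∀ b : G, orderOf b = 2 → b ∉ Cfsg.pCore 2 G → ∃ g : G, g * a * g⁻¹ = b) ∧ Nat.card ↥(Cfsg.pCore 2 G ⊓ Subgroup.centralizer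 ({a} : Set G)) ^ 2 = Nat.card ↥(Cfsg.pCore 2 G) := by
  obtain ⟨e⟩ := hquot
  refine main hr (pCore_isPGroup 2 G) (e.toMonoidHom.comp (QuotientGroup.mk' _))
    (e.surjective.comp (QuotientGroup.mk'_surjective _)) ?_ R hC
  ext x
  simp [QuotientGroup.eq_one_iff]

end Cfsg.Agent.S2873
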