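import Cfsg.Statements.S2874
import Cfsg.Agent.Cls.SL2Class2


set_option autoImplicit false
open Cfsg Matrix Equiv
open scoped MatrixGroups

namespace Cfsg.Agent.S2874

theorem mod_two : ∀ T : Matrix (Fin 2) (Fin 2) (ZMod 2), T ^ 3 = 1 →
    (T ^ 2 + T + 1).det = 1 ∨ (T 1 0 = 1 ∧ (T - 1).det = 1) := by
  simp only [det_fin_two]
  decide +kernel

theorem isUnit_of {k : ℕ} (hk : k ≠ 0) {z : ZMod (2 ^ k)}
    (h : ZMod.castHom (dvd_pow_self 2 hk) (ZMod 2) z = 1) : IsUnit z := by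
  obtain ⟨n, rfl⟩ := ZMod.natCast_zmod_surjective z
  rw [map_natCast, ZMod.natCast_eq_one_iff_odd] at h
  exact (ZMod.isUnit_iff_coprime _ _).2 (Nat.Coprime.pow_right _ (Nat.coprime_two_right.2 h))

theorem exists_conj {k : ℕ} (hk : k ≠ 0) {t : GL (Fin 2) (ZMod (2 ^ k))} (h1 : t ≠ 1)
    (h3 : t ^ 3 = 1) : ∃ g : GL (Fin 2) (ZMod (2 ^ k)), (g * t * g⁻¹).val = !![0, -1; 1, -1] := by
  let f := ZMod.castHom (dvd_pow_self 2 hk) (ZMod 2)
  have h4 : t.val ^ 3 = 1 := congrArg Units.val h3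
  have h5 : (t.val - 1) * (t.val ^ 2 + t.val + 1) = 0 := by rw [← sub_eq_zero.2 h4]; noncomm_ring
  rcases mod_two (f.mapMatrix t.val) (by rw [← map_pow, h4, map_one]) with h | ⟨h, h'⟩
  · refine absurd (Units.ext (sub_eq_zero.1 ((IsUnit.mul_left_eq_zero ?_).1 h5))) h1
    exact (isUnit_iff_isUnit_det _).2 (isUnit_of hk (by
      rw [RingHom.map_det, map_add, map_add, map_pow, map_one, h]))
  have h6 := (IsUnit.mul_right_eq_zero ((isUnit_iff_isUnit_det _).2 (isUnit_of hk (by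
    rw [RingHom.map_det, map_sub, map_one, h'])))).1 h5
  obtain ⟨g, hg⟩ := (isUnit_iff_isUnit_det !![1, t.val 0 0; 0, t.val 1 0]).2
    (by simpa [det_fin_two] using isUnit_of hk h)
  refine ⟨g⁻¹, ?_⟩
  rw [inv_inv, mul_assoc, Units.val_mul, Units.inv_mul_eq_iff_eq_mul, Units.val_mul, hg]
  have h7 := congrFun (congrFun h6 0) 0
  have h8 := congrFun (congrFun h6 1) 0
  simp [sq, mul_apply] at h7 h8
  ext i j
  fin_cases i <;> fin_cases j <;> simp [mul_apply]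
  · linear_combination h7
  · linear_combination h8

theorem entries {R : Type*} [CommRing R] (h3 : IsUnit (3 : R)) {t v : GL (Fin 2) R}
    (ht : t.val = !![0, -1; 1, -1]) (h1 : v * v = 1)
    (h2 : v * (t * v * t * t) = t * t * v * t) (h4 : t * v * t * t * v = t * t * v * t) :
    2 * v 0 1 = 0 ∧ 2 * (v 1 1 - 1) = 0 ∧ v 0 0 = 2 - v 1 1 ∧ v 1 0 = v 0 1 - v 1 1 + 1 := by
  replace h1 := congrArg Units.val h1
  replace h2 := congrArg Units.val h2
  replace h4 := congrArg Units.val h4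
  simp only [Units.val_mul, ht, Units.val_one] at h1 h2 h4
  rw [eta_fin_two v.val] at h1 h2 h4
  generalize v.val 0 0 = p, v.val 0 1 = q, v.val 1 0 = r, v.val 1 1 = s at *
  simp [one_fin_two] at h1 h2 h4
  obtain ⟨k, hk⟩ := h3.exists_left_inv
  obtain ⟨a, b, x, y, rfl, rfl, rfl, rfl⟩ : ∃ a b x y, p = a - y ∧ q = x - b ∧ r = b + x - y ∧
      s = a - b + y := ⟨p + k * (2 * (s - p) + (r - q)), k * (2 * (r - q) + (s - p)),
    q + k * (2 * (r - q) + (s - p)), k * (2 * (s - p) + (r - q)), by ring, by ring,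
    by linear_combination (q - r) * hk, by linear_combination (p - s) * hk⟩
  obtain ⟨⟨a1, a2⟩, a3, a4⟩ := h1
  obtain ⟨⟨b1, b2⟩, b3, b4⟩ := h2
  obtain ⟨⟨c1, c2⟩, c3, c4⟩ := h4
  have hN : x ^ 2 - x * y + y ^ 2 = 0 := h3.mul_left_cancel (by
    linear_combination (b1 - c1) + 2 * (b4 - c4) + (b3 - c3) - (b2 - c2))
  obtain rfl : b = 0 := h3.mul_left_cancel (by
    linear_combination 3 * hN + 2 * ((a3 - b3) - (a2 - b2)) + ((a4 - b4) - (a1 - b1)))
  obtain rfl : a = 1 := h3.mul_left_cancel (by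
    linear_combination -3 * hN + (a1 - b1) + 2 * (a4 - b4) + (a3 - b3) - (a2 - b2))
  exact ⟨by linear_combination a2, by linear_combination a2 - a3, by ring, by ring⟩

theorem alt : ∃ t : alternatingGroup (Fin 4), t ≠ 1 ∧ t ^ 3 = 1 ∧
    (∀ v : alternatingGroup (Fin 4), v * v = 1 → v * (t * v * t * t) = t * t * v * t ∧
      t * v * t * t * v = t * t * v * t) ∧
    (∀ g, ∃ v, v * v = 1 ∧ (g = v ∨ g = t * v ∨ g = t * t * v)) ∧
    Fintype.card {v : alternatingGroup (Fin 4) // v * v = 1} = 4 := by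
  decide +kernel

theorem range_le {k : ℕ} (hk : k ≠ 0)
    (φ ψ : alternatingGroup (Fin 4) →* GL (Fin 2) (ZMod (2 ^ k))) (hψ : Function.Injective ψ)
    (h1 : (φ alt.choose).val = !![0, -1; 1, -1]) (h2 : (ψ alt.choose).val = !![0, -1; 1, -1]) :
    φ.range ≤ ψ.range := by
  obtain ⟨-, -, h3, h4, h5⟩ := alt.choose_spec
  generalize alt.choose = t at *
  have h6 : IsUnit (3 : ZMod (2 ^ k)) := isUnit_of hk (by rw [map_ofNat]; rfl)
  have key := fun (φ : alternatingGroup (Fin 4) →* GL (Fin 2) (ZMod (2 ^ k))) h v (hv : v * v = 1) =>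
    entries h6 (t := φ t) (v := φ v) h (by rw [← map_mul, hv, map_one])
      (by simpa only [map_mul] using congrArg φ (h3 v hv).1)
      (by simpa only [map_mul] using congrArg φ (h3 v hv).2)
  let F (φ : alternatingGroup (Fin 4) →* GL (Fin 2) (ZMod (2 ^ k))) h
      (v : {v : alternatingGroup (Fin 4) // v * v = 1}) :
      {z : ZMod (2 ^ k) // 2 • z = 0} × {z : ZMod (2 ^ k) // 2 • z = 0} :=
    (⟨_, (nsmul_eq_mul ..).trans (key φ h v v.2).1⟩, ⟨_, (nsmul_eq_mul ..).trans (key φ h v v.2).2.1⟩)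
  have h7 : ∀ φ h ψ h' u v, F φ h u = F ψ h' v → φ u = ψ v := fun φ h ψ h' u v e => by
    have e1 : φ u 0 1 = ψ v 0 1 := congrArg (·.1.1) e
    have e2 : φ u 1 1 = ψ v 1 1 := sub_left_injective (congrArg (·.2.1) e)
    refine Units.ext ((eta_fin_two _).trans (Eq.trans ?_ (eta_fin_two _).symm))
    rw [(key φ h u u.2).2.2.1, (key φ h u u.2).2.2.2, (key ψ h' v v.2).2.2.1,
      (key ψ h' v v.2).2.2.2, e1, e2]
  have h8 : Function.Bijective (F ψ h2) := Function.Injective.bijective_of_nat_card_le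
    (fun u v e => Subtype.ext (hψ (h7 ψ h2 ψ h2 u v e))) (by
      have := IsAddCyclic.card_nsmul_eq_zero_le (α := ZMod (2 ^ k)) two_pos
      rw [Nat.card_prod, Nat.card_eq_fintype_card, Nat.card_eq_fintype_card, h5,
        Fintype.card_subtype]
      exact Nat.mul_le_mul this this)
  rintro _ ⟨g, rfl⟩
  obtain ⟨v, hv, h⟩ := h4 g
  obtain ⟨u, hu⟩ := h8.2 (F φ h1 ⟨v, hv⟩)
  have h9 : φ v ∈ ψ.range := ⟨u, h7 ψ h2 φ h1 u ⟨v, hv⟩ hu⟩
  have h10 : φ t ∈ ψ.range := ⟨t, Units.ext (h2.trans h1.symm)⟩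
  rcases h with rfl | rfl | rfl
  · exact h9
  · exact map_mul φ t v ▸ mul_mem h10 h9
  · rw [map_mul, map_mul]; exact mul_mem (mul_mem h10 h10) h9

/-- For k ≥ 2, any two subgroups of GL₂(ℤ/2ᵏℤ) (the automorphism group of the homocyclic group ℤ/2ᵏ × ℤ/2ᵏ) that are isomorphic to the alternating group of degree 4 are conjugate. -/
theorem result (k : ℕ) (hk : 2 ≤ k) (H₁ H₂ : Subgroup (GL (Fin 2) (ZMod (2 ^ k)))) (h₁ : Nonempty (↥H₁ ≃* ↥(alternatingGroup (Fin 4)))) (h₂ : Nonempty (↥H₂ ≃* ↥(alternatingGroup (Fin 4)))) : ∃ g : GL (Fin 2) (ZMod (2 ^ k)), H₂ = H₁.map (MulAut.conj g).toMonoidHom := by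
  have key : ∀ H : Subgroup (GL (Fin 2) (ZMod (2 ^ k))),
      Nonempty (H ≃* alternatingGroup (Fin 4)) → ∃ (g : GL (Fin 2) (ZMod (2 ^ k)))
      (φ : alternatingGroup (Fin 4) →* GL (Fin 2) (ZMod (2 ^ k))), Function.Injective φ ∧
      (φ alt.choose).val = !![0, -1; 1, -1] ∧ φ.range = H.map (MulAut.conj g).toMonoidHom := by
    rintro H ⟨e⟩
    have h1 : Function.Injective (H.subtype.comp e.symm.toMonoidHom) :=
      H.subtype_injective.comp e.symm.injective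
    obtain ⟨g, hg⟩ := exists_conj (by omega) ((map_ne_one_iff _ h1).2 alt.choose_spec.1)
      (by rw [← map_pow, alt.choose_spec.2.1, map_one])
    exact ⟨g, (MulAut.conj g).toMonoidHom.comp _, (MulAut.conj g).injective.comp h1, hg,
      by rw [← MonoidHom.map_range, CL.SL2.range_subtype_comp]⟩
  obtain ⟨g₁, φ, a1, a2, a3⟩ := key H₁ h₁
  obtain ⟨g₂, ψ, b1, b2, b3⟩ := key H₂ h₂
  have h := (range_le (by omega) φ ψ b1 a2 b2).antisymm (range_le (by omega) ψ φ a1 b2 a2)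
  rw [a3, b3] at h
  refine ⟨g₂⁻¹ * g₁, Subgroup.map_injective (f := (MulAut.conj g₂).toMonoidHom)
    (MulAut.conj g₂).injective ?_⟩
  rw [← h, Subgroup.map_map]
  congr 1
  ext x : 1
  simp [mul_assoc]

end Cfsg.Agent.S2874
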