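import Cfsg.Statements.S2879
import Cfsg.Agent.Inv.DihFusion
import Cfsg.Agent.Transfer.SL23
import Cfsg.Agent.Grp.Fitting
import Cfsg.Agent.Grp.PNilp

set_option autoImplicit false
open Cfsg

namespace Cfsg.Agent.S2879

open CL.Grp CL.Inv CL.Transfer Subgroup


/-- Let G be a finite solvable group with O(G) = 1 whose Sylow 2-subgroup T is dihedral of order at least 8 or semidihedral, with G ≠ T and Z(T) normal in G. Then G has a normal subgroup isomorphic to SL₂(3). -/
theorem result {G : Type*} [Group G] [Finite G] (hsol : IsSolvable G) (hO : Cfsg.oddCore G = ⊥) (T : Sylow 2 G) (hT : (∃ n : ℕ, 4 ≤ n ∧ Nonempty (↥(T : Subgroup G) ≃* DihedralGroup n)) ∨ Cfsg.IsQuasiDihedral ↥(T : Subgroup G)) (hne : (T : Subgroup G) ≠ ⊤) (hZ : ((T : Subgroup G) ⊓ Subgroup.centralizer ((T : Subgroup G) : Set G)).Normal) : ∃ U : Subgroup G, U.Normal ∧ Nonempty (↥U ≃* Matrix.SpecialLinearGroup (Fin 2) (ZMod 3)) := by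
  classical
  haveI : Fact (Nat.Prime 2) := ⟨Nat.prime_two⟩
  haveI : Group.IsSolvable G := hsol
  obtain ⟨n, e, d, ⟨D⟩⟩ : ∃ (n : ℕ) (e d : ZMod (2 ^ n)), Nonempty (MC (T : Subgroup G) n e d) := by
    rcases hT with ⟨m, hm, ⟨f⟩⟩ | h
    · rcases dihedral_sylow_cases T (by omega) f with h | ⟨n, h⟩
      · have h1 := h.card_four
        rw [Nat.card_congr f.toEquiv, DihedralGroup.nat_card] at h1
        omega
      · exact ⟨n, 0, 0, h⟩
    · obtain ⟨n, -, h⟩ := exists_MC_of_isQuasiDihedral_subgroup h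
      exact ⟨n, _, _, h⟩
  set Q := pCore 2 G with hQ
  have hQT : Q ≤ T := pCore_le_sylow T
  have hCQ : centralizer (Q : Set G) ≤ Q := by
    have := centralizer_fittingSubgroup_le G
    rwa [fittingSubgroup_eq_pCore (p := 2) hO] at this
  obtain ⟨q, hq, hqd⟩ : ∃ q : ℕ, q.Prime ∧ q ∣ (T : Subgroup G).index :=
    Nat.exists_prime_and_dvd fun h => hne (index_eq_one.1 h)
  have hq2 : q ≠ 2 := by rintro rfl; exact T.not_dvd_index hqd
  haveI : Fact q.Prime := ⟨hq⟩
  obtain ⟨g, hg⟩ := exists_prime_orderOf_dvd_card' q (hqd.trans (T : Subgroup G).index_dvd_card)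
  have hgo : Nat.Coprime (orderOf g) 2 := hg ▸ (Nat.coprime_primes hq Nat.prime_two).2 hq2
  have hgN : g ∈ normalizer (Q : Set G) := by rw [normalizer_eq_top]; exact mem_top g
  have hgC : g ∉ centralizer (Q : Set G) := fun h => by
    have := eq_one_of_coprime_of_mem (pCore_isPGroup 2 G) (hCQ h) hgo
    rw [this, orderOf_one] at hg
    exact hq.one_lt.ne hg
  obtain ⟨i, ⟨h1, h2⟩ | ⟨h1, h2⟩⟩ := D.aut_cases hQT
    (HasCoprimeAut.not_isPGroup_mulAut ⟨g, hgN, hgo, hgC⟩)
  · exfalso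
    have hK : IsKleinFour Q := h1 ▸ D.isKleinFour_sub h2
    have hz1 : D.a (2 * zq n) ≠ 1 := ne_one_of_orderOf_two D.orderOf_z
    have hZ' : (zpowers (D.a (2 * zq n))).Normal := by
      rwa [inf_comm, ← map_center_eq, D.map_center] at hZ
    have h3 := D.mem_zpowers_z.1 (hZ'.conj_mem _ (mem_zpowers _) g)
    rw [conj_eq_one_iff] at h3
    exact hz1 (kleinFour_fixedPointFree hK hgN hgo hgC (h1 ▸ D.a_mem_sub_self _ _)
      (h3.resolve_left hz1))
  · obtain ⟨f⟩ : Nonempty (Q ≃* QuaternionGroup 2) := h1 ▸ D.nonempty_quaternion_sub_q h2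
    have hC2 : Nat.card (centralizer (Q : Set G)) = 2 := by
      have h3 := D.centralizer_sub_q i
      rw [← h1, inf_eq_left.2 (hCQ.trans hQT)] at h3
      rw [h3, Nat.card_zpowers, D.orderOf_z]
    have hG : Nat.card G ∣ 2 * 24 := by
      have h3 := relIndex_centralizer_dvd_card_mulAut Q
      rw [normalizer_eq_top, relIndex_top_right, card_mulAut_of_quaternion f] at h3
      rw [← (centralizer (Q : Set G)).card_mul_index, hC2]
      exact Nat.mul_dvd_mul_left 2 h3
    have hq3 : q = 3 := by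
      have h3 : q ∣ 2 ^ 4 * 3 := (hqd.trans (T : Subgroup G).index_dvd_card).trans hG
      rcases (Nat.Prime.dvd_mul hq).1 h3 with h | h
      · exact absurd ((Nat.prime_dvd_prime_iff_eq hq Nat.prime_two).1 (hq.dvd_of_dvd_pow h)) hq2
      · exact (Nat.prime_dvd_prime_iff_eq hq Nat.prime_three).1 h
    obtain ⟨φ, hφ, hker⟩ := exists_surjective_SL23_of_mem_normalizer Q f g
      (Nat.coprime_two_right.1 hgo) hgN hgC
    have hg3 : g ^ 3 = 1 := by rw [← hq3, ← hg, pow_orderOf_eq_one]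
    rw [hg3, zpowers_one_eq_bot, bot_subgroupOf] at hker
    have E := MulEquiv.ofBijective φ ⟨(MonoidHom.ker_eq_bot_iff φ).1 hker, hφ⟩
    refine ⟨_, ?_, ⟨E⟩⟩
    have h3 := (Q ⊔ zpowers g).card_mul_index
    rw [Nat.card_congr E.toEquiv, card_SL23] at h3
    rw [← h3, mul_comm 2] at hG
    rcases (Nat.dvd_prime Nat.prime_two).1 (Nat.dvd_of_mul_dvd_mul_left (by norm_num) hG) with h | h
    · rw [index_eq_one.1 h]; infer_instance
    · exact normal_of_index_eq_two h

end Cfsg.Agent.S2879
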