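import Cfsg.Statements.S2881
import Cfsg.Agent.Grp.ExtraTwo

set_option autoImplicit false
open Cfsg

namespace Cfsg.Agent.S2881

theorem card_modEq_of_pow {α : Type*} [Finite α] (f : α → α) (hf : f^[5] = id) :
    Nat.card α ≡ Nat.card {x // f x = x} [MOD 5] := by
  classical
  have := Fintype.ofFinite α
  have : Fact (Nat.Prime 5) := ⟨by norm_num⟩
  have := Equiv.Perm.card_fixedPoints_modEq (f := (f : Function.End α)) (p := 5) (n := 1)
    hf
  rw [Nat.card_eq_fintype_card, Nat.card_eq_fintype_card]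
  convert this
  rfl


/-- Let E be an extraspecial 2-group of order 2^(2m+1) of plus type (containing an elementary abelian subgroup of order 2^(m+1)), and let ω be an automorphism of E of order 5 whose fixed points are exactly the centre of E. Then m is divisible by 4. -/
theorem result {E : Type*} [Group E] [Finite E] (m : ℕ) (hm : 1 ≤ m) (hE : Cfsg.IsExtraspecial 2 E) (hcard : Nat.card E = 2 ^ (2 * m + 1)) (hplus : ∃ A : Subgroup E, Cfsg.IsElementaryAbelian 2 A ∧ Nat.card A = 2 ^ (m + 1)) (ω : E ≃* E) (hω : orderOf ω = 5) (hfix : ∀ x : E, ω x = x ↔ x ∈ Subgroup.center E) : 4 ∣ m := by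
  have h5 : (⇑ω)^[5] = id := by
    have h : ω ^ 5 = 1 := hω ▸ pow_orderOf_eq_one ω
    funext x
    exact congrArg (fun f : MulAut E => f x) h
  have h1 := card_modEq_of_pow ω h5
  rw [Nat.card_congr (Equiv.subtypeEquivRight hfix), hcard] at h1
  have h2 := card_modEq_of_pow (α := {x : E // x ^ 2 = 1})
    (fun x => ⟨ω x, by rw [← map_pow, x.2, map_one]⟩) (funext fun x => Subtype.ext (congrFun h5 x))
  have h3 : Nat.card {x : {x : E // x ^ 2 = 1} //
      (⟨ω x, by rw [← map_pow, x.2, map_one]⟩ : {x : E // x ^ 2 = 1}) = x} =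
      Nat.card (Subgroup.center E) := Nat.card_congr
    ⟨fun x => ⟨x.1.1, (hfix _).mp (congrArg Subtype.val x.2)⟩,
      fun x => ⟨⟨x, CL.Grp.extra_pow_eq_one_of_mem_center hE x.2⟩, Subtype.ext ((hfix _).mpr x.2)⟩,
      fun _ => rfl, fun _ => rfl⟩
  rw [h3, (CL.Grp.extra2_plus_iff hE hcard).mp hplus] at h2
  change _ ≡ Nat.card (Subgroup.center E) [MOD 5] at h1
  rw [hE.2] at h1 h2
  rw [← Nat.div_add_mod m 4] at h1 h2
  have h4 : m % 4 < 4 := Nat.mod_lt _ (by norm_num)
  have h6 : ∀ k, 2 ^ (4 * k) % 5 = 1 := fun k => by rw [pow_mul, Nat.pow_mod]; simp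
  unfold Nat.ModEq at h1 h2
  rw [mul_add, mul_left_comm, pow_add, pow_add, Nat.add_mod, Nat.mul_mod, Nat.mul_mod (2 ^ (4 * _)),
    h6, h6] at h2
  refine Nat.dvd_of_mod_eq_zero ?_
  rw [mul_add, mul_left_comm, add_assoc, pow_add, Nat.mul_mod, h6] at h1
  generalize m % 4 = r at *
  interval_cases r <;> simp_all

end Cfsg.Agent.S2881
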