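import Cfsg.Statements.S2882
import Cfsg.Agent.Fus.SimpleM24

set_option autoImplicit false
open Cfsg

namespace Cfsg.Agent.S2882

/-- In the Mathieu group of degree 24 (realised as the automorphism group of the extended binary Golay code) every Sylow 2-subgroup is self-normalizing. -/
theorem result (S : Sylow 2 ↥Cfsg.M24) : Subgroup.normalizer ((S : Subgroup ↥Cfsg.M24) : Set ↥Cfsg.M24) = (S : Subgroup ↥Cfsg.M24) := by
  open CL.FusC.M24 in
  have hU := CL.PG.UB.of_card CL.Spor.card_M24 (by decide)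
  have := hU.1
  have hN := nT c1 (hU.mono G_le)
  rw [hU.eq_of_lb (G_lb c1) G_le] at hN
  have hT := CL.Fus.sylIn_two_of_card ((le c1).trans G_le) (a := 10) (m := 239085)
    ((T_ub c1).card_eq (T_lb c1)) CL.Spor.card_M24 rfl
  obtain ⟨g, rfl⟩ := MulAction.exists_smul_eq Cfsg.M24 hT.toSylow S
  have h : Subgroup.normalizer ((hT.toSylow : Subgroup Cfsg.M24) : Set Cfsg.M24) = hT.toSylow := by
    rw [hT.coe_toSylow, ← Subgroup.subgroupOf_normalizer_eq hT.le, ← Subgroup.inf_subgroupOf_left, hN]
  rw [Sylow.coe_subgroup_smul, Subgroup.pointwise_smul_def]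
  exact (Subgroup.map_equiv_normalizer_eq _ (MulAut.conj g)).symm.trans (congrArg _ h)

end Cfsg.Agent.S2882
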