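import Cfsg.Statements.S2930
import Cfsg.Agent.Known.HallSym3
import Cfsg.Agent.Known.AltOn2
import Cfsg.Agent.Known.AltSelfNorm
import Cfsg.Agent.S4231
import Cfsg.Agent.S1265

set_option autoImplicit false
open Cfsg

namespace Cfsg.Agent.S2930

open Equiv Equiv.Perm MulAction CL.Known CL.Known.HallSym CL.Grp

section

variable {Ω : Type} [Fintype Ω] [DecidableEq Ω] {P K : Subgroup (Perm Ω)} (hn : 5 ≤ Fintype.card Ω)
  (hP : IsSylowIn 3 P ⊤) (hK : ¬ alternatingGroup Ω ≤ K)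
  (h : ∀ Y, P ≤ Y → ¬ alternatingGroup Ω ≤ Y → Y ⊓ alternatingGroup Ω ≤ K)

include hn h in
theorem rel_le {r : Ω → Ω → Prop} (hP : P ≤ relStab r) {x y z : Ω} (h1 : y ≠ x) (h2 : r x y) (h3 : ¬ r x z)
    (h4 : r x x) : relStab r ⊓ alternatingGroup Ω ≤ K := h _ hP fun e => by
  obtain ⟨w, -, w1, w2, w3⟩ := exists_fourth (s := Finset.univ) (by simp; omega) x y z
  have h5 : y ≠ z := by rintro rfl; exact h3 h2
  have := (e (c3_mem_alt h5 w3) x y).2 h2
  rw [c3_apply_fst h5 w2, c3_apply_of_ne h1.symm (by rintro rfl; exact h3 h4) w1] at this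
  exact h3 this

include hn h in
theorem altOn_le {Δ : Finset Ω} (h1 : ∀ g ∈ P, ∀ x ∈ Δ, g x ∈ Δ) (h2 : 1 < Δ.card) {z : Ω} (hz : z ∉ Δ) :
    altOn Δ ≤ K := by
  obtain ⟨x, hx, y, hy, hxy⟩ := Finset.one_lt_card.1 h2
  exact fun g hg => rel_le hn h (r := fun x y => (x ∈ Δ ↔ y ∈ Δ)) (fun g hg => mem_bip (h1 g hg)) hxy.symm
    (iff_of_true hx hy) (fun e => hz (e.1 hx)) Iff.rfl
    ⟨mem_bip fun _ => apply_mem_of_mem_altOn hg, altOn_le_alt _ hg⟩

include hn hP hK h in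
theorem false_of_big (h3 : 3 ∣ Fintype.card Ω) (h12 : 12 ≤ Fintype.card Ω) {O : Finset Ω} (hO : 3 < O.card)
    (hOK : altOn O ≤ K) : False := by
  have := Fact.mk Nat.prime_three
  have hΛ : Nat.card (Fin (Fintype.card Ω / 3)) = Nat.card Ω / 3 := by simp
  obtain ⟨Q, hQ⟩ := exists_isSylowIn 3 (⊤ : Subgroup (Perm (Fin (Fintype.card Ω / 3))))
  obtain ⟨ι, rfl⟩ := exists_WR_eq hP _ hΛ hQ
  have hs := surjective_of_dvd ι hΛ (by simpa using h3)
  let E := Equiv.ofBijective ι ⟨ι.injective, hs⟩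
  have hE : ∀ x, E.symm (ι x) = x := E.symm_apply_apply
  have h1 : ∀ f σ, wE ι f σ ∈ relStab fun x y => (E.symm x).2 = (E.symm y).2 := fun f σ x y => by
    obtain ⟨⟨a, l⟩, rfl⟩ := hs x
    obtain ⟨⟨b, m⟩, rfl⟩ := hs y
    simp [wE_apply, hE]
  have hm : ∀ a l, ι (a, l) ∈ (cyc ι l).support := fun a l => by simp [support_cyc ι (by omega : 1 < 3)]
  obtain ⟨a, l, b, l', ha, hb, hl⟩ : ∃ a l b l', ι (a, l) ∈ O ∧ ι (b, l') ∈ O ∧ l ≠ l' := by
    by_contra hne
    push Not at hne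
    obtain ⟨x, hx⟩ := Finset.card_pos.1 (by omega : 0 < O.card)
    obtain ⟨⟨a, l⟩, rfl⟩ := hs x
    have := Finset.card_le_card (s := O) (t := (cyc ι l).support) fun y hy => by
      obtain ⟨⟨b, m⟩, rfl⟩ := hs y
      exact hne a l b m hx hy ▸ hm b l
    rw [card_support_cyc ι (by omega)] at this
    omega
  have h2 : ∀ f σ, wE ι f σ ∈ alternatingGroup Ω → wE ι f σ ∈ K := fun f σ e =>
    rel_le hn h (r := fun x y => (E.symm x).2 = (E.symm y).2) (by rintro _ ⟨f, σ, -, rfl⟩; exact h1 f σ) (x := ι (0, l)) (y := ι (1, l)) (z := ι (0, l'))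
      (by simp) (by simp [hE]) (by simp [hE, hl]) rfl ⟨h1 f σ, e⟩
  have h4 := card_support_cyc ι (by omega : 1 < 3)
  have h5 : ∀ a b l, Rel3 K (ι (a, l)) (ι (b, l)) := fun a b l => Or.inr ⟨_, (h4 l).ge, altOn_support_le
    (card_support_eq_three_iff.1 (h4 l)) (h2 _ _ (cyc_mem_alt ι (by omega) (by decide) l)), hm _ _, hm _ _⟩
  have hr := rel3_equiv (K := K)
  have h6 : Rel3 K (ι (b, l')) (ι (a, l)) := Or.inr ⟨O, hO.le, hOK, hb, ha⟩
  have h7 : cls (Rel3 K) (ι (b, l')) = Finset.univ := Finset.eq_univ_of_forall fun x => mem_cls.2 (by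
    obtain ⟨⟨c, m⟩, rfl⟩ := hs x
    by_cases e : l' = m
    · exact e ▸ h5 _ _ _
    by_cases e' : l = m
    · exact e' ▸ hr.trans h6 (h5 _ _ _)
    obtain ⟨k, -, k1, k2, k3⟩ := exists_fourth (s := Finset.univ) (by simp; omega) l m l'
    have := (le_relStab_rel3 (h2 0 (c3 l m k) (by
      rw [mem_alternatingGroup, sign_wE_top, mem_alternatingGroup.1 (c3_mem_alt e' k2), one_pow])) _ _).2 h6
    rw [wE_apply, wE_apply, c3_apply_fst e' k1, c3_apply_of_ne hl.symm e k3] at this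
    exact hr.trans (h5 _ _ _) (hr.trans this (h5 _ _ _)))
  have := (altOn_cls_le (K := K) (x := ι (b, l')) (by rw [h7, Finset.card_univ]; omega)).2
  rw [h7, altOn_univ] at this
  exact hK this

include hn hP hK h in
theorem core : Fintype.card Ω = 6 ∨ Fintype.card Ω = 9 ∨ ∃ a : ℕ, 2 ≤ a ∧ Fintype.card Ω = 3 ^ a + 1 := by
  have := Fact.mk Nat.prime_three
  let r : Ω → Ω → Prop := fun x y => ∃ g ∈ P, g x = y
  have hr : Equivalence r := ⟨fun x => ⟨1, one_mem _, rfl⟩, by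
    rintro x _ ⟨g, hg, rfl⟩; exact ⟨g⁻¹, inv_mem hg, by simp⟩, by
    rintro x _ _ ⟨g, hg, rfl⟩ ⟨k, hk, rfl⟩; exact ⟨k * g, mul_mem hk hg, rfl⟩⟩
  have hi : ∀ x, ∀ g ∈ P, ∀ y ∈ cls r x, g y ∈ cls r x := fun x g hg y hy =>
    mem_cls.2 (hr.trans (mem_cls.1 hy) ⟨g, hg, rfl⟩)
  have hc : ∀ x, ∃ j, (cls r x).card = 3 ^ j := fun x => by
    obtain ⟨j, hj⟩ := card_orbit_eq_pow hP.isPGroup x
    refine ⟨j, ?_⟩
    rw [← hj, Nat.card_coe_set_eq, ← Set.ncard_coe_finset]
    congr 1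
    ext y
    exact mem_cls.trans ⟨fun ⟨g, hg, e⟩ => ⟨⟨g, hg⟩, e⟩, fun ⟨g, e⟩ => ⟨g.1, g.2, e⟩⟩
  have hp : ∀ a : ℕ, a < 2 → 3 ^ a = 1 ∨ 3 ^ a = 3 := fun a ha => by interval_cases a <;> simp
  have hp' : ∀ a : ℕ, 2 ≤ a → 9 ≤ 3 ^ a := fun a ha => Nat.pow_le_pow_right (n := 3) (by omega) ha
  have hd : ∀ a : ℕ, 3 ^ a = 1 ∨ 3 ∣ 3 ^ a := fun a => by
    rcases a with _ | a
    exacts [Or.inl rfl, Or.inr (dvd_pow_self 3 a.succ_ne_zero)]
  obtain ⟨x⟩ : Nonempty Ω := Fintype.card_pos_iff.1 (by omega)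
  by_cases h1 : ∀ y, r x y
  · obtain ⟨a, ha⟩ := hc x
    rw [Finset.eq_univ_of_forall fun y => mem_cls.2 (h1 y), Finset.card_univ] at ha
    obtain ⟨a, rfl⟩ : ∃ b, a = b + 2 := ⟨a - 2, by have := mt (hp a) (by omega); omega⟩
    rcases a with _ | a
    · exact Or.inr (Or.inl ha)
    have h9 : 27 ≤ Fintype.card Ω := ha ▸ Nat.pow_le_pow_right (n := 3) (by omega) (by omega : 3 ≤ _)
    obtain ⟨c, hc, hc'⟩ := exists_colour (p := 3) (a + 2) Ω (by simpa using ha) P hP
    obtain ⟨i, hi⟩ := Fintype.exists_lt_card_fiber_of_mul_lt_card (n := 3) c (by simp; omega)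
    obtain ⟨u, hu, v, hv, huv⟩ := Finset.one_lt_card.1 (lt_trans (by omega) hi : 1 < _)
    simp only [Finset.mem_filter, Finset.mem_univ, true_and] at hu hv
    obtain ⟨z, hz, -⟩ := hc' (i + 1)
    refine (false_of_big hn hP hK h (ha ▸ dvd_pow_self 3 (by omega)) (by omega) hi fun g hg =>
      rel_le hn h (r := fun x y => c x = c y) (fun g hg x y => ?_) huv.symm (hu.trans hv.symm) (z := z)
        (by simp [hu, hz]) rfl ⟨fun x y => ?_, altOn_le_alt _ hg⟩).elim
    · obtain ⟨ε, e⟩ := hc hg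
      simp [e]
    · have : ∀ w, c (g w) = c w := fun w => by
        by_cases e : g w = w
        · rw [e]
        · have := (mem_altOn.1 hg).2 w e
          simpa [(Finset.mem_filter.1 this).2] using apply_mem_of_mem_altOn hg this
      simp [this]
  push Not at h1
  obtain ⟨y, hy⟩ := h1
  have hx' : ∀ {x y}, ¬ r x y → y ∉ cls r x := fun e e' => e (mem_cls.1 e')
  by_cases h2 : ∀ z, r x z ∨ r y z
  · obtain ⟨a, ha⟩ := hc x
    obtain ⟨b, hb⟩ := hc y
    have h3 := Finset.card_union_of_disjoint (disjoint_cls hr hy)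
    rw [Finset.eq_univ_of_forall (s := cls r x ∪ cls r y) fun z => by simpa [mem_cls] using h2 z, Finset.card_univ,
      ha, hb] at h3
    rcases hd a with e | e
    · exact Or.inr (Or.inr ⟨b, not_lt.1 (mt (hp b) (by omega)), by omega⟩)
    rcases hd b with e' | e'
    · exact Or.inr (Or.inr ⟨a, not_lt.1 (mt (hp a) (by omega)), by omega⟩)
    have := Nat.le_of_dvd (by positivity) e
    have := Nat.le_of_dvd (by positivity) e'
    by_cases h4 : 2 ≤ a
    · have := hp' a h4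
      exact (false_of_big hn hP hK h (by omega) (by omega) (by omega)
        (altOn_le hn h (hi x) (by omega) (hx' hy))).elim
    by_cases h5 : 2 ≤ b
    · have := hp' b h5
      exact (false_of_big hn hP hK h (by omega) (by omega) (by omega)
        (altOn_le hn h (hi y) (by omega) (hx' fun e => hy (hr.symm e)))).elim
    have := hp a (by omega)
    have := hp b (by omega)
    omega
  push Not at h2
  obtain ⟨z, hxz, hyz⟩ := h2
  have aux : ∀ a b c, ¬ r a b → ¬ r a c → ¬ r b c → 3 ≤ (cls r a)ᶜ.card → 3 ≤ (cls r b)ᶜ.card → False :=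
    fun a b c h1 h2 h3 h4 h5 => hK (by
      have h6 := fun a (e : 3 ≤ (cls r a)ᶜ.card) => altOn_le hn h (fun g hg => apply_mem_compl (hi a g hg))
        (by omega) (z := a) (by simpa [mem_cls] using hr.refl a)
      have := altOn_union_le h4 h5 (Finset.not_disjoint_iff.2 ⟨c, by simpa [mem_cls] using h2,
        by simpa [mem_cls] using h3⟩) (h6 a h4) (h6 b h5)
      rwa [← Finset.compl_inter, Finset.disjoint_iff_inter_eq_empty.1 (disjoint_cls hr h1), Finset.compl_empty,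
        altOn_univ] at this)
  have two : ∀ a b, ¬ r a b → 3 ≤ (cls r a)ᶜ.card ∨ 3 ≤ (cls r b)ᶜ.card := fun a b e => by
    have := Finset.card_le_card (le_compl_iff_disjoint_left.2 (disjoint_cls hr e))
    have := Finset.card_add_card_compl (cls r b)
    omega
  rcases two x y hy with e | e <;> rcases two x z hxz with e' | e' <;> rcases two y z hyz with e'' | e''
  all_goals first
    | exact (aux x y z hy hxz hyz ‹_› ‹_›).elim
    | exact (aux x z y hxz hy (fun e => hyz (hr.symm e)) ‹_› ‹_›).elim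
    | exact (aux y z x hyz (fun e => hy (hr.symm e)) (fun e => hxz (hr.symm e)) ‹_› ‹_›).elim

end


/-- Let X be a finite 3-minimal group (a Sylow 3-subgroup is not normal and lies in a unique maximal subgroup) whose generalized Fitting subgroup is isomorphic to an alternating group of degree n ≥ 5. Then X = F*(X), and n = 6, n = 9, or n = 3ᵃ + 1 for some a ≥ 2. -/
theorem result {X : Type*} [Group X] [Finite X] (hX : Cfsg.IsPMinimal 3 X) (n : ℕ) (hn : 5 ≤ n) (hF : Nonempty (↥(Cfsg.generalizedFittingSubgroup X) ≃* ↥(alternatingGroup (Fin n)))) : Cfsg.generalizedFittingSubgroup X = ⊤ ∧ (n = 6 ∨ n = 9 ∨ ∃ a : ℕ, 2 ≤ a ∧ n = 3 ^ a + 1) := by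
  have := Fact.mk Nat.prime_three
  obtain ⟨e⟩ := hF
  obtain ⟨S⟩ : Nonempty (Sylow 3 X) := inferInstance
  obtain ⟨h1, M, ⟨hM, hSM⟩, hu⟩ := hX S
  have hle : ∀ Y : Subgroup X, (S : Subgroup X) ≤ Y → Y ≠ ⊤ → Y ≤ M := fun Y h h' => by
    obtain ⟨M', h2, h3⟩ := (eq_top_or_exists_le_coatom Y).resolve_left h'
    exact hu M' ⟨h2, h.trans h3⟩ ▸ h3
  have hS : (S : Subgroup X) ≤ Cfsg.generalizedFittingSubgroup X := fun x hx => by
    obtain ⟨k, hk⟩ := S.isPGroup' ⟨x, hx⟩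
    let φ : X →* MulAut (alternatingGroup (Fin n)) := (MulAut.congr e).toMonoidHom.comp MulAut.conjNormal
    have h2 : φ x ^ 3 ^ k = 1 := by rw [← map_pow, show x ^ 3 ^ k = 1 from congrArg Subtype.val hk, map_one]
    obtain ⟨g, hg⟩ := S4231.mem_range_of_odd n hn (φ x) (Odd.pow (by decide)) h2
    have h3 : g ∈ alternatingGroup (Fin n) := sign_eq_one_of_odd (k := 3 ^ k) (Odd.pow (by decide))
      (eq_one_of_commute_alt (by simp; omega) fun c hc => by
        have := MulAut.conjNormal_apply (H := alternatingGroup (Fin n)) (g ^ 3 ^ k) ⟨c, hc.mem_alternatingGroup⟩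
        rw [map_pow, hg, h2] at this
        exact mul_inv_eq_iff_eq_mul.1 this.symm)
    refine (mul_mem_cancel_left (inv_mem (e.symm ⟨g, h3⟩).2)).1 (S1265.result fun y hy => ?_)
    have h4 : e (MulAut.conjNormal x ⟨y, hy⟩) = ⟨g, h3⟩ * e ⟨y, hy⟩ * ⟨g, h3⟩⁻¹ := by
      have := congrArg (fun α : MulAut (alternatingGroup (Fin n)) => α (e ⟨y, hy⟩)) hg
      simp only [φ, MonoidHom.comp_apply, MulEquiv.coe_toMonoidHom, MulAut.congr_apply, MulEquiv.trans_apply,
        MulEquiv.symm_apply_apply] at this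
      exact this ▸ Subtype.ext (MulAut.conjNormal_apply g _)
    have h5 := congrArg (fun z => (e.symm z).1) h4
    simp only [MulEquiv.symm_apply_apply, map_mul, map_inv, MulAut.conjNormal_apply, Subgroup.coe_mul,
      Subgroup.coe_inv] at h5
    rw [mul_inv_eq_iff_eq_mul] at h5
    rw [mul_assoc, h5]
    group
  have hT : Cfsg.generalizedFittingSubgroup X = ⊤ := by
    by_contra hT
    exact hM.1 (eq_top_iff.2 ((S.normalizer_sup_eq_top' hS).ge.trans (sup_le (hle _ Subgroup.le_normalizer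
      fun e => h1 (Subgroup.normalizer_eq_top_iff.1 e)) (hle _ hS hT))))
  refine ⟨hT, ?_⟩
  let f : X ≃* alternatingGroup (Fin n) := (Subgroup.topEquiv.symm.trans (MulEquiv.subgroupCongr hT.symm)).trans e
  have hf : Function.Surjective f.toMonoidHom := f.surjective
  obtain ⟨P, hP, hP'⟩ := exists_sylow_inf_alt_eq (isSylowIn_map_subtype (S.mapSurjective hf))
  rw [inf_of_le_left (le_alt_of_isPGroup (by decide) hP.isPGroup), Sylow.coe_mapSurjective, Subgroup.map_map] at hP'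
  simpa using core (K := M.map ((alternatingGroup (Fin n)).subtype.comp f.toMonoidHom)) (by simpa using hn) hP
    (fun h => hM.1 (eq_top_iff.2 fun x _ => (Subgroup.mem_map_iff_mem
      (Subtype.val_injective.comp f.injective)).1 (h (f x).2))) fun Y h2 h3 g hg => by
      refine ⟨f.symm ⟨g, hg.2⟩, hle (Y.comap ((alternatingGroup (Fin n)).subtype.comp f.toMonoidHom))
        (Subgroup.map_le_iff_le_comap.1 (hP' ▸ h2)) (fun e => h3 fun a ha => ?_) (by simpa using hg.1), by simp⟩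
      simpa using (e.ge (Subgroup.mem_top (f.symm ⟨a, ha⟩)))

end Cfsg.Agent.S2930
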