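import Cfsg.Statements.S2934
import Cfsg.Agent.Inv.MaxClass2
import Cfsg.Agent.Grp.PGroupCyc
import Cfsg.Agent.Grp.ExtraIndex
import Cfsg.Agent.Grp.Coprime2
import Cfsg.Agent.Grp.Action

set_option autoImplicit false
open Cfsg

namespace Cfsg.Agent.S2934

open Subgroup CL.Grp CL.Inv
open scoped commutatorElement

theorem lemQ {X : Type*} [Group X] [Finite X] (hX : IsPGroup 2 X)
    (hu : ∀ x y : X, orderOf x = 2 → orderOf y = 2 → x = y) {α : MulAut X} (hα : Odd (orderOf α))
    (h1 : α ≠ 1) : Nonempty (X ≃* QuaternionGroup 2) := by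
  have hinv : ∀ H : Subgroup X, Nat.card H = 2 → ∃ x, orderOf x = 2 ∧ H = zpowers x := by
    intro H hH
    have : IsCyclic H := isCyclic_of_prime_card (p := 2) hH
    obtain ⟨x, hx⟩ := (Subgroup.isCyclic_iff_exists_zpowers_eq_top H).mp this
    exact ⟨x, by rw [← Nat.card_zpowers, hx, hH], hx.symm⟩
  rcases isCyclic_or_nonempty_quaternion_of_unique hX (fun H K hH hK => by
    obtain ⟨x, hx, rfl⟩ := hinv H hH
    obtain ⟨y, hy, rfl⟩ := hinv K hK
    rw [hu x y hx hy]) with hc | ⟨-, k, ⟨e⟩⟩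
  · exfalso
    obtain ⟨a, ha⟩ := hc.exists_generator
    have := aut_fix_of_mem_zpowers hX hα (ha (α a))
    apply h1
    ext x
    obtain ⟨n, rfl⟩ := ha x
    simp [this]
  · rcases Nat.eq_zero_or_pos k with rfl | hk
    · exact ⟨e⟩
    exfalso
    set g := e.symm (QuaternionGroup.a 1) with hg
    have hB : ∀ i, e.symm (QuaternionGroup.a i) ∈ zpowers g := fun i => by
      refine ⟨i.val, ?_⟩
      simp only [hg, zpow_natCast, ← map_pow, QuaternionGroup.a_one_pow, ZMod.natCast_zmod_val]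
    have hcases : ∀ x : X, x ∈ zpowers g ∨ ∃ i, x = e.symm (QuaternionGroup.xa i) := fun x => by
      obtain ⟨y, rfl⟩ := e.symm.surjective x
      rcases y with i | i
      · exact Or.inl (hB i)
      · exact Or.inr ⟨i, rfl⟩
    have hag : α g ∈ zpowers g := by
      rcases hcases (α g) with h | ⟨i, hi⟩
      · exact h
      · exfalso
        have h2 := congrArg orderOf hi
        rw [MulEquiv.orderOf_eq, hg, MulEquiv.orderOf_eq, MulEquiv.orderOf_eq,
          QuaternionGroup.orderOf_a_one, QuaternionGroup.orderOf_xa] at h2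
        obtain ⟨j, rfl⟩ := Nat.exists_eq_add_of_lt hk
        have : 1 ≤ 2 ^ j := Nat.one_le_two_pow
        simp only [pow_succ, zero_add] at h2
        omega
    have hfix := aut_fix_of_mem_zpowers hX hα hag
    refine h1 (aut_eq_one_of_fix_index_le_two hX hα (zpowers g) (fun x y hx hy => ?_) ?_)
    · obtain ⟨i, rfl⟩ := (hcases x).resolve_left hx
      obtain ⟨j, rfl⟩ := (hcases y).resolve_left hy
      rw [← map_inv, ← map_mul]
      exact hB _
    · rintro _ ⟨n, rfl⟩
      simp [hfix]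

section main
variable {W : Type*} [Group W]

/-- fixed points of an automorphism -/
def fx (e : MulAut W) : Subgroup W := (e : W →* W).eqLocus (MonoidHom.id W)

theorem mem_fx {e : MulAut W} {x : W} : x ∈ fx e ↔ e x = x := Iff.rfl

/-- invariance under a group of automorphisms -/
def Inv (E : Subgroup (MulAut W)) (K : Subgroup W) : Prop := ∀ e : E, ∀ x ∈ K, e • x ∈ K

/-- restriction to an invariant subgroup -/
def res {E : Subgroup (MulAut W)} {K : Subgroup W} (h : Inv E K) : E →* MulAut K :=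
  letI := subAction K h
  MulDistribMulAction.toMulAut E K

theorem res_apply {E : Subgroup (MulAut W)} {K : Subgroup W} (h : Inv E K) (e : E) (x : K) :
    (res h e x : W) = (e : MulAut W) x := rfl

theorem res_eq_one_iff {E : Subgroup (MulAut W)} {K : Subgroup W} (h : Inv E K) (e : E) :
    res h e = 1 ↔ K ≤ fx e := by
  constructor
  · intro he x hx
    have := res_apply h e ⟨x, hx⟩
    rw [he] at this
    exact this.symm
  · intro he
    ext x
    exact he x.2

theorem inv_fx {E : Subgroup (MulAut W)} (hab : IsMulCommutative E) (e : E) : Inv E (fx e) := by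
  intro f x hx
  have h1 : (e : MulAut W) * f = f * e := congrArg Subtype.val (mul_comm' e f)
  change (e : MulAut W) ((f : MulAut W) x) = (f : MulAut W) x
  rw [← MulAut.mul_apply, h1, MulAut.mul_apply, mem_fx.mp hx]

theorem Inv.inf {E : Subgroup (MulAut W)} {K L : Subgroup W} (hK : Inv E K) (hL : Inv E L) :
    Inv E (K ⊓ L) := fun e x hx => ⟨hK e x hx.1, hL e x hx.2⟩

theorem Inv.cent {E : Subgroup (MulAut W)} {K : Subgroup W} (hK : Inv E K) :
    Inv E (centralizer (K : Set W)) := by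
  intro e x hx k hk
  have h1 := hx _ (hK e⁻¹ k hk)
  have h2 := congrArg (fun y => e • y) h1
  simpa [smul_mul'] using h2

theorem gen [Finite W] {E : Subgroup (MulAut W)} (hab : IsMulCommutative E) (hnc : ¬ IsCyclic E)
    (hcop : (Nat.card E).Coprime (Nat.card W)) {K M : Subgroup W} (hK : Inv E K)
    (hM : ∀ e : E, e ≠ 1 → K ⊓ fx e ≤ M) : K ≤ M := by
  have hc : IsMulCommutative (sdInr E W).range := by
    rw [MonoidHom.range_eq_map]
    infer_instance
  have hn : ¬ IsCyclic (sdInr E W).range := fun h =>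
    hnc ((MonoidHom.ofInjective (sdInr_injective (A := E) (K := W))).isCyclic.mpr h)
  have := le_of_forall_centralizer_le (M := M.map (sdInl E W)) hn
    ((range_sdInr_le_normalizer_iff K).mpr hK)
    (coprime_sd (hcop.coprime_dvd_right (Subgroup.card_subgroup_dvd_card K))) (by
      rintro _ ⟨e, rfl⟩ he _ ⟨⟨x, hx, rfl⟩, hc⟩
      refine ⟨x, hM e (fun h => he (by rw [h, map_one])) ⟨hx, ?_⟩, rfl⟩
      have h1 := (mem_centralizer_singleton_iff.mp hc)
      have h2 := sdInl_smul (A := E) e x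
      rw [← h1, mul_inv_cancel_right] at h2
      exact sdInl_injective h2)
  exact (Subgroup.map_le_map_iff_of_injective sdInl_injective).mp this

theorem card_sup_le [Finite W] {A B Z : Subgroup W} [B.Normal] (hA : Z ≤ A) (hB : Z ≤ B)
    (hZ : Nat.card Z = 2) {a : ℕ} (ha : Nat.card A ≤ a) (hb : Nat.card B ≤ 8) :
    Nat.card ↥(A ⊔ B) ≤ 4 * a := by
  have h1 := card_eq_relIndex_mul_card (le_sup_right : B ≤ A ⊔ B)
  rw [Subgroup.relIndex_sup_right] at h1
  have h2 := card_eq_relIndex_mul_card (inf_le_left : A ⊓ B ≤ A)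
  rw [Subgroup.inf_relIndex_left] at h2
  have h3 : 2 ≤ Nat.card ↥(A ⊓ B) := hZ ▸ Subgroup.card_le_of_le (le_inf hA hB)
  have h4 : B.relIndex A * 2 ≤ a := (Nat.mul_le_mul_left _ h3).trans (h2 ▸ ha)
  rw [h1]
  nlinarith

end main

theorem odd24 {m : ℕ} (h1 : m ∣ 24) (h2 : Odd m) (h3 : m ≠ 1) : m = 3 := by
  have h4 : m ∣ 3 := (Nat.Coprime.pow_right 3 (Nat.coprime_two_right.mpr h2)).dvd_of_dvd_mul_left
    (by simpa using h1)
  exact ((Nat.dvd_prime Nat.prime_three).mp h4).resolve_left h3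


set_option maxHeartbeats 1000000 in
/-- Let p be an odd prime, W a finite 2-group and E a non-cyclic abelian p-subgroup of Aut(W) such that, for every nontrivial e ∈ E, the fixed points of e in W contain at most one involution. Then E has order 9, W is extraspecial of order 2⁵, 2⁷ or 2⁹, and the common fixed points of E in W form exactly the centre Z(W). -/
theorem result {W : Type*} [Group W] [Finite W] (hW : IsPGroup 2 W) {p : ℕ} [Fact p.Prime] (hp : p ≠ 2) (E : Subgroup (MulAut W)) (hE : IsPGroup p ↥E) (hab : IsMulCommutative ↥E) (hnc : ¬ IsCyclic ↥E) (hfix : ∀ e ∈ E, e ≠ 1 → ∀ x y : W, orderOf x = 2 → orderOf y = 2 → e x = x → e y = y → x = y) : Nat.card ↥E = 9 ∧ Cfsg.IsExtraspecial 2 W ∧ (Nat.card W = 2 ^ 5 ∨ Nat.card W = 2 ^ 7 ∨ Nat.card W = 2 ^ 9) ∧ {x : W | ∀ e ∈ E, e x = x} = (Subgroup.center W : Set W) := by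
  classical
  have hpp : p.Prime := Fact.out
  have hodd : ∀ {X : Type _} [Group X] (φ : E →* MulAut X) (f : E), Odd (orderOf (φ f)) := by
    intro X _ φ f
    obtain ⟨k, hk⟩ := IsPGroup.iff_orderOf.mp hE f
    have h1 : orderOf (φ f) ∣ p ^ k := hk ▸ orderOf_map_dvd φ f
    exact Odd.of_dvd_nat ((hpp.odd_of_ne_two hp).pow) h1
  have hcop : (Nat.card E).Coprime (Nat.card W) := by
    obtain ⟨a, ha⟩ := hE.exists_card_eq
    obtain ⟨b, hb⟩ := hW.exists_card_eq
    rw [ha, hb]
    exact Nat.Coprime.pow a b ((Nat.coprime_primes hpp Nat.prime_two).mpr hp)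
  have hgen := fun (K M : Subgroup W) => gen (K := K) (M := M) hab hnc hcop
  have huq : ∀ e : E, e ≠ 1 → ∀ K : Subgroup W, K ≤ fx e →
      ∀ x y : K, orderOf x = 2 → orderOf y = 2 → x = y := by
    intro e he K hK x y hx hy
    exact Subtype.ext (hfix e e.2 (fun h => he (Subtype.ext h)) x y (by simpa using hx)
      (by simpa using hy) (hK x.2) (hK y.2))
  -- nontrivial action on an invariant subgroup of `fx e`
  have hQ : ∀ e : E, e ≠ 1 → ∀ K : Subgroup W, Inv E K → K ≤ fx e → ∀ f : E, ¬ K ≤ fx f →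
      Nonempty (K ≃* QuaternionGroup 2) := by
    intro e he K hK hle f hf
    exact lemQ (hW.to_subgroup K) (huq e he K hle) (hodd (res hK) f)
      (fun h => hf ((res_eq_one_iff hK f).mp h))
  let good : E → Prop := fun e => e ≠ 1 ∧ ∃ f : E, ¬ fx (e : MulAut W) ≤ fx f
  have hQe : ∀ e, good e → Nonempty (fx (e : MulAut W) ≃* QuaternionGroup 2) :=
    fun e ⟨he, f, hf⟩ => hQ e he _ (inv_fx hab e) le_rfl f hf
  have h8 : ∀ e, good e → Nat.card (fx (e : MulAut W)) = 8 := fun e he =>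
    card_of_quaternion_two (hQe e he).some
  have hnab : ∀ e, good e → ¬ ∀ x ∈ fx (e : MulAut W), ∀ y ∈ fx (e : MulAut W), x * y = y * x := by
    intro e he h
    obtain ⟨φ⟩ := hQe e he
    have h1 := h _ (φ.symm (QuaternionGroup.a 1)).2 _ (φ.symm (QuaternionGroup.xa 0)).2
    have h2 : φ.symm (QuaternionGroup.a 1) * φ.symm (QuaternionGroup.xa 0) =
        φ.symm (QuaternionGroup.xa 0) * φ.symm (QuaternionGroup.a 1) := Subtype.ext h1
    rw [← map_mul, ← map_mul] at h2
    exact absurd (φ.symm.injective h2) (by decide)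
  have hfaith : ∀ e : E, (⊤ : Subgroup W) ≤ fx e → e = 1 := fun e h =>
    Subtype.ext (MulEquiv.ext fun x => h (mem_top x))
  have hE1 : ∃ f : E, f ≠ 1 := by
    by_contra h
    push Not at h
    have : Subsingleton E := ⟨fun a b => by rw [h a, h b]⟩
    exact hnc inferInstance
  have hinvtop : Inv E (⊤ : Subgroup W) := fun _ _ _ => mem_top _
  -- for every `f ≠ 1` some good `fx e` is moved by `f`
  have hmove : ∀ f : E, f ≠ 1 → ∃ e, good e ∧ ¬ fx (e : MulAut W) ≤ fx f := by
    intro f hf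
    by_contra h
    push Not at h
    refine hf (hfaith f (hgen _ _ hinvtop fun e he => inf_le_right.trans ?_))
    by_contra h'
    exact h' (h e ⟨he, f, h'⟩)
  obtain ⟨f₀, hf₀⟩ := hE1
  obtain ⟨e₀, he₀, -⟩ := hmove f₀ hf₀
  obtain ⟨e₁, he₁, hne⟩ := hmove e₀ he₀.1
  -- the involution
  obtain ⟨z', hz'⟩ := exists_prime_orderOf_dvd_card' (G := fx (e₀ : MulAut W)) 2
    (by rw [h8 e₀ he₀]; norm_num)
  obtain ⟨z, hzdef⟩ : ∃ z : W, z = (z' : W) := ⟨_, rfl⟩
  have hz : orderOf z = 2 := by rw [hzdef]; simpa using hz'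
  have hzfix : ∀ e : E, z ∈ fx e := fun e => by
    have := huq e₀ he₀.1 _ le_rfl (res (inv_fx hab e₀) e z') z' (by rw [MulEquiv.orderOf_eq, hz']) hz'
    rw [hzdef]
    exact congrArg Subtype.val this
  set Z := zpowers z with hZ
  have hZ2 : Nat.card Z = 2 := by rw [hZ, Nat.card_zpowers, hz]
  have hZfx : ∀ e : E, Z ≤ fx e := fun e => zpowers_le.mpr (hzfix e)
  have hirr : ∀ e, good e → ∀ K : Subgroup W, Inv E K → Z ≤ K → K ≤ fx e →
      K ≤ Z ∨ fx (e : MulAut W) ≤ K := by
    intro e he K hK hZK hKe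
    have hd : Nat.card K ∣ 2 ^ 3 := by
      have := Subgroup.card_dvd_of_le hKe
      rwa [h8 e he] at this
    obtain ⟨i, hi, hi'⟩ := (Nat.dvd_prime_pow Nat.prime_two).mp hd
    have h2 := Subgroup.card_le_of_le hZK
    interval_cases i
    · omega
    · left
      exact (Subgroup.eq_of_le_of_card_ge hZK (by omega)).ge
    · exfalso
      obtain ⟨f, hf⟩ := he.2
      have hKf : K ≤ fx f := by
        by_contra h
        have := card_of_quaternion_two (hQ e he.1 K hK hKe f h).some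
        omega
      have hidx : (K.subgroupOf (fx (e : MulAut W))).index = 2 := by
        have := card_eq_relIndex_mul_card hKe
        rw [h8 e he, hi'] at this
        change K.relIndex _ = 2
        omega
      refine hf ((res_eq_one_iff (inv_fx hab e) f).mp (aut_eq_one_of_fix_index_le_two
        (hW.to_subgroup _) (hodd _ f) (K.subgroupOf _) (fun g h hg hh => ?_)
        (fun b hb => Subtype.ext (hKf hb))))
      exact (Subgroup.mul_mem_iff_of_index_two hidx).mpr
        ⟨fun h' => absurd (inv_mem_iff.mp h') hg, fun h' => absurd h' hh⟩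
    · right
      exact (Subgroup.eq_of_le_of_card_ge hKe (by rw [h8 e he]; omega)).ge
  -- common fixed points
  set C : Subgroup W := ⨅ e : E, fx (e : MulAut W) with hC
  have hCZ : C ≤ Z := by
    refine (hirr e₀ he₀ C (fun e x hx => ?_) (le_iInf hZfx) (iInf_le _ e₀)).resolve_right ?_
    · have : e • x = x := (mem_iInf.mp hx e : _)
      rwa [this]
    · obtain ⟨f, hf⟩ := he₀.2
      exact fun h => hf (h.trans (iInf_le _ f))
  have hbad : ∀ e : E, e ≠ 1 → ¬ good e → fx (e : MulAut W) ≤ Z := by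
    intro e he hg
    refine le_trans (le_iInf fun f => ?_) hCZ
    by_contra h
    exact hg ⟨he, f, h⟩
  have hle8 : ∀ e : E, e ≠ 1 → Nat.card (fx (e : MulAut W)) ≤ 8 := by
    intro e he
    by_cases hg : good e
    · exact (h8 e hg).le
    · have := Subgroup.card_le_of_le (hbad e he hg); omega
  have hzc : z ∈ center W := by
    have : (⊤ : Subgroup W) ≤ centralizer {z} := hgen _ _ hinvtop fun e he x hx => by
      rw [mem_centralizer_singleton_iff]
      have := hfix e e.2 (fun h => he (Subtype.ext h)) (x * z * x⁻¹) z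
        (by rw [← hz]; exact (MulAut.conj x).orderOf_eq z) hz
        ((fx (e : MulAut W)).mul_mem ((fx (e : MulAut W)).mul_mem hx.2 (hzfix e))
          ((fx (e : MulAut W)).inv_mem hx.2)) (hzfix e)
      exact mul_inv_eq_iff_eq_mul.mp this
    exact mem_center_iff.mpr fun g => mem_centralizer_singleton_iff.mp (this (mem_top g))
  have hZc : Z ≤ center W := zpowers_le.mpr hzc
  have hZn : Z.Normal := ⟨fun n hn g => by
    rw [mem_center_iff.mp (hZc hn) g, mul_inv_cancel_right]; exact hn⟩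
  have hZinv : Inv E Z := fun e x hx => by
    have : e • x = x := hZfx e hx
    rwa [this]
  -- second centre
  set Y := Z.upperCentralSeriesStep with hY
  have hYmem : ∀ x, x ∈ Y ↔ ∀ g : W, ⁅x, g⁆ ∈ Z := fun x => by
    rw [hY, Subgroup.mem_upperCentralSeriesStep]
  have hYn : Y.Normal := by
    rw [hY, Subgroup.upperCentralSeriesStep_eq_comap_center]; infer_instance
  have hZY : Z ≤ Y := le_upperCentralSeriesStep Z
  have hYinv : Inv E Y := fun e x hx => (hYmem _).mpr fun g => by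
    have := hZinv e _ ((hYmem x).mp hx (e⁻¹ • g))
    simpa [commutatorElement_def, smul_mul', smul_inv'] using this
  set D := centralizer (Y : Set W) with hD
  have hZD : Z ≤ D := fun x hx y _ => mem_center_iff.mp (hZc hx) y
  have hYD : Y ⊓ D ≤ Z := hgen _ _ (hYinv.inf hYinv.cent) fun e he => by
    by_cases hg : good e
    · refine (hirr e hg _ ((hYinv.inf hYinv.cent).inf (inv_fx hab e))
        (le_inf (le_inf hZY hZD) (hZfx e)) inf_le_right).resolve_right fun h => hnab e hg ?_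
      intro x hx y hy
      exact (h hy).1.2 x (h hx).1.1
    · exact inf_le_right.trans (hbad e he hg)
  have hDZ : D ≤ Z := by
    by_contra h
    obtain ⟨x, hx, hxZ, -, hxc⟩ := exists_central_mod_of_not_le hW h
    exact hxZ (hYD ⟨(hYmem x).mpr hxc, hx⟩)
  have hWna : ¬ IsMulCommutative W := fun h => hnab e₀ he₀ fun x _ y _ => mul_comm' x y
  have hYna : ¬ IsMulCommutative Y := by
    intro h
    have h1 : Y ≤ Z := fun x hx => hYD ⟨hx, fun y hy =>
      congrArg Subtype.val (mul_comm' (⟨y, hy⟩ : Y) ⟨x, hx⟩)⟩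
    have h2 : (⊤ : Subgroup W) ≤ center W := fun x _ =>
      hZc (hDZ fun y hy => (mem_center_iff.mp (hZc (h1 hy)) x).symm)
    exact hWna ⟨⟨fun a b => mem_center_iff.mp (h2 (mem_top b)) a⟩⟩
  have hYDeq : Y ⊓ D = Z := le_antisymm hYD (le_inf hZY hZD)
  have hYx : IsExtraspecial 2 Y := isExtraspecial_subgroup_of (hW.to_subgroup Y)
    (by rw [hYDeq, hZ2]) (commutator_le.mpr fun a ha b _ => hZD ((hYmem a).mp ha b)) hYna
  have hYtop : ∀ g : W, g ∈ Y := fun g => by
    have := extra_mem_sup_centralizer hYx (g := g) (fun x hx => by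
      rw [hYDeq, ← inv_mem_iff, commutatorElement_inv]
      exact (hYmem x).mp hx g)
    rwa [sup_eq_left.mpr (hDZ.trans hZY)] at this
  have hcen : center W = Z := le_antisymm
    (fun x hx => hDZ fun y _ => mem_center_iff.mp hx y) hZc
  have hWx : IsExtraspecial 2 W := isExtraspecial_of_center (by rw [hcen, hZ2])
    (commutator_le.mpr fun a _ b _ => hZc ((hYmem a).mp (hYtop a) b)) hWna hW
  -- the order of `E`
  have hker : ∀ e, good e → (res (inv_fx hab e)).ker.index = 3 := by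
    intro e he
    rw [Subgroup.index_ker]
    have h1 : Nat.card (res (inv_fx hab e)).range ∣ 24 :=
      card_mulAut_of_quaternion (hQe e he).some ▸ Subgroup.card_subgroup_dvd_card _
    obtain ⟨k, hk⟩ := (hE.of_surjective _ (res (inv_fx hab e)).rangeRestrict_surjective).exists_card_eq
    have h2 : Odd (Nat.card (res (inv_fx hab e)).range) := hk ▸ (hpp.odd_of_ne_two hp).pow
    have h3 : Nat.card (res (inv_fx hab e)).range ≠ 1 := by
      intro h
      obtain ⟨f, hf⟩ := he.2
      rw [Subgroup.card_eq_one] at h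
      have h5 : res (inv_fx hab e) f ∈ (res (inv_fx hab e)).range := ⟨f, rfl⟩
      rw [h] at h5
      exact hf ((res_eq_one_iff _ f).mp h5)
    exact odd24 h1 h2 h3
  set K₀ := (res (inv_fx hab e₀)).ker with hK₀
  set K₁ := (res (inv_fx hab e₁)).ker with hK₁
  have hmemK : ∀ e f : E, f ∈ (res (inv_fx hab e)).ker ↔ fx (e : MulAut W) ≤ fx f :=
    fun e f => res_eq_one_iff _ f
  have hK01 : K₀ ⊓ K₁ = ⊥ := by
    rw [eq_bot_iff]
    intro f hf
    by_contra hf1
    have h0 := Subgroup.eq_of_le_of_card_ge ((hmemK e₀ f).mp hf.1)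
      (by rw [h8 e₀ he₀]; exact hle8 f hf1)
    exact hne (((hmemK e₁ f).mp hf.2).trans h0.ge)
  have hE9 : Nat.card E = 9 := by
    have h1 := Subgroup.index_inf_le (H := K₀) (K := K₁)
    rw [hK01, Subgroup.index_bot, hker e₀ he₀, hker e₁ he₁] at h1
    have h2 : 3 ∣ Nat.card E := hker e₀ he₀ ▸ Subgroup.index_dvd_card K₀
    obtain ⟨k, hk⟩ := hE.exists_card_eq
    have h3 : Odd (Nat.card E) := hk ▸ (hpp.odd_of_ne_two hp).pow
    have h4 : Nat.card E ≠ 3 := fun h => hnc (isCyclic_of_prime_card (p := 3) h)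
    have h5 : 0 < Nat.card E := Nat.card_pos
    obtain ⟨j, hj⟩ := h3
    omega
  have hK3 : ∀ e, good e → (res (inv_fx hab e)).ker = zpowers e ∧ orderOf e = 3 := by
    intro e he
    have h1 := (res (inv_fx hab e)).ker.index_mul_card
    rw [hker e he, hE9] at h1
    have h2 : zpowers e ≤ (res (inv_fx hab e)).ker := zpowers_le.mpr ((hmemK e e).mpr le_rfl)
    have h3 : Nat.card (zpowers e) ∣ 3 := by
      have := Subgroup.card_dvd_of_le h2
      rwa [show Nat.card (res (inv_fx hab e)).ker = 3 by omega] at this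
    have h4 : Nat.card (zpowers e) = 3 := by
      refine ((Nat.dvd_prime Nat.prime_three).mp h3).resolve_left fun h => he.1 ?_
      rwa [Nat.card_zpowers, orderOf_eq_one_iff] at h
    exact ⟨(Subgroup.eq_of_le_of_card_ge h2 (by omega)).symm, by rwa [← Nat.card_zpowers]⟩
  have hz3 : ∀ e : E, orderOf e = 3 → ∀ f ∈ zpowers e, f = 1 ∨ f = e ∨ f = e⁻¹ := by
    intro e he f hf
    have h3 : e ^ 3 = 1 := he ▸ pow_orderOf_eq_one e
    rw [mem_zpowers_iff_mem_range_orderOf, he] at hf
    obtain ⟨i, hi, rfl⟩ := Finset.mem_image.mp hf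
    have := Finset.mem_range.mp hi
    interval_cases i
    · left; simp
    · right; left; simp
    · right; right
      rw [eq_inv_iff_mul_eq_one, ← pow_succ, h3]
  have hsup : K₀ ⊔ K₁ = ⊤ := by
    refine (isCoatom_of_index_prime (by rw [hker e₀ he₀]; norm_num)).2 _ (left_lt_sup.mpr fun h => ?_)
    have h1 : e₁ ∈ K₀ ⊓ K₁ := ⟨h ((hmemK e₁ e₁).mpr le_rfl), (hmemK e₁ e₁).mpr le_rfl⟩
    rw [hK01] at h1
    exact he₁.1 h1
  have hfxinv : ∀ e : E, fx ((e⁻¹ : E) : MulAut W) ≤ fx e := fun e x hx => by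
    have h1 : (e : MulAut W)⁻¹ x = x := hx
    have h2 := congrArg (e : MulAut W) h1
    rw [MulAut.apply_inv_self] at h2
    exact h2.symm
  have hn01 : ∀ a ∈ K₀, ∀ b ∈ K₁, a * b = 1 → a = 1 := by
    intro a ha b hb h
    have : a ∈ K₀ ⊓ K₁ := ⟨ha, by rw [eq_inv_of_mul_eq_one_left h]; exact K₁.inv_mem hb⟩
    rwa [hK01] at this
  have he₀K : e₀ ∈ K₀ := (hmemK e₀ e₀).mpr le_rfl
  have he₁K : e₁ ∈ K₁ := (hmemK e₁ e₁).mpr le_rfl
  have hnorm : ∀ e : E, (fx (e : MulAut W)).Normal := fun e =>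
    extra_normal_of_center_le hWx (hcen ▸ hZfx e)
  have hbig : Nat.card W ≤ 512 := by
    have htop : (⊤ : Subgroup W) ≤ fx (e₀ : MulAut W) ⊔ fx (e₁ : MulAut W) ⊔
        fx ((e₀ * e₁ : E) : MulAut W) ⊔ fx ((e₀ * e₁⁻¹ : E) : MulAut W) := by
      refine hgen _ _ hinvtop fun e he => inf_le_right.trans ?_
      have : e ∈ K₀ ⊔ K₁ := hsup ▸ mem_top e
      obtain ⟨a, ha, b, hb, rfl⟩ := Subgroup.mem_sup_of_normal_left.mp this
      rw [hK₀, (hK3 e₀ he₀).1] at ha
      rw [hK₁, (hK3 e₁ he₁).1] at hb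
      have l0 : fx (e₀ : MulAut W) ≤ fx (e₀ : MulAut W) ⊔ fx (e₁ : MulAut W) ⊔
        fx ((e₀ * e₁ : E) : MulAut W) ⊔ fx ((e₀ * e₁⁻¹ : E) : MulAut W) :=
          le_sup_left.trans (le_sup_left.trans le_sup_left)
      have l1 : fx (e₁ : MulAut W) ≤ fx (e₀ : MulAut W) ⊔ fx (e₁ : MulAut W) ⊔
        fx ((e₀ * e₁ : E) : MulAut W) ⊔ fx ((e₀ * e₁⁻¹ : E) : MulAut W) :=
          le_sup_right.trans (le_sup_left.trans le_sup_left)
      have l2 : fx ((e₀ * e₁ : E) : MulAut W) ≤ fx (e₀ : MulAut W) ⊔ fx (e₁ : MulAut W) ⊔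
        fx ((e₀ * e₁ : E) : MulAut W) ⊔ fx ((e₀ * e₁⁻¹ : E) : MulAut W) :=
          le_sup_right.trans le_sup_left
      have l3 : fx ((e₀ * e₁⁻¹ : E) : MulAut W) ≤ fx (e₀ : MulAut W) ⊔ fx (e₁ : MulAut W) ⊔
        fx ((e₀ * e₁ : E) : MulAut W) ⊔ fx ((e₀ * e₁⁻¹ : E) : MulAut W) := le_sup_right
      rcases hz3 e₀ (hK3 e₀ he₀).2 a ha with rfl | rfl | rfl <;>
        rcases hz3 e₁ (hK3 e₁ he₁).2 b hb with rfl | rfl | rfl
      · exact absurd (one_mul 1) he
      · rw [one_mul]; exact l1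
      · rw [one_mul]; exact (hfxinv _).trans l1
      · rw [mul_one]; exact l0
      · exact l2
      · exact l3
      · rw [mul_one]; exact (hfxinv _).trans l0
      · rw [show e₀⁻¹ * b = (e₀ * b⁻¹)⁻¹ by rw [mul_inv_rev, inv_inv, mul_comm']]
        exact (hfxinv _).trans l3
      · rw [show e₀⁻¹ * e₁⁻¹ = (e₀ * e₁)⁻¹ by rw [mul_inv_rev, mul_comm']]
        exact (hfxinv _).trans l2
    have := hnorm e₁
    have := hnorm (e₀ * e₁)
    have := hnorm (e₀ * e₁⁻¹)
    have h1 := card_sup_le (hZfx e₀) (hZfx e₁) hZ2 (h8 e₀ he₀).le (h8 e₁ he₁).le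
    have h2 := card_sup_le ((hZfx e₀).trans le_sup_left) (hZfx (e₀ * e₁)) hZ2 h1
      (hle8 _ fun h => he₀.1 (hn01 _ he₀K _ he₁K h))
    have h3 := card_sup_le ((hZfx e₀).trans (le_sup_left.trans le_sup_left)) (hZfx (e₀ * e₁⁻¹)) hZ2 h2
      (hle8 _ fun h => he₀.1 (hn01 _ he₀K _ (inv_mem he₁K) h))
    have h4 := Subgroup.card_le_of_le htop
    rw [Subgroup.card_top] at h4
    omega
  refine ⟨hE9, hWx, ?_, ?_⟩
  · obtain ⟨n, hn1, hn⟩ := extra_card hWx
    have h2 : n ≠ 1 := by
      rintro rfl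
      refine he₀.1 (hfaith e₀ (Subgroup.eq_top_of_card_eq _ ?_).ge)
      rw [h8 e₀ he₀, hn]; norm_num
    have h3 : 2 * n + 1 ≤ 9 := by
      rw [hn] at hbig
      exact (Nat.pow_le_pow_iff_right (by norm_num : 1 < 2)).mp (hbig.trans (by norm_num))
    have : n = 2 ∨ n = 3 ∨ n = 4 := by omega
    rcases this with rfl | rfl | rfl
    · exact Or.inl hn
    · exact Or.inr (Or.inl hn)
    · exact Or.inr (Or.inr hn)
  · rw [hcen]
    ext x
    exact ⟨fun h => hCZ (mem_iInf.mpr fun e => h e e.2), fun h e he => hZfx ⟨e, he⟩ h⟩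

end Cfsg.Agent.S2934
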