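import Cfsg.Statements.S2963
import Cfsg.Agent.S2245

set_option autoImplicit false
open Cfsg

namespace Cfsg.Agent.S2963

/-- Let n be odd. If the symmetric group of degree n is a minimal parabolic group for the prime 2, that is, a Sylow 2-subgroup is not normal and lies in exactly one maximal subgroup, then n = 2^m + 1 for some natural number m. -/
theorem result (n : ℕ) (hn : Odd n) (h : Cfsg.IsPMinimal 2 (Equiv.Perm (Fin n))) : ∃ m : ℕ, n = 2 ^ m + 1 := by
  by_contra hc
  push Not at hc
  have h5 : 5 ≤ n := by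
    have h1 := hc 0
    have h3 := hc 1
    rcases hn with ⟨j, rfl⟩
    by_contra hlt
    have : j = 0 := by omega
    subst this
    obtain ⟨R⟩ : Nonempty (Sylow 2 (Equiv.Perm (Fin (2 * 0 + 1)))) := inferInstance
    refine (h R).1 ⟨fun a ha g => ?_⟩
    haveI : Subsingleton (Fin (2 * 0 + 1)) := (inferInstance : Subsingleton (Fin 1))
    rwa [Subsingleton.elim (g * a * g⁻¹) a]
  obtain ⟨R⟩ : Nonempty (Sylow 2 (Equiv.Perm (Fin n))) := inferInstance
  obtain ⟨k, -, hk⟩ := ((Cfsg.Agent.S2245.result n h5 (by rintro rfl; revert hn; decide)).2 R).1 (h R).2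
  exact hc k hk

end Cfsg.Agent.S2963
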