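import Cfsg.Statements.S2969
import Cfsg.Agent.Even.Isolated

set_option autoImplicit false
open Cfsg

namespace Cfsg.Agent.S2969

open CL.Even

/-- Let G be a finite group, p a prime and x ∈ G an element of p-power order which is isolated in G. If R is a p-subgroup of G containing x, then N_G(R) ≤ C_G(x); in particular x lies in the centre of R. Moreover, if x lies in a normal subgroup N of a subgroup H of G, then H = N·C_H(x). -/
theorem result {G : Type*} [Group G] [Finite G] {p : ℕ} [Fact p.Prime] (x : G) (hx : ∃ k : ℕ, orderOf x = p ^ k) (hiso : Cfsg.IsIsolated x) : (∀ R : Subgroup G, IsPGroup p ↥R → x ∈ R → Subgroup.normalizer (R : Set G) ≤ Subgroup.centralizer ({x} : Set G)) ∧ (∀ H N : Subgroup G, N ≤ H → H ≤ Subgroup.normalizer (N : Set G) → x ∈ N → N ⊔ (H ⊓ Subgroup.centralizer ({x} : Set G)) = H) := by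
  obtain ⟨k, hk⟩ := hx
  refine ⟨fun R hR hxR => IsIsolated.normalizer_le hiso hR hxR, fun H N hNH hHN hxN => ?_⟩
  refine le_antisymm (sup_le hNH inf_le_left) fun g hg => ?_
  obtain ⟨n, hn, h1⟩ := IsIsolated.exists_mul_mem_centralizer hiso (spe_isPGroup_zpowers hk) hxN
    (hHN hg)
  have := Subgroup.mul_mem_sup (N.inv_mem hn)
    (show n * g ∈ H ⊓ Subgroup.centralizer ({x} : Set G) from ⟨H.mul_mem (hNH hn) hg, h1⟩)
  simpa using this

end Cfsg.Agent.S2969
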