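import Cfsg.Statements.S3038
import Cfsg.Agent.S3049
import Cfsg.Agent.Loc.IsoRk2c
import Cfsg.Agent.Inv.Small1

set_option autoImplicit false
open Cfsg

namespace Cfsg.Agent.S3038

/-- Let G be a finite group and p an odd prime with O_{p'}(G) = 1. Suppose that G has p-rank at most 2 and that some element x of order p is isolated in G and not central. Then F*(G) is a non-abelian simple group, and for every Sylow p-subgroup P of F*(G), either no conjugate of x lies in P and P is cyclic, or some conjugate of x lies in P and either P is extraspecial of order p³ and exponent p, or p = 3 and P has order 3^{2k+1} for some k ≥ 2 and is of maximal class (nilpotency class 2k). Since O_{p'}(G) = 1, such an x is not central modulo O_{p'}(G): the hypotheses describe a counterexample to the Z*_p statement in p-rank at most 2, and the conclusion records the structure it would have. -/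
theorem result {G : Type*} [Group G] [Finite G] {p : ℕ} [Fact p.Prime] (hp : p ≠ 2) (hcore : Cfsg.pPrimeCore p G = ⊥)
    (hrank : Cfsg.PRankLE p 2 G) (x : G) (hx : orderOf x = p) (hiso : Cfsg.IsIsolated x) (hnc : x ∉ Subgroup.center G) :
    IsSimpleGroup ↥(Cfsg.generalizedFittingSubgroup G) ∧ ¬ IsMulCommutative ↥(Cfsg.generalizedFittingSubgroup G) ∧
    ∀ P : Sylow p ↥(Cfsg.generalizedFittingSubgroup G),
      ((∀ g : G, g * x * g⁻¹ ∉ ((P : Subgroup ↥(Cfsg.generalizedFittingSubgroup G)).map (Cfsg.generalizedFittingSubgroup G).subtype)) ∧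
          IsCyclic ↥(P : Subgroup ↥(Cfsg.generalizedFittingSubgroup G))) ∨
      ((∃ g : G, g * x * g⁻¹ ∈ ((P : Subgroup ↥(Cfsg.generalizedFittingSubgroup G)).map (Cfsg.generalizedFittingSubgroup G).subtype)) ∧
        ((Cfsg.IsExtraspecial p ↥(P : Subgroup ↥(Cfsg.generalizedFittingSubgroup G)) ∧
            Nat.card (P : Subgroup ↥(Cfsg.generalizedFittingSubgroup G)) = p ^ 3 ∧
            ∀ y ∈ (P : Subgroup ↥(Cfsg.generalizedFittingSubgroup G)), y ^ p = 1) ∨
         (p = 3 ∧ ∃ k : ℕ, 2 ≤ k ∧ Nat.card (P : Subgroup ↥(Cfsg.generalizedFittingSubgroup G)) = 3 ^ (2 * k + 1) ∧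
            ∃ _ : Group.IsNilpotent ↥(P : Subgroup ↥(Cfsg.generalizedFittingSubgroup G)),
              Group.nilpotencyClass ↥(P : Subgroup ↥(Cfsg.generalizedFittingSubgroup G)) = 2 * k))) := by
  obtain ⟨hs, hna⟩ := Cfsg.Agent.S3049.result hp hcore hrank x hx hiso hnc
  refine ⟨hs, hna, fun P => ?_⟩
  have hP : IsPGroup p ((P : Subgroup _).map (generalizedFittingSubgroup G).subtype) := P.isPGroup'.map _
  have oc : ∀ g : G, orderOf (g * x * g⁻¹) = p := fun g => ((MulAut.conj g).orderOf_eq x).trans hx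
  by_cases h : ∃ g : G, g * x * g⁻¹ ∈ (P : Subgroup _).map (generalizedFittingSubgroup G).subtype
  · refine Or.inr ⟨h, ?_⟩
    obtain ⟨g, y, hy, e⟩ := h
    have o : orderOf y = p := ((Subgroup.orderOf_coe y).symm.trans (congrArg orderOf e)).trans (oc g)
    have i : IsIsolated y := CL.Even.IsIsolated.subgroup
      (show IsIsolated (y : G) from (show (y : G) = _ from e) ▸ CL.Even.IsIsolated.conj hiso g) y.2
    exact CL.IsoRk2.main P hp (CL.Inv.commutator_eq_top_of_simple hna) (CL.Odd.pRankLE_subgroup hrank _) hy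
      (fun k => (Fact.out : p.Prime).ne_one (by rw [← o, k, orderOf_one])) (o ▸ pow_orderOf_eq_one y)
      (CL.Even.IsIsolated.normalizer_le i P.isPGroup' hy)
  push Not at h
  refine Or.inl ⟨h, (CL.Odd.isCyclic_iff_pRankLE_one hp P.isPGroup').2 fun A a1 a2 => by_contra fun k => ?_⟩
  obtain ⟨Q, hQ⟩ := hP.exists_le_sylow
  have hz : IsPGroup p (Subgroup.zpowers x) := .of_card (n := 1) (by rw [Nat.card_zpowers, hx, pow_one])
  obtain ⟨R, hR⟩ := hz.exists_le_sylow
  obtain ⟨g, rfl⟩ := MulAction.exists_smul_eq G R Q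
  have m : g * x * g⁻¹ ∈ ((g • R : Sylow p G) : Subgroup G) :=
    Subgroup.smul_mem_pointwise_smul x (MulAut.conj g) _ (hR (Subgroup.mem_zpowers x))
  have c := CL.Even.IsIsolated.le_centralizer (CL.Even.IsIsolated.conj hiso g) (g • R).isPGroup' m
  have ea := CL.Loc.ea_map (CL.Loc.ea_map (V := A) ⟨a1, a2⟩ P.toSubgroup.subtype)
    (generalizedFittingSubgroup G).subtype
  have l := Subgroup.map_mono (f := (generalizedFittingSubgroup G).subtype) (Subgroup.map_subtype_le A)
  refine h g (l (CL.Even.mem_of_pRankLE hrank ea ?_ (oc g ▸ pow_orderOf_eq_one _) fun a ha =>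
    Subgroup.mem_centralizer_singleton_iff.1 (c (hQ (l ha)))))
  obtain ⟨j, hj⟩ := CL.Loc.ea_card_eq_pow (V := A) ⟨a1, a2⟩
  rw [Subgroup.card_map_of_injective (Subgroup.subtype_injective _),
    Subgroup.card_map_of_injective (Subgroup.subtype_injective _), hj]
  rw [hj, Nat.pow_le_pow_iff_right (Fact.out : p.Prime).one_lt] at k
  exact Nat.pow_le_pow_right (Fact.out : p.Prime).pos (by omega)

end Cfsg.Agent.S3038
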