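import Cfsg.Statements.S3192
import Cfsg.Agent.Cit.Ito8

set_option autoImplicit false
open Cfsg

namespace Cfsg.Agent.S3192

open CL.Cit

/-- Simple groups of conjugate type rank three. For a finite group G consider the set of indices of the centralizers of the non-central elements of G. Then G is a non-abelian simple group for which this set has exactly three members if and only if G is isomorphic to PSL(2, 2^m) for some m ≥ 2. -/
theorem result (G : Type*) [Group G] [Finite G] :
    (IsSimpleGroup G ∧ ¬ IsMulCommutative G ∧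
        Set.ncard {m : ℕ | ∃ x : G, x ∉ Subgroup.center G ∧ m = (Subgroup.centralizer ({x} : Set G)).index} = 3) ↔
      ∃ (m : ℕ) (F : Type) (_ : Field F) (_ : Fintype F), 2 ≤ m ∧ Fintype.card F = 2 ^ m ∧
        Nonempty (G ≃* Matrix.ProjectiveSpecialLinearGroup (Fin 2) F) := by
  classical
  constructor
  · rintro ⟨h1, h2, h3⟩
    obtain ⟨n, hn, e⟩ := psl_of_abCent (abCent_of_rank_three (ito_center_eq_bot h2)
      (ito_not_solvable h2) (by rw [ito_rankSet_eq']; exact h3.le)) (ito_center_eq_bot h2) (ito_not_solvable h2)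
    letI := Fintype.ofFinite (GaloisField 2 n)
    exact ⟨n, GaloisField 2 n, inferInstance, inferInstance, hn, card_galoisField n (by omega), e⟩
  rintro ⟨m, F, _, _, hm, hF, ⟨e⟩⟩
  have h4 : 4 ≤ Fintype.card F := hF ▸ Nat.pow_le_pow_right two_pos hm
  have h2 : (2 : F) = 0 := by
    have := FiniteField.cast_card_eq_zero F
    rw [hF, Nat.cast_pow] at this
    exact pow_eq_zero_iff (by omega) |>.1 this
  obtain ⟨h5, h6⟩ := ito_simple_of_equiv h4 e
  refine ⟨h5, h6, ?_⟩
  rw [ito_rankSet_eq, ito_range_cs_equiv e, CL.GL2.classSizes_PSL2_even h2 h4]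
  generalize Fintype.card F = q at h4
  obtain ⟨a, rfl⟩ := Nat.exists_eq_add_of_le' h4
  have e1 : (a + 4) ^ 2 - 1 = a * a + 8 * a + 15 := by
    rw [Nat.sub_eq_of_eq_add]; ring
  have e2 : (a + 4) * (a + 4 - 1) = a * a + 7 * a + 12 := by
    rw [show a + 4 - 1 = a + 3 from rfl]; ring
  have e3 : (a + 4) * (a + 4 + 1) = a * a + 9 * a + 20 := by ring
  rw [e1, e2, e3, Set.insert_sdiff_self_of_notMem (by simp)]
  exact Set.ncard_eq_three.2 ⟨_, _, _, by omega, by omega, by omega, rfl⟩

end Cfsg.Agent.S3192
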