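import Cfsg.Statements.S3222
import Cfsg.Agent.Inv.Z2S4
import Cfsg.Agent.Known.AltMisc

set_option autoImplicit false
open Cfsg

namespace Cfsg.Agent.S3222

/-- Let G be a finite group of even order such that (1) some involution t lying in the centre of a Sylow 2-subgroup of G has C_G(t) ≅ Z₂ × S₄, and (2) every Sylow 2-subgroup S of G satisfies C_G(S′) = S, where S′ is the derived subgroup of S. Then G = C_G(t) if G is solvable, and G ≅ S₆ otherwise. -/
theorem result {G : Type*} [Group G] [Finite G] (hev : Even (Nat.card G))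
    (t : G) (ht : orderOf t = 2) (T : Sylow 2 G) (htT : t ∈ (T : Subgroup G)) (htc : ∀ s ∈ (T : Subgroup G), s * t = t * s)
    (e : ↥(Subgroup.centralizer ({t} : Set G)) ≃* (Multiplicative (ZMod 2) × Equiv.Perm (Fin 4)))
    (h2 : ∀ S : Sylow 2 G, Subgroup.centralizer ((⁅(S : Subgroup G), (S : Subgroup G)⁆ : Subgroup G) : Set G) = (S : Subgroup G)) :
    (Group.IsSolvable G → Subgroup.centralizer ({t} : Set G) = ⊤) ∧
      (¬ Group.IsSolvable G → Nonempty (G ≃* Equiv.Perm (Fin 6))) := by
  open CL.Inv.Z2S4 CL.Grp Subgroup in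
  let ψ : M →* G := (centralizer ({t} : Set G)).subtype.comp e.symm.toMonoidHom
  have hi : Function.Injective ψ := (subtype_injective _).comp e.symm.injective
  have hr : ψ.range = centralizer ({t} : Set G) := by
    rw [MonoidHom.range_comp, MonoidHom.range_eq_top.2 e.symm.surjective, ← MonoidHom.range_eq_map, range_subtype]
  have hc : ∀ m : M, ψ m * t = t * ψ m := fun m => mem_centralizer_singleton_iff.1 (hr.le ⟨m, rfl⟩)
  have h1 : ψ t1 = t := by
    obtain ⟨m, hm⟩ := hr.ge (mem_centralizer_singleton_iff.2 (rfl : t * t = t * t))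
    have h3 : ∀ σ, m.2 * σ = σ * m.2 := fun σ => by
      have := hc (1, σ)
      rw [← hm, ← map_mul, ← map_mul] at this
      exact (congrArg Prod.snd (hi this)).symm
    rcases f_cent m (h3 _) (h3 _) (h3 _) with rfl | rfl
    · rw [← hm, map_one, orderOf_one] at ht; omega
    · exact hm
  have hT : (T : Subgroup G) ≤ ψ.range := fun s hs => hr.ge (mem_centralizer_singleton_iff.2 (htc s hs))
  have h48 : Nat.card ψ.range = 48 := by
    rw [← f_cardM]; exact (Nat.card_congr (MonoidHom.ofInjective hi).toEquiv).symm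
  have h16 : Nat.card ((centralizer ({z1} : Set M)).map ψ) = 2 ^ 4 := by
    rw [← Nat.card_congr (equivMapOfInjective _ ψ hi).toEquiv, f_card]; rfl
  obtain ⟨P, hP⟩ := isSylowIn_top_iff.1 ((isSylowIn_top T).of_card_le (IsPGroup.of_card h16) le_top (by
    obtain ⟨k, hk⟩ := T.2.exists_card_eq
    have h3 := card_dvd_of_le hT
    rw [h16, hk]
    rw [hk, h48] at h3
    refine Nat.pow_le_pow_right (by norm_num) (not_lt.1 fun h4 => ?_)
    exact absurd ((pow_dvd_pow 2 h4).trans h3) (by decide)))
  have H : Hyp ψ := ⟨hi, fun g hg => hr.ge (mem_centralizer_singleton_iff.2 (h1 ▸ hg)),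
    Nat.odd_iff.2 (Nat.two_dvd_ne_zero.1 fun h => T.not_dvd_index (h.trans (index_dvd_of_le hT))), hP ▸ h2 P⟩
  rcases H.main with h | ⟨⟨f⟩⟩
  · refine ⟨fun _ => hr ▸ h, fun h3 => absurd ?_ h3⟩
    have := CL.Known.isSolvable_perm_fin_four
    exact Group.isSolvable_of_surjective (MonoidHom.range_eq_top.1 h)
  · refine ⟨fun h3 => absurd (Group.isSolvable_of_surjective (f := f.toMonoidHom) f.surjective) ?_, fun _ => ⟨f⟩⟩
    exact Equiv.Perm.not_isSolvable _ (by simp; norm_num)

end Cfsg.Agent.S3222
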