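import Cfsg.Statements.S3341
import Cfsg.Agent.Perm.Nine3

set_option autoImplicit false
open Cfsg

namespace Cfsg.Agent.S3341

/-- Let G be a finite simple group whose Sylow 3-subgroup S is elementary abelian of order 9, such that G has more than one conjugacy class of elements of order 3 and C_G(s) = S for every non-identity s in S. Then G is isomorphic to the alternating group of degree 6. -/
theorem result {G : Type*} [Group G] [Finite G] [IsSimpleGroup G]
    (P : Sylow 3 G) (S : Subgroup G) (hSP : S = P) (hcomm : IsMulCommutative S) (hexp : ∀ a ∈ S, a ^ 3 = 1)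
    (hcard : Nat.card S = 9)
    (hclasses : ∃ a b : G, orderOf a = 3 ∧ orderOf b = 3 ∧ ∀ g : G, g * a * g⁻¹ ≠ b)
    (hcent : ∀ s ∈ S, s ≠ 1 → Subgroup.centralizer ({s} : Set G) = S) :
    Nonempty (G ≃* alternatingGroup (Fin 6)) := by
  have hS : CL.Grp.IsSylowIn 3 S ⊤ := hSP ▸ CL.Grp.isSylowIn_top P
  obtain ⟨⟨s, hs⟩, hs1⟩ := Subgroup.ne_bot_iff_exists_ne_one.1 ((Subgroup.one_lt_card_iff_ne_bot S).1 (by omega))
  have h : CL.Perm.Fr9 S := ⟨CL.Perm.SC9.of_loc hS hcard hexp
    (fun c hc => hcent s hs (by simpa using hs1) ▸ Subgroup.mem_centralizer_singleton_iff.2 (hc s hs).symm)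
    fun s hs h1 => (hcent s hs h1).le.trans Subgroup.le_normalizer, fun s hs h1 => (hcent s hs h1).le⟩
  obtain ⟨a, b, ha, hb, hab⟩ := hclasses
  obtain ⟨x, hx, hax⟩ := h.exists_conj_mem (ha ▸ pow_orderOf_eq_one a)
  obtain ⟨y, hy, hby⟩ := h.exists_conj_mem (hb ▸ pow_orderOf_eq_one b)
  refine (h.normal_or_alt hx (fun e => ?_) hy (fun e => ?_) fun e => ?_).resolve_left fun hn => ?_
  · simp [isConj_one_left.1 (e ▸ hax)] at ha
  · simp [isConj_one_left.1 (e ▸ hby)] at hb
  · obtain ⟨g, hg⟩ := isConj_iff.1 (hax.trans (e.trans hby.symm))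
    exact hab g hg
  · rcases hn.eq_bot_or_eq_top with e | e
    · simp [e] at hcard
    · let _ : CommGroup G := ⟨fun a b => h.comm a (e ▸ Subgroup.mem_top a) b (e ▸ Subgroup.mem_top b)⟩
      rw [e, Subgroup.card_top] at hcard
      exact absurd (hcard ▸ IsSimpleGroup.prime_card (α := G)) (by norm_num)

end Cfsg.Agent.S3341
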