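import Cfsg.Statements.S3253
import Cfsg.Agent.T3.Asm
import Cfsg.Agent.T3.Loc
import Cfsg.Agent.T3.Bs
import Cfsg.Agent.T3.Gen
import Cfsg.Agent.T3.L3
import Cfsg.Agent.T3.FL2
import Cfsg.Agent.T3.FU3
import Cfsg.Agent.T3.K1
import Cfsg.Agent.T3.F14
import Cfsg.Agent.T3.X32
import Cfsg.Agent.T3.A6
import Cfsg.Agent.T3.G0
import Cfsg.Agent.T3.G1
import Cfsg.Agent.T3.H
import Cfsg.Agent.T3.Rd
import Cfsg.Agent.T3.Mb
import Cfsg.Agent.T3.Q8
import Cfsg.Agent.T3.Q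
import Cfsg.Agent.T3.Deg
import Cfsg.Agent.T3.Gr
import Cfsg.Agent.T3.A1
import Cfsg.Agent.T3.A0
import Cfsg.Agent.T3.Aw
import Cfsg.Agent.T3.Ae
import Cfsg.Agent.T3.A2
import Cfsg.Agent.T3.A3
import Cfsg.Agent.T3.A4b
import Cfsg.Agent.T3.A4c
import Cfsg.Agent.T3.B1
import Cfsg.Agent.T3.B2
import Cfsg.Agent.T3.Bn
import Cfsg.Agent.T3.Bc1
import Cfsg.Agent.T3.C1
import Cfsg.Agent.T3.C2
import Cfsg.Agent.T3.C3
import Cfsg.Agent.T3.D2

set_option autoImplicit false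
open Cfsg

namespace Cfsg.Agent.S3253

universe u

open CL.T3 in
theorem steps : CL.T3.Steps.{u} where
  loc := locS
  bs := bsS
  f1 := f1S locS fl2S fl3S fu3S
  k1 := k1S fl2S fl3S fu3S
  f14 := f14S
  f15 := f15S
  rd := rdS szS
  con := conS
  q := qS (mbS mb1S (f1S locS fl2S fl3S fu3S))
  ra1 := ra1S (gS (g1S g0S))
  a1 := a1S genS (cvS genS)
  a0 := a0S a6S
  aw := awS
  a2 := a2S aeS
  a3 := a3S aeS odS rkS
  a4a := a4aS
  a4c := a4cS ft3S
  a4d := a4dS a4bS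
  b1 := b1S genS (cvS genS)
  b2 := b2S
  b3 := b3S odS rkS
  bn := bnS genS (l3S genS) hS
  b4 := b4S
  bc1 := bc1S x32S
  bc2 := bc2S
  c1 := c1S genS (cvS genS)
  c2 := c2S genS (l3S genS)
  c3 := c3S
  c4 := c4S hS
  d1 := d1S genS
  d2 := d2S a6S (gS (g1S g0S))
  d3 := d3S l4S q8S
  gr := grS (degS genS (cvS genS))

/-- Let G be a finite non-abelian simple group containing an element of order 3, in which the centralizer of every element of order 3 is isomorphic to Z₃ × Z₃ or to Z₃ × A₄. Then G is isomorphic to A₆, A₇, L₃(4), L₃(7), U₃(5), or the Mathieu group M₂₂. -/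
theorem result {G : Type*} [Group G] [Finite G] [IsSimpleGroup G]
    (hG : ¬ IsMulCommutative G) (h3ex : ∃ s : G, orderOf s = 3)
    (h3 : ∀ s : G, orderOf s = 3 →
      Nonempty (↥(Subgroup.centralizer ({s} : Set G)) ≃* (Multiplicative (ZMod 3) × Multiplicative (ZMod 3))) ∨
      Nonempty (↥(Subgroup.centralizer ({s} : Set G)) ≃* (Multiplicative (ZMod 3) × ↥(alternatingGroup (Fin 4))))) :
    Nonempty (G ≃* ↥(alternatingGroup (Fin 6))) ∨ Nonempty (G ≃* ↥(alternatingGroup (Fin 7))) ∨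
      (∃ (F : Type) (_ : Field F) (_ : Fintype F), (Fintype.card F = 4 ∨ Fintype.card F = 7) ∧
        Nonempty (G ≃* Matrix.ProjectiveSpecialLinearGroup (Fin 3) F)) ∨
      (∃ (F : Type) (_ : Field F) (_ : Fintype F), Fintype.card F = 25 ∧ Nonempty (G ≃* Cfsg.PSU 3 F 5)) ∨
      Cfsg.Spor.IsoM22 G := by
  exact steps.main hG h3ex h3

end Cfsg.Agent.S3253
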