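import Cfsg.Statements.S3257
import Cfsg.Agent.FSet.Fin

set_option autoImplicit false
open Cfsg Subgroup CL.Grp CL.Even CL.FSet

namespace Cfsg.Agent.S3257

/-- Let p be an odd prime and G a finite non-abelian group generated by a G-invariant set D of subgroups of order p such that any two distinct members of D generate a subgroup isomorphic to one fixed group of odd order. Then G/Z(G) is a Frobenius group of odd order. -/
theorem result {G : Type*} [Group G] [Finite G] (hG : ¬ IsMulCommutative G)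
    (p : ℕ) (hp : p.Prime) (hp2 : p ≠ 2) (D : Set (Subgroup G)) (hDp : ∀ A ∈ D, Nat.card ↥A = p)
    (hDinv : ∀ A ∈ D, ∀ g : G, A.map (MulAut.conj g).toMonoidHom ∈ D) (hDgen : sSup D = ⊤)
    {F : Type*} [Group F] [Finite F] (hF : Odd (Nat.card F)) (hpair : ∀ A ∈ D, ∀ B ∈ D, A ≠ B → Nonempty (↥(A ⊔ B) ≃* F)) :
    Odd (Nat.card (G ⧸ Subgroup.center G)) ∧ ∃ H : Subgroup (G ⧸ Subgroup.center G), Cfsg.IsFrobeniusComplement H := by
  have com : ¬ ∀ C ∈ D, ∀ E ∈ D, C ≠ E → C ≤ 𝒞(E) := fun k => hG ⟨⟨fun a b =>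
    have : sSup D ≤ 𝒞(sSup D) := sSup_le fun C hC => le_cent_sSup fun E hE => by
      by_cases j : C = E
      · exact j ▸ pr_comm hp (hDp C hC)
      · exact k C hC E hE j
    this (hDgen.ge (mem_top b)) a (hDgen.ge (mem_top a))⟩⟩
  have r1 : ∀ A ∈ D, ∀ B ∈ D, A ≠ B → (dr (A ⊔ B) = ⊥ ↔ dr (⊤ : Subgroup F) = ⊥) ∧
      (dr (dr (A ⊔ B)) = ⊥ ↔ dr (dr (⊤ : Subgroup F)) = ⊥) := fun A hA B hB k => by
    obtain ⟨f, hf, e⟩ := rep (hpair A hA B hB k)
    rw [← e, ← map_dr, ← map_dr]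
    exact ⟨map_eq_bot_iff_of_injective _ hf, map_eq_bot_iff_of_injective _ hf⟩
  have h : Pre p (Nat.card F) D := ⟨hp, hp2, hDp, hDinv, hF,
    fun A hA B hB k => let ⟨e⟩ := hpair A hA B hB k; Nat.card_congr e.toEquiv,
    fun A hA B hB k e => com fun C hC E hE j => le_sup_left.trans ((commutator_eq_bot_iff'.1
      ((r1 C hC E hE j).1.2 ((r1 A hA B hB k).1.1 e))).trans (cent_mono le_sup_right)),
    (em (dr (dr (⊤ : Subgroup F)) = ⊥)).imp (fun e A hA B hB k => (r1 A hA B hB k).2.2 e)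
      fun e A hA B hB k j => e ((r1 A hA B hB k).2.1 j)⟩
  obtain ⟨A, hA, B, hB, k⟩ : ∃ A ∈ D, ∃ B ∈ D, A ≠ B := by
    by_contra! j
    exact com fun C hC E hE k => absurd (j C hC E hE) k
  obtain ⟨q, h'⟩ := h.hyp hA hB k
  exact h'.frob (top_le_iff.1 (hDgen.ge.trans (sSup_le fun C hC => le_dg hC le_top))) hA hB k

end Cfsg.Agent.S3257
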