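import Cfsg.Statements.S3260
import Cfsg.Agent.QAct.Chief
import Cfsg.Agent.Odd.FT
import Cfsg.Agent.Cls.SLnCard

set_option autoImplicit false
open Cfsg

namespace Cfsg.Agent.S3260

/-- Let p ≥ 5 be a prime, G a finite p-constrained group with Sylow p-subgroup S, and A a group of automorphisms of G of order coprime to |G| whose fixed-point subgroup has no section isomorphic to PSL₂(p). Then G = O_{p'}(G) · N_G(Z(J(S))), where J(S) is the subgroup generated by the abelian subgroups of S of largest order. -/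
theorem result {G : Type*} [Group G] [Finite G] (p : ℕ) [hp : Fact p.Prime] (hp5 : 5 ≤ p)
    (hG : Cfsg.IsPConstrained p G) (S : Sylow p G) (A : Subgroup (MulAut G)) (hA : (Nat.card ↥A).Coprime (Nat.card G))
    (C : Subgroup G) (hC : ∀ g : G, g ∈ C ↔ ∀ a ∈ A, a g = g)
    {F : Type*} [Field F] [Fintype F] (hF : Fintype.card F = p)
    (hfix : ¬ Cfsg.Involves (Matrix.ProjectiveSpecialLinearGroup (Fin 2) F) ↥C) :
    Cfsg.pPrimeCore p G ⊔ Subgroup.normalizer (Cfsg.centerThompsonAOf (S : Subgroup G) : Set G) = ⊤ := by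
  by_cases hd : (Nat.card G).Coprime p
  · rw [CL.Grp.pPrimeCore_eq_top_iff.2 hd, top_sup_eq]
  have hpA : (Nat.card A).Coprime p := hA.coprime_dvd_right (by
    rwa [Nat.coprime_comm, hp.out.coprime_iff_not_dvd, not_not] at hd)
  let f := CL.Grp.sdInl A G
  have hf : Function.Injective f := CL.Grp.sdInl_injective
  have hr : f.range = (SemidirectProduct.rightHom : CL.Grp.actSD A G →* A).ker := SemidirectProduct.range_inl_eq_ker_rightHom
  have : f.range.Normal := hr ▸ inferInstance
  have hi : f.range.index.Coprime p := by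
    rwa [hr, Subgroup.index_ker, MonoidHom.range_eq_top.2 SemidirectProduct.rightHom_surjective, Subgroup.card_top]
  have hs : Group.IsSolvable A ∨ Group.IsSolvable (⊤ : Subgroup G) := by
    by_cases h2 : Odd (Nat.card A)
    · exact Or.inl (CL.Odd.feit_thompson h2)
    · refine Or.inr (CL.Odd.feit_thompson ?_)
      rw [Subgroup.card_top, ← Nat.coprime_two_left]
      exact hA.coprime_dvd_left (Nat.not_odd_iff_even.1 h2).two_dvd
  have h : CL.QAct.OpG p f.range (CL.Grp.sdInr A G).range :=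
    ⟨CL.Grp.range_sdInr_le_normalizer, by rwa [CL.Grp.card_range_sdInr, CL.Grp.card_range_sdInl],
      by rw [MonoidHom.range_eq_map f]; exact CL.Grp.isSolvable_or_sd hs, fun h => hfix (by
        obtain ⟨e⟩ := CL.SLn.nonempty_psl_equiv_of_card_eq (ι := Fin 2) ((ZMod.card p).trans hF.symm)
        have h1 : f.range ⊓ Subgroup.centralizer ((CL.Grp.sdInr A G).range : Set _) = C.map f := by
          rw [MonoidHom.range_eq_map f, ← CL.Grp.map_sdInl_inf_fixedPoints, top_inf_eq]
          congr 1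
          ext g
          rw [hC]
          exact ⟨fun h a ha => h ⟨a, ha⟩, fun h a => h a a.2⟩
        rw [h1] at h
        exact CL.Loc.involves_of_equiv_right (CL.Loc.involves_of_equiv_left h e) (C.equivMapOfInjective f hf).symm)⟩
  have hP : ¬ p ∣ ((S : Subgroup G).map f).index := by
    rw [Subgroup.index_map_of_injective _ hf, hp.out.dvd_mul, not_or]
    exact ⟨S.not_dvd_index, hp.out.coprime_iff_not_dvd.1 hi.symm⟩
  have hn := h.zj hp5 hi (CL.Loc.isPConstrained_of_equiv (MonoidHom.ofInjective hf) hG) ((S.2.map f).toSylow hP)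
  rw [IsPGroup.toSylow_coe, ← CL.Loc.map_centerThompsonOf (CL.Loc.inf_ker_eq_bot_of_injective _ hf)] at hn
  rw [CL.Grp.centerThompsonAOf_eq]
  refine CL.Grp.sup_normalizer_eq_top_of_map_normal (CL.Grp.pPrimeCore_coprime p G)
    (S.2.to_le (CL.Loc.centerThompsonOf_le _)) ⟨?_⟩
  rintro _ ⟨z, hz, rfl⟩ g
  obtain ⟨g, rfl⟩ := QuotientGroup.mk'_surjective _ g
  obtain ⟨_, ⟨y, hy, rfl⟩, e⟩ := hn.conj_mem _ ⟨_, ⟨z, hz, rfl⟩, rfl⟩ (QuotientGroup.mk' _ (f g))
  refine ⟨y, hy, ?_⟩
  simp only [← map_mul, ← map_inv] at e ⊢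
  refine QuotientGroup.eq.2 (CL.Grp.le_pPrimeCore (N := (pPrimeCore p _).comap f)
    ((CL.Grp.pPrimeCore_coprime p _).coprime_dvd_left (Subgroup.card_comap_dvd_of_injective _ _ hf)) ?_)
  have := QuotientGroup.eq.1 e
  rwa [← map_inv, ← map_mul] at this

end Cfsg.Agent.S3260
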