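import Cfsg.Statements.S3329
import Cfsg.Agent.Rec.A8Setup

set_option autoImplicit false
open Cfsg

namespace Cfsg.Agent.S3329

/-- A 3-local characterization of the alternating group of degree 8. Let G be a finite group whose Sylow 3-subgroup D is elementary abelian of order 9, generated by y and z, and suppose: (i) C_G(D) = D and N_G(D)/D is dihedral of order 8; (ii) D is normal in C_G(y), C_G(y) has order 18, D is normal in N_G(⟨y⟩) and N_G(⟨y⟩)/D is elementary abelian of order 4; (iii) C_G(z) is isomorphic to the direct product of a cyclic group of order 3 and the alternating group of degree 5, and N_G(⟨z⟩) is isomorphic to the subgroup of index 2 of Sym(3) × Sym(5) consisting of the pairs of permutations whose signs agree. Then G is isomorphic to the alternating group of degree 8. -/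
theorem result {G : Type*} [Group G] [Finite G]
    (P : Sylow 3 G) (D : Subgroup G) (hDP : D = P) (y z : G) (hgen : Subgroup.closure {y, z} = D)
    (hcomm : IsMulCommutative D) (hcard : Nat.card D = 9) (hexp : ∀ a ∈ D, a ^ 3 = 1)
    (hC : Subgroup.centralizer (D : Set G) = D)
    (eN : Subgroup.normalizer (D : Set G) ⧸ D.subgroupOf (Subgroup.normalizer (D : Set G)) ≃* DihedralGroup 4)
    (hyn : (D.subgroupOf (Subgroup.centralizer ({y} : Set G))).Normal)
    (hycard : Nat.card (Subgroup.centralizer ({y} : Set G)) = 18)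
    (Ny : Subgroup G) (hNy : Ny = Subgroup.normalizer (Subgroup.zpowers y : Set G))
    (hyN : D ≤ Ny) [hyNn : (D.subgroupOf Ny).Normal]
    (hyNcard : Nat.card (Ny ⧸ D.subgroupOf Ny) = 4) (hyNexp : ∀ g : Ny ⧸ D.subgroupOf Ny, g ^ 2 = 1)
    (eC : Subgroup.centralizer ({z} : Set G) ≃* Multiplicative (ZMod 3) × alternatingGroup (Fin 5))
    (eL : Subgroup.normalizer (Subgroup.zpowers z : Set G) ≃*
      (((Equiv.Perm.sign).comp (MonoidHom.fst (Equiv.Perm (Fin 3)) (Equiv.Perm (Fin 5)))) *
        ((Equiv.Perm.sign).comp (MonoidHom.snd (Equiv.Perm (Fin 3)) (Equiv.Perm (Fin 5))))).ker) :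
    Nonempty (G ≃* alternatingGroup (Fin 8)) := by
  have : Fact (Nat.Prime 3) := ⟨Nat.prime_three⟩
  have hzc : Nat.card (Subgroup.centralizer ({z} : Set G)) = 180 := by
    rw [Nat.card_congr eC.toEquiv, Nat.card_prod, nat_card_alternatingGroup]
    simp [Nat.factorial]
  have ny : ¬ IsConj z y := fun h => by
    have := CL.Rec.card_cent_isConj h
    omega
  obtain ⟨n, hn⟩ := CL.Rec.exists_sq_notMem eN
  obtain ⟨hz, -⟩ := CL.Rec.orderOf_of_gen hgen hcard hexp
  obtain ⟨σ, inj, even, odd, -, nm, c, c3, c1, hD, sw, nw, hy⟩ := CL.Rec.exists_data hgen hcomm hcard hexp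
    ((Subgroup.subtype _).comp eL.toMonoidHom) ((Subgroup.subtype_injective _).comp eL.injective)
    (fun b => ⟨eL.symm ⟨(CL.Rec.sgnSwap b, b), by
      simp [MonoidHom.mem_ker, CL.Rec.sign_sgnSwap]⟩, by simp⟩) ny n.2 hn (fun h => by
      have h1 := hyNexp (QuotientGroup.mk ⟨n, hNy ▸ h⟩)
      rwa [← QuotientGroup.mk_pow, QuotientGroup.eq_one_iff] at h1)
  have hcy : ∀ g, Commute g (z * σ c) ↔ Commute g y := fun g => by
    rcases hy with rfl | rfl
    · rfl
    · exact Commute.inv_right_iff.symm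
  have hzD : z ∈ D := hD ▸ Subgroup.mem_sup_left (Subgroup.mem_zpowers z)
  refine (CL.Rec.Fr.of_one hz inj even odd (fun g hg => ?_) c3 c1 sw nw (fun g hg => ?_) ?_ ?_).iso
  · obtain ⟨x, hx, e⟩ := nm ⟨g, CL.Rec.mem_normalizer_zpowers (by rcases hg with e | e <;> simp [e])⟩ (by
      have h1 := (eL ⟨g, CL.Rec.mem_normalizer_zpowers (by rcases hg with e | e <;> simp [e])⟩).2
      rw [MonoidHom.mem_ker] at h1
      exact (mul_eq_one_iff_eq_inv.1 h1).trans (Int.units_inv_eq_self _))
    exact ⟨_, x, hx, e⟩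
  · rw [← hD]
    exact hyn.conj_mem ⟨z, Subgroup.mem_centralizer_singleton_iff.2 ((hcy z).1
      ((Commute.refl z).mul_right (mul_inv_eq_iff_eq_mul.1
        (even c (CL.Rec.sign_of_cube c3))).symm))⟩ hzD
      ⟨g, Subgroup.mem_centralizer_singleton_iff.2 ((hcy g).1 hg)⟩
  · obtain ⟨t, ht, hty⟩ := CL.Rec.exists_invol_of_card (y := y) (by rw [hycard]; decide)
    exact ⟨t, ht, (hcy t).2 hty⟩
  · intro h
    have h1 := P.pow_dvd_card_of_pow_dvd_card (n := 3) h
    rw [← hDP, hcard] at h1
    exact absurd h1 (by decide)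

end Cfsg.Agent.S3329
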