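import Cfsg.Statements.S3330
import Cfsg.Agent.Rec.S8Fin

set_option autoImplicit false
open Cfsg

namespace Cfsg.Agent.S3330

/-- A 3-local characterization of the symmetric group of degree 8, with one exceptional configuration. Let G be a finite group whose Sylow 3-subgroup D is elementary abelian of order 9, generated by y and z, and suppose: (i) C_G(D) has order 18, N_G(D)/D is isomorphic to the direct product of a dihedral group of order 8 and a group of order 2, and N_G(D)/C_G(D) is dihedral of order 8; (ii) D is normal in C_G(y), C_G(y) has order 36 with every square lying in D, D is normal in N_G(⟨y⟩), and N_G(⟨y⟩) has order 72 with every square lying in D; (iii) C_G(z) is isomorphic to the direct product of a cyclic group of order 3 and Sym(5), and N_G(⟨z⟩) is isomorphic to Sym(3) × Sym(5). Then either G is isomorphic to the symmetric group of degree 8, or the generalized Fitting subgroup of G is a minimal normal subgroup isomorphic to Alt(5) × Alt(5) of index 4 with every square of G lying in it. -/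
theorem result {G : Type*} [Group G] [Finite G]
    (P : Sylow 3 G) (D : Subgroup G) (hDP : D = P) (y z : G) (hgen : Subgroup.closure {y, z} = D)
    (hcomm : IsMulCommutative D) (hcard : Nat.card D = 9) (hexp : ∀ a ∈ D, a ^ 3 = 1)
    (hC : Nat.card (Subgroup.centralizer (D : Set G)) = 18)
    (eN : Subgroup.normalizer (D : Set G) ⧸ D.subgroupOf (Subgroup.normalizer (D : Set G)) ≃* DihedralGroup 4 × Multiplicative (ZMod 2))
    [hcn : ((Subgroup.centralizer (D : Set G)).subgroupOf (Subgroup.normalizer (D : Set G))).Normal]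
    (eNC : Subgroup.normalizer (D : Set G) ⧸ (Subgroup.centralizer (D : Set G)).subgroupOf (Subgroup.normalizer (D : Set G)) ≃* DihedralGroup 4)
    (hyn : (D.subgroupOf (Subgroup.centralizer ({y} : Set G))).Normal)
    (hycard : Nat.card (Subgroup.centralizer ({y} : Set G)) = 36)
    (hysq : ∀ g ∈ Subgroup.centralizer ({y} : Set G), g ^ 2 ∈ D)
    (Ny : Subgroup G) (hNy : Ny = Subgroup.normalizer (Subgroup.zpowers y : Set G))
    (hyNn : (D.subgroupOf Ny).Normal) (hyNcard : Nat.card Ny = 72) (hyNsq : ∀ g ∈ Ny, g ^ 2 ∈ D)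
    (eC : Subgroup.centralizer ({z} : Set G) ≃* Multiplicative (ZMod 3) × Equiv.Perm (Fin 5))
    (eL : Subgroup.normalizer (Subgroup.zpowers z : Set G) ≃* Equiv.Perm (Fin 3) × Equiv.Perm (Fin 5)) :
    Nonempty (G ≃* Equiv.Perm (Fin 8)) ∨
      ∃ N : Subgroup G, N.Normal ∧ Cfsg.generalizedFittingSubgroup G = N ∧
        Nonempty (N ≃* alternatingGroup (Fin 5) × alternatingGroup (Fin 5)) ∧
        (∀ K : Subgroup G, K.Normal → K ≤ N → K = ⊥ ∨ K = N) ∧
        N.index = 4 ∧ ∀ g : G, g ^ 2 ∈ N := by
  have : Fact (Nat.Prime 3) := ⟨Nat.prime_three⟩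
  have hzc : Nat.card (Subgroup.centralizer ({z} : Set G)) = 360 := by
    rw [Nat.card_congr eC.toEquiv, Nat.card_prod, Nat.card_perm]
    simp [Nat.factorial]
  have ny : ¬ IsConj z y := fun h => by
    have := CL.Rec.card_cent_isConj h
    omega
  have hDC : D ≤ Subgroup.centralizer (D : Set G) := fun a ha b hb =>
    congrArg Subtype.val (hcomm.is_comm.comm (⟨b, hb⟩ : D) ⟨a, ha⟩)
  obtain ⟨n, hn⟩ := CL.Rec.exists_sq_notMem eNC
  obtain ⟨hz, -⟩ := CL.Rec.orderOf_of_gen hgen hcard hexp
  obtain ⟨σ, -, even, -, co, -, c, c3, c1, hD, sw, nw, hy⟩ := CL.Rec.exists_data hgen hcomm hcard hexp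
    eL.toMonoidHom eL.injective (fun b => eL.surjective _) ny n.2 (fun h => hn (hDC h))
    (fun h => hyNsq _ (hNy ▸ h))
  have hcy : ∀ g, Commute g (z * σ c) ↔ Commute g y := fun g => by
    rcases hy with rfl | rfl
    · rfl
    · exact Commute.inv_right_iff.symm
  have hzD : z ∈ D := hD ▸ Subgroup.mem_sup_left (Subgroup.mem_zpowers z)
  have hw : σ c = eL.symm (1, c) := by
    obtain ⟨g, e, hg⟩ := co c
    rw [e, ← CL.Rec.sgnSwap_even (CL.Rec.sign_of_cube c3), ← hg]
    simp
  obtain ⟨s, t, τ, h⟩ := CL.Rec.exists_fs hz eL c3 c1 hw sw nw (fun g hg => by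
      have hg' := Subgroup.mem_centralizer_singleton_iff.2 ((hcy g).1 hg)
      rw [← hD]
      exact ⟨hyn.conj_mem ⟨z, Subgroup.mem_centralizer_singleton_iff.2 ((hcy z).1
        ((Commute.refl z).mul_right (mul_inv_eq_iff_eq_mul.1
          (even c (CL.Rec.sign_of_cube c3))).symm))⟩ hzD ⟨g, hg'⟩, hysq g hg'⟩)
    (by
      by_contra hh
      push Not at hh
      have h1 : Subgroup.centralizer ({y} : Set G) ≤ Subgroup.centralizer (D : Set G) := fun g hg => by
        have hg' := Subgroup.mem_centralizer_singleton_iff.1 hg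
        rw [← hgen, Subgroup.centralizer_closure]
        rintro a (rfl | rfl)
        · exact hg'.symm
        · exact (hh g ((hcy g).2 hg')).symm
      have := Subgroup.card_le_of_le h1
      omega)
    (fun h => by
      have h1 := P.pow_dvd_card_of_pow_dvd_card (n := 3) h
      rw [← hDP, hcard] at h1
      exact absurd h1 (by decide))
    (by
      rw [← hD, Subgroup.card_eq_card_quotient_mul_card_subgroup (D.subgroupOf _), Nat.card_congr eN.toEquiv,
        Nat.card_congr (Subgroup.subgroupOfEquivOfLe Subgroup.le_normalizer).toEquiv, hcard, Nat.card_prod,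
        DihedralGroup.nat_card]
      simp)
  exact h.main

end Cfsg.Agent.S3330
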