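import Cfsg.Statements.S3333
import Cfsg.Agent.Perm.Nine5
import Cfsg.Agent.Transfer.Abelian

set_option autoImplicit false
open Cfsg

namespace Cfsg.Agent.S3333

/-- Let G be a finite group with a Sylow 3-subgroup S of order 9 that is its own centralizer, with N_G(S)/S dihedral of order 8, and such that C_G(x) ≤ N_G(S) for every non-identity x in S. Then S is normal in G or G is isomorphic to the symmetric group of degree 6. -/
theorem result {G : Type*} [Group G] [Finite G]
    (P : Sylow 3 G) (S : Subgroup G) (hSP : S = P) (hcard : Nat.card S = 9)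
    (hC : Subgroup.centralizer (S : Set G) = S)
    (eN : Subgroup.normalizer (S : Set G) ⧸ S.subgroupOf (Subgroup.normalizer (S : Set G)) ≃* DihedralGroup 4)
    (hcent : ∀ x ∈ S, x ≠ 1 → Subgroup.centralizer ({x} : Set G) ≤ Subgroup.normalizer (S : Set G)) :
    S.Normal ∨ Nonempty (G ≃* Equiv.Perm (Fin 6)) := by
  subst hSP
  have h8 : (P : Subgroup G).relIndex (Subgroup.normalizer ((P : Subgroup G) : Set G)) = 8 := by
    rw [Subgroup.relIndex, Subgroup.index, Nat.card_congr eN.toEquiv, DihedralGroup.nat_card]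
  have h72 := CL.Grp.card_mul_relIndex (Subgroup.le_normalizer (H := (P : Subgroup G)))
  rw [hcard, h8] at h72
  have cube : ∀ s ∈ (P : Subgroup G), s ^ 3 = 1 := fun s hs => by
    by_contra h1
    have h2 : orderOf (⟨s, hs⟩ : (P : Subgroup G)) ∣ 3 ^ 2 := (orderOf_dvd_natCard _).trans hcard.dvd
    obtain ⟨k, hk, h3⟩ := (Nat.dvd_prime_pow Nat.prime_three).1 h2
    have : IsCyclic (P : Subgroup G) := isCyclic_of_orderOf_eq_card ⟨s, hs⟩ (by
      rw [h3, hcard]
      rw [← Subgroup.orderOf_coe] at h3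
      rw [← orderOf_dvd_iff_pow_eq_one, h3] at h1
      interval_cases k <;> simp_all)
    have h4 := CL.Transfer.relIndex_centralizer_normalizer_dvd (P : Subgroup G)
    rw [hC, h8, IsCyclic.card_mulAut, hcard] at h4
    exact absurd h4 (by decide)
  have h := CL.Perm.SC9.of_loc (CL.Grp.isSylowIn_top_iff.2 ⟨P, rfl⟩) hcard cube hC.le hcent
  obtain ⟨u, hu⟩ := QuotientGroup.mk_surjective (eN.symm (.r 1))
  obtain ⟨t, ht⟩ := QuotientGroup.mk_surjective (eN.symm (.sr 0))
  have key : ∀ g : Subgroup.normalizer ((P : Subgroup G) : Set G), (g : G) ∈ (P : Subgroup G) ↔ eN g = 1 :=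
    fun g => by rw [map_eq_one_iff _ eN.injective, QuotientGroup.eq_one_iff, Subgroup.mem_subgroupOf]
  refine h.normal_or_sym h72.symm u.2 t.2 (mt (key (u * u)).1 ?_) ((key (u * u * (u * u))).2 ?_) (mt (key t).1 ?_)
    ((key (t * t)).2 ?_) (mt (key ((u * u)⁻¹ * t)).1 ?_) <;>
    simp only [QuotientGroup.mk_mul, QuotientGroup.mk_inv, map_mul, map_inv, hu, ht, MulEquiv.apply_symm_apply] <;>
    decide

end Cfsg.Agent.S3333
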