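import Cfsg.Statements.S3339
import Cfsg.Agent.Rec.A9B

set_option autoImplicit false
open Cfsg

namespace Cfsg.Agent.S3339

open Subgroup Equiv CL.A9R CL.Perm.A9N CL.Grp

set_option maxRecDepth 100000

/-- oriented blocks -/
def TL : List (ℕ × ℕ × ℕ) := [0, 3, 6].flatMap fun b => [(b, b + 1, b + 2), (b + 1, b + 2, b), (b + 2, b, b + 1),
  (b, b + 2, b + 1), (b + 1, b, b + 2), (b + 2, b + 1, b)]

theorem mem_TL : ∀ j ∈ cJ, ∀ a : Fin 9, ap j a ≠ a → (a.1, ap j a, ap j (ap j a)) ∈ TL := by decide +kernel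

/-- the rotation normalising a block -/
def rot (s : ℕ × ℕ × ℕ) : ℕ := if s.2.2 % 3 = 2 then 0 else if s.1 % 3 = 2 then 1 else 2

theorem mem_LL' : ∀ s ∈ TL, ∀ t ∈ TL, t.1 ∉ [s.1, s.2.1, s.2.2] → ∀ u ∈ TL, u.1 ∉ [s.1, s.2.1, s.2.2, t.1, t.2.1, t.2.2] →
    ∀ c ∈ [mc (s.1 + 16 * (s.2.1 + 16 * (s.2.2 + 16 * (t.1 + 16 * (t.2.1 + 16 * (t.2.2 + 16 * (u.1 + 16 * (u.2.1 +
      16 * u.2.2)))))))) (mc (mc (pc (cw [0]) (rot s)) (pc (cw [3, 0, 3]) (rot t))) (pc (cw [1, 1, 0, 1]) (rot u)))],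
      c ∈ cW ∨ mc c (csw 0 1) ∈ cW := by decide +kernel

theorem J_eq : Subgroup.closure {swap (0 : Fin 9) 1 * swap 1 2, swap (3 : Fin 9) 4 * swap 4 5, swap (6 : Fin 9) 7 * swap 7 8} =
    J0.map K0.subtype := by
  refine le_antisymm ((closure_le _).2 ?_) ?_
  · rintro _ (rfl | rfl | rfl)
    exacts [⟨z1, mJ.1, by decide +kernel⟩, ⟨z2, mJ.2.1, by decide +kernel⟩, ⟨z3, mJ.2.2.1, by decide +kernel⟩]
  · rintro _ ⟨k, hk, rfl⟩
    obtain ⟨i, l, m, e⟩ := d9 _ hk
    simp only [← ck_wd, ← ck_pow, ← ck_mul, ← ck_inj] at e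
    rw [e, map_mul, map_mul, map_pow, map_pow, map_pow]
    exact mul_mem (mul_mem (pow_mem (subset_closure (.inl (by decide +kernel))) _)
      (pow_mem (subset_closure (.inr (.inl (by decide +kernel)))) _))
      (pow_mem (subset_closure (.inr (.inr (Set.mem_singleton_iff.2 (by decide +kernel))))) _)

theorem K_eq : alternatingGroup (Fin 9) ⊓ normalizer (J0.map K0.subtype : Set (Perm (Fin 9))) = K0 := by
  refine le_antisymm (fun g hg => ?_) (le_inf (fun k hk => (ι ⟨k, hk⟩).2) (le_normalizer_map_subtype J0))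
  have key : ∀ z ∈ J0, ∀ a b c : Fin 9, z.1 a = b ∧ z.1 b = c ∧ a ≠ b → ((g a).1, (g b).1, (g c).1) ∈ TL :=
    fun z hz a b c e => by
      obtain ⟨j, hj, e'⟩ := (mem_normalizer_iff.1 hg.2 _).1 ⟨z, hz, rfl⟩
      have h : ∀ x, ap (ck j) (g x) = g (z.1 x) := fun x => by rw [ck, ap_cd, show j.1 = _ from e']; simp
      have := mem_TL _ hj (g a) (by rw [h, e.1]; exact fun h => e.2.2 (g.injective (Fin.ext h)).symm)
      rwa [h, h, e.1, e.2.1] at this
  have ne : ∀ a b : Fin 9, a ≠ b → (g a).1 ≠ (g b).1 := fun a b e h => e (g.injective (Fin.ext h))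
  have := mem_LL' _ (key z1 mJ.1 0 1 2 (by decide +kernel)) _ (key z2 mJ.2.1 3 4 5 (by decide +kernel)) (by simp [ne])
    _ (key z3 mJ.2.2.1 6 7 8 (by decide +kernel)) (by simp [ne]) _ (List.mem_singleton_self _)
  simp only [← ck_wd, ← ck_pow, ← ck_mul] at this
  generalize wd [0] ^ _ * _ * _ = j at this
  change mc (cd g) (cd j.1) ∈ _ ∨ mc (mc (cd g) (cd j.1)) (csw (0 : Fin 9) (1 : Fin 9)) ∈ _ at this
  rw [← cd_swap, ← cd_mul, ← cd_mul] at this
  rcases this with h | h <;> obtain ⟨k, e⟩ := exW h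
  · exact (mul_mem_cancel_right j.2).1 (cd_inj.1 e ▸ k.2)
  · have := Perm.mem_alternatingGroup.1 (ι k).2
    rw [show (ι k).1 = _ from cd_inj.1 e, Perm.sign_mul, show Perm.sign (g * j.1) = 1 from
      Perm.mem_alternatingGroup.1 (mul_mem hg.1 (ι j).2),
      Perm.sign_swap (by decide)] at this
    exact absurd this (by decide)

/-- A 3-local characterization of the alternating group of degree 9. Let G be a finite group and J ≤ G an elementary abelian subgroup of order 27 whose normalizer H = N_G(J) is isomorphic to the normalizer, in the alternating group of degree 9, of the subgroup generated by three disjoint 3-cycles. If O_{3'}(C_G(x)) = 1 for every element x of order 3 in H, then either G = H or G is isomorphic to the alternating group of degree 9. -/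
theorem result {G : Type*} [Group G] [Finite G]
    (J : Subgroup G) (hJcomm : IsMulCommutative J) (hJexp : ∀ a ∈ J, a ^ 3 = 1) (hJcard : Nat.card J = 27)
    (H : Subgroup G) (hH : H = Subgroup.normalizer (J : Set G))
    (J₀ : Subgroup (Equiv.Perm (Fin 9)))
    (hJ₀ : J₀ = Subgroup.closure {Equiv.swap (0 : Fin 9) 1 * Equiv.swap 1 2, Equiv.swap (3 : Fin 9) 4 * Equiv.swap 4 5, Equiv.swap (6 : Fin 9) 7 * Equiv.swap 7 8})
    (eH : H ≃* ↥(alternatingGroup (Fin 9) ⊓ Subgroup.normalizer (J₀ : Set (Equiv.Perm (Fin 9)))))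
    (hcores : ∀ x ∈ H, orderOf x = 3 → Cfsg.pPrimeCore 3 (Subgroup.centralizer ({x} : Set G)) = ⊥) :
    H = ⊤ ∨ Nonempty (G ≃* alternatingGroup (Fin 9)) := by
  have := Fact.mk Nat.prime_three
  rw [J_eq] at hJ₀
  subst hJ₀
  obtain ⟨f, hf, hr⟩ : ∃ f : K0 →* G, Function.Injective f ∧ f.range = H :=
    ⟨H.subtype.comp (eH.trans (MulEquiv.subgroupCongr K_eq)).symm.toMonoidHom, H.subtype_injective.comp
      (MulEquiv.injective _), by rw [MonoidHom.range_comp, MonoidHom.range_eq_top.2 (MulEquiv.surjective _), ← MonoidHom.range_eq_map, range_subtype]⟩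
  have hJ : J ≤ f.range := hr ▸ hH ▸ le_normalizer
  have e : (J.comap f).map f = J := map_comap_eq_self hJ
  have hn : (J.comap f).Normal := ⟨fun n hn g => by
    rw [mem_comap, map_mul, map_mul, map_inv]
    exact (mem_normalizer_iff.1 (hH ▸ hr ▸ ⟨g, rfl⟩ : f g ∈ normalizer (J : Set G)) _).1 hn⟩
  have e' : J.comap f = J0 := eq_of_le_of_card_ge (k3 ▸ le_pCore fun x => ⟨1, Subtype.ext (hf (by
    simpa using hJexp _ x.2))⟩) (by rw [card_J0, ← card_map_of_injective hf, e, hJcard])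
  rw [e'] at e
  have core : ∀ k ∈ J0, k ≠ 1 → pPrimeCoreOf 3 (centralizer {f k}) = ⊥ := fun k hk h1 => by
    rw [pPrimeCoreOf, hcores _ (hr ▸ ⟨k, rfl⟩) ((orderOf_injective f hf k).trans (orderOf_eq_prime (J0_cube hk) h1)),
      Subgroup.map_bot]
  exact hr ▸ Hy.main ⟨hf, by rw [e, hr, hH], core _ mJ.2.2.2.2.1 (by decide +kernel), core _ mJ.2.2.2.1 m_A.2.2.1⟩

end Cfsg.Agent.S3339
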