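import Cfsg.Statements.S3366
import Cfsg.Agent.Rec.H43Main
import Cfsg.Agent.Fgs.ClassBasic

set_option autoImplicit false
open Cfsg

namespace Cfsg.Agent.S3366

open Subgroup CL.H43 CL.Amg

/-- Let X be a finite group with O₃(X) extraspecial of order 27 and exponent 3, X/O₃(X) isomorphic to SL(2,3), O₂(X) = 1, and a Sylow 3-subgroup of X containing an elementary abelian subgroup of order 27. Then X is isomorphic to the centralizer in PSp(4,3) of a 3-central element of order 3 (an element of order 3 in the centre of a Sylow 3-subgroup). -/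
theorem result {X : Type*} [Group X] [Finite X]
    (hR : Cfsg.IsExtraspecial 3 (Cfsg.pCore 3 X)) (hRcard : Nat.card (Cfsg.pCore 3 X) = 27)
    (hRexp : ∀ r ∈ Cfsg.pCore 3 X, r ^ 3 = 1)
    (e : X ⧸ Cfsg.pCore 3 X ≃* Matrix.SpecialLinearGroup (Fin 2) (ZMod 3))
    (hO2 : Cfsg.pCore 2 X = ⊥)
    (hE : ∃ E : Subgroup X, IsMulCommutative E ∧ (∀ a ∈ E, a ^ 3 = 1) ∧ Nat.card E = 27)
    (F : Type*) [Field F] [Fintype F] (hF : Fintype.card F = 3) :
    ∃ (c : Cfsg.PSp 2 F) (S : Sylow 3 (Cfsg.PSp 2 F)), orderOf c = 3 ∧ c ∈ (S : Subgroup (Cfsg.PSp 2 F)) ∧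
      c ∈ Subgroup.centralizer ((S : Subgroup (Cfsg.PSp 2 F)) : Set (Cfsg.PSp 2 F)) ∧
      Nonempty (X ≃* Subgroup.centralizer ({c} : Set (Cfsg.PSp 2 F))) := by
  have := Fact.mk Nat.prime_three
  obtain ⟨E, e1, e2, e3⟩ := hE
  obtain ⟨Y, -, -⟩ := exists_xc hR hRcard e (fun t t2 ht => by
    have : (zpowers t).Normal := ⟨fun x hx g => by
      obtain ⟨k, rfl⟩ := mem_zpowers_iff.1 hx
      rwa [(Commute.zpow_right (ht g) k).eq, mul_inv_cancel_right]⟩
    have h := CL.Grp.le_pCore (p := 2) (N := zpowers t) (IsPGroup.of_card_dvd_pow (n := 1) (by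
      rw [Nat.card_zpowers, pow_one]; exact orderOf_dvd_of_pow_eq_one (by rw [pow_two, t2])))
    exact mem_bot.1 (hO2 ▸ h (mem_zpowers t))) e3 e1 e2
  obtain ⟨j, hj, j1, -, j2⟩ := exists_j hF
  have hc := hj.lt.card_gen j1
  obtain ⟨v, hv, ev⟩ := hj.lt.exists_rep j1 (fun i hi => mem_gen j hi) hc
  let Z : XC (gen j 10) := ⟨v, hv⟩
  rw [show j 0 * j 2 * (j 0)⁻¹ * (j 2)⁻¹ = Z.E 1 by rw [Z.E1, ← ev 0 (by omega), ← ev 2 (by omega)]] at j2
  have h1 := (centralizer {Z.E 1}).card_mul_index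
  rw [CL.P43.card_PSp hF] at h1
  have h2 : gen j 10 = centralizer {Z.E 1} := eq_of_le_of_card_ge (fun x hx => mem_cent.2 (Z.cent_a hx))
    (by rw [hc]; nlinarith)
  have oc := Z.E_ord (a := 1) (by omega) (by omega)
  obtain ⟨P, hP⟩ := CL.Fgs.exists_sylow_le_of_not_dvd_index (p := 3) (H := centralizer {Z.E 1}) (by
    rw [← h2, hc] at h1; rw [← h2]; omega)
  have h3 : Z.E 1 ∈ centralizer (P : Set (PSp 2 F)) := fun x hx => mem_cent.1 (hP hx)
  have hX : Nat.card X = 648 := card_top.symm.trans Y.card_H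
  obtain ⟨φ, -, h4⟩ := exists_hom_of_bound j _ 10 Y.gen_eq (hX ▸ (hj.lt.prod Y.lt0).card_le)
  refine ⟨Z.E 1, P, oc, ?_, h3, ⟨(MulEquiv.ofBijective φ.rangeRestrict ((Nat.bijective_iff_surjective_and_card _).2
    ⟨φ.rangeRestrict_surjective, by rw [hX, h4, hc]⟩)).trans (MulEquiv.subgroupCongr (h4.trans h2))⟩⟩
  rw [← P.is_maximal' ((IsPGroup.of_card (n := 1) (by rw [Nat.card_zpowers, oc, pow_one])).to_sup_of_normal_right'
    P.isPGroup' (zpowers_le.2 (centralizer_le_normalizer _ h3))) le_sup_right]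
  exact mem_sup_left (mem_zpowers _)

end Cfsg.Agent.S3366
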