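import Cfsg.Statements.S3431
import Cfsg.Agent.Perm.Nse
import Cfsg.Agent.S0228
import Cfsg.Agent.S3433
import Cfsg.Agent.Cls.SL2Small
import Cfsg.Agent.Cls.SL2PSL

set_option autoImplicit false
open Cfsg

namespace Cfsg.Agent.S3431

/-- Let n be 4, 5 or 6 and let G be a finite group whose set of sizes of same-order classes (the set of numbers #{g : o(g) = m} over the element orders m of G) equals that of the alternating group of degree n. Then G is isomorphic to that alternating group. -/
theorem result {G : Type*} [Group G] [Finite G] (n : ℕ) (hn : n = 4 ∨ n = 5 ∨ n = 6)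
    (h : ((fun m : ℕ => Nat.card {g : G // orderOf g = m}) '' Set.range (orderOf : G → ℕ)) = ((fun m : ℕ => Nat.card {g : ↥(alternatingGroup (Fin n)) // orderOf g = m}) '' Set.range (orderOf : ↥(alternatingGroup (Fin n)) → ℕ))) :
    Nonempty (G ≃* ↥(alternatingGroup (Fin n))) := by
  rcases hn with rfl | rfl | rfl
  · have H := CL.Nse.Hyp.of_eq (by decide) (by decide) (h.trans CL.Nse.nse_four)
    obtain ⟨h1, h2, -⟩ := H.four
    refine S0228.result h1 fun z hz hc => ?_
    have : Fact (Nat.Prime 3) := ⟨Nat.prime_three⟩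
    obtain ⟨x, hx⟩ := exists_prime_orderOf_dvd_card' (G := G) 3 (by rw [h1]; decide)
    have h3 : orderOf (x * z) = 6 := by
      rw [Commute.orderOf_mul_eq_mul_orderOf_of_coprime (Subgroup.mem_center_iff.1 hc x) (by rw [hx, hz]; decide),
        hx, hz]
    have h4 := h2 (x * z)
    rw [h3] at h4
    simp at h4
  · have H := CL.Nse.Hyp.of_eq (by decide) (by decide) (h.trans CL.Nse.nse_five)
    obtain ⟨h1, h2, -⟩ := H.five
    refine CL.SL2.nonempty_alt_five h1 fun g => ?_
    have h4 := h2 g
    simp only [List.mem_cons, Prod.mk.injEq, List.not_mem_nil, or_false] at h4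
    simp only [← orderOf_dvd_iff_pow_eq_one]
    rcases h4 with e | e | e | e <;> rw [e.1] <;> decide
  · have H := CL.Nse.Hyp.of_eq (by decide) (by decide) (h.trans CL.Nse.nse_six)
    obtain ⟨h1, h2, h3⟩ := H.six
    refine (S3433.result (Set.ext fun k => ⟨?_, fun hk => ?_⟩)).resolve_right ?_
    · rintro ⟨g, rfl⟩
      have h4 := h2 g
      simp only [List.mem_cons, Prod.mk.injEq, List.not_mem_nil, or_false] at h4
      simp only [Set.mem_ofPred_eq]
      omega
    · obtain ⟨a, b⟩ := hk
      interval_cases k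
      exacts [h3 (1, 1) (by simp), h3 (2, 45) (by simp), h3 (3, 80) (by simp), h3 (4, 90) (by simp),
        h3 (5, 144) (by simp)]
    · rintro ⟨N, _, hN, ⟨e⟩⟩
      have h4 := N.card_eq_card_quotient_mul_card_subgroup
      rw [Nat.card_congr e.toEquiv, CL.SL2.card_alt_five, h1] at h4
      have : Fact (Nat.Prime 3) := ⟨Nat.prime_three⟩
      obtain ⟨x, hx⟩ := exists_prime_orderOf_dvd_card' (G := N) 3 (by omega)
      have h5 := orderOf_dvd_of_pow_eq_one (hN.2 x x.2)
      rw [Subgroup.orderOf_coe, hx] at h5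
      exact absurd h5 (by decide)

end Cfsg.Agent.S3431
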