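import Cfsg.Statements.S3501
import Cfsg.Agent.Perm.PrimAffine

set_option autoImplicit false
open Cfsg

namespace Cfsg.Agent.S3501

/-- Let a finite group G act faithfully and primitively on a finite set Ω with at least two points, and suppose G is not almost simple (it has no non-abelian simple normal subgroup with trivial centralizer). Then the derangements of G form a single conjugacy class if and only if G is sharply 2-transitive (2-transitive, and no non-identity element fixes two points). -/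
theorem result {G : Type*} [Group G] [Finite G] {Ω : Type*} [Fintype Ω] [MulAction G Ω] [FaithfulSMul G Ω] (hΩ : 2 ≤ Fintype.card Ω) (hprim : MulAction.IsPreprimitive G Ω) (hnas : ¬ ∃ T : Subgroup G, T.Normal ∧ IsSimpleGroup T ∧ ¬ IsMulCommutative T ∧ Subgroup.centralizer (T : Set G) = ⊥) :
    Nat.card {c : ConjClasses G // ∃ g : G, ConjClasses.mk g = c ∧ ∀ ω : Ω, g • ω ≠ ω} = 1 ↔ (MulAction.IsMultiplyPretransitive G Ω 2 ∧ ∀ g : G, g ≠ 1 → ∀ a b : Ω, a ≠ b → g • a = a → g • b ≠ b) := by
  have : Nontrivial Ω := Fintype.one_lt_card_iff_nontrivial.1 hΩ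
  constructor
  · intro h
    obtain ⟨N, hN, hN0, hab, hNt, hreg⟩ :=
      CL.Perm.exists_abelian_regular_of_card_derangement_classes_le (α := Ω) hnas (by omega)
    have hconj : ∀ x y : G, (∀ ω : Ω, x • ω ≠ ω) → (∀ ω : Ω, y • ω ≠ ω) → IsConj x y := by
      intro x y hx hy
      exact ConjClasses.mk_eq_mk_iff_isConj.1 (congrArg Subtype.val
        ((Nat.card_eq_one_iff_unique.1 h).1.elim ⟨_, x, rfl, hx⟩ ⟨_, y, rfl, hy⟩))
    have hder : ∀ n ∈ N, n ≠ 1 → ∀ ω : Ω, n • ω ≠ ω := fun n hn h1 ω e =>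
      h1 (CL.Perm.eq_one_of_smul_eq_of_regular (hreg ω) hn e)
    refine ⟨CL.Perm.two_pretransitive_of_isConj hab fun n hn n' hn' h1 h1' =>
      hconj n n' (hder n hn h1) (hder n' hn' h1'), fun g hg a b hab' ha hb => hab' ?_⟩
    refine CL.Perm.eq_one_of_fix_two_of_card_fixedBy_le
      (CL.Perm.card_fixedBy_le_one_of_derangements_le hreg (fun x hx => ?_) hg) ha hb
    obtain ⟨⟨n, hn⟩, h1⟩ := Subgroup.ne_bot_iff_exists_ne_one.1 hN0
    obtain ⟨c, rfl⟩ := isConj_iff.1 (hconj n x (hder n hn fun e => h1 (Subtype.ext e)) hx)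
    exact hN.conj_mem n hn c
  · rintro ⟨h2, hs⟩
    refine CL.Perm.IsSharp2.card_derangement_classes
      ⟨fun hab hcd => MulAction.is_two_pretransitive_iff.1 h2 hab hcd, fun {g a b} hab ha hb => ?_⟩
    by_contra hg
    exact hs g hg a b hab ha hb

end Cfsg.Agent.S3501
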