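import Cfsg.Statements.S3520
import Cfsg.Agent.Perm.PrimAffine

set_option autoImplicit false
open Cfsg

namespace Cfsg.Agent.S3520

/-- Let a finite group G act faithfully and primitively on a finite set Ω with at least two points, suppose G is not almost simple (no non-abelian simple normal subgroup with trivial centralizer), and suppose the derangements of G form exactly two conjugacy classes. Then either Ω has 3 points and G has order 3; or G has a non-trivial abelian normal subgroup N acting regularly, every non-identity element of G fixes at most one point (so, when n > 3, G is a Frobenius group with kernel N), the number n of points is odd and a point stabilizer has order (n − 1)/2; or G is 2-transitive with a non-trivial abelian regular normal subgroup and some non-identity element fixes at least two points (a non-Frobenius 2-transitive affine group). -/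
theorem result {G : Type*} [Group G] [Finite G] {Ω : Type*} [Fintype Ω] [MulAction G Ω] [FaithfulSMul G Ω] (hΩ : 2 ≤ Fintype.card Ω) (hprim : MulAction.IsPreprimitive G Ω) (hnas : ¬ ∃ T : Subgroup G, T.Normal ∧ IsSimpleGroup T ∧ ¬ IsMulCommutative T ∧ Subgroup.centralizer (T : Set G) = ⊥)
    (hκ : Nat.card {c : ConjClasses G // ∃ g : G, ConjClasses.mk g = c ∧ ∀ ω : Ω, g • ω ≠ ω} = 2) (α : Ω) :
    (Fintype.card Ω = 3 ∧ Nat.card G = 3) ∨
    ((∃ N : Subgroup G, N.Normal ∧ N ≠ ⊥ ∧ IsMulCommutative N ∧ ∀ ω : Ω, MulAction.stabilizer N ω = ⊥) ∧ (∀ g : G, g ≠ 1 → Nat.card (MulAction.fixedBy Ω g) ≤ 1) ∧ ¬ 2 ∣ Fintype.card Ω ∧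
        2 * Nat.card (MulAction.stabilizer G α) = Fintype.card Ω - 1) ∨
    ((∃ N : Subgroup G, N.Normal ∧ N ≠ ⊥ ∧ IsMulCommutative N ∧ ∀ ω : Ω, MulAction.stabilizer N ω = ⊥) ∧ MulAction.IsMultiplyPretransitive G Ω 2 ∧ ∃ g : G, g ≠ 1 ∧ 2 ≤ Nat.card (MulAction.fixedBy Ω g)) := by
  right
  have : Nontrivial Ω := Fintype.one_lt_card_iff_nontrivial.1 hΩ
  obtain ⟨N, hN, hN0, hab, hNt, hreg⟩ :=
    CL.Perm.exists_abelian_regular_of_card_derangement_classes_le (α := Ω) hnas hκ.le
  have hder : ∀ n ∈ N, n ≠ 1 → ∀ ω : Ω, n • ω ≠ ω := fun n hn h1 ω e =>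
    h1 (CL.Perm.eq_one_of_smul_eq_of_regular (hreg ω) hn e)
  by_cases hall : ∀ n ∈ N, ∀ n' ∈ N, n ≠ 1 → n' ≠ 1 → IsConj n n'
  · right
    have h2 : MulAction.IsMultiplyPretransitive G Ω 2 := CL.Perm.two_pretransitive_of_isConj hab hall
    refine ⟨⟨N, hN, hN0, hab, hreg⟩, h2, ?_⟩
    by_contra hcon
    push Not at hcon
    have hs : CL.Perm.IsSharp2 G Ω :=
      ⟨fun hab hcd => MulAction.is_two_pretransitive_iff.1 h2 hab hcd, fun {g a b} hab ha hb => by
        by_contra hg
        exact hab (CL.Perm.eq_one_of_fix_two_of_card_fixedBy_le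
          (Nat.lt_succ_iff.1 (hcon g hg)) ha hb)⟩
    rw [hs.card_derangement_classes] at hκ
    omega
  left
  push Not at hall
  obtain ⟨n₁, hn₁, n₂, hn₂, h₁, h₂, hnc⟩ := hall
  have hcl : ∀ x : G, (∀ ω : Ω, x • ω ≠ ω) → IsConj n₁ x ∨ IsConj n₂ x := fun x hx =>
    (CL.Perm.isConj_or_of_card_derangement_classes_le hκ.le (hder n₁ hn₁ h₁) (hder n₂ hn₂ h₂)
      hx).resolve_left hnc
  have hle : ∀ g : G, g ≠ 1 → Nat.card (MulAction.fixedBy Ω g) ≤ 1 := fun g hg =>
    CL.Perm.card_fixedBy_le_one_of_derangements_le hreg (fun x hx => by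
      rcases hcl x hx with h | h
      · obtain ⟨c, rfl⟩ := isConj_iff.1 h
        exact hN.conj_mem _ hn₁ c
      · obtain ⟨c, rfl⟩ := isConj_iff.1 h
        exact hN.conj_mem _ hn₂ c) hg
  have horb : ∀ b : Ω, b ≠ α → (MulAction.orbit (MulAction.stabilizer G α) b).ncard =
      Nat.card (MulAction.stabilizer G α) := by
    intro b hb
    have : MulAction.stabilizer (MulAction.stabilizer G α) b = ⊥ := by
      rw [eq_bot_iff]
      intro g hg
      rw [Subgroup.mem_bot]
      by_contra hg1
      exact hb (CL.Perm.eq_one_of_fix_two_of_card_fixedBy_le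
        (hle g fun e => hg1 (Subtype.ext e)) hg g.2)
    rw [← MulAction.index_stabilizer, this, Subgroup.index_bot]
  have hunion : ({α}ᶜ : Set Ω) = MulAction.orbit (MulAction.stabilizer G α) (n₁ • α) ∪
      MulAction.orbit (MulAction.stabilizer G α) (n₂ • α) := by
    ext b
    constructor
    · intro hb
      obtain ⟨⟨n, hn⟩, rfl⟩ := MulAction.exists_smul_eq N α b
      have hn1 : n ≠ 1 := by
        rintro rfl
        exact hb (one_smul G α)
      rcases hcl n (hder n hn hn1) with h | h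
      · obtain ⟨k, hk, hk'⟩ := CL.Perm.exists_stabilizer_smul_of_isConj hab α hn₁ h
        exact Or.inl ⟨⟨k, hk⟩, hk'⟩
      · obtain ⟨k, hk, hk'⟩ := CL.Perm.exists_stabilizer_smul_of_isConj hab α hn₂ h
        exact Or.inr ⟨⟨k, hk⟩, hk'⟩
    · have key : ∀ n ∈ N, n ≠ 1 → b ∈ MulAction.orbit (MulAction.stabilizer G α) (n • α) →
          b ∈ ({α}ᶜ : Set Ω) := by
        rintro n hn h1 ⟨k, rfl⟩ e
        have e' : (k : G) • n • α = (k : G) • α := e.trans k.2.symm
        exact hder n hn h1 α (MulAction.injective (k : G) e')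
      rintro (h | h)
      · exact key n₁ hn₁ h₁ h
      · exact key n₂ hn₂ h₂ h
  have hdisj : Disjoint (MulAction.orbit (MulAction.stabilizer G α) (n₁ • α))
      (MulAction.orbit (MulAction.stabilizer G α) (n₂ • α)) := by
    refine (MulAction.orbit.eq_or_disjoint _ _).resolve_left fun e => hnc ?_
    obtain ⟨k, hk⟩ : n₂ • α ∈ MulAction.orbit (MulAction.stabilizer G α) (n₁ • α) :=
      e ▸ MulAction.mem_orbit_self _
    exact CL.Perm.isConj_of_stabilizer_smul (hreg α) hn₁ hn₂ k.2 hk
  have hcount : 2 * Nat.card (MulAction.stabilizer G α) = Fintype.card Ω - 1 := by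
    have h1 := Set.ncard_add_ncard_compl ({α} : Set Ω)
    rw [hunion, Set.ncard_union_eq hdisj, horb _ (hder n₁ hn₁ h₁ α), horb _ (hder n₂ hn₂ h₂ α),
      Set.ncard_singleton, Nat.card_eq_fintype_card (α := Ω)] at h1
    omega
  exact ⟨⟨N, hN, hN0, hab, hreg⟩, hle, by omega, hcount⟩

end Cfsg.Agent.S3520
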