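import Cfsg.Statements.S3549
import Cfsg.Agent.Perm.Derange2

set_option autoImplicit false
open Cfsg
open scoped Pointwise

namespace Cfsg.Agent.S3549

/-- Let G act faithfully, transitively but imprimitively on a finite set with n points, and let D be the subgroup generated by the derangements. Then the index of D in G is at most √n − 1. -/
theorem result {G Ω : Type*} [Group G] [Finite G] [MulAction G Ω] [FaithfulSMul G Ω] [Finite Ω]
    (htrans : MulAction.IsPretransitive G Ω) (himp : ¬ MulAction.IsPreprimitive G Ω) :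
    ((Subgroup.closure {g : G | ∀ ω : Ω, g • ω ≠ ω}).index : ℝ) ≤ Real.sqrt (Nat.card Ω) - 1 := by
  classical
  change ((CL.Perm.derSub G Ω).index : ℝ) ≤ _
  set D := CL.Perm.derSub G Ω with hD
  have hDd : ∀ g : G, (∀ x : Ω, g • x ≠ x) → g ∈ D := fun g hg => CL.Perm.mem_derSub hg
  obtain ⟨B, hB, hBt⟩ : ∃ B : Set Ω, MulAction.IsBlock G B ∧ ¬ MulAction.IsTrivialBlock B := by
    by_contra h
    push Not at h
    exact himp ⟨fun hB => h _ hB⟩
  rw [MulAction.IsTrivialBlock, not_or] at hBt
  have hB2 : B.Nontrivial := Set.not_subsingleton_iff.mp hBt.1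
  obtain ⟨a, ha⟩ := hB2.nonempty
  have h1 : D.index ∣ (B \ {a}).ncard := by
    refine CL.Perm.index_dvd_ncard_of_derangements_le D hDd a _ (by simp) fun g hg y hy => ⟨?_, ?_⟩
    · have : g • B = B := hB.smul_eq_of_mem ha (by rw [hg]; exact ha)
      rw [← this]
      exact Set.smul_mem_smul_set hy.1
    · intro h
      exact hy.2 (smul_left_cancel g ((Set.mem_singleton_iff.mp h).trans hg.symm))
  have hne : Nonempty (MulAction.orbit G B) := ⟨⟨B, MulAction.mem_orbit_self B⟩⟩
  have h2 : D.index ∣ Nat.card (MulAction.orbit G B) - 1 := by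
    refine CL.Perm.index_dvd_card_sub_one_of_derangements_le D fun g hg => hDd g fun x hx => ?_
    obtain ⟨k, hk⟩ := MulAction.exists_smul_eq G a x
    refine hg ⟨k • B, MulAction.mem_orbit B k⟩ (Subtype.ext ?_)
    change g • k • B = k • B
    have hxB : x ∈ k • B := hk ▸ Set.smul_mem_smul_set ha
    exact (hB.translate k).smul_eq_of_mem hxB (by rw [hx]; exact hxB)
  have h3 := hB.ncard_block_mul_ncard_orbit_eq ⟨a, ha⟩
  rw [Nat.card_coe_set_eq] at h2
  rw [Set.ncard_sdiff_singleton_of_mem ha] at h1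
  have h4 : 1 < B.ncard := (Set.one_lt_ncard_iff_nontrivial).mpr hB2
  have h5 : B.ncard < Nat.card Ω := by
    rw [← Set.ncard_univ]
    exact Set.ncard_lt_ncard (Set.ssubset_univ_iff.mpr hBt.2)
  have h6 : 1 < (MulAction.orbit G B).ncard := by
    by_contra h
    have : (MulAction.orbit G B).ncard ≤ 1 := not_lt.mp h
    have := Nat.mul_le_mul_left B.ncard this
    omega
  have h7 := Nat.le_of_dvd (by omega) h1
  have h8 := Nat.le_of_dvd (by omega) h2
  have h9 : (D.index + 1) * (D.index + 1) ≤ Nat.card Ω := by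
    rw [← h3]
    exact Nat.mul_le_mul (by omega) (by omega)
  rw [le_sub_iff_add_le]
  apply Real.le_sqrt_of_sq_le
  rw [sq]
  exact_mod_cast h9

end Cfsg.Agent.S3549
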