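import Cfsg.Statements.S3550
import Cfsg.Agent.Perm.DerIdxB

set_option autoImplicit false
open Cfsg

namespace Cfsg.Agent.S3550

open MulAction Subgroup CL.Perm CL.Perm.DerIdx CL.Grp in
theorem key {G Ω : Type*} [Group G] [Finite G] [MulAction G Ω] [FaithfulSMul G Ω] [Finite Ω] [Nontrivial Ω]
    [IsPretransitive G Ω] (hna : ∀ N : Subgroup G, N.Normal → IsMulCommutative ↥N → N = ⊥) :
    ((derSub G Ω).index + 1) ^ 2 ≤ Nat.card Ω := by
  by_contra hn
  set D := derSub G Ω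
  have hd : ∀ g : G, (∀ x : Ω, g • x ≠ x) → g ∈ D := fun g hg => mem_derSub hg
  have h : Hy D Ω := ⟨fun g hg => by by_contra hc; exact hg (hd g fun x hx => hc ⟨x, hx⟩),
    fun g a b hab ha hb => mem_of_fix_two_of_derangements_le D hd hab ha hb, not_le.1 hn⟩
  have h1 : 1 < Nat.card Ω := Finite.one_lt_card
  obtain ⟨r, hr, hrn⟩ := Nat.exists_prime_and_dvd h1.ne'
  have : Fact r.Prime := ⟨hr⟩
  obtain ⟨R, hR⟩ := exists_isSylowIn r (⊤ : Subgroup G)
  have hD : R ≤ D := by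
    obtain ⟨a, ha⟩ : ∃ a, D.relIndex R = r ^ a := hR.isPGroup.index _
    refine relIndex_eq_one.1 ?_
    rcases a with _ | a
    · exact ha
    · have := ((Dvd.intro_left _ ha.symm).trans (relIndex_dvd_index_of_normal D R)).trans
        (index_dvd_card_sub_one_of_derangements_le D hd)
      exact (hr.one_lt.ne' (Nat.dvd_one.1 ((Nat.dvd_sub_iff_right h1.le hrn).1 this))).elim
  have hf : ∀ ω : Ω, ¬ R ≤ stabilizer G ω := fun ω hω => hR.not_dvd_relIndex_of_le hω le_top (by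
    rwa [relIndex_top_right, index_stabilizer_of_transitive])
  obtain ⟨ω⟩ : Nonempty Ω := inferInstance
  have hS : ∀ ω : Ω, Sup D (⊤ ⊓ stabilizer G ω) := fun ω g => by
    obtain ⟨e, he⟩ := (isPretransitive_and_card_fixedBy_of_derangements_le D hd).1.exists_smul_eq ω (g • ω)
    refine ⟨(e : G)⁻¹ * g, ⟨trivial, mem_stabilizer_iff.2 (by rw [mul_smul, ← he]; exact inv_smul_smul _ _)⟩, ?_⟩
    simpa [mul_assoc] using (derSub_normal (G := G) (α := Ω)).conj_mem _ e.2 g⁻¹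
  obtain ⟨x, -, hL, hc⟩ := h.base hR hD hf le_top (hS ω)
  generalize x • ω = α at hL hc
  have ht : ∀ y : Ω, ∃ ρ ∈ R, ρ • α = y := fun y => by
    obtain ⟨g, rfl⟩ := exists_smul_eq G α y
    exact h.trans hR hD hf ⊤ le_top α (hS α) g trivial
  have hcomm : ∀ a ∈ R, ∀ b ∈ R, a * b = b * a := fun a ha b hb => by
    refine commutatorElement_eq_one_iff_mul_comm.1 (eq_of_smul_eq_smul fun y : Ω => ?_)
    obtain ⟨ρ, hρ, rfl⟩ := ht y
    have : (ρ⁻¹ * _ * ρ⁻¹⁻¹) • α = α := hc (le_normalizer_iff.1 (normalizer_commutator_ge_left R R) _ (inv_mem hρ) _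
      (commutator_mem_commutator ha hb))
    rwa [inv_inv, mul_smul, mul_smul, inv_smul_eq_iff, ← one_smul G (ρ • α), smul_smul, mul_one] at this
  letI : CommGroup R := { (inferInstance : Group R) with mul_comm := fun a b => Subtype.ext (hcomm a a.2 b b.2) }
  let e : Additive R ≃ Ω := Equiv.ofBijective (fun ρ => (ρ.toMul : G) • α) ⟨fun a b hab => by
    refine Additive.toMul.injective (Subtype.ext (eq_of_smul_eq_smul fun y : Ω => ?_))
    obtain ⟨ρ, hρ, rfl⟩ := ht y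
    rw [← mul_smul, ← mul_smul, hcomm _ a.toMul.2 _ hρ, hcomm _ b.toMul.2 _ hρ, mul_smul, mul_smul]
    exact congrArg _ hab, fun y => by obtain ⟨ρ, hρ, e⟩ := ht y; exact ⟨Additive.ofMul ⟨ρ, hρ⟩, e⟩⟩
  letI : AddCommGroup Ω := e.symm.addCommGroup
  have ea : ∀ a ∈ R, ∀ y : Ω, a • α + y = a • y := fun a ha y => by
    obtain ⟨ρ, hρ, rfl⟩ := ht y
    change e (e.symm (e (Additive.ofMul ⟨a, ha⟩)) + e.symm (e (Additive.ofMul ⟨ρ, hρ⟩))) = _
    rw [e.symm_apply_apply, e.symm_apply_apply]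
    exact mul_smul a ρ α
  obtain ⟨v, hv, hw⟩ := caseA (D := D) (Ω := Ω) (fun v => by
    obtain ⟨ρ, hρ, rfl⟩ := ht v
    exact ⟨ρ, hD hρ, fun y => (ea ρ hρ y).symm⟩) _ (fun l hl a b => by
      obtain ⟨ρ, hρ, rfl⟩ := ht a
      have h0 : l⁻¹ • α = α := inv_mem (show l ∈ stabilizer G α from hl.2)
      rw [ea ρ hρ, show l • ρ • α = (l * ρ * l⁻¹) • α by rw [mul_smul, mul_smul, h0],
        ea _ ((hl.1.2 ρ).1 hρ), mul_smul, mul_smul, inv_smul_smul]) hL h.two h.small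
  obtain ⟨ρ, hρ, rfl⟩ := ht v
  have hρc : ρ ∈ R.normalCore := fun g => by
    obtain ⟨w, hw⟩ := hw g
    obtain ⟨σ, hσ, rfl⟩ := ht w
    refine (eq_of_smul_eq_smul fun y : Ω => ?_ : σ = g * ρ * g⁻¹) ▸ hσ
    rw [mul_smul, mul_smul, ← ea ρ hρ, hw, smul_inv_smul, ea σ hσ]
  rw [hna _ inferInstance ⟨⟨fun a b => Subtype.ext (hcomm _ (normalCore_le R a.2) _ (normalCore_le R b.2))⟩⟩,
    mem_bot] at hρc
  exact hv (left_eq_add.1 (show ρ • α = ρ • α + ρ • α by rw [ea ρ hρ, hρc, one_smul, one_smul]))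


/-- Let G act faithfully and primitively on a finite set with n ≥ 2 points and suppose G has no non-trivial abelian normal subgroup (G is not of affine type). Let D be the subgroup generated by the derangements. Then the index of D in G is at most √n − 1. -/
theorem result {G Ω : Type*} [Group G] [Finite G] [MulAction G Ω] [FaithfulSMul G Ω] [Finite Ω]
    (hprim : MulAction.IsPreprimitive G Ω) (hΩ : 2 ≤ Nat.card Ω) (hna : ∀ N : Subgroup G, N.Normal → IsMulCommutative ↥N → N = ⊥) :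
    ((Subgroup.closure {g : G | ∀ ω : Ω, g • ω ≠ ω}).index : ℝ) ≤ Real.sqrt (Nat.card Ω) - 1 := by
  have : Nontrivial Ω := Finite.one_lt_card_iff_nontrivial.1 hΩ
  rw [le_sub_iff_add_le]
  apply Real.le_sqrt_of_sq_le
  exact_mod_cast key (Ω := Ω) hna

end Cfsg.Agent.S3550
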