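import Cfsg.Statements.S3554
import Cfsg.Agent.Perm.FCGroup

set_option autoImplicit false
open Cfsg

namespace Cfsg.Agent.S3554

/-- Let G act faithfully and transitively on a finite set and suppose G has a non-trivial cyclic normal subgroup. Then some element of G of prime order fixes no point. -/
theorem result {G Ω : Type*} [Group G] [Finite G] [MulAction G Ω] [FaithfulSMul G Ω] [Finite Ω]
    (htrans : MulAction.IsPretransitive G Ω) (C : Subgroup G) (hC : C.Normal) (hC1 : C ≠ ⊥) (hcyc : IsCyclic ↥C) :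
    ∃ g : G, (orderOf g).Prime ∧ ∀ ω : Ω, g • ω ≠ ω := by
  obtain ⟨p, hp, hdvd⟩ := Nat.exists_prime_and_dvd (n := Nat.card C)
    (fun h => hC1 (Subgroup.card_eq_one.1 h))
  have : Fact p.Prime := ⟨hp⟩
  obtain ⟨x, hx⟩ := exists_prime_orderOf_dvd_card' p hdvd
  have hx' : orderOf (x : G) = p := by rw [Subgroup.orderOf_coe, hx]
  refine ⟨x, hx' ▸ hp, fun ω hω => ?_⟩
  have h1 : (x : G) = 1 := by
    refine (faithfulSMul_iff (G := G) (α := Ω)).mp inferInstance _ fun b => ?_
    obtain ⟨k, rfl⟩ := MulAction.exists_smul_eq G ω b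
    have h2 : k⁻¹ * x * k⁻¹⁻¹ ∈ C := hC.conj_mem _ x.2 _
    have h3 : orderOf (k⁻¹ * x * k⁻¹⁻¹) = orderOf (x : G) := by
      rw [← MulAut.conj_apply, MulEquiv.orderOf_eq]
    have h4 := CL.Perm.mem_zpowers_of_isCyclic_subgroup x.2 h2 (h3 ▸ dvd_rfl)
    have h5 : Subgroup.zpowers (x : G) ≤ MulAction.stabilizer G ω := Subgroup.zpowers_le.mpr hω
    have h6 := h5 h4
    rw [MulAction.mem_stabilizer_iff, inv_inv, mul_smul, mul_smul, inv_smul_eq_iff] at h6
    exact h6
  rw [h1, orderOf_one] at hx'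
  exact hp.one_lt.ne hx'

end Cfsg.Agent.S3554
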