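import Cfsg.Statements.S3555
import Cfsg.Agent.Perm.Derange2
import Cfsg.Agent.Char.FrobeniusKernel

set_option autoImplicit false
open Cfsg
open scoped Pointwise

namespace Cfsg.Agent.S3555

/-- Let G act faithfully and transitively on a finite set and suppose every element of G fixing no point is an involution. Then either G is an elementary abelian 2-group, or G is a Frobenius group whose Frobenius kernel is an elementary abelian 2-group: G has a Frobenius complement H, and the elements lying in no conjugate of H, together with the identity, pairwise commute and square to the identity. -/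
theorem result {G Ω : Type*} [Group G] [Finite G] [MulAction G Ω] [FaithfulSMul G Ω] [Finite Ω]
    (htrans : MulAction.IsPretransitive G Ω) (hinv : ∀ g : G, (∀ ω : Ω, g • ω ≠ ω) → orderOf g = 2) :
    (IsMulCommutative G ∧ ∀ g : G, g ^ 2 = 1) ∨
    (∃ H : Subgroup G, Cfsg.IsFrobeniusComplement H ∧
      (∀ x ∈ Cfsg.frobeniusKernel H, x ^ 2 = 1) ∧
      ∀ x ∈ Cfsg.frobeniusKernel H, ∀ y ∈ Cfsg.frobeniusKernel H, x * y = y * x) := by
  classical
  have hcomm : ∀ K : Subgroup G, (∀ x ∈ K, x ^ 2 = 1) → ∀ x ∈ K, ∀ y ∈ K, x * y = y * x := by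
    intro K hK x hx y hy
    have h1 := hK _ (K.mul_mem hx hy)
    have h2 := hK x hx
    have h3 := hK y hy
    rw [sq] at h1 h2 h3
    calc x * y = (x * y)⁻¹ := (eq_inv_of_mul_eq_one_left h1)
      _ = y⁻¹ * x⁻¹ := mul_inv_rev x y
      _ = y * x := by rw [← eq_inv_of_mul_eq_one_left h2, ← eq_inv_of_mul_eq_one_left h3]
  rcases isEmpty_or_nonempty Ω with hΩ | hΩ
  · have := hinv 1 fun ω => hΩ.elim ω
    simp at this
  obtain ⟨a⟩ := id hΩ
  have hsq : ∀ g : G, (∀ ω : Ω, g • ω ≠ ω) → g ^ 2 = 1 := fun g hg => by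
    rw [← hinv g hg, pow_orderOf_eq_one]
  have hfix : ∀ g : G, ∀ x y : Ω, x ≠ y → g • x = x → g • y = y → g = 1 := by
    intro g x y hxy hx hy
    rcases CL.Perm.card_fixedBy_of_derangements_sq (α := Ω)
      (fun g hg => by rw [← sq]; exact hsq g hg) g with h | h
    · have := (Finite.card_le_one_iff_subsingleton.mp h).elim
        (⟨x, hx⟩ : MulAction.fixedBy Ω g) ⟨y, hy⟩
      exact absurd (congrArg Subtype.val this) hxy
    · refine (faithfulSMul_iff (G := G) (α := Ω)).mp inferInstance _ fun b => ?_
      have : MulAction.fixedBy Ω g = Set.univ := by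
        apply Set.eq_of_subset_of_ncard_le (Set.subset_univ _)
        rw [Set.ncard_univ, ← h, Nat.card_coe_set_eq]
      have hb : b ∈ MulAction.fixedBy Ω g := this ▸ Set.mem_univ b
      exact hb
  by_cases hH : MulAction.stabilizer G a = ⊥
  · left
    have h2 : ∀ g : G, g ^ 2 = 1 := by
      intro g
      by_cases hg : g = 1
      · rw [hg, one_pow]
      refine hsq g fun ω hω => hg ?_
      obtain ⟨k, rfl⟩ := MulAction.exists_smul_eq G a ω
      have : k⁻¹ * g * k ∈ MulAction.stabilizer G a := by
        rw [MulAction.mem_stabilizer_iff, mul_smul, mul_smul, hω, inv_smul_smul]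
      rw [hH, Subgroup.mem_bot] at this
      calc g = k * (k⁻¹ * g * k) * k⁻¹ := by group
        _ = 1 := by rw [this]; group
    exact ⟨⟨⟨fun x y => hcomm ⊤ (fun x _ => h2 x) x trivial y trivial⟩⟩, h2⟩
  · right
    have hmal : ∀ g : G, g ∉ MulAction.stabilizer G a →
        MulAction.stabilizer G a ⊓ (MulAut.conj g • MulAction.stabilizer G a) = ⊥ := by
      intro g hg
      rw [eq_bot_iff]
      rintro x ⟨h1, h2⟩
      rw [Subgroup.mem_bot]
      have h3 : x ∈ MulAction.stabilizer G (g • a) := by
        rw [MulAction.stabilizer_smul_eq_stabilizer_map_conj]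
        exact h2
      exact hfix x a (g • a) (fun h => hg h.symm) h1 h3
    have htop : MulAction.stabilizer G a ≠ ⊤ := by
      intro h
      apply hH
      rw [eq_bot_iff]
      intro g _
      rw [Subgroup.mem_bot]
      refine (faithfulSMul_iff (G := G) (α := Ω)).mp inferInstance _ fun b => ?_
      obtain ⟨k, rfl⟩ := MulAction.exists_smul_eq G a b
      have e1 : k ∈ MulAction.stabilizer G a := h ▸ Subgroup.mem_top _
      have e2 : g ∈ MulAction.stabilizer G a := h ▸ Subgroup.mem_top _
      rw [e1, e2]
    obtain ⟨N, hN, -, -⟩ := CL.Char.frobenius_kernel _ hmal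
    have hk : ∀ x ∈ Cfsg.frobeniusKernel (MulAction.stabilizer G a), x ^ 2 = 1 := by
      rintro x (rfl | hx)
      · exact one_pow 2
      refine hsq x fun ω hω => ?_
      obtain ⟨k, rfl⟩ := MulAction.exists_smul_eq G a ω
      apply hx k
      have : x ∈ MulAction.stabilizer G (k • a) := hω
      rw [MulAction.stabilizer_smul_eq_stabilizer_map_conj] at this
      exact this
    refine ⟨_, ⟨hH, htop, hmal⟩, hk, ?_⟩
    rw [← hN] at hk ⊢
    exact hcomm N hk

end Cfsg.Agent.S3555
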