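import Cfsg.Statements.S3556
import Cfsg.Agent.Perm.PrimDerange

set_option autoImplicit false
open Cfsg

namespace Cfsg.Agent.S3556

/-- Let G act faithfully and primitively on a finite set with at least two points, and suppose that for some fixed prime p every element of G fixing no point has order a power of p. Then G is of affine type (it has a regular normal subgroup that is an elementary abelian r-group for some prime r) or almost simple (it has a non-abelian simple normal subgroup with trivial centralizer). -/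
theorem result {G Ω : Type*} [Group G] [Finite G] [MulAction G Ω] [FaithfulSMul G Ω] [Finite Ω]
    (hprim : MulAction.IsPreprimitive G Ω) (hΩ : 2 ≤ Nat.card Ω) (p : ℕ) (hp : p.Prime)
    (hder : ∀ g : G, (∀ ω : Ω, g • ω ≠ ω) → ∃ k : ℕ, orderOf g = p ^ k) :
    (∃ (N : Subgroup G) (r : ℕ), r.Prime ∧ N.Normal ∧ Cfsg.IsElementaryAbelian r N ∧
      MulAction.IsPretransitive N Ω ∧ ∀ a : Ω, MulAction.stabilizer N a = ⊥) ∨
    (∃ T : Subgroup G, T.Normal ∧ IsSimpleGroup ↥T ∧ ¬ IsMulCommutative ↥T ∧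
      Subgroup.centralizer (T : Set G) = ⊥) := by
  have : Nontrivial Ω := Finite.one_lt_card_iff_nontrivial.1 hΩ
  have : Nontrivial G := by
    obtain ⟨a, b, hab⟩ := exists_pair_ne Ω
    obtain ⟨g, rfl⟩ := MulAction.exists_smul_eq G a b
    exact ⟨⟨g, 1, by rintro rfl; exact hab (one_smul _ _).symm⟩⟩
  obtain ⟨N, hN⟩ := CL.Grp.exists_isMinNormal G
  have := hN.normal
  have hNt : MulAction.IsPretransitive N Ω := CL.Perm.isPretransitive_of_normal_of_ne_bot hN.ne_bot
  by_cases hab : IsMulCommutative N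
  · left
    obtain ⟨r, hr, h⟩ := CL.Perm.exists_prime_pow_eq_one_of_minimal_normal_comm N hN.ne_bot
      hN.min hab
    exact ⟨N, r, hr, hN.normal, ⟨hab, h⟩, hNt,
      CL.Perm.stabilizer_eq_bot_of_commute N N fun m hm n hn => setLike_mul_comm (s := N) hm hn⟩
  right
  by_contra hcon
  obtain ⟨T, _, m, e, s, hT, hTc, hTf, hs, h⟩ := CL.Perm.exists_derangements_of_not_affine (α := Ω)
    hN hab fun h => hcon ⟨N, hN.normal, h.1, hab, h.2⟩
  obtain ⟨q, hq, hqp, -, t, ht⟩ := CL.Perm.exists_prime_dvd_ne_ne hTc hp hp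
  obtain ⟨n, hn, ⟨i, hi⟩, -⟩ := h t (by
    rintro rfl
    rw [orderOf_one] at ht
    exact hq.one_lt.ne ht)
  obtain ⟨k, hk⟩ := hder n hn
  have h1 : q ∣ p ^ k := by
    rw [← hk, ← ht, ← hi, Subgroup.orderOf_coe]
    exact orderOf_map_dvd (CL.Perm.coord e i) n
  exact hqp ((Nat.prime_dvd_prime_iff_eq hq hp).1 (hq.dvd_of_dvd_pow h1))

end Cfsg.Agent.S3556
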