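import Cfsg.Statements.S3557
import Cfsg.Agent.Grp.PGroupBasic

set_option autoImplicit false
open Cfsg

namespace Cfsg.Agent.S3557

open MulAction Subgroup CL.Grp
open scoped commutatorElement

/-- pointwise stabiliser of an orbit -/
def orbKer (P : Type*) {Ω : Type*} [Group P] [MulAction P Ω] (b : Ω) : Subgroup P where
  carrier := {g | ∀ h : P, g • h • b = h • b}
  mul_mem' := by
    intro x y hx hy h
    rw [mul_smul, hy h, hx h]
  one_mem' := by intro h; simp
  inv_mem' := by
    intro x hx h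
    rw [inv_smul_eq_iff, hx h]

instance orbKer_normal (P : Type*) {Ω : Type*} [Group P] [MulAction P Ω] (b : Ω) :
    (orbKer P b).Normal := ⟨by
  intro n hn g h
  have := hn (g⁻¹ * h)
  rw [mul_smul] at this
  rw [mul_smul, mul_smul, this, smul_inv_smul]⟩

/-- an element central modulo the kernel and fixing a point lies in the kernel -/
theorem mem_orbKer_of_fix {P Ω : Type*} [Group P] [MulAction P Ω] (b : Ω) {w : P}
    (hw : ∀ g : P, ⁅w, g⁆ ∈ orbKer P b) (k : P) (hk : w • k • b = k • b) : w ∈ orbKer P b := by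
  intro h
  have h1 := hw (h * k⁻¹) ((h * k⁻¹) * w * k)
  have e1 : ⁅w, h * k⁻¹⁆ • ((h * k⁻¹) * w * k) • b = w • h • b := by
    rw [smul_smul, smul_smul, commutatorElement_def]
    congr 1
    group
  have e2 : ((h * k⁻¹) * w * k) • b = h • b := by
    rw [mul_smul, mul_smul, hk, smul_smul]
    congr 1
    group
  rw [e1, e2] at h1
  exact h1

/-- stabiliser of the `z`-orbit of `a`, for central `z` -/
def blk {P Ω : Type*} [Group P] [MulAction P Ω] (z : P) (hz : ∀ g : P, g * z = z * g) (a : Ω) :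
    Subgroup P where
  carrier := {g | ∃ k : ℤ, g • a = z ^ k • a}
  mul_mem' := by
    rintro x y ⟨k, hk⟩ ⟨j, hj⟩
    refine ⟨j + k, ?_⟩
    have hc : x * z ^ j = z ^ j * x := ((Commute.zpow_right (hz x) j))
    rw [mul_smul, hj, smul_smul, hc, mul_smul, hk, smul_smul, zpow_add]
  one_mem' := ⟨0, by simp⟩
  inv_mem' := by
    rintro x ⟨k, hk⟩
    refine ⟨-k, ?_⟩
    have hc : x * z ^ (-k) = z ^ (-k) * x := ((Commute.zpow_right (hz x) (-k)))
    rw [inv_smul_eq_iff, smul_smul, hc, mul_smul, hk, smul_smul, ← zpow_add]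
    simp

theorem core {P Ω : Type*} [Group P] [Finite P] [MulAction P Ω] {p : ℕ} [Fact p.Prime]
    (hP : IsPGroup p P) (z : P) (hz : ∀ g : P, g * z = z * g) (a b : Ω)
    (ha : (stabilizer P a).index = p ^ 2) (hb : (stabilizer P b).index = p ^ 2)
    (hza : z • a ≠ a) :
    ∃ w : P, (∀ h : P, w • h • b ≠ h • b) ∧ (∀ h : P, w ^ p • h • b = h • b) ∧
      ∀ h : P, ∃ k : ℤ, w • h • a = z ^ k • h • a := by
  have hp : p.Prime := Fact.out
  set M := blk z hz a with hM
  have hle : stabilizer P a ≤ M := fun g hg => ⟨0, by simpa using hg⟩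
  have hzM : z ∈ M := ⟨1, by simp⟩
  have hdvd : M.index ∣ p ^ 2 := ha ▸ Subgroup.index_dvd_of_le hle
  have hne : M.index ≠ p ^ 2 := by
    intro h
    have h1 := Subgroup.relIndex_mul_index hle
    rw [h, ha] at h1
    have h2 : (stabilizer P a).relIndex M = 1 :=
      Nat.eq_of_mul_eq_mul_right (pow_pos hp.pos 2) (by rw [h1, one_mul])
    exact hza (Subgroup.relIndex_eq_one.mp h2 hzM)
  have hdp : M.index = 1 ∨ M.index = p := by
    obtain ⟨i, hi, hi'⟩ := (Nat.dvd_prime_pow hp).mp hdvd
    interval_cases i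
    · left; simpa using hi'
    · right; simpa using hi'
    · exact absurd hi' hne
  have hMn : M.Normal := by
    rcases hdp with h | h
    · rw [Subgroup.index_eq_one.mp h]; infer_instance
    · exact normal_of_index_eq_pGroup hP h
  have hnle : ¬ M ≤ orbKer P b := by
    intro h
    have h1 : M ≤ stabilizer P b := fun g hg => by simpa using h hg 1
    have h2 := Subgroup.index_dvd_of_le h1
    rw [hb] at h2
    have h3 : p ^ 2 ∣ p ^ 1 := by
      rcases hdp with h | h
      · rw [h] at h2; exact h2.trans (one_dvd _)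
      · rw [h] at h2; simpa using h2
    have := (Nat.pow_dvd_pow_iff_le_right hp.one_lt).mp h3
    omega
  obtain ⟨w, hwM, hwn, hwp, hwc⟩ := exists_central_mod_of_not_le hP hnle
  refine ⟨w, fun h hh => hwn (mem_orbKer_of_fix b hwc h hh), hwp, fun h => ?_⟩
  obtain ⟨k, hk⟩ := hMn.conj_mem w hwM h⁻¹
  refine ⟨k, ?_⟩
  have hc : h * z ^ k = z ^ k * h := ((Commute.zpow_right (hz h) k))
  rw [inv_inv, mul_smul, mul_smul, inv_smul_eq_iff, smul_smul h, hc, mul_smul] at hk
  exact hk

theorem sq_dvd_index {G Ω : Type*} [Group G] [Finite G] [MulAction G Ω]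
    [IsPretransitive G Ω] {p : ℕ} [Fact p.Prime] (hcard : p ^ 2 ∣ Nat.card Ω) (P : Sylow p G) (ω : Ω) :
    p ^ 2 ∣ (stabilizer (P : Subgroup G) ω).index := by
  have hp : p.Prime := Fact.out
  set S := stabilizer (P : Subgroup G) ω
  have h1 : Nat.card S ∣ Nat.card (stabilizer G ω) := by
    have := Subgroup.card_dvd_of_le (H := S.map (P : Subgroup G).subtype) (K := stabilizer G ω) (by
      rintro _ ⟨g, hg, rfl⟩
      exact hg)
    rwa [Subgroup.card_map_of_injective Subtype.val_injective] at this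
  have h2 : p ^ 2 * Nat.card S ∣ Nat.card G := by
    rw [← (stabilizer G ω).index_mul_card, index_stabilizer_of_transitive]
    exact Nat.mul_dvd_mul hcard h1
  obtain ⟨k, hk⟩ := (P.isPGroup'.to_subgroup S).exists_card_eq
  rw [hk, ← pow_add] at h2
  have h3 : p ^ (2 + k) ∣ Nat.card (P : Subgroup G) := by
    rw [P.card_eq_multiplicity]
    exact pow_dvd_pow p ((hp.pow_dvd_iff_le_factorization Nat.card_pos.ne').mp h2)
  rw [← S.index_mul_card, hk, pow_add] at h3
  exact Nat.dvd_of_mul_dvd_mul_right (pow_pos hp.pos k) h3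


/-- Let G act faithfully and transitively on a finite set with 2p² points, p a prime, and suppose G is 2-closed: every permutation of the set which, on each ordered pair of points, agrees with some element of G, is itself induced by an element of G. Then some element of G of prime order fixes no point. -/
theorem result {G Ω : Type*} [Group G] [Finite G] [MulAction G Ω] [FaithfulSMul G Ω] [Finite Ω]
    (htrans : MulAction.IsPretransitive G Ω) (p : ℕ) (hp : p.Prime) (hcard : Nat.card Ω = 2 * p ^ 2)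
    (hcl : ∀ σ : Equiv.Perm Ω, (∀ a b : Ω, ∃ g : G, σ a = g • a ∧ σ b = g • b) → ∃ g : G, ∀ a : Ω, σ a = g • a) :
    ∃ g : G, (orderOf g).Prime ∧ ∀ ω : Ω, g • ω ≠ ω := by
  classical
  have : Fact p.Prime := ⟨hp⟩
  have hΩpos : 0 < Nat.card Ω := by rw [hcard]; have := hp.pos; positivity
  obtain ⟨P⟩ : Nonempty (Sylow p G) := inferInstance
  have hdv : ∀ ω : Ω, p ^ 2 ∣ (stabilizer (P : Subgroup G) ω).index :=
    sq_dvd_index (hcard ▸ Dvd.intro_left 2 rfl) P
  have hidx : ∀ ω : Ω, (stabilizer (P : Subgroup G) ω).index = (orbit (P : Subgroup G) ω).ncard :=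
    fun ω => index_stabilizer _ ω
  obtain ⟨ω₀⟩ := (Nat.card_pos_iff.mp hΩpos).1
  have hP1 : ¬ (⊤ : Subgroup (P : Subgroup G)) ≤ ⊥ := by
    intro h
    have h1 : stabilizer (P : Subgroup G) ω₀ = ⊤ := top_le_iff.mp (h.trans bot_le)
    have h2 := hdv ω₀
    rw [h1, Subgroup.index_top, Nat.dvd_one, Nat.pow_eq_one] at h2
    rcases h2 with h2 | h2
    · exact hp.one_lt.ne' h2
    · omega
  obtain ⟨z, -, hz1, hzp, hzc⟩ := exists_central_mod_of_not_le P.isPGroup' hP1
  rw [Subgroup.mem_bot] at hz1 hzp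
  have hz : ∀ g : (P : Subgroup G), g * z = z * g := fun g =>
    (commutatorElement_eq_one_iff_mul_comm.mp (Subgroup.mem_bot.mp (hzc g))).symm
  have hzG : (z : G) ≠ 1 := fun h => hz1 (Subtype.ext h)
  have hzpG : (z : G) ^ p = 1 := by exact_mod_cast congrArg Subtype.val hzp
  by_cases hfix : ∀ ω : Ω, (z : G) • ω ≠ ω
  · exact ⟨z, by rw [orderOf_eq_prime hzpG hzG]; exact hp, hfix⟩
  push Not at hfix
  obtain ⟨b, hb⟩ := hfix
  have horb : ∀ c : Ω, (z : G) • c = c → ∀ h : (P : Subgroup G), z • h • c = h • c := by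
    intro c hc h
    rw [smul_smul, ← hz h, mul_smul]
    congr 1
  obtain ⟨a, ha⟩ : ∃ a : Ω, (z : G) • a ≠ a := by
    by_contra hall
    push Not at hall
    exact hzG (FaithfulSMul.eq_of_smul_eq_smul (α := Ω) (fun c => by rw [hall c, one_smul]))
  have hza : ∀ h : (P : Subgroup G), z • h • a ≠ h • a := by
    intro h hh
    have := horb (h • a) hh h⁻¹
    rw [inv_smul_smul] at this
    exact ha this
  have hdisj : Disjoint (orbit (P : Subgroup G) a) (orbit (P : Subgroup G) b) := by
    rw [Set.disjoint_left]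
    rintro _ ⟨h, rfl⟩ ⟨k, hk⟩
    apply hza h
    have := horb b hb k
    simp only at hk
    rw [hk] at this
    exact this
  have hsum := Set.ncard_union_eq hdisj (Set.toFinite _) (Set.toFinite _)
  have hle : (orbit (P : Subgroup G) a ∪ orbit (P : Subgroup G) b).ncard ≤ 2 * p ^ 2 := by
    rw [← hcard]; exact Set.ncard_le_card _
  have hge : ∀ ω : Ω, p ^ 2 ≤ (orbit (P : Subgroup G) ω).ncard := fun ω => by
    rw [← hidx]
    exact Nat.le_of_dvd (Nat.pos_of_ne_zero Subgroup.index_ne_zero_of_finite) (hdv ω)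
  have hga := hge a
  have hgb := hge b
  have hia : (stabilizer (P : Subgroup G) a).index = p ^ 2 := by rw [hidx]; omega
  have hib : (stabilizer (P : Subgroup G) b).index = p ^ 2 := by rw [hidx]; omega
  have hcov : ∀ c : Ω, c ∉ orbit (P : Subgroup G) a → ∃ h : (P : Subgroup G), c = h • b := by
    intro c hc
    have huniv : orbit (P : Subgroup G) a ∪ orbit (P : Subgroup G) b = Set.univ := by
      apply Set.eq_of_subset_of_ncard_le (Set.subset_univ _) _ (Set.toFinite _)
      rw [Set.ncard_univ, hcard]; omega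
    have : c ∈ orbit (P : Subgroup G) a ∪ orbit (P : Subgroup G) b := huniv ▸ Set.mem_univ c
    rcases this with h | ⟨h, hh⟩
    · exact absurd h hc
    · exact ⟨h, hh.symm⟩
  obtain ⟨w, hw1, hw2, hw3⟩ := core P.isPGroup' z hz a b hia hib (by simpa using hza 1)
  have hinv : ∀ (g : (P : Subgroup G)) (c : Ω),
      g • c ∈ orbit (P : Subgroup G) a ↔ c ∈ orbit (P : Subgroup G) a := by
    intro g c
    constructor
    · rintro ⟨h, hh⟩
      refine ⟨g⁻¹ * h, ?_⟩
      simp only at hh ⊢
      rw [mul_smul, hh, inv_smul_smul]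
    · rintro ⟨h, rfl⟩
      exact ⟨g * h, by simp only [mul_smul]⟩
  let σ : Equiv.Perm Ω :=
    { toFun := fun c => if c ∈ orbit (P : Subgroup G) a then z • c else w • c
      invFun := fun c => if c ∈ orbit (P : Subgroup G) a then z⁻¹ • c else w⁻¹ • c
      left_inv := by
        intro c
        by_cases hc : c ∈ orbit (P : Subgroup G) a
        · simp only [hc, if_true, (hinv z c).mpr hc, inv_smul_smul]
        · simp only [hc, if_false, mt (hinv w c).mp hc, inv_smul_smul]
      right_inv := by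
        intro c
        by_cases hc : c ∈ orbit (P : Subgroup G) a
        · simp only [hc, if_true, (hinv z⁻¹ c).mpr hc, smul_inv_smul]
        · simp only [hc, if_false, mt (hinv w⁻¹ c).mp hc, smul_inv_smul] }
  have hσ1 : ∀ c, c ∈ orbit (P : Subgroup G) a → σ c = z • c := fun c hc => if_pos hc
  have hσ2 : ∀ c, c ∉ orbit (P : Subgroup G) a → σ c = w • c := fun c hc => if_neg hc
  have hcross : ∀ c d, c ∈ orbit (P : Subgroup G) a → d ∉ orbit (P : Subgroup G) a →
      ∃ g : (P : Subgroup G), σ c = g • c ∧ σ d = g • d := by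
    intro c d hc hd
    rw [hσ1 c hc, hσ2 d hd]
    obtain ⟨h, rfl⟩ := hc
    obtain ⟨k, hk⟩ := hw3 h
    refine ⟨z ^ (1 - k) * w, ?_, ?_⟩
    · simp only
      rw [mul_smul, hk, smul_smul (z ^ (1 - k)), ← zpow_add]
      simp
    · obtain ⟨h', hh'⟩ := hcov (w • d) (mt (hinv w d).mp hd)
      rw [mul_smul, hh']
      have : z ∈ stabilizer (P : Subgroup G) (h' • b) := horb b hb h'
      exact (Subgroup.zpow_mem _ this (1 - k)).symm
  obtain ⟨g, hg⟩ := hcl σ (by
    intro c d
    by_cases hc : c ∈ orbit (P : Subgroup G) a <;> by_cases hd : d ∈ orbit (P : Subgroup G) a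
    · exact ⟨z, hσ1 c hc, hσ1 d hd⟩
    · obtain ⟨g, h1, h2⟩ := hcross c d hc hd
      exact ⟨g, h1, h2⟩
    · obtain ⟨g, h1, h2⟩ := hcross d c hd hc
      exact ⟨g, h2, h1⟩
    · exact ⟨w, hσ2 c hc, hσ2 d hd⟩)
  have hfpf : ∀ c : Ω, g • c ≠ c := by
    intro c
    rw [← hg c]
    by_cases hc : c ∈ orbit (P : Subgroup G) a
    · rw [hσ1 c hc]
      obtain ⟨h, rfl⟩ := hc
      exact hza h
    · rw [hσ2 c hc]
      obtain ⟨h, rfl⟩ := hcov c hc
      exact hw1 h
  have hpow1 : ∀ (n : ℕ) c, c ∈ orbit (P : Subgroup G) a → g ^ n • c = z ^ n • c := by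
    intro n
    induction n with
    | zero => intro c _; simp
    | succ n ih =>
      intro c hc
      rw [pow_succ, pow_succ, mul_smul, mul_smul, ← hg c, hσ1 c hc]
      exact ih _ ((hinv z c).mpr hc)
  have hpow2 : ∀ (n : ℕ) c, c ∉ orbit (P : Subgroup G) a → g ^ n • c = w ^ n • c := by
    intro n
    induction n with
    | zero => intro c _; simp
    | succ n ih =>
      intro c hc
      rw [pow_succ, pow_succ, mul_smul, mul_smul, ← hg c, hσ2 c hc]
      exact ih _ (mt (hinv w c).mp hc)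
  have hgp : g ^ p = 1 := by
    apply FaithfulSMul.eq_of_smul_eq_smul (α := Ω)
    intro c
    rw [one_smul]
    by_cases hc : c ∈ orbit (P : Subgroup G) a
    · rw [hpow1 p c hc, hzp, one_smul]
    · rw [hpow2 p c hc]
      obtain ⟨h, rfl⟩ := hcov c hc
      exact hw2 h
  have hg1 : g ≠ 1 := fun h => hfpf ω₀ (by rw [h, one_smul])
  exact ⟨g, by rw [orderOf_eq_prime hgp hg1]; exact hp, hfpf⟩

end Cfsg.Agent.S3557
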