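import Cfsg.Statements.S3579
import Cfsg.Agent.EQ.Asm
import Cfsg.Agent.EQ.LK
import Cfsg.Agent.EQ.LT
import Cfsg.Agent.EQ.RB
import Cfsg.Agent.EQ.NT
import Cfsg.Agent.EQ.WB
import Cfsg.Agent.EQ.LS
import Cfsg.Agent.EQ.C2A
import Cfsg.Agent.EQ.C2D
import Cfsg.Agent.EQ.C2
import Cfsg.Agent.EQ.BU
import Cfsg.Agent.EQ.MT
import Cfsg.Agent.EQ.LAM
import Cfsg.Agent.EQ.D1
import Cfsg.Agent.EQ.D2
import Cfsg.Agent.EQ.D3
import Cfsg.Agent.EQ.D4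
import Cfsg.Agent.EQ.E1
import Cfsg.Agent.EQ.E2
-- import your own Cfsg.Agent.* helpers here

set_option autoImplicit false
open Cfsg

namespace Cfsg.Agent.S3579

/-- Let G act faithfully and transitively on a finite set with 2pq points, where p and q are distinct odd primes. Then G contains an element of prime order fixing no point (G is not elusive). -/
theorem result {G Ω : Type*} [Group G] [Finite G] [MulAction G Ω] [FaithfulSMul G Ω] [Finite Ω]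
    (htrans : MulAction.IsPretransitive G Ω) (p q : ℕ) (hp : p.Prime) (hq : q.Prime) (hp2 : p ≠ 2) (hq2 : q ≠ 2)
    (hpq : p ≠ q) (hcard : Nat.card Ω = 2 * p * q) :
    ∃ g : G, (orderOf g).Prime ∧ ∀ ω : Ω, g • ω ≠ ω := by
  exact CL.EQ.main (CL.EQ.no_hyp (CL.EQ.rb CL.EQ.lk CL.EQ.lt CL.EQ.cj)
    (CL.EQ.rc CL.EQ.lk CL.EQ.lt CL.EQ.cj (CL.EQ.wb CL.EQ.nt))
    (CL.EQ.c2 CL.EQ.c2a (CL.EQ.c2d CL.EQ.ls CL.EQ.c2b CL.EQ.c2c)) CL.EQ.ry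
    (CL.EQ.ch (CL.EQ.lam CL.EQ.bu (CL.EQ.fx CL.EQ.bu)) (CL.EQ.mt CL.EQ.ls CL.EQ.bu) CL.EQ.d1 CL.EQ.d2 CL.EQ.d3
      CL.EQ.d4)
    (CL.EQ.e1 CL.EQ.bu (CL.EQ.fx CL.EQ.bu)) CL.EQ.e2 (CL.EQ.fx CL.EQ.bu)) htrans p q hp hq hp2 hq2 hpq hcard


end Cfsg.Agent.S3579
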