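import Cfsg.Statements.S3598
import Cfsg.Agent.Blk.DegMult
import Cfsg.Agent.S3668
import Cfsg.Agent.Cls.SLnCard

set_option autoImplicit false
open Cfsg

namespace Cfsg.Agent.S3598

/-- Let p be a prime and F a field with p² elements. If a finite group G has, for every d, the same number of irreducible complex characters of degree d as PSL(2,F) (the same first column of the character table, with multiplicities), then G is isomorphic to PSL(2,F). -/
theorem result {F : Type*} [Field F] [Fintype F] (p : ℕ) (hp : p.Prime)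
    (hF : Fintype.card F = p ^ 2) {G : Type*} [Group G] [Finite G]
    (h : ∀ d : ℕ, Nat.card {χ : Cfsg.IrrCharacter G // (χ : G → ℂ) 1 = (d : ℂ)} =
      Nat.card {χ : Cfsg.IrrCharacter (Matrix.ProjectiveSpecialLinearGroup (Fin 2) F) // (χ : Matrix.ProjectiveSpecialLinearGroup (Fin 2) F → ℂ) 1 = (d : ℂ)}) :
    Nonempty (G ≃* Matrix.ProjectiveSpecialLinearGroup (Fin 2) F) := by
  classical
  have : Fact p.Prime := ⟨hp⟩
  have h4 : 4 ≤ Fintype.card F := hF ▸ Nat.pow_le_pow_left hp.two_le 2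
  have := CL.SLn.isSimpleGroup_PSL_fin (F := F) 2 le_rfl fun _ => h4
  obtain ⟨e, he⟩ := CL.Blk.DegMult.exists_equiv h
  have hc : Nat.card G = Nat.card (CL.GL2.PSL2 F) := by
    rw [← CL.Char.sum_charDegree_sq, ← CL.Char.sum_charDegree_sq, ← e.sum_comp]
    simp only [he]
  have hd : charDegrees G = charDegrees (CL.GL2.PSL2 F) := Set.ext fun d =>
    ⟨fun ⟨χ, h⟩ => ⟨e χ, (he χ).trans h⟩, fun ⟨χ, h⟩ => ⟨e.symm χ, by rw [← he, e.apply_symm_apply, h]⟩⟩
  rcases hp.eq_two_or_odd' with rfl | hodd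
  · have h60 := CL.Cls.card_PSL_two_of_card (d := 1) (N := 60) hF (by norm_num) one_pos (by norm_num)
    refine Cfsg.Agent.S3668.result (CL.Inv.not_isMulCommutative_of_not_prime (by rw [h60]; norm_num))
      (by omega) hc ⟨by simp only [degreePrimes, hd], ?_⟩
    ext r s
    simp only [degreeGraph, hd]
  obtain ⟨k, hk⟩ := hodd
  have hn := CL.Inv.two_mul_card_psl2 (F := F) (hF ▸ Odd.pow ⟨k, hk⟩)
  have hk0 : 0 < k := by have := hp.two_le; omega
  obtain ⟨m, hm⟩ : ∃ m, p ^ 2 = 4 * m + 1 ∧ 1 < m := ⟨k * k + k, by rw [hk]; ring, by nlinarith⟩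
  have hG : Nat.card G = p ^ 2 * (4 * m) * (2 * m + 1) := by
    rw [← hc, hF, show (p ^ 2) ^ 2 - 1 = 2 * (4 * m * (2 * m + 1)) from
      Nat.sub_eq_of_eq_add (by rw [hm.1]; ring)] at hn
    linarith
  have c1 : (p ^ 2).Coprime (4 * m) := by rw [hm.1]; simp
  have c2 : (p ^ 2).Coprime (2 * m + 1) := Nat.Coprime.coprime_dvd_right
    (show 2 * m + 1 ∣ p ^ 2 + 1 from ⟨2, by omega⟩) (by simp)
  have c3 : (4 * m).Coprime (2 * m + 1) := by
    rw [show 4 * m = 2 * (2 * m) by ring]
    exact Nat.Coprime.mul_left (by simp) (by simp)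
  have hperf := CL.Inv.commutator_eq_top_of_simple (G := CL.GL2.PSL2 F)
    (CL.Inv.not_isMulCommutative_of_not_prime (hc ▸ hG ▸ Nat.not_prime_mul (by nlinarith) (by omega)))
  have h1 : ∀ χ : IrrCharacter G, charDegree (χ : G → ℂ) = 1 → e χ = CL.Char.irrOne _ := fun χ h =>
    CL.Spor.eq_irrOne_of_degree_one hperf ((he χ).trans h)
  have hP : ∀ P : Sylow p G, Nat.card P = p ^ 2 := fun P => by
    rw [P.card_eq_multiplicity, hG, mul_assoc, Nat.factorization_mul (by omega) (Nat.mul_ne_zero (by omega) (by omega)),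
      Finsupp.add_apply, Nat.factorization_eq_zero_of_not_dvd (hp.coprime_iff_not_dvd.1
        ((c1.mul_right c2).coprime_dvd_left (dvd_pow_self p two_ne_zero))), hp.factorization_pow]
    simp
  obtain ⟨K, _, _, hK, ⟨f⟩⟩ := CL.Blk.DegMult.psl2_of_selfCent hP
    (fun P x hx => CL.Blk.DegMult.centralizer_eq P (hP P) (fun r hr hrp g => CL.Blk.DegMult.not_dvd_orderOf
      hp hr rfl hrp hG c1 c2 c3 (by omega) (by omega) fun χ hχ => by
        have h2 := CL.GL2.charDegrees_PSL2_cases (hd.le ⟨χ, rfl⟩)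
        have h3 := mt (fun a => e.injective ((h1 χ a).trans (h1 _ CL.Spor.charDegree_irrOne).symm)) hχ
        rw [hF] at h2
        rcases h2 with a | a | a | a | a | a
        exacts [absurd a h3, .inl a, .inr (.inr ⟨2, by omega⟩), .inr (.inl (by omega)), .inr (.inr ⟨1, by omega⟩),
          by omega]) hx)
    (by rw [hc, hn, hF]) (by omega) fun e => by
      obtain ⟨P⟩ : Nonempty (Sylow p G) := inferInstance
      have := (Nat.card_eq_one_iff_unique.1 e).1
      have := P.normal_of_subsingleton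
      refine CL.Blk.DegOrd.not_mem_degreePrimes (P : Subgroup G) (fun a ha b hb => congrArg Subtype.val
        ((IsPGroup.isMulCommutative_of_card_eq_prime_sq (hP P)).is_comm.comm (⟨a, ha⟩ : P) ⟨b, hb⟩))
        P.not_dvd_index ⟨hp, _, hd ▸ CL.GL2.card_mem_charDegrees_PSL2, hF ▸ dvd_pow_self p two_ne_zero⟩
  exact ⟨f.trans (CL.SLn.pslMapEquiv (FiniteField.ringEquivOfCardEq (hK.trans hF.symm)))⟩

end Cfsg.Agent.S3598
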