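import Cfsg.Statements.S3617
import Cfsg.Agent.DT.Fin
import Cfsg.Agent.DT.CenM
import Cfsg.Agent.DT.Prod
import Cfsg.Agent.DT.Two
import Cfsg.Agent.DT.Pow

set_option autoImplicit false
open Cfsg

namespace Cfsg.Agent.S3617

/-- Let G act faithfully and primitively on a finite set, and suppose that for some point α the stabilizer of α acts doubly transitively on one of its orbits of size at least 2 among the remaining points. Then either G is almost simple (it has a non-abelian simple normal subgroup with trivial centralizer), or G has a unique minimal normal subgroup and that subgroup acts regularly (transitively with trivial point stabilizers). -/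
theorem result {G Ω : Type*} [Group G] [Finite G] [MulAction G Ω] [FaithfulSMul G Ω] [Finite Ω]
    (hprim : MulAction.IsPreprimitive G Ω) (α β : Ω) (hβ : β ≠ α)
    (h2 : 2 ≤ Nat.card ↥(MulAction.orbit ↥(MulAction.stabilizer G α) β))
    (h2t : MulAction.IsMultiplyPretransitive ↥(MulAction.stabilizer G α) ↥(MulAction.orbit ↥(MulAction.stabilizer G α) β) 2) :
    (∃ T : Subgroup G, T.Normal ∧ IsSimpleGroup ↥T ∧ ¬ IsMulCommutative ↥T ∧ Subgroup.centralizer (T : Set G) = ⊥) ∨
    (∃ N : Subgroup G, N.Normal ∧ N ≠ ⊥ ∧ (∀ M : Subgroup G, M.Normal → M ≠ ⊥ → N ≤ M) ∧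
      MulAction.IsPretransitive ↥N Ω ∧ ∀ ω : Ω, MulAction.stabilizer ↥N ω = ⊥) := by
  have d := CL.DT.diagP (CL.DT.cenP_of_main CL.DT.mainP)
  exact CL.DT.fin (CL.DT.twoP d) (CL.DT.powP CL.DT.prodP d) hprim α β hβ h2 h2t

end Cfsg.Agent.S3617
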