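import Cfsg.Statements.S3643
import Cfsg.Agent.Blk.M12OrdB

set_option autoImplicit false
open Cfsg

namespace Cfsg.Agent.S3643

/-- Let G be a finite group of the same order as the Mathieu group M₁₂ whose character degree graph equals that of M₁₂ (same primes dividing some irreducible complex character degree, same pairs of distinct primes whose product divides some degree). Then G is isomorphic to M₁₂ or to the direct product of the alternating group of degree 4 with M₁₁. -/
theorem result {G : Type*} [Group G] [Finite G] (hcard : Nat.card G = Nat.card ↥Cfsg.Spor.M12) (hΔ : Cfsg.degreePrimes G = Cfsg.degreePrimes ↥Cfsg.Spor.M12 ∧ Cfsg.degreeGraph G = Cfsg.degreeGraph ↥Cfsg.Spor.M12) :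
    Nonempty (G ≃* ↥Cfsg.Spor.M12) ∨ Nonempty (G ≃* alternatingGroup (Fin 4) × ↥Cfsg.Spor.M11) := by
  have := CL.Spor.M12_simple
  have hM := CL.Spor.card_M12
  have : Finite ↥Cfsg.Spor.M12 := Nat.finite_of_card_ne_zero (by rw [hM]; norm_num)
  have edge : ∀ r s : ℕ, r.Prime → s.Prime → r ≠ s → (∃ d ∈ CL.Char.cdSet ↥Cfsg.Spor.M12, r * s ∣ d) →
      ∃ d ∈ CL.Char.cdSet G, r * s ∣ d := fun r s hr hs hrs => by
    have : (degreeGraph G).Adj r s ↔ (degreeGraph ↥Cfsg.Spor.M12).Adj r s := by rw [hΔ.2]
    simpa only [degreeGraph, hr, hs, ne_eq, hrs, not_false_eq_true, true_and, CL.Char.mem_charDegrees_iff]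
      using this.2
  have h := CL.Blk.M12Ord.degrees_m12 hM
  exact CL.Blk.M12Ord.main (hcard.trans hM) (edge 5 11 (by norm_num) (by norm_num) (by norm_num) h.1)
    (edge 3 11 (by norm_num) (by norm_num) (by norm_num) h.2)

end Cfsg.Agent.S3643
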