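import Cfsg.Statements.S3716
import Cfsg.Agent.Perm.Nine5
import Cfsg.Agent.Transfer.Abelian

set_option autoImplicit false
open Cfsg

namespace Cfsg.Agent.S3716

/-- Let G be a finite group with an elementary abelian Sylow 3-subgroup M of order 9 which is self-centralizing (C_G(M) = M), let N = N_G(M), and suppose C_G(g) ≤ N for every nonidentity g ∈ M. If the Sylow 2-subgroups of N are dihedral of order 8, then G is not simple. -/
theorem result {G : Type*} [Group G] [Finite G] (M : Sylow 3 G) (hM9 : Nat.card ↥(M : Subgroup G) = 9)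
    (hMel : ∀ m ∈ (M : Subgroup G), m ^ 3 = 1)
    (hCM : Subgroup.centralizer ((M : Subgroup G) : Set G) = (M : Subgroup G))
    (N : Subgroup G) (hN : N = Subgroup.normalizer ((M : Subgroup G) : Set G))
    (hCg : ∀ g ∈ (M : Subgroup G), g ≠ 1 → Subgroup.centralizer ({g} : Set G) ≤ N)
    (hS : ∀ S : Sylow 2 ↥N, Nonempty (↥(S : Subgroup ↥N) ≃* DihedralGroup 4)) :
    ¬ IsSimpleGroup G := by
  subst hN
  intro hG
  have h := CL.Perm.SC9.of_loc (CL.Grp.isSylowIn_top_iff.2 ⟨M, rfl⟩) hM9 hMel hCM.le hCg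
  obtain ⟨T⟩ : Nonempty (Sylow 2 (Subgroup.normalizer ((M : Subgroup G) : Set G))) := inferInstance
  obtain ⟨e⟩ := hS T
  have h1 := CL.Grp.card_mul_relIndex (Subgroup.le_normalizer (H := (M : Subgroup G)))
  have h2 := (T : Subgroup (Subgroup.normalizer ((M : Subgroup G) : Set G))).card_mul_index
  have h3 := T.not_dvd_index
  have h4 := Nat.eq_prime_pow_of_unique_prime_dvd (p := 2)
    (n := (M : Subgroup G).relIndex (Subgroup.normalizer ((M : Subgroup G) : Set G)))
    Subgroup.index_ne_zero_of_finite fun {q} hq hd => by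
      obtain ⟨j, j1, j2, j3⟩ := CL.Transfer.exists_dvd_pow_sub_one_of_dvd_relIndex (M : Subgroup G) (n := 2)
        Nat.prime_three hq (fun e => (h.syl.of_le Subgroup.le_normalizer le_top).not_dvd (e ▸ hd)) hM9
        (hCM.symm ▸ hd)
      refine (Nat.prime_dvd_prime_iff_eq hq Nat.prime_two).1 (hq.dvd_of_dvd_pow (n := 3) (j3.trans ?_))
      interval_cases j <;> norm_num
  rw [Nat.card_congr e.toEquiv, DihedralGroup.nat_card] at h2
  rw [hM9, h4] at h1
  have h72 : Nat.card (Subgroup.normalizer ((M : Subgroup G) : Set G)) = 72 := by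
    generalize List.length _ = j at h1
    rcases (by omega : j < 4 ∨ 4 ≤ j) with h5 | h5
    · interval_cases j <;> omega
    · have := Nat.pow_dvd_pow 2 h5
      omega
  have key : ∀ d : DihedralGroup 4, ((e.symm d).1 : G) ∈ (M : Subgroup G) ↔ d = 1 := fun d => by
    refine ⟨fun hd => ?_, by rintro rfl; simp⟩
    have h5 : d ^ 3 = 1 := e.symm.injective (Subtype.ext (Subtype.ext (by simpa using hMel _ hd)))
    exact (by decide : ∀ d : DihedralGroup 4, d ^ 3 = 1 → d = 1) d h5
  rcases h.normal_or_sym h72 (e.symm (.r 1)).1.2 (e.symm (.sr 0)).1.2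
    (by simpa only [map_mul, map_inv, Subgroup.coe_mul, Subgroup.coe_inv] using mt (key (.r 1 * .r 1)).1 (by decide))
    (by simpa only [map_mul, Subgroup.coe_mul] using (key (.r 1 * .r 1 * (.r 1 * .r 1))).2 (by decide)) (mt (key _).1 (by decide))
    (by simpa only [map_mul, Subgroup.coe_mul] using (key (.sr 0 * .sr 0)).2 (by decide))
    (by
      have := mt (key ((.r 1 * .r 1)⁻¹ * .sr 0)).1 (by decide)
      rwa [map_mul, map_inv, map_mul] at this) with hn | ⟨⟨f⟩⟩
  · rcases hn.eq_bot_or_eq_top with h5 | h5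
    · simp [h5] at hM9
    · have := Subgroup.card_le_card_group (Subgroup.normalizer ((M : Subgroup G) : Set G))
      rw [h5, Subgroup.card_top] at hM9
      omega
  · have := f.symm.isSimpleGroup
    rcases (alternatingGroup.normal (α := Fin 6)).eq_bot_or_eq_top with h5 | h5
    · exact absurd (Subgroup.mem_bot.1 (h5.le (Equiv.Perm.mem_alternatingGroup.2
        (show Equiv.Perm.sign (Equiv.swap (0 : Fin 6) 1 * Equiv.swap 1 2) = 1 by decide)))) (by decide)
    · exact absurd (Equiv.Perm.mem_alternatingGroup.1 (h5.ge (Subgroup.mem_top (Equiv.swap 0 1)))) (by decide)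

end Cfsg.Agent.S3716
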