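import Cfsg.Statements.S3806
import Cfsg.Agent.Fgs.MaxClass

set_option autoImplicit false
open Cfsg

namespace Cfsg.Agent.S3806

open Subgroup
open scoped commutatorElement

/-- Let p be a prime and S a finite p-group of order pⁿ (n ≥ 2) of maximal nilpotency class n − 1 whose sectional p-rank is exactly k (every section has p-rank at most k, and some section has p-rank k). If p ≥ k + 2 then the order of S is at most p^(2k). -/
theorem result {S : Type*} [Group S] [Finite S] (p : ℕ) [Fact p.Prime] (hS : IsPGroup p S) [Group.IsNilpotent S]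
    (n : ℕ) (hn : 2 ≤ n) (hcard : Nat.card S = p ^ n) (hmax : Group.nilpotencyClass S = n - 1)
    (k : ℕ) (hk : 1 ≤ k) (hsr : Cfsg.SectionalPRankLE p k S ∧ ¬ Cfsg.SectionalPRankLE p (k - 1) S)
    (hpk : k + 2 ≤ p) : Nat.card S ≤ p ^ (2 * k) := by
  have hp : p.Prime := Fact.out
  rw [hcard]
  refine Nat.pow_le_pow_right hp.pos (not_lt.1 fun hlt => ?_)
  have h : CL.Fgs.MaxCl p n S := ⟨hcard, by omega, hmax⟩
  have key : ∀ (H N : Subgroup S) [N.Normal], N ≤ H → ⁅H, H⁆ ≤ N → (∀ x ∈ H, x ^ p ∈ N) → N.relIndex H ≤ p ^ k := by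
    intro H N _ hNH h1 h2
    have h3 := hsr.1 H (N.subgroupOf H) ⊤ ⟨⟨fun a b => Subtype.ext ?_⟩⟩ fun a _ => ?_
    · rwa [card_top] at h3
    · obtain ⟨a, -⟩ := a
      obtain ⟨b, -⟩ := b
      obtain ⟨a, rfl⟩ := QuotientGroup.mk_surjective a
      obtain ⟨b, rfl⟩ := QuotientGroup.mk_surjective b
      exact commutatorElement_eq_one_iff_mul_comm.1 ((QuotientGroup.eq_one_iff ⁅a, b⁆).2
        (h1 (commutator_mem_commutator a.2 b.2)))
    · obtain ⟨a, rfl⟩ := QuotientGroup.mk_surjective a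
      exact (QuotientGroup.eq_one_iff (a ^ p)).2 (h2 a a.2)
  rcases hk.eq_or_lt with rfl | hk
  · have h1 := key ⊤ ((⊤ : Subgroup S).lowerCentralSeries 1) le_top le_rfl fun x _ => h.pow_mem_lcs_one x
    rw [relIndex_top_right, h.index_lcs le_rfl (by omega), Nat.pow_le_pow_iff_right hp.one_lt] at h1
    omega
  obtain ⟨j, rfl⟩ : ∃ j, k = j + 1 := ⟨k - 1, by omega⟩
  obtain ⟨x, hx, hx'⟩ := SetLike.exists_of_lt (h.lcs_succ_lt (j := j) (by omega))
  have hle := CL.Fgs.lcs_anti (G := S) (show j ≤ j + (j + 1) + 1 by omega)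
  have h1 := key _ _ hle ?_ fun y hy => CL.Fgs.lcs_anti (by omega) (h.pow_mem_lcs (by omega) hy)
  · have h2 := relIndex_mul_index hle
    rw [h.index_lcs (by omega) (by omega), h.index_lcs (by omega) (by omega),
      show j + (j + 1) + 1 + 1 = j + 2 + (j + 1) by omega, pow_add p (j + 2)] at h2
    rw [Nat.eq_of_mul_eq_mul_right (pow_pos hp.pos _) h2, Nat.pow_le_pow_iff_right hp.one_lt] at h1
    omega
  · have h2 := h.sup_zpowers_eq (by omega) hx hx'
    have h3 := CL.Grp.commutator_lowerCentralSeries_le (G := S) j (j + 1)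
    refine (commutator_mono h2.ge le_rfl).trans (CL.Grp.commutator_sup_left_le ((Subgroup.commutator_comm _ _).le.trans h3)
      ((commutator_mono le_rfl h2.ge).trans (CL.Grp.commutator_sup_right_le
        ((commutator_mono (zpowers_le.2 hx) le_rfl).trans h3) ?_)))
    exact (commutator_eq_bot_iff_le_centralizer.2 (le_centralizer _)).le.trans bot_le

end Cfsg.Agent.S3806
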