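import Cfsg.Statements.S3808
import Cfsg.Agent.Grp.ExtraIndex

set_option autoImplicit false
open Cfsg

namespace Cfsg.Agent.S3808

/-- Let S be a finite p-group with an extraspecial subgroup Q of index p. Then either Z(S) = Z(Q), or S = Q·Z(S) and Z(S) has order p². -/
theorem result {S : Type*} [Group S] [Finite S] (p : ℕ) [Fact p.Prime] (hS : IsPGroup p S) (Q : Subgroup S) (hQ : Cfsg.IsExtraspecial p ↥Q) (hQi : Q.index = p) :
    Subgroup.center S = (Subgroup.center ↥Q).map Q.subtype ∨
      (Q ⊔ Subgroup.center S = ⊤ ∧ Nat.card (Subgroup.center S) = p ^ 2) := by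
  have hp : p.Prime := Fact.out
  have := CL.Grp.normal_of_index_eq_pGroup hS hQi
  have h1 := CL.Grp.extra_inf_centralizer_le_center hS hQ
  have h2 : Q ⊓ Subgroup.center S = Q ⊓ Subgroup.centralizer (Q : Set S) :=
    le_antisymm (inf_le_inf_left _ (Subgroup.center_le_centralizer _)) (le_inf inf_le_left h1)
  rw [CL.Grp.map_subtype_center_eq, ← h2]
  by_cases h : Subgroup.center S ≤ Q
  · exact Or.inl (inf_eq_right.mpr h).symm
  · right
    have h3 : Q ⊔ Subgroup.center S = ⊤ :=
      (CL.Grp.isCoatom_of_index_prime (hQi ▸ hp)).2 _ (left_lt_sup.mpr h)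
    refine ⟨h3, ?_⟩
    have h4 := CL.Grp.card_sup_mul_card_inf_of_normal Q (Subgroup.center S)
    rw [h3, h2, CL.Grp.extra_card_inf_centralizer hQ, Subgroup.card_top, ← Q.card_mul_index, hQi,
      mul_assoc] at h4
    rw [← Nat.eq_of_mul_eq_mul_left Nat.card_pos h4, pow_two]

end Cfsg.Agent.S3808
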