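import Cfsg.Statements.S3809
import Cfsg.Agent.Grp.ExtraIndex

set_option autoImplicit false
open Cfsg

namespace Cfsg.Agent.S3809

/-- Let S be a finite p-group with an extraspecial subgroup of index p. Then S has order p^(2+2n) for some n ≥ 1, derived length at most 3, and exponent dividing p³. -/
theorem result {S : Type*} [Group S] [Finite S] (p : ℕ) [Fact p.Prime] (hS : IsPGroup p S) (Q : Subgroup S) (hQ : Cfsg.IsExtraspecial p ↥Q) (hQi : Q.index = p) :
    (∃ n : ℕ, 1 ≤ n ∧ Nat.card S = p ^ (2 + 2 * n)) ∧ derivedSeries S 3 = ⊥ ∧ ∀ x : S, x ^ (p ^ 3) = 1 := by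
  have hp : p.Prime := Fact.out
  have := CL.Grp.normal_of_index_eq_pGroup hS hQi
  obtain ⟨n, H, h1, -, -, hn⟩ := CL.Grp.extra_exists_heis hQ
  refine ⟨⟨n, h1, by rw [← Q.card_mul_index, hQi, hn]; ring⟩, ?_, fun x => ?_⟩
  · have h2 : derivedSeries S 1 ≤ Q := CL.Grp.commutator_le_of_index_prime (hQi ▸ hp)
    have h3 : derivedSeries S 2 ≤ Subgroup.center S :=
      (Subgroup.commutator_mono h2 h2).trans ((CL.Grp.extra_commutator_self_eq hQ).le.trans
        (CL.Grp.extra_inf_centralizer_le_center hS hQ))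
    exact le_bot_iff.mp ((Subgroup.commutator_mono le_top h3).trans
      (Subgroup.commutator_center_right _).le)
  · have h2 := Q.pow_index_mem x
    rw [hQi] at h2
    rw [pow_succ', pow_mul]
    exact congrArg Subtype.val (H.pow_p_sq ⟨_, h2⟩)

end Cfsg.Agent.S3809
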