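import Cfsg.Statements.S3810
import Cfsg.Agent.Grp.ExtraIndex

set_option autoImplicit false
open Cfsg

namespace Cfsg.Agent.S3810

/-- Let S be a finite p-group with an extraspecial subgroup of index p. Then S has an abelian subgroup of index p if and only if S has order p⁴. -/
theorem result {S : Type*} [Group S] [Finite S] (p : ℕ) [Fact p.Prime] (hS : IsPGroup p S) (Q : Subgroup S) (hQ : Cfsg.IsExtraspecial p ↥Q) (hQi : Q.index = p) :
    (∃ A : Subgroup S, IsMulCommutative ↥A ∧ A.index = p) ↔ Nat.card S = p ^ 4 := by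
  have hp : p.Prime := Fact.out
  refine ⟨?_, CL.Grp.exists_abelian_index_of_card_pow_four⟩
  rintro ⟨A, hA, hAi⟩
  have := CL.Grp.normal_of_index_eq_pGroup hS hAi
  obtain ⟨n, h1, hn⟩ := CL.Grp.extra_card hQ
  have h2 := CL.Grp.extra_card_le_of_isMulCommutative hQ hn (A.subgroupOf Q) inferInstance
  have h3 := (A.subgroupOf Q).card_mul_index
  have h4 : (A.subgroupOf Q).index ≤ p :=
    Nat.le_of_dvd hp.pos (hAi ▸ Subgroup.relIndex_dvd_index_of_normal A Q)
  have h5 := Nat.mul_le_mul h2 h4
  rw [h3, hn, ← pow_succ, Nat.pow_le_pow_iff_right hp.one_lt] at h5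
  obtain rfl : n = 1 := by omega
  rw [← Q.card_mul_index, hQi, hn]; ring

end Cfsg.Agent.S3810
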