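import Cfsg.Statements.S3824
import Cfsg.Agent.Grp.KegelWielandt
import Cfsg.Agent.Odd.RelBasic

set_option autoImplicit false
open Cfsg

namespace Cfsg.Agent.S3824

open CL.Grp CL.Odd

/-- Every finite group having an abelian subgroup whose index is a power of 2 is solvable. -/
theorem result {G : Type*} [Group G] [Finite G]
    (A : Subgroup G) (hA : IsMulCommutative A) (hidx : ∃ k : ℕ, A.index = 2 ^ k) : Group.IsSolvable G := by
  obtain ⟨k, hk⟩ := hidx
  obtain ⟨P⟩ : Nonempty (Sylow 2 G) := inferInstance
  refine isSolvable_of_isFact_top G A P (nil_of_abelian hA) (nil_of_isPGroup Nat.prime_two P.isPGroup')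
    ⟨le_top, le_top, fun g _ => exists_mul_eq_of_coprime_index ?_ g⟩
  rw [hk]
  exact ((Nat.Prime.coprime_iff_not_dvd Nat.prime_two).2 P.not_dvd_index).pow_left k

end Cfsg.Agent.S3824
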