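import Cfsg.Statements.S3862
import Cfsg.Agent.Fgs.ClassReal
import Cfsg.Agent.Grp.PNilpFrob

set_option autoImplicit false
open Cfsg

namespace Cfsg.Agent.S3862

open CL.Fgs Subgroup


/-- If every 2-element of the finite group G that is conjugate to its inverse lies in the centre of G, then G has a normal 2-complement. -/
theorem result {G : Type*} [Group G] [Finite G] (h : ∀ x : G, (∃ j : ℕ, orderOf x = 2 ^ j) → IsConj x x⁻¹ → x ∈ Subgroup.center G) : Cfsg.HasNormalPComplement 2 G := by
  obtain ⟨P⟩ : Nonempty (Sylow 2 G) := inferInstance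
  refine (CL.Grp.hasNormalPComplement_iff_normalizer_coprime_centralizes P).2
    fun D hD a ha hcop => ?_
  have key : ∀ n : ℕ, ∀ x ∈ D, orderOf x = n → x ∈ cent(a) := by
    intro n
    induction n using Nat.strong_induction_on with
    | h n ih =>
      intro x hx hn
      rcases eq_or_ne x 1 with rfl | h1
      · exact one_mem _
      have hx2 := isPiElt_singleton_of_mem P.isPGroup' (hD hx)
      have h2 : x ^ 2 ∈ cent(a) := by
        refine ih _ ?_ _ (D.pow_mem hx 2) rfl
        obtain ⟨q, hq, hqd⟩ := Nat.exists_prime_and_dvd (fun h => h1 (orderOf_eq_one_iff.1 h))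
        have : q = 2 := hx2 q hq hqd
        subst this
        rw [orderOf_pow_of_dvd two_ne_zero hqd, ← hn]
        exact Nat.div_lt_self (orderOf_pos x) one_lt_two
      set y := a * x * a⁻¹ with hy
      have hyD : y ∈ D := (mem_normalizer_iff.1 ha x).1 hx
      have h3 : y ^ 2 = x ^ 2 := by
        rw [hy, conj_pow]; exact mem_cent_iff_conj.1 (mem_cent_comm.1 h2)
      have h4 : x⁻¹ * y ∈ center G := by
        refine h _ ((isPiElt_singleton_iff Nat.prime_two).1 (isPiElt_singleton_of_mem P.isPGroup'
          (hD (mul_mem (inv_mem hx) hyD)))) (isConj_iff.2 ⟨x, ?_⟩)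
        calc x * (x⁻¹ * y) * x⁻¹ = y⁻¹ * y ^ 2 * x⁻¹ := by group
          _ = (x⁻¹ * y)⁻¹ := by rw [h3]; group
      set w := x⁻¹ * y with hw
      have h5 : ∀ k : ℕ, a ^ k * x * (a ^ k)⁻¹ = x * w ^ k := by
        intro k
        induction k with
        | zero => simp
        | succ k ihk =>
          have e : a * w ^ k = w ^ k * a := mem_center_iff.1 (pow_mem h4 k) a
          calc a ^ (k + 1) * x * (a ^ (k + 1))⁻¹ = a * (a ^ k * x * (a ^ k)⁻¹) * a⁻¹ := by group
            _ = a * x * a⁻¹ * (a * w ^ k * a⁻¹) := by rw [ihk]; group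
            _ = x * w ^ (k + 1) := by
              rw [e, ← hy, pow_succ', mul_inv_cancel_right, ← mul_assoc]
              congr 1
              rw [hw, mul_inv_cancel_left]
      have h6 := h5 (orderOf a)
      rw [pow_orderOf_eq_one, one_mul, inv_one, mul_one, left_eq_mul] at h6
      have h7 : w = 1 := (isPiElt_singleton_of_mem P.isPGroup'
        (hD (mul_mem (inv_mem hx) hyD))).eq_one (isPiElt_of_pow_eq_one
          ((isPiElt_compl_singleton_iff_coprime Nat.prime_two).2 hcop) h6)
      exact mem_cent_comm.1 (mem_cent_iff_conj.2 (inv_mul_eq_one.1 h7).symm)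
  exact fun x hx => (mem_cent.1 (key _ x hx rfl)).eq

end Cfsg.Agent.S3862
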