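import Cfsg.Statements.S3869
import Cfsg.Agent.Fgs.IrrCyc
import Cfsg.Agent.Grp.MinNormal
import Cfsg.Agent.Grp.PGroupBasic

set_option autoImplicit false
open Cfsg

namespace Cfsg.Agent.S3869

section Helpers
open Subgroup CL.Grp

variable {G : Type*} [Group G] [Finite G] {p : ℕ} [hp : Fact p.Prime]

omit [Finite G] hp in
theorem closed_of_isPGroup (h : IsPGroup p G) : IsPClosed p G := fun P => by
  rw [← P.is_maximal' (h.to_subgroup ⊤) le_top]; infer_instance

omit [Finite G] in
theorem closed_of_not_dvd (h : ¬ p ∣ Nat.card G) : IsPClosed p G := fun P => by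
  have : (P : Subgroup G) = ⊥ := by
    by_contra hc
    exact h ((P.isPGroup'.card_eq_or_dvd.resolve_left fun h1 => hc (card_eq_one.1 h1)).trans
      (card_subgroup_dvd_card _))
  rw [this]; infer_instance

omit [Finite G] hp in
theorem comm_of_sup {A B : Subgroup G} (hA : IsMulCommutative A) (hB : IsMulCommutative B)
    (h : A ≤ centralizer (B : Set G)) (hs : A ⊔ B = ⊤) : IsMulCommutative G := by
  have := isMulCommutative_sup hA hB h
  rw [hs] at this
  exact ⟨⟨fun a b => congrArg Subtype.val (this.1.1 ⟨a, mem_top a⟩ ⟨b, mem_top b⟩)⟩⟩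

omit [Finite G] hp in
theorem le_cent_of_inf {A B : Subgroup G} [A.Normal] [B.Normal] (h : A ⊓ B = ⊥) :
    A ≤ centralizer (B : Set G) :=
  commutator_eq_bot_iff_le_centralizer.1 (eq_bot_iff.2 (h ▸ commutator_le_inf A B))

end Helpers

/-- Let p and q be distinct primes and G a finite non-abelian group with a normal elementary abelian q-subgroup A that is a minimal normal subgroup of G and has index p. Then A has order q^e with e the multiplicative order of q modulo p, and G is minimal non-p-closed: its Sylow p-subgroups are not normal, while in every proper subgroup and in every proper quotient of G the Sylow p-subgroups are normal. -/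
theorem result {G : Type*} [Group G] [Finite G] {p q : ℕ} [Fact p.Prime] (hq : q.Prime) (hpq : q ≠ p)
    (hna : ¬ IsMulCommutative G) (A : Subgroup G) [A.Normal] (hA : Cfsg.IsElementaryAbelian q A) (hidx : A.index = p)
    (hmin : ∀ B : Subgroup G, B.Normal → B ≤ A → B = ⊥ ∨ B = A) :
    Nat.card ↥A = q ^ orderOf (q : ZMod p) ∧ ¬ Cfsg.IsPClosed p G ∧ (∀ H : Subgroup G, H ≠ ⊤ → Cfsg.IsPClosed p ↥H) ∧
      ∀ (N : Subgroup G) [N.Normal], N ≠ ⊥ → Cfsg.IsPClosed p (G ⧸ N) := by
  have hp : p.Prime := Fact.out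
  haveI := Fact.mk hq
  have hAq := CL.Loc.ea_isPGroup hA
  have hco : IsCoatom A := CL.Grp.isCoatom_of_index_prime (by rw [hidx]; exact hp)
  have hsup : ∀ H : Subgroup G, ¬ H ≤ A → A ⊔ H = ⊤ := fun H h => by
    rw [sup_comm]; exact CL.Grp.sup_eq_top_of_isCoatom hco h
  have hdvd : ∀ H : Subgroup G, A ⊓ H = ⊥ → Nat.card H ∣ p := fun H h => by
    rw [← CL.Grp.card_inf_mul_relIndex A H, h, Subgroup.card_bot, one_mul, ← hidx]
    exact Subgroup.relIndex_dvd_index_of_normal A H
  have hnorm : ∀ N : Subgroup G, N.Normal → A ⊓ N = ⊥ → N = ⊥ := by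
    intro N _ h
    by_contra hN
    have hc : IsCyclic N := isCyclic_of_card_dvd_prime (hdvd N h)
    have hc2 : IsMulCommutative N := IsCyclic.isMulCommutative
    exact hna (comm_of_sup hA.1 hc2 (le_cent_of_inf h)
      (hsup N fun h1 => hN (by rwa [inf_eq_right.2 h1] at h)))
  obtain ⟨x, hx⟩ := exists_prime_orderOf_dvd_card' (G := G) p (by rw [← hidx]; exact A.index_dvd_card)
  have hxp : IsPGroup p (Subgroup.zpowers x) := IsPGroup.of_card (n := 1) (by simp [hx])
  have hx1 : Subgroup.zpowers x ≠ ⊥ := fun h => hp.one_lt.ne' (by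
    rw [← hx, ← Nat.card_zpowers, h, Subgroup.card_bot])
  have hs : A ⊔ Subgroup.zpowers x = ⊤ := hsup _ fun h1 =>
    hx1 (by simpa [inf_eq_right.2 h1] using (IsPGroup.disjoint_of_ne q p hpq _ _ hAq hxp).eq_bot)
  refine ⟨?_, fun h => ?_, fun H hH => ?_, fun N _ hN => ?_⟩
  · refine CL.Fgs.card_eq_pow_orderOf_of_irreducible hpq hA (x := x) ?_ ?_ (fun h => ?_)
      fun B hB h => ?_
    · rw [Subgroup.normalizer_eq_top]; trivial
    · rw [← hx, pow_orderOf_eq_one]; exact one_mem _
    · exact hna (comm_of_sup hA.1 inferInstance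
        (Subgroup.le_centralizer_iff.1 (Subgroup.zpowers_le.2 h)) hs)
    · exact hmin B (CL.Grp.normal_of_sup_le_normalizer hs
        (CL.Loc.ea_le_normalizer_of_le hA le_rfl hB)
        (Subgroup.zpowers_le.2 (Subgroup.mem_normalizer_fintype h))) hB
  · obtain ⟨P, hP⟩ := hxp.exists_le_sylow
    exact hx1 (eq_bot_iff.2 (hP.trans (hnorm P (h P)
      (IsPGroup.disjoint_of_ne q p hpq _ _ hAq P.isPGroup').eq_bot).le))
  · by_cases h : H ≤ A
    · obtain ⟨k, hk⟩ := IsPGroup.iff_card.1 (hAq.to_le h)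
      refine closed_of_not_dvd fun h1 => hpq ?_
      rw [hk] at h1
      exact ((Nat.prime_dvd_prime_iff_eq hp hq).1 (hp.dvd_of_dvd_pow h1)).symm
    · have h1 := hsup H h
      have := hA.1
      rcases hmin _ (CL.Grp.normal_inf_of_abelian_of_sup_eq_top h1) inf_le_left with h2 | h2
      · exact closed_of_isPGroup (IsPGroup.of_card_dvd_pow (n := 1) (by simpa using hdvd H h2))
      · exact absurd (by rwa [sup_eq_right.2 (inf_eq_left.1 h2)] at h1) hH
  · rcases hmin (A ⊓ N) inferInstance inf_le_left with h2 | h2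
    · exact absurd (hnorm N inferInstance h2) hN
    · exact closed_of_isPGroup (IsPGroup.of_card_dvd_pow (n := 1) (by
        rw [pow_one, ← hidx]; exact Subgroup.index_dvd_of_le (inf_eq_left.1 h2)))

end Cfsg.Agent.S3869
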