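import Cfsg.Statements.S3868
import Cfsg.Agent.S3869
import Cfsg.Agent.Grp.Coprime
import Cfsg.Agent.Grp.Coprime2

set_option autoImplicit false
open Cfsg

namespace Cfsg.Agent.S3868

section Helpers
open Subgroup CL.Grp

variable {G : Type*} [Group G] [Finite G] {p : ℕ} [hp : Fact p.Prime]

theorem closed_of_normal (P : Sylow p G) (h : (P : Subgroup G).Normal) : IsPClosed p G := fun Q => by
  have := Sylow.unique_of_normal P h
  rwa [Subsingleton.elim Q P]

theorem le_normalizer_of_closed {H S : Subgroup G} (h : IsPClosed p H) (hS : IsSylowIn p S H) :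
    normalizer (H : Set G) ≤ normalizer (S : Set G) := by
  obtain ⟨P, rfl⟩ := isSylowIn_iff_exists.1 hS
  have := h P
  have := P.characteristic_of_normal this
  exact normalizer_le_normalizer_map_subtype _

theorem normal_sup_of_closed (N : Subgroup G) [N.Normal] (h : IsPClosed p (G ⧸ N)) (P : Sylow p G) :
    (N ⊔ (P : Subgroup G)).Normal := by
  have := h (P.mapSurjective (QuotientGroup.mk'_surjective N))
  have h1 := this.comap (QuotientGroup.mk' N)
  rwa [Sylow.coe_mapSurjective, comap_map_eq, QuotientGroup.ker_mk', sup_comm] at h1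

end Helpers

/-- Structure of the non-simple minimal non-p-closed groups. Call a finite group p-closed when its Sylow p-subgroups are normal, and minimal non-p-closed when it is not p-closed but every proper subgroup and every proper quotient is. If such a group G is not simple, then there is a prime q ≠ p such that G has order p · q^e, where e is the multiplicative order of q modulo p, and G has a normal subgroup A of order q^e that is elementary abelian and is a minimal normal subgroup of G (so G is the semidirect product of A by a group of order p acting irreducibly). -/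
theorem result {G : Type*} [Group G] [Finite G] {p : ℕ} [Fact p.Prime]
    (hnc : ¬ Cfsg.IsPClosed p G) (hsub : ∀ H : Subgroup G, H ≠ ⊤ → Cfsg.IsPClosed p ↥H)
    (hquo : ∀ (N : Subgroup G) [N.Normal], N ≠ ⊥ → Cfsg.IsPClosed p (G ⧸ N)) (hns : ¬ IsSimpleGroup G) :
    ∃ q : ℕ, q.Prime ∧ q ≠ p ∧ Nat.card G = p * q ^ orderOf (q : ZMod p) ∧
      ∃ A : Subgroup G, A.Normal ∧ Nat.card ↥A = q ^ orderOf (q : ZMod p) ∧ Cfsg.IsElementaryAbelian q A ∧
        ∀ B : Subgroup G, B.Normal → B ≤ A → B = ⊥ ∨ B = A := by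
  have hp : p.Prime := Fact.out
  have hP : ∀ P : Sylow p G, ¬ (P : Subgroup G).Normal := fun P h => hnc (closed_of_normal P h)
  have hO : ∀ N : Subgroup G, N.Normal → IsPGroup p N → N = ⊥ := by
    intro N _ hN
    by_contra h
    have := normal_sup_of_closed N (hquo N h) default
    rw [sup_eq_right.2 (hN.le_sylow_of_normal _)] at this
    exact hP _ this
  have hnt : Nontrivial G := by
    by_contra h
    rw [not_nontrivial_iff_subsingleton] at h
    exact hP default (by rw [Subsingleton.elim ((default : Sylow p G) : Subgroup G) ⊤]; infer_instance)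
  obtain ⟨N, hN⟩ := CL.Grp.exists_isMinNormal G
  have hn := hN.normal
  have hNt : N ≠ ⊤ := fun h => hns ⟨fun H hH => h ▸ hN.min H hH (h ▸ le_top)⟩
  obtain ⟨P⟩ : Nonempty (Sylow p G) := inferInstance
  have hNP : (P : Subgroup G) ⊓ N = ⊥ := hO _ (Subgroup.normalizer_eq_top_iff.1 (top_le_iff.1
    ((Subgroup.normalizer_eq_top N).ge.trans (le_normalizer_of_closed (hsub N hNt)
      (CL.Grp.isSylowIn_inf_normal P N))))) (P.isPGroup'.to_le inf_le_left)
  have hpN : ¬ p ∣ Nat.card N := by
    have := (CL.Grp.isSylowIn_inf_normal P N).not_dvd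
    rwa [hNP, Subgroup.relIndex_bot_left] at this
  have hs : N ⊔ (P : Subgroup G) = ⊤ := by
    by_contra h
    have := normal_sup_of_closed N (hquo N hN.ne_bot) P
    exact hP P (Subgroup.normalizer_eq_top_iff.1 (top_le_iff.1 ((Subgroup.normalizer_eq_top _).ge.trans
      (le_normalizer_of_closed (hsub _ h) (CL.Grp.isSylowIn_of_le P le_sup_right)))))
  have hcop : (Nat.card P).Coprime (Nat.card N) := by
    obtain ⟨k, hk⟩ := IsPGroup.iff_card.1 P.isPGroup'
    exact hk ▸ ((Nat.Prime.coprime_iff_not_dvd hp).2 hpN).pow_left k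
  obtain ⟨q, hq, hqN⟩ : ∃ q : ℕ, q.Prime ∧ IsPGroup q N := by
    by_contra hc
    push Not at hc
    refine hP P (CL.Grp.normal_of_sup_le_normalizer hs ?_ Subgroup.le_normalizer)
    refine CL.Grp.le_of_forall_exists_isSylowIn_le fun q hq _ => ?_
    haveI := Fact.mk hq
    have := P.isPGroup'.isNilpotent
    obtain ⟨Q, hQ, hPQ⟩ := CL.Grp.exists_isSylowIn_le_normalizer q (A := P) (K := N)
      (by rw [Subgroup.normalizer_eq_top]; exact le_top) hcop (Or.inl inferInstance)
    refine ⟨Q, hQ, le_sup_left.trans (Subgroup.le_normalizer.trans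
      (le_normalizer_of_closed (hsub _ fun h => ?_) (CL.Grp.isSylowIn_of_le P le_sup_right)))⟩
    have := CL.Grp.dedekind_right hPQ hQ.le
    rw [h, top_inf_eq, hNP, sup_bot_eq] at this
    exact hc q hq (this ▸ hQ.isPGroup)
  haveI := Fact.mk hq
  have hea := hN.isElementaryAbelian_of_isPGroup hqN
  have hqp : q ≠ p := by
    rintro rfl
    exact hN.ne_bot (hO N hn hqN)
  have hPb : (P : Subgroup G) ≠ ⊥ := fun h => hP P (by rw [h]; infer_instance)
  obtain ⟨x, hx⟩ := exists_prime_orderOf_dvd_card' (G := P) p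
    (P.isPGroup'.card_eq_or_dvd.resolve_left fun h => hPb (Subgroup.card_eq_one.1 h))
  rw [← Subgroup.orderOf_coe] at hx
  have hxP : Subgroup.zpowers (x : G) ≤ P := Subgroup.zpowers_le.2 x.2
  have hs2 : N ⊔ Subgroup.zpowers (x : G) = ⊤ := by
    by_contra h
    obtain ⟨S, hS, hxS⟩ := CL.Grp.exists_isSylowIn_ge (P.isPGroup'.to_le hxP)
      (le_sup_right : _ ≤ N ⊔ Subgroup.zpowers (x : G))
    have h1 : N ≤ Subgroup.normalizer (S : Set G) :=
      le_sup_left.trans (Subgroup.le_normalizer.trans (le_normalizer_of_closed (hsub _ h) hS))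
    have h2 : ⁅N, S⁆ = ⊥ := by
      rw [eq_bot_iff, ← (IsPGroup.disjoint_of_ne q p hqp _ _ hqN hS.isPGroup).eq_bot]
      exact le_inf (Subgroup.commutator_le_left _ _) (Subgroup.le_normalizer_iff_commutator_le_right.1 h1)
    have h3 : (x : G) ∈ Subgroup.centralizer (N : Set G) ⊓ P :=
      ⟨Subgroup.le_centralizer_iff.1 (Subgroup.commutator_eq_bot_iff_le_centralizer.1 h2)
        (hxS (Subgroup.mem_zpowers _)), x.2⟩
    rw [hO (Subgroup.centralizer (N : Set G) ⊓ P) (CL.Grp.normal_of_sup_le_normalizer hs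
      (CL.Grp.le_normalizer_of_le_centralizer (Subgroup.le_centralizer_iff.1 inf_le_left))
      (CL.Grp.le_normalizer_inf (by rw [Subgroup.normalizer_eq_top]; exact le_top) Subgroup.le_normalizer))
      (P.isPGroup'.to_le inf_le_right), Subgroup.mem_bot] at h3
    exact hp.one_lt.ne' (by rw [← hx, h3, orderOf_one])
  have hcard : Nat.card G = p * Nat.card N := by
    rw [← Subgroup.card_top, ← hs2, sup_comm, CL.Grp.card_sup_of_inf_eq_bot
      (by rw [Subgroup.normalizer_eq_top]; exact le_top)
      (eq_bot_iff.2 (hNP ▸ inf_le_inf_right N hxP)), Nat.card_zpowers, hx]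
  have hidx : N.index = p := Nat.eq_of_mul_eq_mul_right Nat.card_pos (N.index_mul_card.trans hcard)
  have h1 := (S3869.result hq hqp (fun h => hP P inferInstance) N hea hidx hN.min).1
  exact ⟨q, hq, hqp, by rw [hcard, h1], N, hn, h1, hea, hN.min⟩

end Cfsg.Agent.S3868
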