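import Cfsg.Statements.S3870
import Cfsg.Agent.Fgs.SylTI

set_option autoImplicit false
open Cfsg
open scoped Pointwise

namespace Cfsg.Agent.S3870

/-- Let G be a finite simple group whose Sylow p-subgroups are not normal but such that every proper subgroup of G has a normal Sylow p-subgroup. Then any two distinct Sylow p-subgroups of G intersect trivially, and for every Sylow p-subgroup P the normalizer of every non-identity subgroup of P lies in the normalizer of P. -/
theorem result {G : Type*} [Group G] [Finite G] [IsSimpleGroup G] {p : ℕ} [Fact p.Prime]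
    (hnc : ¬ Cfsg.IsPClosed p G) (hsub : ∀ H : Subgroup G, H ≠ ⊤ → Cfsg.IsPClosed p ↥H) :
    (∀ P Q : Sylow p G, P ≠ Q → (P : Subgroup G) ⊓ (Q : Subgroup G) = ⊥) ∧
      ∀ (P : Sylow p G) (R : Subgroup G), R ≤ P → R ≠ ⊥ →
        Subgroup.normalizer (R : Set G) ≤ Subgroup.normalizer ((P : Subgroup G) : Set G) := by
  have hTI : ∀ P Q : Sylow p G, P ≠ Q → (P : Subgroup G) ⊓ (Q : Subgroup G) = ⊥ := by
    intro P Q hPQ
    obtain ⟨S, T, hST, hmax⟩ := CL.Fgs.exists_max_sylow_inf hPQ
    have hn : Subgroup.normalizer (((S : Subgroup G) ⊓ T : Subgroup G) : Set G) = ⊤ := by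
      by_contra hne
      exact CL.Fgs.not_isPClosed_normalizer_of_max hST hmax le_rfl (hsub _ hne)
    rcases (Subgroup.normalizer_eq_top_iff.1 hn).eq_bot_or_eq_top with h | h
    · have := hmax P Q hPQ
      rw [h, Subgroup.card_bot] at this
      exact Subgroup.eq_bot_of_card_le _ this
    · exact absurd (CL.Fgs.sylow_eq_of_le (le_top.trans (h.ge.trans inf_le_right))) hST
  refine ⟨hTI, fun P R hR hR1 g hg => ?_⟩
  rw [← CL.Fgs.sylow_smul_eq_iff]
  by_contra hne
  apply hR1
  rw [eq_bot_iff, ← hTI _ _ hne]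
  refine le_inf ?_ hR
  rw [← (CL.Grp.conj_smul_eq_self_iff g R).2 hg]
  exact Subgroup.pointwise_smul_le_pointwise_smul_iff.2 hR

end Cfsg.Agent.S3870
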