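import Cfsg.Statements.S4209
import Cfsg.Agent.Fgs.Regular

set_option autoImplicit false
open Cfsg

namespace Cfsg.Agent.S4209

/-- A finite `p`-group of nilpotency class less than `p` (the term of index `p - 1` of the lower central series of the whole group, indexed from `0`, is trivial) is a regular `p`-group. -/
theorem result {G : Type*} [Group G] [Finite G] {p : ℕ} [Fact p.Prime] (hG : IsPGroup p G) (hcl : (⊤ : Subgroup G).lowerCentralSeries (p - 1) = ⊥) : Cfsg.IsRegularPGroup p G := by
  apply CL.Fgs.WReg.isRegular hG
  intro a b
  apply CL.Fgs.mul_pow_prime_mem Fact.out (CL.Fgs.left_mem_closure_pair a b)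
    (CL.Fgs.right_mem_closure_pair a b)
  · intro c hc
    simpa using CL.Fgs.pow_mem_powerClosure (p := p) (n := 1) hc
  · exact (Subgroup.lowerCentralSeries_mono _ le_top).trans (hcl.le.trans bot_le)

end Cfsg.Agent.S4209
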