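import Cfsg.Statements.S3872
import Cfsg.Agent.Grp.PGroupCyc
import Cfsg.Agent.Grp.PGroupMaxClass
import Cfsg.Agent.Grp.MinNormal
import Cfsg.Agent.S4209
import Cfsg.Agent.S4225

set_option autoImplicit false
open Cfsg

namespace Cfsg.Agent.S3872

open Subgroup
open scoped commutatorElement

/-- Say that a finite group is p-exponent closed when its elements of order dividing p form a subgroup. Let G be a finite p-group that is not p-exponent closed, but all of whose proper subgroups and proper quotients are. Then G is generated by two elements, has nilpotency class at least p, has exponent p², has cyclic center, and has order at least p^(p+1). -/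
theorem result {G : Type*} [Group G] [Finite G] {p : ℕ} [Fact p.Prime] (hG : IsPGroup p G)
    (hnc : ¬ (∃ H : Subgroup G, (H : Set G) = {g : G | g ^ p = 1})) (hsub : ∀ K : Subgroup G, K ≠ ⊤ → (∃ H : Subgroup ↥K, (H : Set ↥K) = {g : ↥K | g ^ p = 1}))
    (hquo : ∀ (N : Subgroup G) [N.Normal], N ≠ ⊥ → (∃ H : Subgroup (G ⧸ N), (H : Set (G ⧸ N)) = {g : (G ⧸ N) | g ^ p = 1})) :
    (∃ x y : G, Subgroup.closure ({x, y} : Set G) = ⊤) ∧ (⊤ : Subgroup G).lowerCentralSeries (p - 1) ≠ ⊥ ∧
      Monoid.exponent G = p ^ 2 ∧ IsCyclic ↥(Subgroup.center G) ∧ p ^ (p + 1) ≤ Nat.card G := by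
  have hp : p.Prime := Fact.out
  have := hG.isNilpotent
  have hclosed : ∀ {K : Type _} [Group K], (∃ H : Subgroup K, (H : Set K) = {g : K | g ^ p = 1}) →
      ∀ x y : K, x ^ p = 1 → y ^ p = 1 → ∀ z ∈ closure ({x, y} : Set K), z ^ p = 1 := by
    rintro K _ ⟨H, hH⟩ x y hx hy z hz
    have : closure ({x, y} : Set K) ≤ H := (closure_le _).2 (by rw [hH]; rintro _ (rfl | rfl); exacts [hx, hy])
    have h := this hz
    rwa [← SetLike.mem_coe, hH] at h
  obtain ⟨x, y, hx, hy, hxy⟩ : ∃ x y : G, x ^ p = 1 ∧ y ^ p = 1 ∧ (x * y) ^ p ≠ 1 := by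
    by_contra h
    push Not at h
    exact hnc ⟨⟨⟨⟨{g | g ^ p = 1}, fun ha hb => h _ _ ha hb⟩, one_pow p⟩, fun {a} (ha : a ^ p = 1) =>
      show a⁻¹ ^ p = 1 by rw [inv_pow, ha, inv_one]⟩, rfl⟩
  have hx' : x ∈ closure ({x, y} : Set G) := subset_closure (by simp)
  have hy' : y ∈ closure ({x, y} : Set G) := subset_closure (by simp)
  have hgen : closure ({x, y} : Set G) = ⊤ := by
    by_contra h
    exact hxy (congrArg Subtype.val (hclosed (hsub _ h) ⟨x, hx'⟩ ⟨y, hy'⟩ (Subtype.ext hx) (Subtype.ext hy)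
      (⟨x, hx'⟩ * ⟨y, hy'⟩) (mul_mem (subset_closure (by simp)) (subset_closure (by simp)))))
  have hcl : (⊤ : Subgroup G).lowerCentralSeries (p - 1) ≠ ⊥ := fun h => by
    obtain ⟨H, -, hH⟩ := Cfsg.Agent.S4225.result (Cfsg.Agent.S4209.result hG h) 1
    exact hnc ⟨H, by simpa using hH⟩
  have hpow : ∀ (N : Subgroup G) [N.Normal], N ≠ ⊥ → ∀ g : G, g ^ p ∈ N := fun N _ hN g => by
    rw [← QuotientGroup.eq_one_iff, QuotientGroup.mk_pow]
    refine hclosed (hquo N hN) x y (by rw [← QuotientGroup.mk_pow, hx, QuotientGroup.mk_one])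
      (by rw [← QuotientGroup.mk_pow, hy, QuotientGroup.mk_one]) _ ?_
    have h := mem_map_of_mem (QuotientGroup.mk' N) (hgen.ge (mem_top g))
    rwa [MonoidHom.map_closure, Set.image_pair] at h
  have hcen : ∀ z ∈ center G, orderOf z = p → zpowers z = zpowers ((x * y) ^ p) := fun z hz ho => by
    have : (zpowers z).Normal := CL.Grp.normal_of_le_center' (zpowers_le.2 hz)
    have h1 := hpow (zpowers z) (fun e => hp.ne_one (by rw [← ho, zpowers_eq_bot.1 e, orderOf_one])) (x * y)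
    have h2 := card_dvd_of_le (zpowers_le.2 h1)
    rw [Nat.card_zpowers z, ho] at h2
    refine (eq_of_le_of_card_ge (zpowers_le.2 h1) ?_).symm
    rw [Nat.card_zpowers z, ho, ((Nat.dvd_prime hp).1 h2).resolve_left fun e => hxy (zpowers_eq_bot.1 (card_eq_one.1 e))]
  have : Nontrivial G := ⟨_, _, hxy⟩
  obtain ⟨z, hz⟩ := exists_prime_orderOf_dvd_card' p (CL.Grp.dvd_card_center hG)
  have hz' : orderOf (z : G) = p := by rw [orderOf_coe, hz]
  have : (zpowers (z : G)).Normal := CL.Grp.normal_of_le_center' (zpowers_le.2 z.2)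
  refine ⟨⟨x, y, hgen⟩, hcl, ?_, ?_, ?_⟩
  · have h1 : Monoid.exponent G ∣ p ^ 2 := Monoid.exponent_dvd_of_forall_pow_eq_one fun g => by
      obtain ⟨k, hk⟩ := mem_zpowers_iff.1 (hpow (zpowers (z : G))
        (fun e => hp.ne_one (by rw [← hz', zpowers_eq_bot.1 e, orderOf_one])) g)
      rw [sq, pow_mul, ← hk, ← zpow_natCast, ← zpow_mul, mul_comm, zpow_mul, zpow_natCast, ← hz', pow_orderOf_eq_one,
        one_zpow]
    obtain ⟨k, hk, hk'⟩ := (Nat.dvd_prime_pow hp).1 h1
    rw [hk']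
    congr 1
    by_contra h
    exact hxy (orderOf_dvd_iff_pow_eq_one.1 ((Monoid.order_dvd_exponent _).trans
      (hk' ▸ (pow_dvd_pow p (show k ≤ 1 by omega)).trans (by simp))))
  · by_contra h
    have h1 := CL.Grp.sq_le_card_omegaOne_of_not_isCyclic (hG.to_subgroup (center G)) inferInstance h
    have h2 : omegaOne p (center G) ≤ zpowers (z : G) := CL.Loc.omegaOne_le_iff.2 fun w hw hwp => by
      by_cases h1 : w = 1
      · exact h1 ▸ one_mem _
      · rw [hcen z z.2 hz', ← hcen w hw (orderOf_eq_prime hwp h1)]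
        exact mem_zpowers w
    have h3 := h1.trans (card_le_of_le h2)
    rw [Nat.card_zpowers, hz'] at h3
    nlinarith [hp.two_le]
  · obtain ⟨k, hk⟩ := IsPGroup.iff_card.1 hG
    rw [hk]
    refine Nat.pow_le_pow_right hp.pos ?_
    by_contra h
    refine hcl (Subgroup.lowerCentralSeries_eq_bot_iff_nilpotencyClass_le.2 ?_)
    obtain ⟨q, rfl⟩ : ∃ q, p = q + 2 := ⟨p - 2, by have := hp.two_le; omega⟩
    exact CL.Grp.nilpotencyClass_le_of_card_dvd_pow (p := q + 2) q G (by rw [hk]; exact pow_dvd_pow _ (by omega))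

end Cfsg.Agent.S3872
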