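import Cfsg.Statements.S3873
import Cfsg.Agent.S3868

set_option autoImplicit false
open Cfsg

namespace Cfsg.Agent.S3873

section Helpers
open Subgroup CL.Grp

variable {G : Type*} [Group G] {p : ℕ}

theorem exists_amb {K : Subgroup G} (h : ∃ H : Subgroup K, (H : Set K) = {g : K | g ^ p = 1}) :
    ∃ H : Subgroup G, ∀ g, g ∈ H ↔ g ∈ K ∧ g ^ p = 1 := by
  obtain ⟨H, hH⟩ := h
  have h1 : ∀ g : K, g ∈ H ↔ (g : G) ^ p = 1 := fun g => by
    rw [← SetLike.mem_coe, hH, Set.mem_ofPred_eq, Subtype.ext_iff]; rfl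
  refine ⟨H.map K.subtype, fun g => ⟨?_, fun hg => ⟨⟨g, hg.1⟩, (h1 _).2 hg.2, rfl⟩⟩⟩
  rintro ⟨x, hx, rfl⟩
  exact ⟨x.2, (h1 x).1 hx⟩

end Helpers

/-- Say that a finite group is p-exponent closed when its elements of order dividing p form a subgroup. Let G be a finite group that is not p-exponent closed, but all of whose proper subgroups and proper quotients are, and suppose G is neither simple nor a p-group. Then there is a prime q ≠ p such that G has order p · q^e, where e is the multiplicative order of q modulo p, and G has a normal elementary abelian subgroup of order q^e that is a minimal normal subgroup of G. -/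
theorem result {G : Type*} [Group G] [Finite G] {p : ℕ} [Fact p.Prime]
    (hnc : ¬ (∃ H : Subgroup G, (H : Set G) = {g : G | g ^ p = 1})) (hsub : ∀ K : Subgroup G, K ≠ ⊤ → (∃ H : Subgroup ↥K, (H : Set ↥K) = {g : ↥K | g ^ p = 1}))
    (hquo : ∀ (N : Subgroup G) [N.Normal], N ≠ ⊥ → (∃ H : Subgroup (G ⧸ N), (H : Set (G ⧸ N)) = {g : (G ⧸ N) | g ^ p = 1}))
    (hns : ¬ IsSimpleGroup G) (hnp : ¬ IsPGroup p G) :
    ∃ q : ℕ, q.Prime ∧ q ≠ p ∧ Nat.card G = p * q ^ orderOf (q : ZMod p) ∧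
      ∃ A : Subgroup G, A.Normal ∧ Nat.card ↥A = q ^ orderOf (q : ZMod p) ∧ Cfsg.IsElementaryAbelian q A ∧
        ∀ B : Subgroup G, B.Normal → B ≤ A → B = ⊥ ∨ B = A := by
  have hp : p.Prime := Fact.out
  have hK : Subgroup.closure {g : G | g ^ p = 1} = ⊤ := by
    by_contra h
    obtain ⟨H, hH⟩ := exists_amb (hsub _ h)
    exact hnc ⟨H, Set.ext fun g => ⟨fun hg => ((hH g).1 hg).2,
      fun hg => (hH g).2 ⟨Subgroup.subset_closure hg, hg⟩⟩⟩
  have hexp : ∀ (N : Subgroup G) [N.Normal], N ≠ ⊥ → ∀ g : G ⧸ N, g ^ p = 1 := by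
    intro N _ hN g
    obtain ⟨H, hH⟩ := hquo N hN
    have h1 : Subgroup.closure {g : G | g ^ p = 1} ≤ H.comap (QuotientGroup.mk' N) := by
      rw [Subgroup.closure_le]
      intro x hx
      have : ((x : G ⧸ N)) ∈ (H : Set (G ⧸ N)) := by
        rw [hH, Set.mem_ofPred_eq, ← QuotientGroup.mk_pow, show x ^ p = 1 from hx,
          QuotientGroup.mk_one]
      exact this
    obtain ⟨x, rfl⟩ := QuotientGroup.mk_surjective g
    have h2 : ((x : G ⧸ N)) ∈ (H : Set (G ⧸ N)) := h1 (hK ▸ Subgroup.mem_top x)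
    rwa [hH] at h2
  have hquoP : ∀ (N : Subgroup G) [N.Normal], N ≠ ⊥ → IsPGroup p (G ⧸ N) := fun N _ hN g =>
    ⟨1, by rw [pow_one]; exact hexp N hN g⟩
  have hnt : Nontrivial G := by
    by_contra h
    rw [not_nontrivial_iff_subsingleton] at h
    exact hnp fun g => ⟨0, Subsingleton.elim _ _⟩
  obtain ⟨N, hN⟩ := CL.Grp.exists_isMinNormal G
  have hn := hN.normal
  have hNt : N ≠ ⊤ := fun h => hns ⟨fun H hH => h ▸ hN.min H hH (h ▸ le_top)⟩
  obtain ⟨E, hE⟩ := exists_amb (hsub N hNt)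
  have hEn : E.Normal := ⟨fun x hx g => (hE _).2 ⟨hn.conj_mem x ((hE x).1 hx).1 g, by
    rw [conj_pow, ((hE x).1 hx).2, mul_one, mul_inv_cancel]⟩⟩
  have hE1 : E = ⊥ := by
    refine (hN.min E hEn fun x hx => ((hE x).1 hx).1).resolve_right fun h => hnp fun g => ?_
    have h1 : g ^ p ∈ N := by
      rw [← QuotientGroup.eq_one_iff, QuotientGroup.mk_pow]; exact hexp N hN.ne_bot _
    exact ⟨2, by rw [pow_two, pow_mul]; exact ((hE _).1 (h ▸ h1)).2⟩
  have hpow : ∀ (k : ℕ) (g : G), g ∈ N → g ^ p ^ k = 1 → g = 1 := by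
    intro k
    induction k with
    | zero => intro g _ h; simpa using h
    | succ k ih =>
      intro g hg h
      rw [pow_succ', pow_mul] at h
      have := ih _ (N.pow_mem hg p) h
      exact Subgroup.mem_bot.1 (hE1 ▸ (hE g).2 ⟨hg, this⟩)
  have hpel : ∀ (k : ℕ) (g : G), g ^ p ^ k = 1 → g ^ p = 1 := fun k g h => by
    refine hpow k _ ?_ (by rw [← pow_mul, mul_comm, pow_mul, h, one_pow])
    rw [← QuotientGroup.eq_one_iff, QuotientGroup.mk_pow]; exact hexp N hN.ne_bot _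
  refine S3868.result (fun h => hnc ?_) (fun H hH P => ?_)
    (fun M _ hM => S3869.closed_of_isPGroup (hquoP M hM)) hns
  · obtain ⟨P⟩ : Nonempty (Sylow p G) := inferInstance
    have := h P
    refine ⟨P, Set.ext fun g => ⟨fun hg => ?_, fun hg => ?_⟩⟩
    · obtain ⟨k, hk⟩ := P.isPGroup' ⟨g, hg⟩
      exact hpel k g (congrArg Subtype.val hk)
    · have h1 : IsPGroup p (Subgroup.zpowers g) :=
        IsPGroup.of_card_dvd_pow (n := 1) (by
          rw [Nat.card_zpowers, pow_one]; exact orderOf_dvd_of_pow_eq_one hg)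
      obtain ⟨Q, hQ⟩ := h1.exists_le_sylow
      have := Sylow.unique_of_normal P this
      rw [Subsingleton.elim P Q]
      exact hQ (Subgroup.mem_zpowers g)
  · obtain ⟨F, hF⟩ := hsub H hH
    have h1 : ∀ g : H, g ∈ F ↔ g ^ p = 1 := fun g => by
      rw [← SetLike.mem_coe, hF, Set.mem_ofPred_eq]
    have h2 : F = P := P.is_maximal' (fun g => ⟨1, Subtype.ext (by
      rw [pow_one]; exact (h1 _).1 g.2)⟩) fun g hg => by
        obtain ⟨k, hk⟩ := P.isPGroup' ⟨g, hg⟩
        exact (h1 g).2 (Subtype.ext (hpel k g (congrArg (fun x : P => ((x : H) : G)) hk)))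
    rw [← h2]
    exact ⟨fun x hx g => (h1 _).2 (by rw [conj_pow, (h1 x).1 hx, mul_one, mul_inv_cancel])⟩

end Cfsg.Agent.S3873
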