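import Cfsg.Statements.S3889
import Cfsg.Agent.Base

set_option autoImplicit false
open Cfsg
open scoped Pointwise

namespace Cfsg.Agent.S3889

/-- A finite abelian group that is the union of a family of proper subgroups any two of which intersect trivially is elementary abelian: its exponent is a prime. -/
theorem result {G : Type*} [CommGroup G] [Finite G] (𝓑 : Set (Subgroup G)) (hprop : ∀ B ∈ 𝓑, B ≠ ⊤)
    (hcov : ∀ g : G, ∃ B ∈ 𝓑, g ∈ B) (hdisj : ∀ B ∈ 𝓑, ∀ C ∈ 𝓑, B ≠ C → B ⊓ C = ⊥) :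
    (Monoid.exponent G).Prime := by
  obtain ⟨B₁, hB₁, -⟩ := hcov 1
  haveI : Nontrivial G := by
    by_contra h
    rw [not_nontrivial_iff_subsingleton] at h
    exact hprop B₁ hB₁ (eq_top_iff.2 fun x _ => by rw [Subsingleton.elim x 1]; exact B₁.one_mem)
  obtain ⟨p, hp, hpG⟩ := Nat.exists_prime_and_dvd (Finite.one_lt_card (α := G)).ne'
  haveI := Fact.mk hp
  obtain ⟨x, hx⟩ := exists_prime_orderOf_dvd_card' p hpG
  have hx1 : x ≠ 1 := by
    rintro rfl
    rw [orderOf_one] at hx
    exact hp.ne_one hx.symm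
  have hxp : x ^ p = 1 := hx ▸ pow_orderOf_eq_one x
  obtain ⟨B, hB, hxB⟩ := hcov x
  have key : ∀ y, y ∉ B → y ^ p = 1 := by
    intro y hy
    obtain ⟨C, hC, hyC⟩ := hcov y
    obtain ⟨D, hD, hyD⟩ := hcov (x * y)
    have hCD : C ≠ D := by
      rintro rfl
      have hxC : x ∈ C := by simpa using C.mul_mem hyD (C.inv_mem hyC)
      have hBC : B ≠ C := by
        rintro rfl
        exact hy hyC
      have : x ∈ B ⊓ C := ⟨hxB, hxC⟩
      rw [hdisj B hB C hC hBC] at this
      exact hx1 this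
    have : y ^ p ∈ C ⊓ D := ⟨C.pow_mem hyC p, by
      have := D.pow_mem hyD p
      rwa [mul_pow, hxp, one_mul] at this⟩
    rwa [hdisj C hC D hD hCD] at this
  obtain ⟨y, hy⟩ : ∃ y, y ∉ B := by
    by_contra h
    push Not at h
    exact hprop B hB (eq_top_iff.2 fun x _ => h x)
  have hall : ∀ z : G, z ^ p = 1 := by
    intro z
    by_cases hz : z ∈ B
    · have h1 := key (z * y) fun h => hy (by simpa using B.mul_mem (B.inv_mem hz) h)
      rwa [mul_pow, key y hy, mul_one] at h1
    · exact key z hz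
  have h1 : Monoid.exponent G ∣ p := Monoid.exponent_dvd_of_forall_pow_eq_one hall
  have h2 : p ∣ Monoid.exponent G := hx ▸ Monoid.order_dvd_exponent x
  rwa [Nat.dvd_antisymm h1 h2]

end Cfsg.Agent.S3889
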