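import Cfsg.Statements.S3890
import Cfsg.Agent.Fgs.SylTI
import Cfsg.Agent.S3889
import Cfsg.Agent.Grp.Fitting

set_option autoImplicit false
open Cfsg
open scoped Pointwise

namespace Cfsg.Agent.S3890

theorem eq_of_le_proper {G : Type*} [Group G] {𝓐 : Finset (Subgroup G)}
    (h1 : ∀ A ∈ 𝓐, A ≠ ⊤) (h2 : ∀ g : G, ∃ A ∈ 𝓐, g ∈ A)
    (hmin : ∀ 𝓑 : Finset (Subgroup G), (∀ A ∈ 𝓑, A ≠ ⊤) ∧ (∀ g : G, ∃ A ∈ 𝓑, g ∈ A) → 𝓐.card ≤ 𝓑.card)
    {A B M : Subgroup G} (hA : A ∈ 𝓐) (hB : B ∈ 𝓐) (hM : M ≠ ⊤) (hAM : A ≤ M) (hBM : B ≤ M) : A = B := by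
  classical
  by_contra hne
  have h := hmin (insert M ((𝓐.erase A).erase B)) ⟨?_, ?_⟩
  · have h3 := Finset.card_insert_le M ((𝓐.erase A).erase B)
    have h4 := Finset.card_erase_of_mem (Finset.mem_erase.2 ⟨Ne.symm hne, hB⟩)
    have h5 := Finset.card_erase_of_mem hA
    have h6 := Finset.card_pos.2 ⟨B, Finset.mem_erase.2 ⟨Ne.symm hne, hB⟩⟩
    omega
  · intro C hC
    rcases Finset.mem_insert.1 hC with rfl | hC
    · exact hM
    · exact h1 C (Finset.mem_of_mem_erase (Finset.mem_of_mem_erase hC))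
  · intro g
    obtain ⟨C, hC, hg⟩ := h2 g
    by_cases hCA : C = A
    · exact ⟨M, Finset.mem_insert_self _ _, hAM (hCA ▸ hg)⟩
    by_cases hCB : C = B
    · exact ⟨M, Finset.mem_insert_self _ _, hBM (hCB ▸ hg)⟩
    exact ⟨C, Finset.mem_insert_of_mem (Finset.mem_erase.2 ⟨hCB, Finset.mem_erase.2 ⟨hCA, hC⟩⟩), hg⟩

theorem sylow_comm {G : Type*} [Group G] [Finite G] {p : ℕ} [Fact p.Prime] (P : Sylow p G)
    (hab : IsMulCommutative ↥(P : Subgroup G)) {U : Subgroup G} (hU : IsPGroup p U) {a b : G}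
    (ha : a ∈ U) (hb : b ∈ U) : a * b = b * a := by
  obtain ⟨g, hg⟩ := CL.Grp.exists_conj_le_sylow P hU
  rw [CL.Grp.conj_smul_le_iff] at hg
  have := congrArg Subtype.val (hab.is_comm.comm (⟨_, hg a ha⟩ : (P : Subgroup G)) ⟨_, hg b hb⟩)
  apply (MulAut.conj g).injective
  simp only [map_mul]
  exact this

/-- A nilpotent subgroup centralizes its `p`-elements when Sylow `p`-subgroups are abelian. -/
theorem le_centralizer {G : Type*} [Group G] [Finite G] {p : ℕ} [Fact p.Prime] (P : Sylow p G)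
    (hab : IsMulCommutative ↥(P : Subgroup G)) {A : Subgroup G} (hA : Group.IsNilpotent A) {x : G}
    (hx : x ∈ A) {k : ℕ} (hk : orderOf x = p ^ k) : A ≤ Subgroup.centralizer {x} := by
  apply CL.Grp.le_of_forall_isPGroup_le
  intro q _ U hUA hU y hy
  rw [Subgroup.mem_centralizer_singleton_iff]
  have hxp : x ∈ Cfsg.pCoreOf p A := CL.Grp.le_pCoreOf_of_isNilpotent hA
    (CL.Fgs.isPGroup_zpowers_of_orderOf hk) (Subgroup.zpowers_le.2 hx) (Subgroup.mem_zpowers x)
  have hyq : y ∈ Cfsg.pCoreOf q A := CL.Grp.le_pCoreOf_of_isNilpotent hA hU hUA hy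
  by_cases hpq : q = p
  · subst hpq
    exact sylow_comm P hab (CL.Grp.pCoreOf_isPGroup q A) hyq hxp
  · obtain ⟨x', hx', rfl⟩ := hxp
    obtain ⟨y', hy', rfl⟩ := hyq
    have h1 := CL.Grp.commutator_pCore_eq_bot (G := A)
      ((Nat.coprime_primes (Fact.out : q.Prime) (Fact.out : p.Prime)).2 hpq)
    have h2 := Subgroup.commutator_mem_commutator hy' hx'
    rw [h1, Subgroup.mem_bot, commutatorElement_eq_one_iff_mul_comm] at h2
    exact congrArg Subtype.val h2

/-- Main step: unless the Sylow subgroups are elementary abelian of order `> p`, the centralizer of each Sylow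
subgroup is a member of the cover and distinct Sylow subgroups meet trivially. -/
theorem main {G : Type*} [Group G] [Finite G] (hZ : Subgroup.center G = ⊥) (𝓐 : Finset (Subgroup G))
    (h𝓐 : ((∀ A ∈ 𝓐, A ≠ ⊤) ∧ (∀ g : G, ∃ A ∈ 𝓐, g ∈ A)) ∧ (∀ 𝓑 : Finset (Subgroup G), (∀ A ∈ 𝓑, A ≠ ⊤) ∧ (∀ g : G, ∃ A ∈ 𝓑, g ∈ A) → 𝓐.card ≤ 𝓑.card) ∧ (∀ A ∈ 𝓐, Group.IsNilpotent ↥A)) {p : ℕ} [Fact p.Prime] (P : Sylow p G) (hab : IsMulCommutative ↥(P : Subgroup G))
    (hnn : ¬ (P : Subgroup G).Normal)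
    (hne : ¬ (Cfsg.IsElementaryAbelian p (P : Subgroup G) ∧ p < Nat.card ↥(P : Subgroup G))) :
    (∀ Q : Sylow p G, Subgroup.centralizer ((Q : Subgroup G) : Set G) ∈ 𝓐) ∧
    (∀ Q R : Sylow p G, Q ≠ R → (Q : Subgroup G) ⊓ R = ⊥) ∧
    ∀ M : Subgroup G, M ≠ ⊤ → Subgroup.centralizer ((P : Subgroup G) : Set G) ≤ M →
      M ≤ Subgroup.normalizer ((P : Subgroup G) : Set G) := by
  obtain ⟨⟨h1, h2⟩, hmin, hnil⟩ := h𝓐
  have huniq : ∀ A ∈ 𝓐, ∀ B ∈ 𝓐, ∀ x : G, x ≠ 1 → (∃ k, orderOf x = p ^ k) → x ∈ A → x ∈ B → A = B := by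
    rintro A hA B hB x hx1 ⟨k, hk⟩ hxA hxB
    refine eq_of_le_proper h1 h2 hmin hA hB ?_ (le_centralizer P hab (hnil A hA) hxA hk)
      (le_centralizer P hab (hnil B hB) hxB hk)
    intro h
    rw [Subgroup.centralizer_eq_top_iff_subset, hZ, Set.singleton_subset_iff] at h
    exact hx1 h
  have hP1 : ∀ Q : Sylow p G, (Q : Subgroup G) ≠ ⊥ := by
    intro Q h
    apply hnn
    have : (P : Subgroup G) = ⊥ := by
      rw [← Subgroup.card_eq_one, Nat.card_congr (Sylow.equiv P Q).toEquiv, h, Subgroup.card_bot]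
    rw [this]
    infer_instance
  have hQA : ∀ Q : Sylow p G, ∃ A ∈ 𝓐, (Q : Subgroup G) ≤ A := by
    intro Q
    by_contra hcon
    push Not at hcon
    apply hne
    letI : CommGroup (Q : Subgroup G) :=
      { (inferInstance : Group (Q : Subgroup G)) with
        mul_comm := fun a b => Subtype.ext (sylow_comm P hab Q.2 a.2 b.2) }
    have hexp := Cfsg.Agent.S3889.result (G := (Q : Subgroup G))
      {B | ∃ A ∈ 𝓐, B = A.subgroupOf Q} (by
        rintro _ ⟨A, hA, rfl⟩ h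
        exact hcon A hA (Subgroup.subgroupOf_eq_top.1 h)) (by
        intro g
        obtain ⟨A, hA, hg⟩ := h2 g
        exact ⟨_, ⟨A, hA, rfl⟩, hg⟩) (by
        rintro _ ⟨A, hA, rfl⟩ _ ⟨B, hB, rfl⟩ hAB
        rw [eq_bot_iff]
        rintro x ⟨hxA, hxB⟩
        by_contra hx
        apply hAB
        rw [huniq A hA B hB x (fun h => hx (Subtype.ext h))
          (CL.Fgs.exists_orderOf_eq_pow_of_mem Q.2 x.2) hxA hxB])
    obtain ⟨n, hn⟩ := IsPGroup.iff_card.1 Q.2
    have hexp' : Monoid.exponent (Q : Subgroup G) = p :=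
      (Nat.prime_dvd_prime_iff_eq hexp Fact.out).1
        (hexp.dvd_of_dvd_pow (hn ▸ Group.exponent_dvd_nat_card))
    refine ⟨⟨hab, fun a ha => ?_⟩, ?_⟩
    · have e := Sylow.equiv P Q
      have h3 : (e ⟨a, ha⟩) ^ p = 1 := by
        have := Monoid.pow_exponent_eq_one (e ⟨a, ha⟩)
        rwa [hexp'] at this
      rw [← map_pow, MulEquiv.map_eq_one_iff] at h3
      exact congrArg Subtype.val h3
    · rw [Nat.card_congr (Sylow.equiv P Q).toEquiv]
      by_contra hle
      push Not at hle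
      have h3 : Nat.card (Q : Subgroup G) = p :=
        le_antisymm hle (Nat.le_of_dvd Nat.card_pos (by
          have := Group.exponent_dvd_nat_card (G := (Q : Subgroup G))
          rwa [hexp'] at this))
      haveI : IsCyclic (Q : Subgroup G) := isCyclic_of_prime_card h3
      obtain ⟨x, hx⟩ := IsCyclic.exists_generator (α := (Q : Subgroup G))
      obtain ⟨A, hA, hxA⟩ := h2 x
      apply hcon A hA
      intro y hy
      obtain ⟨m, hm⟩ := Subgroup.mem_zpowers_iff.1 (hx ⟨y, hy⟩)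
      have : y = (x : G) ^ m := (congrArg Subtype.val hm).symm
      rw [this]
      exact A.zpow_mem hxA m
  have hCA : ∀ (Q : Sylow p G), ∀ A ∈ 𝓐, (Q : Subgroup G) ≤ A →
      Subgroup.centralizer ((Q : Subgroup G) : Set G) = A := by
    intro Q A hA hQA
    apply le_antisymm
    · apply CL.Grp.le_of_forall_isPGroup_le
      intro q _ U hUC hU
      by_cases hpq : q = p
      · subst hpq
        exact (CL.Fgs.le_sylow_of_le_normalizer hU
          (hUC.trans (Subgroup.centralizer_le_normalizer _))).trans hQA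
      · intro c hc
        obtain ⟨x, hx, hx1⟩ := (Subgroup.bot_or_exists_ne_one _).resolve_left (hP1 Q)
        obtain ⟨k, hk⟩ := CL.Fgs.exists_orderOf_eq_pow_of_mem Q.2 hx
        obtain ⟨l, hl⟩ := CL.Fgs.exists_orderOf_eq_pow_of_mem hU hc
        obtain ⟨B, hB, hxc⟩ := h2 (x * c)
        have hcomm : Commute x c := hUC hc x hx
        have hcop : (orderOf c).Coprime (orderOf x) := by
          rw [hk, hl]
          exact Nat.Coprime.pow _ _
            ((Nat.coprime_primes (Fact.out : q.Prime) (Fact.out : p.Prime)).2 hpq)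
        have hxB : x ∈ B := by
          obtain ⟨m, hm⟩ := exists_pow_eq_self_of_coprime hcop
          have h3 := B.pow_mem (B.pow_mem hxc (orderOf c)) m
          rwa [hcomm.mul_pow, pow_orderOf_eq_one, mul_one, hm] at h3
        rw [huniq A hA B hB x hx1 ⟨k, hk⟩ (hQA hx) hxB]
        simpa using B.mul_mem (B.inv_mem hxB) hxc
    · intro a ha x hx
      obtain ⟨k, hk⟩ := CL.Fgs.exists_orderOf_eq_pow_of_mem Q.2 hx
      exact (Subgroup.mem_centralizer_singleton_iff.1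
        (le_centralizer P hab (hnil A hA) (hQA hx) hk ha)).symm
  have hQC : ∀ Q : Sylow p G, (Q : Subgroup G) ≤ Subgroup.centralizer ((Q : Subgroup G) : Set G) :=
    fun Q a ha b hb => sylow_comm P hab Q.2 hb ha
  have hmem : ∀ Q : Sylow p G, Subgroup.centralizer ((Q : Subgroup G) : Set G) ∈ 𝓐 := by
    intro Q
    obtain ⟨A, hA, hQ⟩ := hQA Q
    rwa [hCA Q A hA hQ]
  have hinj : ∀ Q R : Sylow p G, Subgroup.centralizer ((Q : Subgroup G) : Set G) =
      Subgroup.centralizer ((R : Subgroup G) : Set G) → Q = R := by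
    intro Q R h
    apply CL.Fgs.sylow_eq_of_le
    exact CL.Fgs.le_sylow_of_le_normalizer Q.2
      ((hQC Q).trans (h.le.trans (Subgroup.centralizer_le_normalizer _)))
  refine ⟨hmem, ?_, ?_⟩
  · intro Q R hQR
    rw [eq_bot_iff]
    rintro x ⟨hxQ, hxR⟩
    by_contra hx
    exact hQR (hinj Q R (huniq _ (hmem Q) _ (hmem R) x hx
      (CL.Fgs.exists_orderOf_eq_pow_of_mem Q.2 hxQ) (hQC Q hxQ) (hQC R hxR)))
  · intro M hM hCM m hm
    rw [← CL.Fgs.sylow_smul_eq_iff]
    apply hinj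
    refine eq_of_le_proper h1 h2 hmin (hmem _) (hmem _) hM ?_ hCM
    rw [CL.Fgs.coe_sylow_smul, CL.Grp.centralizer_conj_smul]
    exact CL.Grp.conj_smul_le_of_mem hCM hm

theorem coatom {G : Type*} [Group G] {P : Subgroup G} (hnn : ¬ P.Normal)
    (h : ∀ M : Subgroup G, M ≠ ⊤ → Subgroup.centralizer (P : Set G) ≤ M →
      M ≤ Subgroup.normalizer (P : Set G)) : IsCoatom (Subgroup.normalizer (P : Set G)) := by
  refine ⟨fun e => hnn (Subgroup.normalizer_eq_top_iff.1 e), fun M hM => ?_⟩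
  by_contra hne
  exact hM.not_ge (h M hne ((Subgroup.centralizer_le_normalizer _).trans hM.le))

/-- A cover of a group is a finite set of proper subgroups whose union is the whole group; it is minimal when no cover has fewer members, and nilpotent when all its members are nilpotent. Let G be a finite group with trivial center admitting a nilpotent minimal cover 𝓐, and let P be an abelian Sylow p-subgroup of G that is not normal. Then either P is elementary abelian of order greater than p, or P is a Sylow p-subgroup of some member A of 𝓐, the normalizer N of P is a maximal subgroup of G, N meets each of its conjugates by elements outside N in a subgroup of order prime to p, and the centralizer of P equals A. -/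
theorem result {G : Type*} [Group G] [Finite G] (hZ : Subgroup.center G = ⊥) (𝓐 : Finset (Subgroup G))
    (h𝓐 : ((∀ A ∈ 𝓐, A ≠ ⊤) ∧ (∀ g : G, ∃ A ∈ 𝓐, g ∈ A)) ∧ (∀ 𝓑 : Finset (Subgroup G), (∀ A ∈ 𝓑, A ≠ ⊤) ∧ (∀ g : G, ∃ A ∈ 𝓑, g ∈ A) → 𝓐.card ≤ 𝓑.card) ∧ (∀ A ∈ 𝓐, Group.IsNilpotent ↥A)) {p : ℕ} [Fact p.Prime] (P : Sylow p G) (hab : IsMulCommutative ↥(P : Subgroup G))
    (hnn : ¬ (P : Subgroup G).Normal) :
    (Cfsg.IsElementaryAbelian p (P : Subgroup G) ∧ p < Nat.card ↥(P : Subgroup G)) ∨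
    (∃ A ∈ 𝓐, (P : Subgroup G) ≤ A ∧ ¬ p ∣ ((P : Subgroup G).subgroupOf A).index ∧
      IsCoatom (Subgroup.normalizer ((P : Subgroup G) : Set G)) ∧
      (∀ g : G, g ∉ Subgroup.normalizer ((P : Subgroup G) : Set G) →
        ¬ p ∣ Nat.card ↥(Subgroup.normalizer ((P : Subgroup G) : Set G) ⊓
          (Subgroup.normalizer ((P : Subgroup G) : Set G)).map (MulAut.conj g).toMonoidHom)) ∧
      Subgroup.centralizer ((P : Subgroup G) : Set G) = A) := by
  by_cases hne : Cfsg.IsElementaryAbelian p (P : Subgroup G) ∧ p < Nat.card ↥(P : Subgroup G)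
  · exact Or.inl hne
  right
  obtain ⟨h1, h2, h3⟩ := main hZ 𝓐 h𝓐 P hab hnn hne
  have hPC : (P : Subgroup G) ≤ Subgroup.centralizer ((P : Subgroup G) : Set G) :=
    fun a ha b hb => sylow_comm P hab P.2 hb ha
  refine ⟨_, h1 P, hPC, (CL.Grp.isSylowIn_of_le P hPC).not_dvd, coatom hnn h3, ?_, rfl⟩
  intro g hg hd
  obtain ⟨⟨y, hy0⟩, hy'⟩ := exists_prime_orderOf_dvd_card' p hd
  have hy : orderOf y = p ^ 1 := by rw [pow_one, ← hy', Subgroup.orderOf_mk]
  obtain ⟨hy1, hy2⟩ := Subgroup.mem_inf.1 hy0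
  rw [← CL.Grp.conj_smul_eq_map, ← CL.Grp.normalizer_conj_smul] at hy2
  have h4 : y ∈ (P : Subgroup G) ⊓ (g • P : Sylow p G) :=
    ⟨CL.Fgs.mem_sylow_of_mem_normalizer hy hy1, CL.Fgs.mem_sylow_of_mem_normalizer hy hy2⟩
  rw [h2 _ _ fun e => hg ((CL.Fgs.sylow_smul_eq_iff g P).1 e.symm), Subgroup.mem_bot] at h4
  rw [h4, orderOf_one, pow_one] at hy
  exact (Fact.out : p.Prime).ne_one hy.symm

end Cfsg.Agent.S3890
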