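import Cfsg.Statements.S3892
import Cfsg.Agent.Grp.NilpSub
import Cfsg.Agent.Grp.PNilp
import Cfsg.Agent.Fgs.FixCount

set_option autoImplicit false
open Cfsg
open scoped Pointwise

namespace Cfsg.Agent.S3892

open MulAction Equiv

theorem le_centralizer {G : Type*} [Group G] [Finite G] {p : ℕ} (hp : p.Prime)
    (h : ¬ p ^ 2 ∣ Nat.card G) {x : G} (hx : orderOf x = p) {K : Subgroup G}
    (hK : Group.IsNilpotent K) (hxK : x ∈ K) : K ≤ Subgroup.centralizer {x} := by
  haveI : Fact p.Prime := ⟨hp⟩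
  have hS := CL.Grp.isSylowIn_pCoreOf_of_isNilpotent hK p
  have hZ : CL.Grp.IsSylowIn p (Subgroup.zpowers x) K := by
    refine ⟨Subgroup.zpowers_le.2 hxK, CL.Grp.isPGroup_zpowers_of_orderOf_eq hx, fun hd => h ?_⟩
    have h1 := CL.Grp.card_mul_relIndex (Subgroup.zpowers_le.2 hxK)
    rw [Nat.card_zpowers, hx] at h1
    refine Dvd.dvd.trans ?_ (Subgroup.card_subgroup_dvd_card K)
    rw [← h1, sq]
    exact Nat.mul_dvd_mul_left p hd
  have heq : pCoreOf p K = Subgroup.zpowers x := by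
    obtain ⟨g, hg, e⟩ := hS.exists_conj_eq hZ
    rw [← e, CL.Grp.conj_smul_pCoreOf, (CL.Grp.conj_smul_eq_self_iff g K).2 (Subgroup.le_normalizer hg)]
  refine CL.Grp.le_centralizer_of_pCoreOf_le hK (heq ▸ Subgroup.mem_zpowers x) ?_
  rw [heq, Subgroup.zpowers_le]
  exact Subgroup.mem_centralizer_singleton_iff.2 rfl

theorem no_cover {G : Type*} [Group G] [Finite G] {p : ℕ} (hp : p.Prime) (h : ¬ p ^ 2 ∣ Nat.card G)
    {x y : G} (hx : orderOf x = p) (hy : orderOf y = p) (hxy : ¬ Commute x y) {M : Subgroup G}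
    (hM : M ≠ ⊤) (hxM : Subgroup.centralizer {x} ≤ M) (hyM : Subgroup.centralizer {y} ≤ M) :
    ¬ ∃ 𝓐 : Finset (Subgroup G), ((∀ A ∈ 𝓐, A ≠ ⊤) ∧ (∀ g : G, ∃ A ∈ 𝓐, g ∈ A)) ∧
      (∀ 𝓑 : Finset (Subgroup G), (∀ A ∈ 𝓑, A ≠ ⊤) ∧ (∀ g : G, ∃ A ∈ 𝓑, g ∈ A) → 𝓐.card ≤ 𝓑.card) ∧
      (∀ A ∈ 𝓐, Group.IsNilpotent ↥A) := by
  classical
  rintro ⟨𝓐, ⟨hne, hcov⟩, hmin, hnil⟩
  obtain ⟨A, hA, hxA⟩ := hcov x
  obtain ⟨B, hB, hyB⟩ := hcov y
  have hAx := le_centralizer hp h hx (hnil A hA) hxA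
  have hBy := le_centralizer hp h hy (hnil B hB) hyB
  have hAB : B ≠ A := by
    rintro rfl
    exact hxy (Subgroup.mem_centralizer_singleton_iff.1 (hBy hxA))
  have h1 := hmin (insert M ((𝓐.erase A).erase B)) ⟨?_, ?_⟩
  · have h2 := Finset.card_insert_le M ((𝓐.erase A).erase B)
    have h3 := Finset.card_erase_lt_of_mem hA
    have h4 := Finset.card_erase_lt_of_mem (Finset.mem_erase.2 ⟨hAB, hB⟩)
    omega
  · intro C hC
    rcases Finset.mem_insert.1 hC with rfl | hC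
    · exact hM
    · exact hne C (Finset.mem_of_mem_erase (Finset.mem_of_mem_erase hC))
  · intro g
    obtain ⟨C, hC, hg⟩ := hcov g
    by_cases h1 : C = A
    · exact ⟨M, Finset.mem_insert_self _ _, hxM (hAx (h1 ▸ hg))⟩
    by_cases h2 : C = B
    · exact ⟨M, Finset.mem_insert_self _ _, hyM (hBy (h2 ▸ hg))⟩
    exact ⟨C, Finset.mem_insert_of_mem (Finset.mem_erase.2 ⟨h2, Finset.mem_erase.2 ⟨h1, hC⟩⟩), hg⟩

theorem no_cover_act {G α : Type*} [Group G] [Finite G] [MulAction G α] [IsPretransitive G α] {p : ℕ}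
    (hp : p.Prime) (h : ¬ p ^ 2 ∣ Nat.card G) {x y : G} (hx : orderOf x = p) (hy : orderOf y = p)
    (hxy : ¬ Commute x y) (hf : fixedBy α y = fixedBy α x) {a b : α} (ha : x • a = a) (hb : x • b ≠ b) :
    ¬ ∃ 𝓐 : Finset (Subgroup G), ((∀ A ∈ 𝓐, A ≠ ⊤) ∧ (∀ g : G, ∃ A ∈ 𝓐, g ∈ A)) ∧
      (∀ 𝓑 : Finset (Subgroup G), (∀ A ∈ 𝓑, A ≠ ⊤) ∧ (∀ g : G, ∃ A ∈ 𝓑, g ∈ A) → 𝓐.card ≤ 𝓑.card) ∧
      (∀ A ∈ 𝓐, Group.IsNilpotent ↥A) := by
  refine no_cover hp h hx hy hxy (M := stabilizer G (fixedBy α x)) (fun htop => ?_)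
    (fun g hg => fixedBy_mem_fixedBy_of_commute
      (Commute.symm (Subgroup.mem_centralizer_singleton_iff.1 hg)))
    (fun g hg => hf ▸ fixedBy_mem_fixedBy_of_commute
      (Commute.symm (Subgroup.mem_centralizer_singleton_iff.1 hg)))
  obtain ⟨g, rfl⟩ := exists_smul_eq G a b
  have h1 : g • fixedBy α x = fixedBy α x := (htop ▸ Subgroup.mem_top g : g ∈ stabilizer G (fixedBy α x))
  exact hb (h1 ▸ Set.smul_mem_smul_set ha : g • a ∈ fixedBy α x)

theorem exists_data (n : ℕ) (hn : 6 ≤ n) : ∃ (p : ℕ) (x y : Perm (Fin n)) (a b : Fin n), p.Prime ∧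
    ¬ p ^ 2 ∣ n.factorial ∧ x ∈ alternatingGroup (Fin n) ∧ y ∈ alternatingGroup (Fin n) ∧
    orderOf x = p ∧ orderOf y = p ∧ ¬ Commute x y ∧ fixedBy (Fin n) y = fixedBy (Fin n) x ∧
    x a = a ∧ x b ≠ b := by
  obtain ⟨p, hp, h1, h2, h3⟩ : ∃ p : ℕ, p.Prime ∧ 5 ≤ p ∧ p < n ∧ n < 2 * p := by
    by_cases h : n ≤ 9
    · exact ⟨5, by norm_num, le_rfl, by omega, by omega⟩
    · obtain ⟨p, hp, h1, h2⟩ := Nat.exists_prime_lt_and_le_two_mul (n / 2) (by omega)
      have := hp.eq_two_or_odd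
      exact ⟨p, hp, by omega, by omega, by omega⟩
  haveI : Fact p.Prime := ⟨hp⟩
  obtain ⟨x, hx⟩ := exists_prime_orderOf_dvd_card' (G := Perm (Fin n)) p (by
    rw [Nat.card_perm, Nat.card_eq_fintype_card, Fintype.card_fin]
    exact hp.dvd_factorial.2 h2.le)
  have hc : x.IsCycle := Perm.isCycle_of_prime_order' (hx ▸ hp) (by rwa [hx, Fintype.card_fin])
  have hs : x.support.card = p := hc.orderOf.symm.trans hx
  have hxA : x ∈ alternatingGroup (Fin n) := by
    rw [Perm.mem_alternatingGroup, hc.sign, hs, (hp.odd_of_ne_two (by omega)).neg_one_pow, neg_neg]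
  obtain ⟨a, ha⟩ : ∃ a, a ∉ x.support := by
    by_contra h
    push Not at h
    rw [Finset.eq_univ_of_forall h, Finset.card_univ, Fintype.card_fin] at hs
    omega
  obtain ⟨b, hb⟩ : x.support.Nonempty := Finset.card_pos.1 (by omega)
  have hb' := Perm.mem_support.1 hb
  have hpow : ∀ k : ℕ, 0 < k → k < 5 → (x ^ k) b ≠ b := fun k h0 h5 h => by
    have := Nat.le_of_dvd h0 (hx ▸ orderOf_dvd_of_pow_eq_one ((hc.pow_eq_one_iff' hb').2 h))
    omega
  refine ⟨p, x, swap b (x b) * x * (swap b (x b))⁻¹, a, b, hp, ?_, hxA,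
    (alternatingGroup.normal).conj_mem x hxA _, hx, ?_, fun h => ?_, ?_, Perm.notMem_support.1 ha, hb'⟩
  · rw [Nat.Prime.pow_dvd_iff_le_factorization hp (Nat.factorial_ne_zero n),
      Nat.factorization_factorial hp (b := 2) (Nat.log_lt_of_lt_pow (by omega) (by nlinarith))]
    simp only [Nat.Ico_succ_singleton, Finset.sum_singleton, pow_one, not_le]
    exact Nat.div_lt_of_lt_mul (by omega)
  · rw [← hx]
    exact (MulAut.conj _).orderOf_eq x
  · have h4 := congrArg (fun σ : Perm (Fin n) => σ b) h.eq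
    have h5 : x (x b) ≠ b := hpow 2 (by omega) (by omega)
    have h6 : x (x b) ≠ x b := fun e => hb' (x.injective e)
    simp only [Perm.mul_apply, swap_inv, swap_apply_left, swap_apply_right,
      swap_apply_of_ne_of_ne h5 h6] at h4
    exact hpow 3 (by omega) (by omega) h4
  · rw [← smul_fixedBy]
    have h4 : ∀ c ∈ fixedBy (Fin n) x, swap b (x b) • c = c := fun c hc' =>
      swap_apply_of_ne_of_ne (fun e => hb' (e ▸ hc')) (fun e => hb' (x.injective (e ▸ hc')))
    ext c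
    constructor
    · rintro ⟨d, hd, rfl⟩
      simpa only [h4 d hd] using hd
    · exact fun hc' => ⟨c, hc', h4 c hc'⟩

/-- A cover of a group is a finite set of proper subgroups whose union is the whole group; it is minimal when no cover has fewer members, and nilpotent when all its members are nilpotent. The alternating groups of degree at least 5 and the symmetric groups of degree at least 4 have no nilpotent minimal cover. -/
theorem result (n : ℕ) :
    (5 ≤ n → ¬ ∃ 𝓐 : Finset (Subgroup ↥(alternatingGroup (Fin n))), ((∀ A ∈ 𝓐, A ≠ ⊤) ∧ (∀ g : ↥(alternatingGroup (Fin n)), ∃ A ∈ 𝓐, g ∈ A)) ∧ (∀ 𝓑 : Finset (Subgroup ↥(alternatingGroup (Fin n))), (∀ A ∈ 𝓑, A ≠ ⊤) ∧ (∀ g : ↥(alternatingGroup (Fin n)), ∃ A ∈ 𝓑, g ∈ A) → 𝓐.card ≤ 𝓑.card) ∧ (∀ A ∈ 𝓐, Group.IsNilpotent ↥A)) ∧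
    (4 ≤ n → ¬ ∃ 𝓐 : Finset (Subgroup (Equiv.Perm (Fin n))), ((∀ A ∈ 𝓐, A ≠ ⊤) ∧ (∀ g : (Equiv.Perm (Fin n)), ∃ A ∈ 𝓐, g ∈ A)) ∧ (∀ 𝓑 : Finset (Subgroup (Equiv.Perm (Fin n))), (∀ A ∈ 𝓑, A ≠ ⊤) ∧ (∀ g : (Equiv.Perm (Fin n)), ∃ A ∈ 𝓑, g ∈ A) → 𝓐.card ≤ 𝓑.card) ∧ (∀ A ∈ 𝓐, Group.IsNilpotent ↥A)) := by
  constructor
  · intro hn
    haveI : Nontrivial (Fin n) := Fin.nontrivial_iff_two_le.2 (by omega)
    have hcard : Nat.card (alternatingGroup (Fin n)) ∣ n.factorial := by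
      have := Subgroup.card_subgroup_dvd_card (alternatingGroup (Fin n))
      rwa [Nat.card_perm, Nat.card_eq_fintype_card (α := Fin n), Fintype.card_fin] at this
    haveI : IsPretransitive (alternatingGroup (Fin n)) (Fin n) :=
      alternatingGroup.isPretransitive_of_three_le_card _ (by simp; omega)
    by_cases h6 : 6 ≤ n
    · obtain ⟨p, x, y, a, b, hp, h1, hx, hy, h2, h3, h4, h5, h6, h7⟩ := exists_data n h6
      exact no_cover_act (x := ⟨x, hx⟩) (y := ⟨y, hy⟩) (a := a) (b := b) hp (fun h => h1 (h.trans hcard))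
        ((Subgroup.orderOf_mk _ _).trans h2) ((Subgroup.orderOf_mk _ _).trans h3)
        (fun h => h4 (congrArg Subtype.val h.eq)) h5 h6 h7
    obtain rfl : n = 5 := by omega
    haveI : Fact (Nat.Prime 3) := ⟨Nat.prime_three⟩
    refine no_cover (p := 3) (x := ⟨swap 0 1 * swap 0 2, Perm.mem_alternatingGroup.2 (by decide)⟩)
      (y := ⟨swap 0 1 * swap 0 3, Perm.mem_alternatingGroup.2 (by decide)⟩) Nat.prime_three
      (fun h => absurd (h.trans hcard) (by decide)) (orderOf_eq_prime (by decide) (by decide))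
      (orderOf_eq_prime (by decide) (by decide)) (fun h => absurd h.eq (by decide))
      (M := stabilizer _ (4 : Fin 5)) (fun h => ?_) (fun g hg => ?_) (fun g hg => ?_)
    · obtain ⟨g, hg⟩ := exists_smul_eq (alternatingGroup (Fin 5)) (4 : Fin 5) 0
      have : g • (4 : Fin 5) = 4 := (h ▸ Subgroup.mem_top g : g ∈ stabilizer _ (4 : Fin 5))
      exact absurd (hg.symm.trans this) (by decide)
    · have key : ∀ g : Perm (Fin 5), Perm.sign g = 1 →
          g * (swap 0 1 * swap 0 2) = (swap 0 1 * swap 0 2) * g → g 4 = 4 := by decide +kernel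
      exact key g g.2 (congrArg Subtype.val (Subgroup.mem_centralizer_singleton_iff.1 hg))
    · have key : ∀ g : Perm (Fin 5), Perm.sign g = 1 →
          g * (swap 0 1 * swap 0 3) = (swap 0 1 * swap 0 3) * g → g 4 = 4 := by decide +kernel
      exact key g g.2 (congrArg Subtype.val (Subgroup.mem_centralizer_singleton_iff.1 hg))
  · intro hn
    haveI : Nontrivial (Fin n) := Fin.nontrivial_iff_two_le.2 (by omega)
    have hcard : Nat.card (Perm (Fin n)) = n.factorial := by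
      rw [Nat.card_perm, Nat.card_eq_fintype_card (α := Fin n), Fintype.card_fin]
    have hA : alternatingGroup (Fin n) ≠ ⊤ := fun h => by
      have := alternatingGroup.index_eq_two (α := Fin n)
      rw [h, Subgroup.index_top] at this
      omega
    by_cases h6 : 6 ≤ n
    · obtain ⟨p, x, y, a, b, hp, h1, hx, hy, h2, h3, h4, h5, h6, h7⟩ := exists_data n h6
      exact no_cover_act (a := a) (b := b) hp (hcard ▸ h1) h2 h3 h4 h5 h6 h7
    by_cases h5 : n = 5
    · subst h5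
      haveI : Fact (Nat.Prime 5) := ⟨Nat.prime_five⟩
      refine no_cover (p := 5) (x := swap 0 1 * swap 0 2 * swap 0 3 * swap 0 4)
        (y := swap 0 2 * swap 0 1 * swap 0 3 * swap 0 4) Nat.prime_five
        (by rw [hcard]; decide) (orderOf_eq_prime (by decide) (by decide))
        (orderOf_eq_prime (by decide) (by decide)) (fun h => absurd h.eq (by decide))
        hA (fun g hg => ?_) (fun g hg => ?_)
      · have key : ∀ g : Perm (Fin 5), g * (swap 0 1 * swap 0 2 * swap 0 3 * swap 0 4) =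
            (swap 0 1 * swap 0 2 * swap 0 3 * swap 0 4) * g → Perm.sign g = 1 := by decide +kernel
        exact key g (Subgroup.mem_centralizer_singleton_iff.1 hg)
      · have key : ∀ g : Perm (Fin 5), g * (swap 0 2 * swap 0 1 * swap 0 3 * swap 0 4) =
            (swap 0 2 * swap 0 1 * swap 0 3 * swap 0 4) * g → Perm.sign g = 1 := by decide +kernel
        exact key g (Subgroup.mem_centralizer_singleton_iff.1 hg)
    obtain rfl : n = 4 := by omega
    haveI : Fact (Nat.Prime 3) := ⟨Nat.prime_three⟩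
    refine no_cover (p := 3) (x := swap 0 1 * swap 0 2) (y := swap 0 1 * swap 0 3) Nat.prime_three
      (by rw [hcard]; decide) (orderOf_eq_prime (by decide) (by decide))
      (orderOf_eq_prime (by decide) (by decide)) (fun h => absurd h.eq (by decide))
      hA (fun g hg => ?_) (fun g hg => ?_)
    · have key : ∀ g : Perm (Fin 4), g * (swap 0 1 * swap 0 2) = (swap 0 1 * swap 0 2) * g →
          Perm.sign g = 1 := by decide +kernel
      exact key g (Subgroup.mem_centralizer_singleton_iff.1 hg)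
    · have key : ∀ g : Perm (Fin 4), g * (swap 0 1 * swap 0 3) = (swap 0 1 * swap 0 3) * g →
          Perm.sign g = 1 := by decide +kernel
      exact key g (Subgroup.mem_centralizer_singleton_iff.1 hg)

end Cfsg.Agent.S3892
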