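import Cfsg.Statements.S3894
import Cfsg.Agent.Grp.NilpSub
import Cfsg.Agent.Loc.Chief
import Cfsg.Agent.Fgs.FixCount

set_option autoImplicit false
open Cfsg
open scoped Pointwise

namespace Cfsg.Agent.S3894

open Matrix MulAction

section

variable {F : Type*} [Field F] {n : ℕ}

/-- The stabilizer of the line through `v`. -/
def lineStab (v : Fin n → F) : Subgroup (GL (Fin n) F) where
  carrier := {g | ∃ c : Fˣ, g • v = (c : F) • v}
  one_mem' := ⟨1, by simp⟩
  mul_mem' := by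
    rintro a b ⟨c, hc⟩ ⟨d, hd⟩
    exact ⟨d * c, by rw [mul_smul, hd, smul_comm, hc, smul_smul, Units.val_mul]⟩
  inv_mem' := by
    rintro a ⟨c, hc⟩
    refine ⟨c⁻¹, ?_⟩
    rw [inv_smul_eq_iff, smul_comm, hc, smul_smul, Units.inv_mul, one_smul]

theorem gl_smul (g : GL (Fin n) F) (v : Fin n → F) : g • v = (g : Matrix (Fin n) (Fin n) F) *ᵥ v := rfl

theorem mem_lineStab_of_smul {g : GL (Fin n) F} {v : Fin n → F} (hv : v ≠ 0) {c : F}
    (h : g • v = c • v) : g ∈ lineStab v := by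
  have hc : c ≠ 0 := by
    rintro rfl
    rw [zero_smul, smul_eq_zero_iff_eq] at h
    exact hv h
  exact ⟨Units.mk0 c hc, h⟩

theorem center_le_lineStab (v : Fin n → F) : Subgroup.center (GL (Fin n) F) ≤ lineStab v := by
  rw [GeneralLinearGroup.center_eq_range_scalar]
  rintro _ ⟨c, rfl⟩
  refine ⟨c, ?_⟩
  ext i
  simp [gl_smul, GeneralLinearGroup.scalar, Matrix.mulVec_diagonal]

theorem lineStab_le_smul (v : Fin n → F) (c : F) : lineStab v ≤ lineStab (c • v) := by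
  rintro g ⟨d, hd⟩
  exact ⟨d, by rw [smul_comm, hd, smul_comm]⟩

theorem exists_not_mem_lineStab (hn : 2 ≤ n) {v : Fin n → F} (hv : v ≠ 0) :
    ∃ s : GL (Fin n) F, (s : Matrix (Fin n) (Fin n) F).det = 1 ∧ s ∉ lineStab v := by
  obtain ⟨i, hi⟩ := Function.ne_iff.1 hv
  haveI : Nontrivial (Fin n) := Fin.nontrivial_iff_two_le.2 hn
  obtain ⟨j, hj⟩ := exists_ne i
  have hd := Matrix.det_transvection_of_ne j i hj (1 : F)
  refine ⟨GeneralLinearGroup.mkOfDetNeZero _ (hd.trans_ne one_ne_zero), hd, ?_⟩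
  rintro ⟨c, hc⟩
  have h1 := congrFun hc i
  have h2 := congrFun hc j
  simp [gl_smul, Matrix.transvection, Matrix.add_mulVec, Matrix.single_mulVec, hj.symm] at h1 h2
  have h3 : (c : F) = 1 := mul_right_cancel₀ hi (h1.symm.trans (one_mul _).symm)
  rw [h3, one_mul] at h2
  exact hi (by simpa using h2)

/-- `u` is a `p`-element whose fixed vectors are the multiples of `v`. -/
def UniqLine (p : ℕ) (u : GL (Fin n) F) (v : Fin n → F) : Prop :=
  (∃ k, u ^ p ^ k = 1) ∧ v ≠ 0 ∧ ∀ w, u • w = w → ∃ c : F, w = c • v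

theorem UniqLine.le_of_mem {p : ℕ} [Fact p.Prime] [CharP F p] {u : GL (Fin n) F} {v w : Fin n → F}
    (h : UniqLine p u v) (hw : w ≠ 0) (hu : u ∈ lineStab w) : lineStab v ≤ lineStab w := by
  obtain ⟨⟨k, hk⟩, -, h⟩ := h
  obtain ⟨c, hc⟩ := hu
  have h1 : ∀ j : ℕ, u ^ j • w = (c : F) ^ j • w := by
    intro j
    induction j with
    | zero => simp
    | succ j ih => rw [pow_succ, mul_smul, hc, smul_comm, ih, smul_smul, pow_succ']
  have h2 := h1 (p ^ k)
  rw [hk, one_smul] at h2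
  have h3 : (c : F) ^ p ^ k = 1 := by
    have : ((c : F) ^ p ^ k - 1) • w = 0 := by rw [sub_smul, one_smul, ← h2, sub_self]
    exact sub_eq_zero.1 ((smul_eq_zero.1 this).resolve_right hw)
  have h4 : (c : F) = 1 := by
    have := sub_pow_char_pow (c : F) 1 (p := p) (n := k)
    rw [h3, one_pow, sub_self] at this
    exact sub_eq_zero.1 (pow_eq_zero_iff (pow_ne_zero _ (Fact.out : p.Prime).ne_zero) |>.1 this)
  rw [h4, one_smul] at hc
  obtain ⟨d, rfl⟩ := h w hc
  exact lineStab_le_smul v d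

variable [Fintype F]

theorem exists_normal_sylow {G : Type*} [Group G] [Finite G] {p : ℕ} [Fact p.Prime] {K : Subgroup G}
    (hK : Group.IsNilpotent K) : ∃ P : Subgroup G, IsPGroup p P ∧
      (∀ a ∈ K, ∀ u ∈ P, a⁻¹ * u * a ∈ P) ∧ ∀ u ∈ K, (∃ k, u ^ p ^ k = 1) → u ∈ P := by
  obtain ⟨P⟩ : Nonempty (Sylow p K) := inferInstance
  haveI : (P : Subgroup K).Normal := Sylow.normal_of_normalizerCondition normalizerCondition_of_isNilpotent P
  haveI := Sylow.unique_of_normal P this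
  refine ⟨(P : Subgroup K).map K.subtype, P.2.map _, ?_, ?_⟩
  · rintro a ha _ ⟨u, hu, rfl⟩
    exact ⟨_, Subgroup.Normal.conj_mem' ‹_› u hu ⟨a, ha⟩, rfl⟩
  · rintro u hu ⟨k, hk⟩
    have h1 : IsPGroup p (Subgroup.zpowers (⟨u, hu⟩ : K)) := by
      rintro ⟨_, j, rfl⟩
      refine ⟨k, Subtype.ext (Subtype.ext ?_)⟩
      simp only [SubgroupClass.coe_pow, SubgroupClass.coe_zpow, OneMemClass.coe_one]
      rw [← zpow_natCast, ← _root_.zpow_mul, mul_comm, _root_.zpow_mul, zpow_natCast, hk, _root_.one_zpow]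
    obtain ⟨Q, hQ⟩ := h1.exists_le_sylow
    rw [Subsingleton.elim Q P] at hQ
    exact ⟨_, hQ (Subgroup.mem_zpowers _), rfl⟩

theorem dvd_card_vec {p : ℕ} [Fact p.Prime] [CharP F p] (hn : 0 < n) : p ∣ Nat.card (Fin n → F) := by
  obtain ⟨k, -, hk⟩ := FiniteField.card F p
  rw [Nat.card_fun, Nat.card_eq_fintype_card, hk, Nat.card_eq_fintype_card, Fintype.card_fin, ← pow_mul]
  exact dvd_pow_self _ (Nat.mul_pos k.2 hn).ne'

theorem UniqLine.le_lineStab {p : ℕ} [Fact p.Prime] [CharP F p] (hn : 0 < n) {u : GL (Fin n) F}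
    {v : Fin n → F} (h : UniqLine p u v) {K : Subgroup (GL (Fin n) F)} (hK : Group.IsNilpotent K)
    (hu : u ∈ K) : K ≤ lineStab v := by
  obtain ⟨P, hP, hPn, hPu⟩ := exists_normal_sylow (p := p) hK
  have huP := hPu u hu h.1
  obtain ⟨w, hw, hw0⟩ := hP.exists_fixed_point_of_prime_dvd_card_of_fixed_point (Fin n → F)
    (dvd_card_vec hn) (a := 0) (fun g => smul_zero _)
  obtain ⟨c, rfl⟩ := h.2.2 w (hw ⟨u, huP⟩)
  have hc : c ≠ 0 := by rintro rfl; simp at hw0
  intro a ha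
  have h1 : (a⁻¹ * u * a) • c • v = c • v := hw ⟨_, hPn a ha u huP⟩
  rw [smul_comm] at h1
  have h2 := smul_right_injective _ hc h1
  rw [mul_smul, mul_smul, inv_smul_eq_iff] at h2
  obtain ⟨d, hd⟩ := h.2.2 _ h2
  exact mem_lineStab_of_smul h.2.1 hd

theorem exists_fixed_row {p : ℕ} [Fact p.Prime] [CharP F p] (hn : 0 < n) {P : Subgroup (GL (Fin n) F)}
    (hP : IsPGroup p P) : ∃ φ : Fin n → F, φ ≠ 0 ∧ ∀ g ∈ P, φ ᵥ* (g : Matrix (Fin n) (Fin n) F) = φ := by
  letI : MulAction P (Fin n → F) :=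
    { smul := fun g φ => φ ᵥ* (((g : GL (Fin n) F)⁻¹ : GL (Fin n) F) : Matrix (Fin n) (Fin n) F)
      one_smul := fun φ => by
        change φ ᵥ* _ = φ
        simp
      mul_smul := fun a b φ => by
        change φ ᵥ* _ = (φ ᵥ* _) ᵥ* _
        rw [Matrix.vecMul_vecMul, Subgroup.coe_mul, _root_.mul_inv_rev, Units.val_mul] }
  obtain ⟨w, hw, hw0⟩ := hP.exists_fixed_point_of_prime_dvd_card_of_fixed_point (Fin n → F)
    (dvd_card_vec hn) (a := 0) (fun g => Matrix.zero_vecMul _)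
  refine ⟨w, hw0.symm, fun g hg => ?_⟩
  have := hw ⟨g⁻¹, P.inv_mem hg⟩
  change w ᵥ* _ = w at this
  rwa [inv_inv] at this

omit [Fintype F] in
theorem pow_eq_one_of_nilpotent {p : ℕ} [Fact p.Prime] [CharP F p] (hn : 0 < n) {u : GL (Fin n) F}
    {N : Matrix (Fin n) (Fin n) F} (hu : (u : Matrix (Fin n) (Fin n) F) = 1 + N) {k : ℕ}
    (hN : N ^ k = 0) : u ^ p ^ k = 1 := by
  haveI : Nonempty (Fin n) := ⟨⟨0, hn⟩⟩
  apply Units.ext
  rw [Units.val_pow_eq_pow_val, hu, add_pow_char_pow_of_commute _ _ (Commute.one_left N), one_pow,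
    pow_eq_zero_of_le (Nat.lt_pow_self (Fact.out : p.Prime).one_lt).le hN, add_zero, Units.val_one]

/-- The criterion, stated for the preimages of the members of the cover in `GL`. -/
theorem criterion {p : ℕ} [Fact p.Prime] [CharP F p] (hn : 2 ≤ n)
    (G : Subgroup (GL (Fin n) F ⧸ Subgroup.center (GL (Fin n) F)))
    (hG : ((Matrix.SpecialLinearGroup.toGL : Matrix.SpecialLinearGroup (Fin n) F →* GL (Fin n) F).range).map
      (QuotientGroup.mk' (Subgroup.center (GL (Fin n) F))) ≤ G)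
    (x₀ : GL (Fin n) F) (hx₀ : (x₀ : Matrix (Fin n) (Fin n) F).det = 1)
    (h : ∀ K : Subgroup (GL (Fin n) F), Group.IsNilpotent K → x₀ ∈ K → ∀ x ∈ K,
      (∃ s : GL (Fin n) F, (s : Matrix (Fin n) (Fin n) F).det = 1 ∧ s ∉ K ∧ s ∈ Subgroup.zpowers (x * s)) ∨
      ∃ (u : GL (Fin n) F) (v : Fin n → F), (u : Matrix (Fin n) (Fin n) F).det = 1 ∧ UniqLine p u v ∧
        u ∉ K ∧ x ∈ lineStab v) :
    ¬ ∃ 𝓐 : Finset (Subgroup ↥G), ((∀ A ∈ 𝓐, A ≠ ⊤) ∧ (∀ g : ↥G, ∃ A ∈ 𝓐, g ∈ A)) ∧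
      (∀ 𝓑 : Finset (Subgroup ↥G), (∀ A ∈ 𝓑, A ≠ ⊤) ∧ (∀ g : ↥G, ∃ A ∈ 𝓑, g ∈ A) → 𝓐.card ≤ 𝓑.card) ∧
      (∀ A ∈ 𝓐, Group.IsNilpotent ↥A) := by
  classical
  rintro ⟨𝓐, ⟨hne, hcov⟩, hmin, hnil⟩
  set π := QuotientGroup.mk' (Subgroup.center (GL (Fin n) F)) with hπ
  have hSL : ∀ s : GL (Fin n) F, (s : Matrix (Fin n) (Fin n) F).det = 1 → π s ∈ G := fun s hs =>
    hG ⟨s, ⟨⟨s, hs⟩, Units.ext rfl⟩, rfl⟩
  let hat : Subgroup G → Subgroup (GL (Fin n) F) := fun A => (A.map G.subtype).comap π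
  have mem_hat : ∀ (A : Subgroup G) (x : GL (Fin n) F) (hx : π x ∈ G), x ∈ hat A ↔ (⟨π x, hx⟩ : G) ∈ A :=
    fun A x hx => ⟨fun ⟨a, ha, e⟩ => (Subtype.ext e : a = ⟨π x, hx⟩) ▸ ha, fun h => ⟨_, h, rfl⟩⟩
  have hnil' : ∀ A ∈ 𝓐, Group.IsNilpotent (hat A) := by
    intro A hA
    haveI := hnil A hA
    haveI : Group.IsNilpotent (A.map G.subtype) :=
      Group.nilpotent_of_surjective _ (G.subtype.subgroupMap_surjective A)
    refine Subgroup.isNilpotent_of_ker_le_center (π.subgroupComap (A.map G.subtype)) fun x hx => ?_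
    have h1 : (x : GL (Fin n) F) ∈ Subgroup.center _ :=
      (QuotientGroup.eq_one_iff _).1 (congrArg Subtype.val (MonoidHom.mem_ker.1 hx))
    exact Subgroup.mem_center_iff.2 fun y => Subtype.ext (Subgroup.mem_center_iff.1 h1 y)
  let down : (Fin n → F) → Subgroup G := fun v => ((lineStab v).map π).comap G.subtype
  have mem_down : ∀ (v : Fin n → F) (x : GL (Fin n) F) (hx : π x ∈ G),
      (⟨π x, hx⟩ : G) ∈ down v ↔ x ∈ lineStab v := by
    intro v x hx
    refine ⟨fun ⟨y, hy, e⟩ => ?_, fun h => ⟨x, h, rfl⟩⟩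
    have h1 : y⁻¹ * x ∈ Subgroup.center _ := QuotientGroup.eq.1 e
    simpa using (lineStab v).mul_mem hy (center_le_lineStab v h1)
  have lift : ∀ g : G, ∃ (x : GL (Fin n) F) (hx : π x ∈ G), g = ⟨π x, hx⟩ := fun g => by
    obtain ⟨x, hx⟩ := QuotientGroup.mk'_surjective _ g.1
    exact ⟨x, hx ▸ g.2, Subtype.ext hx.symm⟩
  let f : Subgroup G → Subgroup G := fun A =>
    if h : ∃ v : Fin n → F, v ≠ 0 ∧ hat A ≤ lineStab v then down h.choose else A
  have hf1 : ∀ A, A ≤ f A := by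
    intro A g hg
    simp only [f]
    split_ifs with h
    · obtain ⟨x, hx, rfl⟩ := lift g
      exact (mem_down _ x hx).2 (h.choose_spec.2 ((mem_hat A x hx).2 hg))
    · exact hg
  obtain ⟨A₀, hA₀, hx₀A⟩ := hcov ⟨π x₀, hSL x₀ hx₀⟩
  have h1 := hmin ((𝓐.erase A₀).image f) ⟨?_, ?_⟩
  · have h2 := Finset.card_image_le (s := 𝓐.erase A₀) (f := f)
    have h3 := Finset.card_erase_lt_of_mem hA₀
    omega
  · intro B hB
    obtain ⟨A, hA, rfl⟩ := Finset.mem_image.1 hB
    simp only [f]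
    split_ifs with h
    · obtain ⟨s, hs, hs'⟩ := exists_not_mem_lineStab hn h.choose_spec.1
      intro htop
      exact hs' ((mem_down _ s (hSL s hs)).1 (htop ▸ Subgroup.mem_top _))
    · exact hne A (Finset.mem_of_mem_erase hA)
  · intro g
    suffices ∃ A ∈ 𝓐, A ≠ A₀ ∧ g ∈ f A by
      obtain ⟨A, hA, hA', hg⟩ := this
      exact ⟨f A, Finset.mem_image_of_mem f (Finset.mem_erase.2 ⟨hA', hA⟩), hg⟩
    obtain ⟨A, hA, hg⟩ := hcov g
    by_cases hAA : A = A₀
    swap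
    · exact ⟨A, hA, hAA, hf1 A hg⟩
    subst hAA
    obtain ⟨x, hx, rfl⟩ := lift g
    rcases h (hat A) (hnil' A hA) ((mem_hat A _ _).2 hx₀A) x ((mem_hat A x hx).2 hg) with
      ⟨s, hs, hsA, hsz⟩ | ⟨u, v, hu, huv, huA, hxv⟩
    · obtain ⟨B, hB, hc⟩ := hcov ⟨π (x * s), by rw [map_mul]; exact G.mul_mem hx (hSL s hs)⟩
      rw [← mem_hat] at hc
      have hsB : s ∈ hat B := Subgroup.zpowers_le.2 hc hsz
      refine ⟨B, hB, fun e => hsA (e ▸ hsB), hf1 B ((mem_hat B x hx).1 ?_)⟩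
      simpa using (hat B).mul_mem hc ((hat B).inv_mem hsB)
    · obtain ⟨B, hB, hc⟩ := hcov ⟨π u, hSL u hu⟩
      rw [← mem_hat] at hc
      refine ⟨B, hB, fun e => huA (e ▸ hc), ?_⟩
      have hex : ∃ v : Fin n → F, v ≠ 0 ∧ hat B ≤ lineStab v :=
        ⟨v, huv.2.1, huv.le_lineStab (by omega) (hnil' B hB) hc⟩
      simp only [f, dif_pos hex]
      exact (mem_down _ x hx).2 (huv.le_of_mem hex.choose_spec.1 (hex.choose_spec.2 hc) hxv)

omit [Fintype F] in
theorem exists_regular_unipotent {p : ℕ} [Fact p.Prime] [CharP F p] (m : ℕ) :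
    ∃ u : GL (Fin (m + 1)) F, (u : Matrix (Fin (m + 1)) (Fin (m + 1)) F).det = 1 ∧
      UniqLine p u (Pi.single 0 1) ∧ ∀ φ : Fin (m + 1) → F,
        φ ᵥ* (u : Matrix (Fin (m + 1)) (Fin (m + 1)) F) = φ → ∀ i : Fin m, φ i.castSucc = 0 := by
  let N : Matrix (Fin (m + 1)) (Fin (m + 1)) F := Matrix.of fun i j => if (j : ℕ) = i + 1 then 1 else 0
  have hN : N.IsUpperTriangular := fun i j hij => if_neg (by
    have : (j : ℕ) < i := hij
    omega)
  have hd : (1 + N).det = 1 := by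
    rw [Matrix.det_of_isUpperTriangular (Matrix.blockTriangular_one.add hN)]
    simp [N]
  have hnil : N ^ (m + 1) = 0 := by
    have h1 := Matrix.aeval_self_charpoly N
    rw [Matrix.charpoly_of_isUpperTriangular N hN] at h1
    simpa [N] using h1
  refine ⟨GeneralLinearGroup.mkOfDetNeZero _ (hd.trans_ne one_ne_zero), hd,
    ⟨⟨_, pow_eq_one_of_nilpotent (Nat.succ_pos m) rfl hnil⟩, by simp, fun w hw => ⟨w 0, ?_⟩⟩,
    fun φ hφ i => ?_⟩
  · have h1 : (1 + N) *ᵥ w = w := hw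
    rw [Matrix.add_mulVec, Matrix.one_mulVec, add_eq_left] at h1
    ext j
    refine Fin.cases (by simp) (fun i => ?_) j
    have h2 := congrFun h1 i.castSucc
    rw [Matrix.mulVec, dotProduct, Finset.sum_eq_single i.succ (fun b _ hb => by
      simp only [N, Matrix.of_apply]
      rw [if_neg (fun h => hb (Fin.ext (by simpa using h))), zero_mul]) (by simp)] at h2
    simpa [N] using h2
  · have h1 : φ ᵥ* (1 + N) = φ := hφ
    rw [Matrix.vecMul_add, Matrix.vecMul_one, add_eq_left] at h1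
    have h2 := congrFun h1 i.succ
    rw [Matrix.vecMul, dotProduct, Finset.sum_eq_single i.castSucc (fun b _ hb => by
      simp only [N, Matrix.of_apply]
      rw [if_neg (fun h => hb (Fin.ext (by simpa using h.symm))), mul_zero]) (by simp)] at h2
    simpa [N] using h2

omit [Fintype F] in
theorem UniqLine.conj {p : ℕ} {u : GL (Fin n) F} {v : Fin n → F} (h : UniqLine p u v)
    (g : GL (Fin n) F) : UniqLine p (g * u * g⁻¹) (g • v) := by
  obtain ⟨⟨k, hk⟩, hv, h⟩ := h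
  refine ⟨⟨k, by rw [conj_pow, hk]; simp⟩, fun e => hv ((smul_eq_zero_iff_eq g).1 e), fun w hw => ?_⟩
  rw [mul_smul, mul_smul, ← eq_inv_smul_iff] at hw
  obtain ⟨c, hc⟩ := h _ hw
  exact ⟨c, by rw [← smul_comm, ← hc, smul_inv_smul]⟩

theorem data_large {p : ℕ} [Fact p.Prime] [CharP F p] (m : ℕ) :
    ∃ x₀ : GL (Fin (m + 3)) F, (x₀ : Matrix (Fin (m + 3)) (Fin (m + 3)) F).det = 1 ∧
      ∀ K : Subgroup (GL (Fin (m + 3)) F), Group.IsNilpotent K → x₀ ∈ K → ∀ x ∈ K,
      ∃ (u : GL (Fin (m + 3)) F) (v : Fin (m + 3) → F),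
        (u : Matrix (Fin (m + 3)) (Fin (m + 3)) F).det = 1 ∧ UniqLine p u v ∧ u ∉ K ∧ x ∈ lineStab v := by
  obtain ⟨u, hu, huv, hrow⟩ := exists_regular_unipotent (F := F) (p := p) (m + 2)
  have hne : Fin.last (m + 2) ≠ 1 := by simp [Fin.ext_iff]
  have hd := Matrix.det_transvection_of_ne (Fin.last (m + 2)) 1 hne (1 : F)
  let g : GL (Fin (m + 3)) F := GeneralLinearGroup.mkOfDetNeZero _ (hd.trans_ne one_ne_zero)
  have hg : g • (Pi.single 0 1 : Fin (m + 3) → F) = Pi.single 0 1 := by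
    change (1 + Matrix.single (Fin.last (m + 2)) 1 (1 : F)) *ᵥ _ = _
    rw [Matrix.add_mulVec, Matrix.one_mulVec, Matrix.single_mulVec]
    simp
  have h' := huv.conj g
  rw [hg] at h'
  refine ⟨g * u * g⁻¹, ?_, fun K hK hx x hxK => ⟨u, _, hu, huv, fun huK => ?_,
    h'.le_lineStab (by omega) hK hx hxK⟩⟩
  · rw [Units.val_mul, Units.val_mul, Matrix.det_units_conj, hu]
  · obtain ⟨P, hP, -, hPu⟩ := exists_normal_sylow (p := p) hK
    obtain ⟨φ, hφ, hφP⟩ := exists_fixed_row (by omega) hP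
    have h1 := hrow φ (hφP u (hPu u huK huv.1))
    have h2 := hφP _ (hPu _ hx h'.1)
    have h3 : (φ ᵥ* (g : Matrix (Fin (m + 3)) (Fin (m + 3)) F)) ᵥ* (u : Matrix _ _ F) =
        φ ᵥ* (g : Matrix (Fin (m + 3)) (Fin (m + 3)) F) := by
      conv_rhs => rw [← h2]
      rw [Matrix.vecMul_vecMul, Matrix.vecMul_vecMul, ← Units.val_mul, ← Units.val_mul,
        inv_mul_cancel_right]
    have h4 := hrow _ h3 1
    have h5 := h1 1
    simp [g, Matrix.transvection, Matrix.vecMul_add] at h4 h5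
    apply hφ
    ext j
    refine Fin.lastCases ?_ h1 j
    rw [h5, zero_add, Matrix.vecMul, dotProduct, Finset.sum_eq_single (Fin.last (m + 2))
      (fun b _ hb => by simp [Matrix.single_apply, hb.symm]) (by simp)] at h4
    simpa using h4

omit [Fintype F] in
theorem exists_transvection {p : ℕ} [Fact p.Prime] [CharP F p] {v : Fin 2 → F} (hv : v ≠ 0) :
    ∃ u : GL (Fin 2) F, (u : Matrix (Fin 2) (Fin 2) F).det = 1 ∧ UniqLine p u v ∧
      ((u : Matrix (Fin 2) (Fin 2) F) 0 1 ≠ 0 ∨ (u : Matrix (Fin 2) (Fin 2) F) 1 0 ≠ 0) := by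
  let N : Matrix (Fin 2) (Fin 2) F := !![-(v 0 * v 1), v 0 * v 0; -(v 1 * v 1), v 0 * v 1]
  have hd : (1 + N).det = 1 := by
    simp [N, Matrix.det_fin_two]
    ring
  have hnil : N ^ 2 = 0 := by
    ext i j
    fin_cases i <;> fin_cases j <;> simp [N, sq, Matrix.mul_apply, Fin.sum_univ_two] <;> ring
  have hv' : v 0 ≠ 0 ∨ v 1 ≠ 0 := by
    by_contra h
    push Not at h
    exact hv (by ext i; fin_cases i <;> simp [h.1, h.2])
  refine ⟨GeneralLinearGroup.mkOfDetNeZero _ (hd.trans_ne one_ne_zero), hd,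
    ⟨⟨_, pow_eq_one_of_nilpotent two_pos rfl hnil⟩, hv, fun w hw => ?_⟩, ?_⟩
  · have h1 : (1 + N) *ᵥ w = w := hw
    rw [Matrix.add_mulVec, Matrix.one_mulVec, add_eq_left] at h1
    have h2 := congrFun h1 0
    have h3 := congrFun h1 1
    simp [N, Matrix.mulVec, dotProduct, Fin.sum_univ_two] at h2 h3
    rcases hv' with h | h
    · refine ⟨w 0 / v 0, ?_⟩
      have h4 : v 0 * w 1 = v 1 * w 0 := mul_left_cancel₀ h (by linear_combination h2)
      ext i
      fin_cases i <;> simp <;> field_simp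
      linear_combination h4
    · refine ⟨w 1 / v 1, ?_⟩
      have h4 : v 0 * w 1 = v 1 * w 0 := mul_left_cancel₀ h (by linear_combination h3)
      ext i
      fin_cases i <;> simp <;> field_simp
      linear_combination -h4
  · simpa [N] using hv'

omit [Fintype F] in
theorem offdiag_of_commute {a : Fˣ} (ha : a ≠ a⁻¹) {h x : GL (Fin 2) F}
    (hh : (h : Matrix (Fin 2) (Fin 2) F) = !![(a : F), 0; 0, ((a⁻¹ : Fˣ) : F)]) (hc : Commute x h) :
    (x : Matrix (Fin 2) (Fin 2) F) 0 1 = 0 ∧ (x : Matrix (Fin 2) (Fin 2) F) 1 0 = 0 := by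
  have h1 := congrArg Units.val hc.eq
  rw [Units.val_mul, Units.val_mul, hh] at h1
  have h2 := congrFun (congrFun h1 0) 1
  have h3 := congrFun (congrFun h1 1) 0
  have h4 : (a : F) - ((a⁻¹ : Fˣ) : F) ≠ 0 := fun e => ha (Units.ext (sub_eq_zero.1 e))
  simp only [Matrix.mul_apply, Fin.sum_univ_two, Matrix.of_apply, Matrix.cons_val', Matrix.cons_val_zero,
    Matrix.cons_val_one, Matrix.cons_val_fin_one, mul_zero, zero_mul, zero_add, add_zero] at h2 h3
  refine ⟨(mul_eq_zero.1 ?_).resolve_right h4, (mul_eq_zero.1 ?_).resolve_right h4⟩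
  · linear_combination -h2
  · linear_combination h3

omit [Fintype F] in
theorem span_of_no_eigen {x : GL (Fin 2) F} (hx : ∀ v : Fin 2 → F, v ≠ 0 → x ∉ lineStab v)
    {v : Fin 2 → F} (hv : v ≠ 0) (w : Fin 2 → F) : ∃ a b : F, a • v + b • x • v = w := by
  have hli : LinearIndependent F ![v, x • v] :=
    (LinearIndependent.pair_iff' hv).2 fun a h => hx v hv (mem_lineStab_of_smul hv h.symm)
  have h1 := hli.span_eq_top_of_card_eq_finrank' (by simp)
  have h2 : w ∈ Submodule.span F (Set.range ![v, x • v]) := h1 ▸ Submodule.mem_top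
  rw [Matrix.range_cons_cons_empty] at h2
  exact Submodule.mem_span_pair.1 h2

omit [Fintype F] in
theorem eq_scalar_of_commute {x : GL (Fin 2) F} (hx : ∀ v : Fin 2 → F, v ≠ 0 → x ∉ lineStab v)
    {y : GL (Fin 2) F} (hc : Commute y x) {v : Fin 2 → F} (hv : v ≠ 0) {c : Fˣ}
    (h : y • v = (c : F) • v) : y = GeneralLinearGroup.scalar (Fin 2) c := by
  apply Units.ext
  apply Matrix.toLin'.injective
  apply LinearMap.ext
  intro w
  obtain ⟨a, b, rfl⟩ := span_of_no_eigen hx hv w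
  have h1 : y • x • v = (c : F) • x • v := by rw [smul_smul, hc.eq, mul_smul, h, smul_comm]
  have h2 : ∀ z : Fin 2 → F, (GeneralLinearGroup.scalar (Fin 2) c) • z = (c : F) • z := fun z => by
    ext i
    simp [gl_smul, GeneralLinearGroup.scalar, Matrix.mulVec_diagonal]
  change y • (a • v + b • x • v) = (GeneralLinearGroup.scalar (Fin 2) c) • (a • v + b • x • v)
  rw [h2, smul_add, smul_add, smul_comm y a, smul_comm y b, h, h1, smul_comm a, smul_comm b]

theorem card_centralizer {x : GL (Fin 2) F} (hx : ∀ v : Fin 2 → F, v ≠ 0 → x ∉ lineStab v) :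
    Nat.card (Subgroup.centralizer ({x} : Set (GL (Fin 2) F))) = Fintype.card F ^ 2 - 1 := by
  set C := Subgroup.centralizer ({x} : Set (GL (Fin 2) F))
  have hv : (Pi.single 0 1 : Fin 2 → F) ≠ 0 := by simp
  have h1 : stabilizer C (Pi.single 0 1 : Fin 2 → F) = ⊥ := by
    rw [Subgroup.eq_bot_iff_forall]
    intro c hc
    have := eq_scalar_of_commute hx (Subgroup.mem_centralizer_singleton_iff.1 c.2) hv (c := 1)
      (by rw [Units.val_one, one_smul]; exact hc)
    exact Subtype.ext (this.trans (map_one _))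
  have h2 : orbit C (Pi.single 0 1 : Fin 2 → F) = {0}ᶜ := by
    ext w
    constructor
    · rintro ⟨c, rfl⟩ h
      exact hv ((smul_eq_zero_iff_eq (c : GL (Fin 2) F)).1 h)
    · intro hw
      obtain ⟨a, b, rfl⟩ := span_of_no_eigen hx hv w
      let M : Matrix (Fin 2) (Fin 2) F := a • 1 + b • (x : Matrix (Fin 2) (Fin 2) F)
      have hM : ∀ z, M *ᵥ z = a • z + b • x • z := fun z => by
        simp [M, Matrix.add_mulVec, Matrix.smul_mulVec, gl_smul]
      have hd : M.det ≠ 0 := by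
        rw [Ne, ← Matrix.exists_mulVec_eq_zero_iff]
        rintro ⟨z, hz, h⟩
        rw [hM] at h
        by_cases hb : b = 0
        · rw [hb, zero_smul, add_zero, smul_eq_zero] at h
          exact hw (by simp [hb, h.resolve_right hz])
        · refine hx z hz (mem_lineStab_of_smul hz (c := -(b⁻¹ * a)) ?_)
          rw [neg_smul, mul_smul, eq_neg_of_add_eq_zero_left h, smul_neg, neg_neg, inv_smul_smul₀ hb]
      refine ⟨⟨GeneralLinearGroup.mkOfDetNeZero M hd, Subgroup.mem_centralizer_singleton_iff.2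
        (Units.ext ?_)⟩, hM _⟩
      change M * x = x * M
      simp [M, add_mul, mul_add]
  rw [← Subgroup.index_bot, ← h1, index_stabilizer, h2]
  have h3 := Set.ncard_add_ncard_compl ({0} : Set (Fin 2 → F))
  rw [Set.ncard_singleton, Nat.card_fun, Nat.card_eq_fintype_card, Nat.card_eq_fintype_card,
    Fintype.card_fin] at h3
  omega

theorem data_two {p : ℕ} [Fact p.Prime] [CharP F p] (hq : 4 ≤ Fintype.card F) :
    ∃ x₀ : GL (Fin 2) F, (x₀ : Matrix (Fin 2) (Fin 2) F).det = 1 ∧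
      ∀ K : Subgroup (GL (Fin 2) F), Group.IsNilpotent K → x₀ ∈ K → ∀ x ∈ K,
      (∃ s : GL (Fin 2) F, (s : Matrix (Fin 2) (Fin 2) F).det = 1 ∧ s ∉ K ∧ s ∈ Subgroup.zpowers (x * s)) ∨
      ∃ (u : GL (Fin 2) F) (v : Fin 2 → F), (u : Matrix (Fin 2) (Fin 2) F).det = 1 ∧ UniqLine p u v ∧
        u ∉ K ∧ x ∈ lineStab v := by
  classical
  obtain ⟨r, j, hr, hrj, hrq, hcase⟩ : ∃ r j : ℕ, r.Prime ∧ ¬ r ^ j ∣ 2 ∧ r ^ j ∣ Fintype.card F - 1 ∧
      (r ≠ 2 ∨ ∃ k, Fintype.card F - 1 = 2 ^ (k + 2)) := by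
    by_cases h : ∀ {d : ℕ}, d.Prime → d ∣ Fintype.card F - 1 → d = 2
    · have h1 := Nat.eq_prime_pow_of_unique_prime_dvd (by omega) h
      generalize (Fintype.card F - 1).primeFactorsList.length = k at h1
      rcases k with _ | _ | k
      · omega
      · omega
      · exact ⟨2, 2, Nat.prime_two, by norm_num, h1 ▸ pow_dvd_pow 2 (by omega), Or.inr ⟨k, h1⟩⟩
    · push Not at h
      obtain ⟨d, hd, h1, h2⟩ := h
      exact ⟨d, 1, hd, fun h => h2 ((Nat.prime_dvd_prime_iff_eq hd Nat.prime_two).1 (by simpa using h)),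
        by simpa using h1, Or.inl h2⟩
  haveI : Fact r.Prime := ⟨hr⟩
  have hcu : Nat.card Fˣ = Fintype.card F - 1 := by rw [Nat.card_units, Nat.card_eq_fintype_card]
  obtain ⟨a, ha⟩ : ∃ a : Fˣ, orderOf a = r ^ j := by
    obtain ⟨g, hg⟩ := IsCyclic.exists_ofOrder_eq_natCard (α := Fˣ)
    rw [hcu] at hg
    exact ⟨g ^ (orderOf g / r ^ j), orderOf_pow_orderOf_div (by omega) (hg ▸ hrq)⟩
  have haa : a ≠ a⁻¹ := fun e => hrj (ha ▸ orderOf_dvd_of_pow_eq_one (by
    rw [pow_two]; exact eq_inv_iff_mul_eq_one.1 e))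
  have hd : (!![(a : F), 0; 0, ((a⁻¹ : Fˣ) : F)] : Matrix (Fin 2) (Fin 2) F).det = 1 := by
    simp [Matrix.det_fin_two]
  let h : GL (Fin 2) F := GeneralLinearGroup.mkOfDetNeZero _ (hd.trans_ne one_ne_zero)
  have hh : (h : Matrix (Fin 2) (Fin 2) F) = !![(a : F), 0; 0, ((a⁻¹ : Fˣ) : F)] := rfl
  have hho : orderOf h ∣ r ^ j := by
    apply orderOf_dvd_of_pow_eq_one
    apply Units.ext
    have h1 : (h : Matrix (Fin 2) (Fin 2) F) = Matrix.diagonal ![(a : F), ((a⁻¹ : Fˣ) : F)] := by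
      rw [hh]
      ext i k
      fin_cases i <;> fin_cases k <;> simp
    have h2 : (a : F) ^ r ^ j = 1 := by rw [← Units.val_pow_eq_pow_val, ← ha, pow_orderOf_eq_one, Units.val_one]
    rw [Units.val_pow_eq_pow_val, h1, Matrix.diagonal_pow, Units.val_one, ← Matrix.diagonal_one]
    congr 1
    ext i
    fin_cases i <;> simp [h2]
  refine ⟨h, hd, fun K hK hhK x hxK => ?_⟩
  have hcomm : ∀ y ∈ K, (orderOf y).Coprime r → Commute y h := fun y hy hc =>
    CL.Grp.commute_of_mem_isNilpotent hK hy hhK ((hc.pow_right j).coprime_dvd_right hho)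
  by_cases hx : ∀ v : Fin 2 → F, v ≠ 0 → x ∉ lineStab v
  swap
  · push Not at hx
    obtain ⟨v, hv, hxv⟩ := hx
    obtain ⟨u, hu, huv, hu'⟩ := exists_transvection (p := p) hv
    refine Or.inr ⟨u, v, hu, huv, fun huK => ?_, hxv⟩
    obtain ⟨k, hk⟩ := huv.1
    have h1 : p.Coprime r := by
      rw [Nat.coprime_primes Fact.out hr]
      rintro rfl
      obtain ⟨k, -, hk⟩ := FiniteField.card F p
      have h2 : p ∣ Fintype.card F - 1 := (dvd_pow_self p (by rintro rfl; simp at hrj)).trans hrq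
      have h3 : p ∣ Fintype.card F := hk ▸ dvd_pow_self p k.ne_zero
      have h4 := (Nat.dvd_sub h3 h2)
      rw [Nat.sub_sub_self Fintype.card_pos, Nat.dvd_one] at h4
      exact hr.ne_one h4
    have h2 := offdiag_of_commute haa hh (hcomm u huK
      ((h1.pow_left k).coprime_dvd_left (orderOf_dvd_of_pow_eq_one hk)))
    tauto
  have hscal : ∀ y ∈ K, (orderOf y).Coprime r → Commute y x →
      ∃ c : Fˣ, y = GeneralLinearGroup.scalar (Fin 2) c := by
    intro y hy hc hyx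
    have h1 := (offdiag_of_commute haa hh (hcomm y hy hc)).2
    have hv : (Pi.single 0 1 : Fin 2 → F) ≠ 0 := by simp
    obtain ⟨c, hc⟩ := mem_lineStab_of_smul (g := y) hv (c := (y : Matrix (Fin 2) (Fin 2) F) 0 0) (by
      ext i
      fin_cases i <;> simp [gl_smul, h1])
    exact ⟨c, eq_scalar_of_commute hx hyx hv hc⟩
  have hC := card_centralizer hx
  obtain ⟨i, hi⟩ := CL.Loc.exists_pow_orderOf_coprime r x
  obtain ⟨c, hc⟩ := hscal _ (K.pow_mem hxK _) hi (Commute.pow_self x _)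
  have hq2 : Fintype.card F ^ 2 - 1 = (Fintype.card F - 1) * (Fintype.card F + 1) := by
    rw [mul_comm, ← Nat.sq_sub_sq]
  rcases hcase with hr2 | ⟨k, hk⟩
  · exfalso
    set C := Subgroup.centralizer ({x} : Set (GL (Fin 2) F))
    set Z := Subgroup.center (GL (Fin 2) F)
    have hZ : Nat.card Z = Fintype.card F - 1 := by
      rw [← hcu, show Z = _ from GeneralLinearGroup.center_eq_range_scalar]
      refine (Nat.card_congr (MonoidHom.ofInjective ?_).toEquiv).symm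
      exact Units.map_injective fun _ _ e => Matrix.scalar_inj.1 e
    have hZC : Z ≤ C := Subgroup.center_le_centralizer _
    have h1 := CL.Grp.card_mul_relIndex hZC
    rw [hZ, hC, hq2] at h1
    have h2 := Subgroup.pow_relIndex_mem Z (K := C) (Subgroup.mem_centralizer_singleton_iff.2 rfl : x ∈ C)
    rw [Nat.eq_of_mul_eq_mul_left (by omega) h1] at h2
    have h3 : x ^ r ^ i ∈ Z := by
      rw [hc, show Z = _ from GeneralLinearGroup.center_eq_range_scalar]
      exact ⟨c, rfl⟩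
    have h4 : (r ^ i).Coprime (Fintype.card F + 1) := by
      refine Nat.Coprime.pow_left _ ((Nat.Prime.coprime_iff_not_dvd hr).2 fun h => hr2 ?_)
      have h5 : r ∣ Fintype.card F - 1 := (dvd_pow_self r (by rintro rfl; simp at hrj)).trans hrq
      have h6 := Nat.dvd_sub h h5
      rw [show Fintype.card F + 1 - (Fintype.card F - 1) = 2 by omega] at h6
      exact (Nat.prime_dvd_prime_iff_eq hr Nat.prime_two).1 h6
    have h5 : x ∈ Z := by
      have h6 : (x : GL (Fin 2) F ⧸ Z) ^ (r ^ i).gcd (Fintype.card F + 1) = 1 :=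
        pow_gcd_eq_one.2 ⟨(QuotientGroup.eq_one_iff _).2 h3, (QuotientGroup.eq_one_iff _).2 h2⟩
      rw [h4, pow_one] at h6
      exact (QuotientGroup.eq_one_iff _).1 h6
    exact hx (Pi.single 0 1) (by simp) (center_le_lineStab _ h5)
  · left
    obtain rfl : r = 2 := (Nat.prime_dvd_prime_iff_eq hr Nat.prime_two).1
      (hr.dvd_of_dvd_pow (hk ▸ (dvd_pow_self r (by rintro rfl; simp at hrj)).trans hrq))
    have hsc : ∀ c : Fˣ, orderOf (GeneralLinearGroup.scalar (Fin 2) c) ∣ 2 ^ (k + 2) := fun c =>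
      (orderOf_map_dvd _ c).trans (hk ▸ hcu ▸ orderOf_dvd_natCard c)
    have hxi : x ^ 2 ^ i = 1 := orderOf_eq_one_iff.1
      (Nat.eq_one_of_dvd_coprimes (hi.pow_right _) dvd_rfl (hc ▸ hsc c))
    have h1 : Fintype.card F + 1 = 2 * (2 * 2 ^ k + 1) := by rw [pow_succ, pow_succ] at hk; omega
    have h2 : 2 * 2 ^ k + 1 ≠ 1 := by have : 0 < 2 ^ k := by positivity
                                      omega
    obtain ⟨s, hsC, hs⟩ := CL.Fgs.exists_mem_prime_order
      (H := Subgroup.centralizer ({x} : Set (GL (Fin 2) F))) (Nat.minFac_prime h2) (by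
        rw [hC, hq2, h1]
        exact ((Nat.minFac_dvd _).mul_left 2).mul_left _)
    have hs2 : (orderOf s).Coprime 2 := by
      rw [hs]
      exact Nat.Coprime.coprime_dvd_left (Nat.minFac_dvd _) (by simp)
    have hsx : Commute s x := Subgroup.mem_centralizer_singleton_iff.1 hsC
    refine ⟨s, ?_, fun hsK => ?_, ?_⟩
    · have h3 : orderOf (GeneralLinearGroup.det s) = 1 := Nat.eq_one_of_dvd_coprimes
        (hs2.pow_right (k + 2)) (orderOf_map_dvd _ s) (hk ▸ hcu ▸ orderOf_dvd_natCard _)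
      exact congrArg Units.val (orderOf_eq_one_iff.1 h3)
    · obtain ⟨c, hc⟩ := hscal s hsK hs2 hsx
      have h3 : orderOf s = 1 := Nat.eq_one_of_dvd_coprimes (hs2.pow_right _) dvd_rfl (hc ▸ hsc c)
      exact (Nat.minFac_prime h2).ne_one (hs.symm.trans h3)
    · obtain ⟨l, hl⟩ := exists_pow_eq_self_of_coprime (hs2.pow_right i).symm
      refine ⟨((2 ^ i * l : ℕ) : ℤ), ?_⟩
      simp only [zpow_natCast]
      rw [pow_mul, hsx.symm.mul_pow, hxi, one_mul, hl]

end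

/-- A cover of a group is a finite set of proper subgroups whose union is the whole group; it is minimal when no cover has fewer members, and nilpotent when all its members are nilpotent. Let F be a finite field with q elements and n ≥ 3, or n = 2 and q ≥ 4. Then no subgroup of PGL_n(F) = GL_n(F)/Z(GL_n(F)) containing the image of SL_n(F) has a nilpotent minimal cover. -/
theorem result {F : Type*} [Field F] [Fintype F] (n : ℕ) (hn : 3 ≤ n ∨ (n = 2 ∧ 4 ≤ Fintype.card F))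
    (G : Subgroup (GL (Fin n) F ⧸ Subgroup.center (GL (Fin n) F)))
    (hG : ((Matrix.SpecialLinearGroup.toGL : Matrix.SpecialLinearGroup (Fin n) F →* GL (Fin n) F).range).map
      (QuotientGroup.mk' (Subgroup.center (GL (Fin n) F))) ≤ G) :
    ¬ ∃ 𝓐 : Finset (Subgroup ↥G), ((∀ A ∈ 𝓐, A ≠ ⊤) ∧ (∀ g : ↥G, ∃ A ∈ 𝓐, g ∈ A)) ∧ (∀ 𝓑 : Finset (Subgroup ↥G), (∀ A ∈ 𝓑, A ≠ ⊤) ∧ (∀ g : ↥G, ∃ A ∈ 𝓑, g ∈ A) → 𝓐.card ≤ 𝓑.card) ∧ (∀ A ∈ 𝓐, Group.IsNilpotent ↥A) := by
  obtain ⟨p, hp⟩ := CharP.exists F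
  haveI : Fact p.Prime := ⟨CharP.char_is_prime F p⟩
  rcases hn with hn | ⟨rfl, hq⟩
  · obtain ⟨m, rfl⟩ : ∃ m, n = m + 3 := ⟨n - 3, by omega⟩
    obtain ⟨x₀, h1, h2⟩ := data_large (F := F) (p := p) m
    exact criterion (p := p) (by omega) G hG x₀ h1 fun K hK hx x hxK => Or.inr (h2 K hK hx x hxK)
  · obtain ⟨x₀, h1, h2⟩ := data_two (F := F) (p := p) hq
    exact criterion (p := p) le_rfl G hG x₀ h1 h2

end Cfsg.Agent.S3894
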