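import Cfsg.Statements.S3904
import Cfsg.Agent.Fgs.MaxCent

set_option autoImplicit false
open Cfsg

namespace Cfsg.Agent.S3904

open Subgroup CL.Grp CL.Fgs


/-- Let G be a non-abelian finite group in which the centralizer of every non-central element is a maximal subgroup. Then G/Z(G) is either an elementary abelian p-group for some prime p, or a minimal non-abelian group (non-abelian with all proper subgroups abelian) of order p^a · q for distinct primes p, q with a normal Sylow p-subgroup. -/
theorem result {G : Type*} [Group G] [Finite G] (hna : ¬ IsMulCommutative G)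
    (h : ∀ x : G, x ∉ Subgroup.center G → IsCoatom (Subgroup.centralizer ({x} : Set G))) :
    (∃ p : ℕ, p.Prime ∧ Cfsg.IsElementaryAbelian p (⊤ : Subgroup (G ⧸ Subgroup.center G))) ∨
    (¬ IsMulCommutative (G ⧸ Subgroup.center G) ∧ (∀ H : Subgroup (G ⧸ Subgroup.center G), H ≠ ⊤ → IsMulCommutative ↥H) ∧
      ∃ p q a : ℕ, p.Prime ∧ q.Prime ∧ p ≠ q ∧ Nat.card (G ⧸ Subgroup.center G) = p ^ a * q ∧
        ∀ P : Subgroup (G ⧸ Subgroup.center G), Nat.card ↥P = p ^ a → P.Normal) := by
  set f := QuotientGroup.mk' (center G) with hf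
  have hc : centralizer ((⊤ : Subgroup G) : Set G) = center G := by
    rw [coe_top, centralizer_univ]
  have hm : MaxCent ⊤ f := ⟨inferInstance, QuotientGroup.mk'_surjective _,
    fun g => by rw [hc]; exact (QuotientGroup.eq_one_iff g).trans (by simp), fun x _ hx => h x (hc ▸ hx)⟩
  have ht : (⊤ : Subgroup G).map f = ⊤ := map_top_of_surjective f hm.surj
  rcases hm.cases with h1 | ⟨K, p, r, hp, hr, hrp, hKn, hK0, -, hKe, hKi, hfix⟩
  · exact Or.inl (ht ▸ h1)
  right
  rw [ht] at hKi hfix
  rw [relIndex_top_right] at hKi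
  haveI := Fact.mk hp
  have hKp := isPGroup_of_isElementaryAbelian hKe
  obtain ⟨a, ha⟩ := hKp.exists_card_eq
  have hcard : Nat.card (G ⧸ center G) = p ^ a * r := by rw [← ha, ← hKi, card_mul_index]
  have hKt : K ≠ ⊤ := fun e => by rw [e, index_top] at hKi; exact hr.one_lt.ne hKi
  refine ⟨fun hab => ?_, fun H hH => ?_, p, r, a, hp, hr, hrp.symm, hcard, fun P hP => ?_⟩
  · obtain ⟨y, -, hy⟩ := SetLike.not_le_iff_exists.1 (mt top_le_iff.1 hKt)
    exact hK0 ((eq_bot_iff_forall _).2 fun k hk => hfix y trivial hy k hk (hab.is_comm.comm k y))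
  · by_cases hle : H ≤ K
    · exact isMulCommutative_of_forall fun a ha b hb =>
        comm_of_isMulCommutative hKe.1 (hle ha) (hle hb)
    obtain ⟨y, hyH, hy⟩ := SetLike.not_le_iff_exists.1 hle
    obtain ⟨y, rfl⟩ := hm.surj y
    have hy1 : f y ≠ 1 := fun e => hy (e ▸ one_mem K)
    have hM := hm.max_map (mem_top y) hy1
    have h1 : K ⊓ (cent(y)).map f = ⊥ := (eq_bot_iff_forall _).2 fun k hk =>
      hfix _ trivial hy k hk.1 (mem_cent.1 (map_cent_le f y hk.2))
    have h2 : Nat.card ((cent(y)).map f) ∣ r := by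
      rw [← hKi, ← relIndex_bot_left, ← h1, inf_relIndex_right]
      exact Subgroup.relIndex_dvd_index_of_normal _ _
    have h3 : zpowers (f y) ≤ (cent(y)).map f :=
      zpowers_le.2 (mem_map_of_mem f (self_mem_cent y))
    have h4 : zpowers (f y) = (cent(y)).map f := eq_of_le_of_card_ge h3 (by
      have := (Nat.dvd_prime hr).1 ((card_dvd_of_le h3).trans h2)
      rw [this.resolve_left (by rw [Nat.card_zpowers, orderOf_eq_one_iff]; exact hy1)]
      exact Nat.le_of_dvd hr.pos h2)
    rw [(hM.le_iff.1 (h4 ▸ zpowers_le.2 hyH)).resolve_left hH, ← h4]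
    infer_instance
  · have h1 : P ≤ K := (IsSylowIn.of_card_le (H := ⊤) ⟨le_top, hKp, by
      rw [relIndex_top_right, hKi]
      exact fun e => hrp ((Nat.prime_dvd_prime_iff_eq hp hr).1 e).symm⟩
      (IsPGroup.of_card hP) le_top (by rw [ha, hP])).le_of_normalized hKp le_top
      (by rw [normalizer_eq_top]) |> fun e => (eq_of_le_of_card_ge e (by rw [ha, hP])).ge
    rw [eq_of_le_of_card_ge h1 (by rw [ha, hP])]
    exact hKn

end Cfsg.Agent.S3904
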