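import Cfsg.Statements.S3905
import Cfsg.Agent.Fgs.MaxCent

set_option autoImplicit false
open Cfsg

namespace Cfsg.Agent.S3905

open Subgroup CL.Grp CL.Fgs


/-- Let N be a normal subgroup of the finite group G such that for every element x of N outside the center of N the centralizer C_G(x) is a maximal subgroup of G. Then N/Z(N) is either an elementary abelian p-group for some prime p, or a Frobenius group whose kernel is an elementary abelian normal subgroup and whose complement has prime order. -/
theorem result {G : Type*} [Group G] [Finite G] (N : Subgroup G) [N.Normal]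
    (h : ∀ x : G, x ∈ N → x ∉ Subgroup.centralizer (N : Set G) → IsCoatom (Subgroup.centralizer ({x} : Set G))) :
    (∃ p : ℕ, p.Prime ∧ Cfsg.IsElementaryAbelian p (⊤ : Subgroup (↥N ⧸ Subgroup.center ↥N))) ∨
    (∃ (Q K : Subgroup (↥N ⧸ Subgroup.center ↥N)) (p : ℕ), p.Prime ∧ Cfsg.IsFrobeniusComplement Q ∧ (Nat.card ↥Q).Prime ∧
      K.Normal ∧ (K : Set (↥N ⧸ Subgroup.center ↥N)) = Cfsg.frobeniusKernel Q ∧ Cfsg.IsElementaryAbelian p K) := by
  set Z := N ⊓ centralizer (N : Set G) with hZ
  set f := QuotientGroup.mk' Z with hf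
  have hm : MaxCent N f := ⟨inferInstance, QuotientGroup.mk'_surjective Z,
    fun g => QuotientGroup.eq_one_iff g, h⟩
  have hk : center N = (f.subgroupMap N).ker := by
    ext x
    rw [MonoidHom.mem_ker, ← Subtype.coe_inj]
    refine Iff.trans ?_ (hm.ker x).symm
    exact ⟨fun e => ⟨x.2, fun g hg => congrArg Subtype.val (mem_center_iff.1 e ⟨g, hg⟩)⟩,
      fun e => mem_center_iff.2 fun g => Subtype.ext (e.2 g g.2)⟩
  let e : (N ⧸ center N) ≃* N.map f := (QuotientGroup.quotientMulEquivOfEq hk).trans
    (QuotientGroup.quotientKerEquivOfSurjective _ (f.subgroupMap_surjective N))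
  set j : (N ⧸ center N) →* G ⧸ Z := (N.map f).subtype.comp e.toMonoidHom with hj
  have hji : Function.Injective j := (N.map f).subtype_injective.comp e.injective
  have hjm : ∀ x, j x ∈ N.map f := fun x => (e x).2
  have el : ∀ (p : ℕ) (K : Subgroup (G ⧸ Z)), IsElementaryAbelian p K →
      IsElementaryAbelian p (K.comap j) := fun p K hK =>
    ⟨isMulCommutative_of_forall fun a ha b hb => hji (by
      rw [map_mul, map_mul]; exact comm_of_isMulCommutative hK.1 ha hb),
    fun a ha => hji (by rw [map_pow, map_one]; exact hK.2 _ ha)⟩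
  rcases hm.cases with ⟨p, hp, h1⟩ | ⟨K, p, r, hp, hr, hrp, hKn, hK0, hKN, hKe, hKi, hfix⟩
  · refine Or.inl ⟨p, hp, ?_⟩
    have : (N.map f).comap j = ⊤ := eq_top_iff.2 fun x _ => hjm x
    exact this ▸ el p _ h1
  · have h1 := el p K hKe
    obtain ⟨Q, h2, h3, h4⟩ := exists_frob_of_prime_index (K := K.comap j) (fun e' => hK0 (by
        refine (eq_bot_iff_forall _).2 fun k hk' => ?_
        have : e.symm ⟨k, hKN hk'⟩ ∈ K.comap j := by simpa [hj] using hk'
        rw [e', mem_bot, map_eq_one_iff _ e.symm.injective] at this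
        exact congrArg Subtype.val this)) hp hr hrp h1.2 (by
        rw [hj, ← comap_comap, index_comap_of_surjective _ e.surjective]; exact hKi)
      fun y hy k hk' hc => hji (by rw [map_one]; exact hfix _ (hjm y) hy _ hk' (hc.map j))
    exact Or.inr ⟨Q, K.comap j, p, hp, h2, h3 ▸ hr, inferInstance, h4.symm, h1⟩

end Cfsg.Agent.S3905
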