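import Cfsg.Statements.S3921
import Cfsg.Agent.Cit.CentFour
import Cfsg.Agent.Fgs.ClassIto
import Cfsg.Agent.Fgs.ClassTwo
import Cfsg.Agent.Inv.ZStar
import Cfsg.Agent.Inv.BaerSuzuki
import Cfsg.Agent.Cls.SL2NormD
import Cfsg.Agent.Cls.SL2Max
import Cfsg.Agent.S3920

set_option autoImplicit false
open Cfsg

namespace Cfsg.Agent.S3921

open Subgroup CL.Grp CL.Fgs CL.Cit CL.SL2 CL.Inv Matrix
open scoped MatrixGroups Pointwise

def X (G : Type*) [Group G] : Prop := ∀ H : Subgroup G, ¬ IsCyclic H → centralizer (H : Set G) ≤ H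

theorem X.of_injective {G G' : Type*} [Group G] [Group G'] (h : X G) (f : G' →* G) (hf : Function.Injective f) : X G' :=
  fun H hH x hx => (mem_map_iff_mem hf).1 (h (H.map f) (fun hc => hH ((H.equivMapOfInjective f hf).isCyclic.2 hc)) (by
    rintro _ ⟨y, hy, rfl⟩
    rw [← map_mul, ← map_mul, hx y hy]))

variable {G : Type*} [Group G] [Finite G]

theorem X.isPGroup (h : X G) {t u : G} (ht : orderOf t = 2) (hu : orderOf u = 2) (htu : t ≠ u) (hz : t ∈ center G) :
    IsPGroup 2 G := by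
  classical
  have hc : ∀ g, Commute g t := mem_center_iff.1 hz
  have hV := isKleinFour_closure_pair ht hu htu (hc u).symm
  have hC := h (closure {t, u}) IsKleinFour.not_isCyclic
  have hu2 : u * u = 1 := by rw [← sq, ← hu, pow_orderOf_eq_one]
  have ht2 : t * t = 1 := by rw [← sq, ← ht, pow_orderOf_eq_one]
  have htV : t ∈ closure ({t, u} : Set G) := subset_closure (by simp)
  have huV : u ∈ closure ({t, u} : Set G) := subset_closure (by simp)
  have hN : IsPGroup 2 (normalClosure ({u} : Set G)) := by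
    by_contra hn
    obtain ⟨w, w1, wo, hw, -⟩ := invol_inverts_odd_of_not_mem hu2 hn
    have hwo : ∀ x ∈ zpowers w, x * x = 1 → x = 1 := fun x hx e =>
      (two_of_sq e).eq_one_of_odd (wo.of_dvd_nat (orderOf_dvd_of_mem_zpowers hx))
    have hn : zpowers u ≤ normalizer (zpowers w : Set G) := zpowers_le.2 (mem_normalizer_fintype (by
      rintro _ ⟨k, rfl⟩
      exact ⟨-k, by simp only; rw [← conj_zpow, hw, _root_.inv_zpow']⟩))
    have h1 : t ∈ zpowers w ⊔ zpowers u := h (zpowers w ⊔ zpowers u) (fun hcy => w1 (hwo w (mem_zpowers w) (by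
      have := comm_of_isMulCommutative (U := zpowers w ⊔ zpowers u) hcy.isMulCommutative (mem_sup_right (mem_zpowers u))
        (mem_sup_left (mem_zpowers w))
      rw [this.eq, mul_inv_cancel_right] at hw
      exact mul_eq_one_iff_eq_inv.2 hw))) fun x _ => hc x
    rw [← SetLike.mem_coe, coe_mul_of_right_le_normalizer_left _ _ hn] at h1
    obtain ⟨x, hx, y, hy, e⟩ := h1
    have hy2 : y = 1 ∨ y = u := by
      rw [SetLike.mem_coe, mem_zpowers_iff_mem_range_orderOf, hu] at hy
      simpa [Finset.range_add_one, or_comm, eq_comm] using hy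
    obtain rfl : x = 1 := hwo x hx (by
      rw [eq_mul_inv_of_mul_eq e, (hc _).mul_mul_mul_comm, ht2, one_mul, ← _root_.mul_inv_rev]
      rcases hy2 with rfl | rfl <;> simp [hu2])
    rcases hy2 with rfl | rfl
    · simp [← e] at ht
    · exact htu (by simp [← e])
  have htR : t ∈ pCore 2 G := mem_pCore_of_conj_mem (two_of_sq ht2).isPGroup fun g => by rw [(hc g).eq]; simp
  have huR : u ∈ pCore 2 G := mem_pCore_of_conj_mem hN fun g =>
    normalClosure_normal.conj_mem u (subset_normalClosure (Set.mem_singleton u)) g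
  have hVR : closure {t, u} ≤ pCore 2 G := (closure_le _).2 (Set.pair_subset htR huR)
  refine pResidual_eq_bot_iff.1 (eq_bot_iff.2 (pResidual_le_iff.2 fun y hy => ?_))
  refine eq_one_of_coprime_of_mem (IsKleinFour.isPGroup_two hV) (hC ?_) hy
  by_contra hn
  have e := eq_of_hasCoprimeAut hV hC (pCore_isPGroup 2 G) hVR
    ⟨y, by rw [normalizer_eq_top]; trivial, hy, fun h => hn (centralizer_le hVR h)⟩
  have h1 : y * u * y⁻¹ ∈ closure ({t, u} : Set G) := e ▸ (pCore_normal 2 G).conj_mem _ (hVR huV) y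
  have h2 : y ∈ centralizer {u} := by
    by_contra hyu
    have t1 : t ≠ 1 := fun e => by simp [e] at ht
    have u1 : u ≠ 1 := fun e => by simp [e] at hu
    have h3 : y * u * y⁻¹ = t * u := Subtype.ext_iff.1 (IsKleinFour.eq_mul_of_ne_all
      (x := (⟨t, htV⟩ : closure ({t, u} : Set G))) (y := ⟨u, huV⟩) (z := ⟨_, h1⟩) (Subtype.coe_ne_coe.1 t1)
      (Subtype.coe_ne_coe.1 u1) (Subtype.coe_ne_coe.1 htu) (Subtype.coe_ne_coe.1 fun e => u1 (conj_eq_one_iff.1 e))
      (Subtype.coe_ne_coe.1 fun (e : y * u * y⁻¹ = t) => htu (by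
        rw [mul_inv_eq_iff_eq_mul, ← (hc y).eq] at e
        exact (mul_left_cancel e).symm))
      (Subtype.coe_ne_coe.1 fun e => hyu (mem_cent_iff_conj.2 e)))
    refine hyu (mem_of_pow_mem_coprime hy (by simp) (mem_cent_iff_conj.2 ?_))
    calc y ^ 2 * u * (y ^ 2)⁻¹ = y * (y * u * y⁻¹) * y⁻¹ := by rw [sq]; group
      _ = y * t * u * y⁻¹ := by rw [h3, mul_assoc y t]
      _ = t * (y * u * y⁻¹) := by rw [(hc y).eq]; group
      _ = u := by rw [h3, ← mul_assoc, ht2, one_mul]
  exact hn (by rw [centralizer_closure]; rintro _ (rfl | rfl); exacts [(hc y).symm, h2 _ rfl])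

theorem le_of_not_isCyclic {p : ℕ} [hp : Fact p.Prime] {H K : Subgroup G} (hK : Nat.card K ∣ p ^ 2) (hle : H ≤ K)
    (hH : ¬ IsCyclic H) : K ≤ H := by
  obtain ⟨i, hi, e⟩ := (Nat.dvd_prime_pow hp.out).1 ((card_dvd_of_le hle).trans hK)
  interval_cases i
  · exact absurd (isCyclic_of_card_dvd_prime (p := p) (by simp [e])) hH
  · exact absurd (isCyclic_of_card_dvd_prime (p := p) (by simp [e])) hH
  · exact (eq_of_le_of_card_ge hle (e ▸ Nat.le_of_dvd (pow_pos hp.out.pos 2) hK)).ge

theorem x_dihedral {n : ℕ} (h : Odd n ∨ ∃ k : ℕ, n = 2 ^ k) (h1 : 2 ≤ n) : X (DihedralGroup n) := by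
  rcases h1.eq_or_lt with rfl | h1
  · exact fun H hH => le_top.trans (le_of_not_isCyclic (p := 2) (by rw [card_top, DihedralGroup.nat_card]; rfl) le_top hH)
  · exact (S3920.result n h1).2 h

theorem x_psl {F : Type*} [Field F] [Fintype F] (p : ℕ) [hp : Fact p.Prime] [CharP F p] (hq : Fintype.card F ∣ p ^ 2)
    (h : ∀ n, n * Nat.gcd 2 (Fintype.card F - 1) = Fintype.card F + 1 ∨ n * Nat.gcd 2 (Fintype.card F - 1) = Fintype.card F - 1 →
      X (DihedralGroup n)) : X PSL(2, F) := fun H hH x hx => by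
  by_cases h1 : x = 1
  · exact h1 ▸ one_mem H
  have hle : H ≤ centralizer {x} := fun y hy => mem_cent.2 (hx y hy)
  by_cases hp : x ^ p = 1
  · obtain ⟨z, hz⟩ := (uhyp_psl p).fix_one x h1 hp
    have hxQ : x ∈ (uhyp_psl p).Q z := ⟨(hz z).2 rfl, hp⟩
    rw [psl_centralizer_eq p hxQ h1] at hle
    exact le_of_not_isCyclic (p := p) (by rwa [card_Q_psl, Nat.card_eq_fintype_card]) hle hH hxQ
  obtain ⟨n, -, hn, ⟨e⟩⟩ := normalizer_psl p hp
  have hN := hle.trans (cent_le_normalizer_zpowers x)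
  exact (h n hn).of_injective (e : _ →* _) e.injective (H.subgroupOf _)
    (fun hc => hH ((subgroupOfEquivOfLe hN).isCyclic.1 hc)) (x := ⟨x, le_normalizer (mem_zpowers x)⟩)
    fun y hy => Subtype.ext (hx y hy)


/-- Say that a group has self-centralizing non-cyclic subgroups when every non-cyclic subgroup H satisfies C_G(H) ≤ H. A non-abelian finite simple group has self-centralizing non-cyclic subgroups if and only if it is isomorphic to PSL₂(q) with q = 4, q = 9, or q a prime of the form 2^k + 1 or 2^k − 1. -/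
theorem result {G : Type*} [Group G] [Finite G] [IsSimpleGroup G] (hna : ¬ IsMulCommutative G) :
    (∀ H : Subgroup G, ¬ IsCyclic ↥H → Subgroup.centralizer (H : Set G) ≤ H) ↔ ∃ (F : Type) (_ : Field F) (_ : Fintype F),
      (Fintype.card F = 4 ∨ Fintype.card F = 9 ∨ ((Fintype.card F).Prime ∧ ∃ k : ℕ, Fintype.card F = 2 ^ k + 1 ∨ Fintype.card F = 2 ^ k - 1)) ∧
      Nonempty (G ≃* Matrix.ProjectiveSpecialLinearGroup (Fin 2) F) := by
  have hs := not_isSolvable_of_simple hna
  refine ⟨fun h => ?_, ?_⟩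
  · have h2 : 2 ∣ Nat.card G := even_iff_two_dvd.1 (Nat.not_odd_iff_even.1 fun e => hs (CL.Odd.feit_thompson e))
    have h3 : Nat.card G ≠ 2 := fun e => not_isCyclic_of_not_isMulCommutative hna (isCyclic_of_prime_card e)
    have hG : IsCIT G := fun t ht => by
      obtain ⟨g, hc, hne⟩ := exists_commuting_conj_of_simple h3 ht
      exact (X.of_injective h _ (centralizer {t}).subtype_injective).isPGroup (t := ⟨t, self_mem_cent t⟩)
        (u := ⟨_, mem_cent'.2 hc⟩) (by simpa using ht) (by simpa [CL.Inv.orderOf_conj] using ht)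
        (fun e => hne (congrArg Subtype.val e).symm) (mem_center_iff.2 fun x => Subtype.ext (mem_cent.1 x.2))
    obtain ⟨t, ht⟩ := exists_prime_orderOf_dvd_card' 2 h2
    obtain ⟨g, hc, hne⟩ := exists_commuting_conj_of_simple h3 ht
    have hV := isKleinFour_closure_pair ht ((CL.Inv.orderOf_conj _ _).trans ht) hne.symm hc
    rcases psl_of_selfCent hna hG hV (h _ IsKleinFour.not_isCyclic) with e | ⟨F, _, _, -, hF, e⟩
    · letI : Fintype (GaloisField 2 2) := Fintype.ofFinite _
      exact ⟨_, _, _, Or.inl (card_galoisField 2 two_ne_zero), e⟩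
    · exact ⟨F, _, _, Or.inr (hF.imp_right fun ⟨h1, k, h2⟩ => ⟨h1, k, by omega⟩), e⟩
  rintro ⟨F, _, _, hF, ⟨e⟩⟩
  have h4 : 4 ≤ Fintype.card F := not_lt.1 fun h => hs (isSolvable_of_equiv ⟨e⟩ (isSolvable_psl (by omega)))
  refine X.of_injective ?_ e.toMonoidHom e.injective
  rcases hF with hF | hF | ⟨hp, k, hk⟩
  · haveI := charP_of_card_eq_prime_pow (p := 2) (f := 2) hF
    refine x_psl 2 (hF ▸ dvd_rfl) fun n hn => ?_
    norm_num [hF] at hn
    rcases hn with rfl | rfl <;> exact x_dihedral (Or.inl (by decide)) (by decide)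
  · haveI := Fact.mk Nat.prime_three
    haveI := charP_of_card_eq_prime_pow (p := 3) (f := 2) hF
    refine x_psl 3 (hF ▸ dvd_rfl) fun n hn => ?_
    norm_num [hF] at hn
    exact x_dihedral (by obtain rfl | rfl : n = 5 ∨ n = 4 := by omega
                         exacts [Or.inl (by decide), Or.inr ⟨2, rfl⟩]) (by omega)
  · haveI := Fact.mk hp
    haveI := charP_of_card_eq (F := F) rfl
    refine x_psl (Fintype.card F) (dvd_pow_self _ two_ne_zero) fun n hn => ?_
    have ho := Nat.odd_iff.1 (hp.odd_of_ne_two (by omega))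
    rw [Nat.gcd_eq_left (by omega)] at hn
    obtain ⟨k, rfl⟩ : ∃ j, k = j + 2 := ⟨k - 2, by
      by_contra hk2
      obtain rfl | rfl : k = 0 ∨ k = 1 := by omega
      all_goals omega⟩
    have : 0 < 2 ^ k := by positivity
    refine x_dihedral (or_iff_not_imp_left.2 fun ho => ⟨k + 1, ?_⟩) (by omega)
    rw [Nat.odd_iff] at ho
    rw [pow_add] at hk ⊢
    omega

end Cfsg.Agent.S3921
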