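import Cfsg.Statements.S3999
import Cfsg.Agent.S3359
import Cfsg.Agent.S4345
import Cfsg.Agent.Fgs.AbelMax
import Cfsg.Agent.Fgs.CondSylMin
import Cfsg.Agent.Fgs.SylNum
import Cfsg.Agent.Grp.ThompsonFpf
import Cfsg.Agent.Grp.FrobKernel
import Cfsg.Agent.Grp.CoresPi

set_option autoImplicit false
open Cfsg
open scoped Pointwise

namespace Cfsg.Agent.S3999

open Subgroup CL.Fgs CL.Grp

theorem sylow_normal {G H : Type*} [Group G] [Finite G] [Group H] [Finite H] (e : G ≃ H)
    (he : ∀ g, orderOf (e g) = orderOf g) {p : ℕ} [Fact p.Prime] (Q : Sylow p G)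
    (hQ : (Q : Subgroup G).Normal) (P : Sylow p H) : (P : Subgroup H).Normal := by
  have h1 : ∀ x : H, (∃ k, orderOf x = p ^ k) → x ∈ e '' (Q : Subgroup G) := fun x ⟨k, hk⟩ => by
    refine ⟨e.symm x, ?_, by simp⟩
    have h2 : IsPGroup p (Subgroup.zpowers (e.symm x)) :=
      IsPGroup.of_card (n := k) (by rw [Nat.card_zpowers, ← he, e.apply_symm_apply, hk])
    obtain ⟨R, hR⟩ := h2.exists_le_sylow
    have := Sylow.unique_of_normal Q hQ
    rw [Subsingleton.elim R Q] at hR
    exact hR (Subgroup.mem_zpowers _)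
  have h2 : ∀ x ∈ (P : Subgroup H), ∃ k, orderOf x = p ^ k := fun x hx => by
    obtain ⟨k, hk⟩ := IsPGroup.iff_orderOf.1 P.isPGroup' ⟨x, hx⟩
    exact ⟨k, by rw [← hk, ← Subgroup.orderOf_coe]⟩
  have h3 : ((P : Subgroup H) : Set H) = e '' (Q : Subgroup G) := by
    refine Set.eq_of_subset_of_ncard_le (fun x hx => h1 x (h2 x hx)) ?_
    rw [Set.ncard_image_of_injective _ e.injective, ← Nat.card_coe_set_eq, ← Nat.card_coe_set_eq]
    simp only [SetLike.coe_sort_coe]
    rw [P.card_eq_multiplicity, Q.card_eq_multiplicity, Nat.card_congr e]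
  refine ⟨fun x hx g => ?_⟩
  change _ ∈ ((P : Subgroup H) : Set H)
  obtain ⟨k, hk⟩ := h2 x hx
  exact h3 ▸ h1 _ ⟨k, (orderOf_injective (MulAut.conj g).toMonoidHom (MulAut.conj g).injective x).trans hk⟩

theorem frob {F G : Type*} [Group F] [Finite F] [Group G] [Finite G] (e : F ≃ G)
    (he : ∀ g, orderOf (e g) = orderOf g) {C : Subgroup F} (hC : IsFrobeniusComplement C) :
    ∃ C : Subgroup G, IsFrobeniusComplement C := by
  obtain ⟨K, -, hKn, hc, hK, hf, -⟩ := exists_frobenius_kernel hC
  have hnK : C ≤ normalizer (K : Set F) := by rw [normalizer_eq_top]; exact le_top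
  have hnil := isNilpotent_of_fpf_subgroup hC.1 hnK hf
  have hcop := coprime_card_of_fpf hnK hf
  have hcard : Nat.card G = Nat.card K * Nat.card C := by rw [hc.card_mul, Nat.card_congr e]
  set K' := piCore {p | p ∣ Nat.card K} G with hK'
  have h1 : (Nat.card K').Coprime (Nat.card C) := by
    refine Nat.coprime_of_dvd fun p hp h1 h2 => ?_
    have : p ∣ Nat.card K := piCore_isPiSubgroup _ G p hp h1
    exact hp.ne_one (Nat.eq_one_of_dvd_coprimes hcop h2 this)
  have h2 : (Nat.card K).Coprime K'.index := by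
    refine Nat.coprime_of_dvd fun p hp h1 h2 => ?_
    have := Fact.mk hp
    obtain ⟨Q⟩ : Nonempty (Sylow p F) := inferInstance
    obtain ⟨P⟩ : Nonempty (Sylow p G) := inferInstance
    have hQK : (Q : Subgroup F) ≤ K := sylow_le_of_not_dvd_index K (by
      rw [hc.symm.index_eq_card]
      exact fun h => hp.ne_one (Nat.eq_one_of_dvd_coprimes hcop h h1)) Q
    have hQ : (Q : Subgroup F) = pCore p F := le_antisymm
      (le_pCore_of_le_fittingSubgroup Q.isPGroup' (hQK.trans (le_fittingSubgroup hnil)))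
      (pCore_le_sylow Q)
    have := sylow_normal e he Q (hQ ▸ inferInstance) P
    have hPK : (P : Subgroup G) ≤ K' := le_piCore fun q hq hd => by
      obtain ⟨k, hk⟩ := P.isPGroup'.exists_card_eq
      rw [hk] at hd
      rwa [(Nat.prime_dvd_prime_iff_eq hq hp).1 (hq.dvd_of_dvd_pow hd)]
    exact P.not_dvd_index (h2.trans (index_dvd_of_le hPK))
  have h3 : Nat.card K' = Nat.card K := by
    have := K'.card_mul_index
    refine Nat.dvd_antisymm (h1.dvd_of_dvd_mul_right ⟨_, (this.trans hcard).symm⟩)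
      (h2.dvd_of_dvd_mul_right ⟨_, this.trans hcard⟩)
  have h4 : K'.index = Nat.card C := by
    have := K'.card_mul_index
    rw [hcard, h3] at this
    exact Nat.eq_of_mul_eq_mul_left Nat.card_pos this
  obtain ⟨C', hc'⟩ := exists_right_complement'_of_coprime (N := K') (by rwa [h4])
  have h5 : Nat.card C' = Nat.card C := by rw [← h4, hc'.symm.index_eq_card]
  refine ⟨C', frob_of_fpf hc' (fun h => hK ?_) (fun h => hC.1 ?_) fun h hh h1 => ?_⟩
  · rw [← card_eq_one, ← h3, h, card_bot]
  · rw [← card_eq_one, ← h5, h, card_bot]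
  rw [eq_bot_iff]
  rintro y ⟨hy, hyc⟩
  have hco : Commute y h := mem_centralizer_singleton_iff.1 hyc
  have ho1 : orderOf y ∣ Nat.card K := h3 ▸ orderOf_dvd_natCard K' hy
  have ho2 : orderOf h ∣ Nat.card C := h5 ▸ orderOf_dvd_natCard C' hh
  have ho := hco.orderOf_mul_eq_mul_orderOf_of_coprime
    ((hcop.symm.coprime_dvd_left ho1).coprime_dvd_right ho2)
  obtain ⟨x, hx⟩ := e.surjective (y * h)
  rw [← hx, he] at ho
  by_cases hxK : x ∈ K
  · have := (Dvd.intro_left _ ho.symm).trans (orderOf_dvd_natCard K hxK)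
    exact absurd (orderOf_eq_one_iff.1 (Nat.eq_one_of_dvd_coprimes hcop ho2 this)) h1
  · obtain ⟨k, -, hk⟩ := exists_conj_mem_of_fpf hc hf hxK
    have h6 := orderOf_dvd_natCard C hk
    rw [show orderOf (k * x * k⁻¹) = orderOf x from (MulAut.conj k).orderOf_eq x] at h6
    have := (Dvd.intro _ ho.symm).trans h6
    exact orderOf_eq_one_iff.1 (Nat.eq_one_of_dvd_coprimes hcop this ho1)

theorem card_sylow_eq {X : Type*} [Group X] [Finite X] {p : ℕ} [hp : Fact p.Prime]
    (h : (Nat.card X).factorization p = 1) :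
    Nat.card {x : X // orderOf x = p} = (p - 1) * Nat.card (Sylow p X) := by
  rw [card_orderOf_prime_eq_mul]
  congr 1
  refine Nat.card_congr ⟨fun H => Sylow.ofCard H.1 (by rw [h, pow_one, H.2]),
    fun P => ⟨P, by rw [P.card_eq_multiplicity, h, pow_one]⟩, fun H => rfl, fun P => rfl⟩

theorem card_sylow_sl : Nat.card (Sylow 5 (Matrix.SpecialLinearGroup (Fin 2) (ZMod 5))) = 6 := by
  have : Fact (Nat.Prime 5) := ⟨Nat.prime_five⟩
  obtain ⟨P⟩ : Nonempty (Sylow 5 (Matrix.SpecialLinearGroup (Fin 2) (ZMod 5))) := inferInstance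
  have hc : Nat.card (Matrix.SpecialLinearGroup (Fin 2) (ZMod 5)) = 120 := by
    rw [CL.SLn.card_SL_two, ZMod.card]; norm_num
  have h1 := card_sylow_modEq_one 5 (Matrix.SpecialLinearGroup (Fin 2) (ZMod 5))
  have h2 := (Sylow.card_dvd_index P).trans (index_dvd_card _)
  have h3 : Nat.card (Sylow 5 (Matrix.SpecialLinearGroup (Fin 2) (ZMod 5))) ≠ 1 := by
    intro h
    rw [P.card_eq_index_normalizer, index_eq_one] at h
    have := normalizer_eq_top_iff.1 h
    refine not_isPClosed_psl_two (p := 5) (by norm_num) (isPClosed_of_normal_sylow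
      (P.mapSurjective (QuotientGroup.mk'_surjective _)) ?_)
    exact this.map _ (QuotientGroup.mk'_surjective _)

  rw [hc] at h2
  have := Nat.le_of_dvd (by norm_num) h2
  generalize Nat.card (Sylow 5 (Matrix.SpecialLinearGroup (Fin 2) (ZMod 5))) = n at *
  unfold Nat.ModEq at h1
  interval_cases n <;> omega

theorem solv {F G : Type*} [Group F] [Finite F] [Group G] [Finite G] (e : F ≃ G)
    (he : ∀ g, orderOf (e g) = orderOf g) {C : Subgroup F} (hC : IsFrobeniusComplement C)
    (hG : Group.IsSolvable G) : Group.IsSolvable F := by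
  by_contra hF
  have : Fact (Nat.Prime 5) := ⟨Nat.prime_five⟩
  obtain ⟨K, -, hKn, hc, hK, hf, -⟩ := exists_frobenius_kernel hC
  have hnK : C ≤ normalizer (K : Set F) := by rw [normalizer_eq_top]; exact le_top
  have hnil := isNilpotent_of_fpf_subgroup hC.1 hnK hf
  have hcop := coprime_card_of_fpf hnK hf
  have hCs : ¬ Group.IsSolvable C := fun h => by
    have : Group.IsSolvable (F ⧸ K) := Group.isSolvable_of_isSolvable_injective
      (f := hc.symm.QuotientMulEquiv.toMonoidHom) (MulEquiv.injective _)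
    exact hF (Group.isSolvable_of_ker_le_range K.subtype (QuotientGroup.mk' K) (by simp))
  have : Nontrivial C := (nontrivial_iff_ne_bot C).2 hC.1
  obtain ⟨G₀, hn, hi, S, M, hSM, hd, hcomm, ⟨f⟩, -, hM⟩ := S3359.result hCs
    (CL.Perm.isFpf_of_isFrobeniusComplement hC).isFC
  have hS : Nat.card S = 120 := by
    rw [Nat.card_congr f.toEquiv, CL.SLn.card_SL_two, ZMod.card]; norm_num
  have hMS : M ≤ normalizer (S : Set C) :=
    le_normalizer_of_le_centralizer fun x hx => mem_centralizer_iff.2 fun s hs => hcomm s hs x hx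
  have hG₀ : Nat.card G₀ = Nat.card M * 120 := by
    rw [← hSM, sup_comm, card_sup_of_inf_eq_bot hMS (inf_comm S M ▸ hd), hS]
  have hM5 : ¬ 5 ∣ Nat.card M := fun h => by
    have := Nat.eq_one_of_dvd_coprimes hM h (by norm_num : 5 ∣ 30); omega
  have hi5 : ¬ 5 ∣ G₀.index := by rcases hi with h | h <;> rw [h] <;> norm_num
  have hCc : Nat.card C = Nat.card M * 120 * G₀.index := by rw [← hG₀, card_mul_index]
  have hK5 : ¬ 5 ∣ Nat.card K := fun h => by
    have := Nat.eq_one_of_dvd_coprimes hcop (by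
      rw [hCc]; exact ((Dvd.intro_left 24 rfl : 5 ∣ 120).mul_left _).mul_right _) h
    omega
  have hK2 : ¬ 2 ∣ Nat.card K := fun h => by
    have := Nat.eq_one_of_dvd_coprimes hcop (by
      rw [hCc]; exact ((Dvd.intro_left 60 rfl : 2 ∣ 120).mul_left _).mul_right _) h
    omega
  have hfac : (Nat.card F).factorization 5 = 1 := by
    rw [← hc.card_mul, hCc, Nat.factorization_mul Nat.card_pos.ne' (hCc ▸ Nat.card_pos.ne'),
      Nat.factorization_mul (hG₀ ▸ Nat.card_pos.ne') index_ne_zero_of_finite,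
      Nat.factorization_mul Nat.card_pos.ne' (by norm_num)]
    simp only [Finsupp.add_apply, Nat.factorization_eq_zero_of_not_dvd hM5,
      Nat.factorization_eq_zero_of_not_dvd hi5, Nat.factorization_eq_zero_of_not_dvd hK5]
    rw [show 120 = 5 ^ 1 * 24 by norm_num, Nat.factorization_mul (by norm_num) (by norm_num),
      Nat.prime_five.factorization_pow, Finsupp.add_apply,
      Nat.factorization_eq_zero_of_not_dvd (by norm_num : ¬ 5 ∣ 24)]
    simp
  have hC6 : Nat.card (Sylow 5 C) = 6 := by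
    obtain ⟨P⟩ : Nonempty (Sylow 5 C) := inferInstance
    rw [← card_sylow_of_normal_of_le G₀ P (sylow_le_of_not_dvd_index G₀ hi5 P)]
    have hSG : S ≤ G₀ := hSM ▸ le_sup_left
    have : (S.subgroupOf G₀).Normal :=
      (normal_subgroupOf_iff_le_normalizer hSG).2 (hSM ▸ sup_le le_normalizer hMS)
    obtain ⟨Q⟩ : Nonempty (Sylow 5 G₀) := inferInstance
    rw [← card_sylow_of_normal_of_le (S.subgroupOf G₀) Q (sylow_le_of_not_dvd_index _ (by
      have h1 := card_mul_relIndex hSG
      rw [hG₀, hS, mul_comm] at h1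
      rw [← relIndex, Nat.eq_of_mul_eq_mul_right (by norm_num) h1]
      exact hM5) Q), card_sylow_congr ((subgroupOfEquivOfLe hSG).trans f), card_sylow_sl]
  obtain ⟨P⟩ : Nonempty (Sylow 5 F) := inferInstance
  have h1 := card_sylow_eq_quotient_mul K P
  rw [card_sylow_congr hc.symm.QuotientMulEquiv, hC6] at h1
  have h2 : Nat.card (Sylow 5 G) = Nat.card (Sylow 5 F) := by
    have h3 := card_sylow_eq hfac
    have h4 := card_sylow_eq (X := G) (p := 5) (by rwa [← Nat.card_congr e])
    have h5 : Nat.card {x : F // orderOf x = 5} = Nat.card {x : G // orderOf x = 5} :=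
      Nat.card_congr (e.subtypeEquiv fun x => by rw [he])
    omega
  have h3 := S4345.result hG 5 2 Nat.prime_two
  have h4 : ¬ 2 ∣ (normalizer ((P : Subgroup F) : Set F)).relIndex K :=
    fun h => hK2 (h.trans (relIndex_dvd_card _ _))
  rw [h2, h1, Nat.factorization_mul (by norm_num) (by rintro h; rw [h] at h4; simp at h4),
    Finsupp.add_apply, Nat.factorization_eq_zero_of_not_dvd h4, show 6 = 2 ^ 1 * 3 by norm_num,
    Nat.factorization_mul (by norm_num) (by norm_num), Nat.prime_two.factorization_pow,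
    Finsupp.add_apply, Nat.factorization_eq_zero_of_not_dvd (by norm_num : ¬ 2 ∣ 3)] at h3
  simp [Nat.ModEq] at h3

/-- Let F be a finite Frobenius group (it has a Frobenius complement) and G a finite group with the same order type as F (for every m the same number of elements of order m). Then G is a Frobenius group; moreover G is solvable if and only if F is. -/
theorem result {F G : Type*} [Group F] [Finite F] [Group G] [Finite G] (hF : (∃ C : Subgroup F, Cfsg.IsFrobeniusComplement C)) (hT : (∀ m : ℕ, Nat.card {g : F // orderOf g = m} = Nat.card {h : G // orderOf h = m})) :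
    (∃ C : Subgroup G, Cfsg.IsFrobeniusComplement C) ∧ (Group.IsSolvable G ↔ Group.IsSolvable F) := by
  let e : F ≃ G := Equiv.ofFiberEquiv (f := fun g : F => orderOf g) (g := fun h : G => orderOf h)
    fun m => (Finite.card_eq.1 (hT m)).some
  have he : ∀ g, orderOf (e g) = orderOf g := fun g => Equiv.ofFiberEquiv_map _ g
  obtain ⟨C, hC⟩ := hF
  obtain ⟨C', hC'⟩ := frob e he hC
  exact ⟨⟨C', hC'⟩, solv e he hC, solv e.symm (fun g => by rw [← he, e.apply_symm_apply]) hC'⟩

end Cfsg.Agent.S3999
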