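import Cfsg.Statements.S4018
import Cfsg.Agent.Fgs.Friendship
import Cfsg.Agent.Transfer.Control

set_option autoImplicit false
open Cfsg

namespace Cfsg.Agent.S4018

open Subgroup

theorem conj_orderOf {G : Type*} [Group G] (g x : G) : orderOf (g * x * g⁻¹) = orderOf x :=
  (MulAut.conj g).orderOf_eq x

theorem comm_of_sq {G : Type*} [Group G] {x s : G} (hx : Odd (orderOf x))
    (h : x ^ 2 * s = s * x ^ 2) : x * s = s * x := by
  obtain ⟨m, hm⟩ := hx
  have h1 : Commute (x ^ 2) s := h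
  have h2 := h1.pow_left (m + 1)
  rw [← pow_mul, show 2 * (m + 1) = 2 * m + 1 + 1 by ring, ← hm, pow_succ, pow_orderOf_eq_one,
    one_mul] at h2
  exact h2

/-- the graph-theoretic part -/
theorem graph {G : Type*} [Group G] [Finite G] (C : Subgroup G) (t : G) (ht : orderOf t = 2)
    (hconj : ∀ u : G, orderOf u = 2 → ∃ g : G, u = g * t * g⁻¹)
    (hmul : ∀ u v : G, orderOf u = 2 → orderOf v = 2 → u ≠ t → v ≠ t → u * t = t * u →
      v * t = t * v → u * v ∈ C)
    (hTI : ∀ x ∈ C, x ≠ 1 → ∀ g : G, g * x * g⁻¹ ∈ C → g * t = t * g)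
    (hCt : ∀ x ∈ C, x * t = t * x)
    (hodd : ∀ u x : G, orderOf u = 2 → u * x * u⁻¹ = x⁻¹ → Odd (orderOf x) →
      ∃ g : G, g * x * g⁻¹ ∈ C)
    (s x : G) (hs : orderOf s = 2) (hst : s ≠ t) (hs' : s * t = t * s) (hx : x ∈ C)
    (hxo : Odd (orderOf x)) (hxs : x * s ≠ s * x) : False := by
  classical
  have hsq : ∀ u : G, orderOf u = 2 → u * u = 1 := fun u hu => by
    rw [← sq, ← hu, pow_orderOf_eq_one]
  have hinv : ∀ u : G, orderOf u = 2 → u⁻¹ = u := fun u hu => inv_eq_of_mul_eq_one_right (hsq u hu)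
  have hne : ∀ u : G, orderOf u = 2 → u ≠ 1 := fun u hu h => by simp [h] at hu
  let V := {u : G // orderOf u = 2}
  let adj : V → V → Prop := fun u v => u ≠ v ∧ (u : G) * v = v * u
  have : Nonempty V := ⟨⟨t, ht⟩⟩
  have hle := CL.Fgs.friendship_regular_le_two adj (fun u v h => ⟨h.1.symm, h.2.symm⟩)
    (fun v h => h.1 rfl) (Nat.card {w // adj ⟨t, ht⟩ w}) ?_ ?_
  · -- degree at least three
    have hxt := hCt x hx
    have key : ∀ y ∈ C, adj ⟨t, ht⟩ ⟨y * s * y⁻¹, by rw [conj_orderOf, hs]⟩ := by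
      intro y hy
      have h1 := hCt y hy
      have h2 := hCt _ (C.inv_mem hy)
      refine ⟨fun h => hst ?_, ?_⟩
      · have h3 : t = y * s * y⁻¹ := congrArg Subtype.val h
        calc s = y⁻¹ * (y * s * y⁻¹) * y := by group
          _ = t := by rw [← h3, h2]; group
      · change t * (y * s * y⁻¹) = y * s * y⁻¹ * t
        rw [← mul_assoc, ← mul_assoc, ← h1, mul_assoc y, ← hs', mul_assoc, mul_assoc, ← h2]
        group
    have h3 : 2 < Nat.card {w // adj ⟨t, ht⟩ w} := by
      have := Fintype.ofFinite {w // adj ⟨t, ht⟩ w}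
      rw [Nat.card_eq_fintype_card, Fintype.two_lt_card_iff]
      refine ⟨⟨_, key 1 C.one_mem⟩, ⟨_, key x hx⟩, ⟨_, key x⁻¹ (C.inv_mem hx)⟩, ?_, ?_, ?_⟩
      · intro h
        have h1 : 1 * s * 1⁻¹ = x * s * x⁻¹ := congrArg (fun w => (w.1 : G)) h
        apply hxs
        rw [one_mul, inv_one, mul_one, eq_mul_inv_iff_mul_eq] at h1
        exact h1.symm
      · intro h
        have h1 : 1 * s * 1⁻¹ = x⁻¹ * s * x⁻¹⁻¹ := congrArg (fun w => (w.1 : G)) h
        apply hxs
        rw [one_mul, inv_one, mul_one, inv_inv, mul_assoc, eq_inv_mul_iff_mul_eq] at h1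
        exact h1
      · intro h
        have h1 : x * s * x⁻¹ = x⁻¹ * s * x⁻¹⁻¹ := congrArg (fun w => (w.1 : G)) h
        apply hxs
        apply comm_of_sq hxo
        calc x ^ 2 * s = x * (x * s * x⁻¹) * x := by rw [sq]; group
          _ = s * x ^ 2 := by rw [h1, sq]; group
    omega
  · -- regularity
    rintro ⟨u, hu⟩
    obtain ⟨g, rfl⟩ := hconj u hu
    let e : V ≃ V := Equiv.subtypeEquiv (MulAut.conj g).toEquiv
      (fun a => by change _ ↔ orderOf (g * a * g⁻¹) = 2; rw [conj_orderOf])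
    symm
    refine Nat.card_congr (Equiv.subtypeEquiv e fun w => ?_)
    have h1 : (⟨g * t * g⁻¹, hu⟩ : V) = e ⟨t, ht⟩ := rfl
    refine and_congr (by rw [h1, e.injective.ne_iff]) ?_
    change _ ↔ (MulAut.conj g) t * (MulAut.conj g) w = (MulAut.conj g) w * (MulAut.conj g) t
    rw [← map_mul, ← map_mul, (MulAut.conj g).injective.eq_iff]
  · rintro ⟨u, hu⟩ ⟨v, hv⟩ huv
    have huv' : u ≠ v := fun h => huv (Subtype.ext h)
    have h1 : u * v ≠ 1 := by
      intro h
      rw [← hsq u hu] at h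
      exact huv' (mul_left_cancel h).symm
    have hu' : u * (u * v) * u⁻¹ = (u * v)⁻¹ := by
      rw [mul_inv_rev, hinv v hv, ← mul_assoc, hsq u hu, one_mul]
    have hv' : v * (u * v) * v⁻¹ = (u * v)⁻¹ := by
      rw [mul_inv_rev, hinv u hu, hinv v hv, mul_assoc, mul_assoc, hsq v hv, mul_one]
    refine existsUnique_of_exists_of_unique ?_ ?_
    · rcases Nat.even_or_odd (orderOf (u * v)) with he | ho
      · have hw : orderOf ((u * v) ^ (orderOf (u * v) / 2)) = 2 :=
          orderOf_pow_orderOf_div (orderOf_pos _).ne' he.two_dvd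
        have key : ∀ y : G, y * (u * v) * y⁻¹ = (u * v)⁻¹ →
            y * (u * v) ^ (orderOf (u * v) / 2) = (u * v) ^ (orderOf (u * v) / 2) * y := by
          intro y hy
          rw [← mul_inv_eq_iff_eq_mul, ← conj_pow, hy, inv_pow, hinv _ hw]
        have key2 : ∀ y : G, y * (u * v) * y⁻¹ = (u * v)⁻¹ →
            y = (u * v) ^ (orderOf (u * v) / 2) → y = u * v := by
          intro y hy hy2
          have h2 : y * (u * v) * y⁻¹ = u * v := by
            rw [mul_inv_eq_iff_eq_mul, hy2]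
            exact ((Commute.refl _).pow_left _).eq
          have h3 : orderOf (u * v) = 2 := by
            apply orderOf_eq_prime _ h1
            rw [sq, ← eq_inv_iff_mul_eq_one, ← hy, h2]
          rw [hy2, h3]; simp
        refine ⟨⟨_, hw⟩, ⟨fun h => ?_, key u hu'⟩, fun h => ?_, key v hv'⟩
        · have := key2 u hu' (congrArg Subtype.val h)
          exact hne v hv (by simpa using this)
        · have := key2 v hv' (congrArg Subtype.val h)
          exact hne u hu (by simpa using this)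
      · obtain ⟨g, hg⟩ := hodd u _ hu hu' ho
        have hg1 : g * (u * v) * g⁻¹ ≠ 1 := by simpa using h1
        have key : ∀ y : G, y * (u * v) * y⁻¹ = (u * v)⁻¹ →
            y * (g⁻¹ * t * g⁻¹⁻¹) = (g⁻¹ * t * g⁻¹⁻¹) * y ∧ y ≠ g⁻¹ * t * g⁻¹⁻¹ := by
          intro y hy
          have h2 : (g * y * g⁻¹) * (g * (u * v) * g⁻¹) * (g * y * g⁻¹)⁻¹ =
              (g * (u * v) * g⁻¹)⁻¹ := by
            calc _ = g * (y * (u * v) * y⁻¹) * g⁻¹ := by group
              _ = _ := by rw [hy]; group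
          have h3 := hTI _ hg hg1 (g * y * g⁻¹) (h2 ▸ C.inv_mem hg)
          constructor
          · calc y * (g⁻¹ * t * g⁻¹⁻¹) = g⁻¹ * (g * y * g⁻¹ * t) * g := by group
              _ = _ := by rw [h3]; group
          · intro h
            have h4 : g * y * g⁻¹ = t := by rw [h]; group
            rw [h4, ← hCt _ hg, mul_inv_cancel_right, eq_inv_iff_mul_eq_one, ← sq,
              ← orderOf_dvd_iff_pow_eq_one, conj_orderOf] at h2
            have h5 := (Nat.dvd_prime Nat.prime_two).1 h2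
            rcases h5 with h5 | h5
            · exact h1 (orderOf_eq_one_iff.1 h5)
            · rw [h5] at ho; exact absurd ho (by decide)
        exact ⟨⟨g⁻¹ * t * g⁻¹⁻¹, by rw [conj_orderOf, ht]⟩,
          ⟨fun h => (key u hu').2 (congrArg Subtype.val h), (key u hu').1⟩,
          fun h => (key v hv').2 (congrArg Subtype.val h), (key v hv').1⟩
    · have key : ∀ g : G, ∀ hw : orderOf (g * t * g⁻¹) = 2,
          adj ⟨u, hu⟩ ⟨_, hw⟩ ∧ adj ⟨v, hv⟩ ⟨_, hw⟩ → g⁻¹ * (u * v) * g ∈ C := by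
        intro g hw h
        have h2 : ∀ y : G, y * (g * t * g⁻¹) = g * t * g⁻¹ * y → y ≠ g * t * g⁻¹ →
            g⁻¹ * y * g⁻¹⁻¹ ≠ t ∧ g⁻¹ * y * g⁻¹⁻¹ * t = t * (g⁻¹ * y * g⁻¹⁻¹) := by
          intro y hy hy'
          refine ⟨fun h => hy' (by rw [← h]; group), ?_⟩
          calc _ = g⁻¹ * (y * (g * t * g⁻¹)) * g := by group
            _ = _ := by rw [hy]; group
        have h3 := h2 u h.1.2 (fun h' => h.1.1 (Subtype.ext h'))
        have h4 := h2 v h.2.2 (fun h' => h.2.1 (Subtype.ext h'))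
        have h5 := hmul _ _ (by rw [conj_orderOf, hu]) (by rw [conj_orderOf, hv]) h3.1 h4.1 h3.2 h4.2
        convert h5 using 1
        group
      rintro ⟨w₁, hw₁⟩ ⟨w₂, hw₂⟩ h₁ h₂
      obtain ⟨g₁, rfl⟩ := hconj w₁ hw₁
      obtain ⟨g₂, rfl⟩ := hconj w₂ hw₂
      have h3 := hTI _ (key g₁ hw₁ h₁) (fun h => h1 (by
        calc u * v = g₁ * (g₁⁻¹ * (u * v) * g₁) * g₁⁻¹ := by group
          _ = 1 := by rw [h]; group)) (g₂⁻¹ * g₁) (by
        convert key g₂ hw₂ h₂ using 1; group)
      apply Subtype.ext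
      calc g₁ * t * g₁⁻¹ = g₂ * (g₂⁻¹ * g₁ * t) * g₁⁻¹ := by group
        _ = g₂ * t * g₂⁻¹ := by rw [h3]; group

/-- Let G be a finite group with an abelian Sylow 3-subgroup P such that the normalizer of P has order 4·#P, the centralizer C of P has order 2·#P, C meets each of its conjugates by elements outside its normalizer trivially, and every proper subgroup of G of even order has order dividing 4·#P. Then G is not simple. -/
theorem result {G : Type*} [Group G] [Finite G]
    (P : Sylow 3 G) (hab : IsMulCommutative P)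
    (hN : Nat.card (Subgroup.normalizer ((P : Subgroup G) : Set G)) = 4 * Nat.card P)
    (hC : Nat.card (Subgroup.centralizer (P : Set G)) = 2 * Nat.card P)
    (hTI : Cfsg.IsTISubset (Subgroup.centralizer (P : Set G) : Set G))
    (heven : ∀ H : Subgroup G, H ≠ ⊤ → 2 ∣ Nat.card H → Nat.card H ∣ 4 * Nat.card P) :
    ¬ IsSimpleGroup G := by
  intro hs
  classical
  have : Fact (Nat.Prime 2) := ⟨Nat.prime_two⟩
  have : Fact (Nat.Prime 3) := ⟨Nat.prime_three⟩
  obtain ⟨a, ha⟩ := P.isPGroup'.exists_card_eq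
  set C := Subgroup.centralizer (P : Set G) with hCdef
  set N := Subgroup.normalizer ((P : Subgroup G) : Set G) with hNdef
  have hCN : C ≤ N := centralizer_le_normalizer _
  have hPC : (P : Subgroup G) ≤ C := by
    intro x hx
    rw [hCdef, mem_centralizer_iff]
    intro y hy
    exact congrArg Subtype.val (hab.is_comm.comm (⟨y, hy⟩ : P) ⟨x, hx⟩)
  have hPpos : 0 < Nat.card P := Nat.card_pos
  have hNG : 4 * Nat.card P ≤ Nat.card G := hN ▸ card_le_card_group _
  have hrel : C.relIndex N = 2 := by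
    have h1 := (C.subgroupOf N).index_mul_card
    rw [Nat.card_congr (subgroupOfEquivOfLe hCN).toEquiv, hC, hN] at h1
    change C.relIndex N * _ = _ at h1
    nlinarith
  have hrelP : (P : Subgroup G).relIndex C = 2 := by
    have h1 := ((P : Subgroup G).subgroupOf C).index_mul_card
    rw [Nat.card_congr (subgroupOfEquivOfLe hPC).toEquiv, hC] at h1
    exact Nat.eq_of_mul_eq_mul_right hPpos h1
  have hPodd : ∀ x ∈ (P : Subgroup G), Odd (orderOf x) := by
    intro x hx
    exact Odd.of_dvd_nat (Odd.pow (n := a) (by decide : Odd 3)) (ha ▸ orderOf_dvd_natCard _ hx)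
  have ha0 : a ≠ 0 := by
    rintro rfl
    have h1 : (P : Subgroup G) = ⊥ := card_eq_one.1 (by simpa using ha)
    have h2 : C = ⊤ := by
      rw [eq_top_iff]
      intro g _
      rw [hCdef, mem_centralizer_iff]
      intro y hy
      have : y = 1 := mem_bot.1 (h1 ▸ hy)
      simp [this]
    rw [h2, card_top] at hC
    omega
  obtain ⟨t, htC, ht⟩ : ∃ t ∈ C, orderOf t = 2 := by
    obtain ⟨t, ht⟩ := exists_prime_orderOf_dvd_card' (G := C) 2 (hC ▸ Dvd.intro _ rfl)
    exact ⟨t, t.2, by rwa [orderOf_coe]⟩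
  have hsq : ∀ u : G, orderOf u = 2 → u * u = 1 := fun u hu => by
    rw [← sq, ← hu, pow_orderOf_eq_one]
  have huniq : ∀ z ∈ C, orderOf z = 2 → z = t := by
    intro z hz hz2
    have hn : ∀ u : G, orderOf u = 2 → u ∉ (P : Subgroup G) := fun u hu h => by
      have := hPodd u h
      rw [hu] at this; exact absurd this (by decide)
    have h1 : z * t ∈ (P : Subgroup G) := by
      have := (mul_mem_iff_of_index_two hrelP (a := ⟨z, hz⟩) (b := ⟨t, htC⟩)).2 (by
        simp only [mem_subgroupOf, hn z hz2, hn t ht])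
      exact this
    have h2 : z * t * z = z * (z * t) := mem_centralizer_iff.1 hz _ h1
    have h3 : (z * t) ^ 2 = 1 := by
      rw [sq, ← mul_assoc, h2, ← mul_assoc z, hsq z hz2, one_mul, hsq t ht]
    have h4 : z * t = 1 := by
      by_contra h
      have h5 := hPodd _ h1
      rw [orderOf_eq_prime h3 h] at h5
      exact absurd h5 (by decide)
    rw [← hsq t ht] at h4
    exact mul_right_cancel h4
  have hNt : ∀ g : G, g * t * g⁻¹ ∈ C → g * t = t * g := fun g hg => by
    rw [← mul_inv_eq_iff_eq_mul]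
    exact huniq _ hg (by rw [conj_orderOf, ht])
  have hcyc : ∀ x : G, x ≠ 1 → normalizer (zpowers x : Set G) = ⊤ → Nat.card G = orderOf x := by
    intro x hx h
    rcases (normalizer_eq_top_iff.1 h).eq_bot_or_eq_top with h1 | h1
    · exact absurd (zpowers_eq_bot.1 h1) hx
    · rw [← Nat.card_zpowers, h1, card_top]
  have hCent : centralizer ({t} : Set G) = N := by
    symm
    apply eq_of_le_of_card_ge
    · intro g hg
      rw [mem_centralizer_singleton_iff]
      apply hNt
      rw [hCdef, mem_centralizer_iff]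
      intro y hy
      have h1 : g⁻¹ * y * g⁻¹⁻¹ ∈ (P : Subgroup G) :=
        (mem_normalizer_iff.1 (N.inv_mem hg) y).1 hy
      have h2 := mem_centralizer_iff.1 htC _ h1
      calc y * (g * t * g⁻¹) = g * (g⁻¹ * y * g⁻¹⁻¹ * t) * g⁻¹ := by group
        _ = _ := by rw [h2]; group
    · rw [hN]
      refine Nat.le_of_dvd (by omega) (heven _ (fun h => ?_) ?_)
      · have := hcyc t (by rintro rfl; simp at ht) (by
          rw [eq_top_iff, ← h, zpowers_eq_closure, ← centralizer_closure]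
          exact centralizer_le_normalizer _)
        omega
      · rw [← ht]
        exact orderOf_dvd_natCard _ (mem_centralizer_singleton_iff.2 rfl)
  have hNodd : Odd N.index := by
    rw [← Nat.not_even_iff_odd, even_iff_two_dvd]
    intro h2
    obtain ⟨S⟩ : Nonempty (Sylow 2 G) := inferInstance
    have h8 : 2 ^ 3 ∣ Nat.card G := by
      rw [← N.index_mul_card, hN, ← mul_assoc]
      exact Dvd.dvd.mul_right (Nat.mul_dvd_mul h2 (dvd_refl 4)) _
    have h8S : 2 ^ 3 ∣ Nat.card S := by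
      rw [S.card_eq_multiplicity]
      exact pow_dvd_pow 2 ((Nat.prime_two.pow_dvd_iff_le_factorization Nat.card_pos.ne').1 h8)
    have hS : (S : Subgroup G) ≠ ⊤ := by
      intro h
      obtain ⟨b, hb⟩ := S.isPGroup'.exists_card_eq
      have h3 : 3 ∣ Nat.card G := (ha ▸ dvd_pow_self 3 ha0).trans (card_subgroup_dvd_card _)
      rw [h, card_top] at hb
      rw [hb] at h3
      exact absurd (Nat.prime_three.dvd_of_dvd_pow h3) (by decide)
    have h4 := h8S.trans (heven _ hS ((by norm_num : 2 ∣ 2 ^ 3).trans h8S))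
    have h5 : Nat.card P = 3 ^ a := ha
    rw [h5] at h4
    have h6 : 2 ^ 3 ∣ 4 := Nat.Coprime.dvd_of_dvd_mul_right
      (Nat.Coprime.pow _ _ (by norm_num)) h4
    exact absurd h6 (by decide)
  have hno2 : ∀ M : Subgroup G, M.Normal → M.index ≠ 2 := by
    intro M hM h2
    rcases hM.eq_bot_or_eq_top with h | h
    · rw [h, index_bot] at h2; omega
    · rw [h, index_top] at h2; omega
  have hconj : ∀ u : G, orderOf u = 2 → ∃ g : G, u = g * t * g⁻¹ := by
    intro u hu
    by_contra hcon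
    push Not at hcon
    obtain ⟨M, hM, hM2, -⟩ := CL.Transfer.thompson_transfer N C hNodd hrel u
      (by rw [← hu, pow_orderOf_eq_one]) (fun g hg => hcon g⁻¹ (by
        rw [← huniq _ hg (by rw [conj_orderOf, hu])]; group))
    exact hno2 M hM hM2
  obtain ⟨s, hsN, hsC, hs2⟩ : ∃ s ∈ N, s ∉ C ∧ orderOf s = 2 := by
    by_contra hcon
    push Not at hcon
    have hcon' : ∀ s ∈ N, s ^ 2 = 1 → s ∈ C := by
      intro s hs h2
      by_contra h
      exact hcon s hs h (orderOf_eq_prime h2 (fun h1 => h (h1 ▸ C.one_mem)))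
    obtain ⟨y, hyN, hyC⟩ : ∃ y ∈ N, y ∉ C := by
      by_contra h
      push Not at h
      rw [relIndex_eq_one.2 h] at hrel
      omega
    have h5 : Nat.card P = 3 ^ a := ha
    have hx4 : (y ^ 3 ^ a) ^ 4 = 1 := by
      rw [← pow_mul, mul_comm, ← h5, ← hN, ← orderOf_dvd_iff_pow_eq_one]
      exact orderOf_dvd_natCard _ hyN
    have hxC : y ^ 3 ^ a ∉ C := by
      intro h
      obtain ⟨m, hm⟩ : Odd (3 ^ a) := Odd.pow (by decide)
      have h1 : y ^ 2 ∈ C := sq_mem_of_index_two hrel ⟨y, hyN⟩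
      rw [hm, pow_succ, pow_mul] at h
      exact hyC ((C.mul_mem_cancel_left (C.pow_mem h1 m)).1 h)
    refine (CL.Transfer.thompson_transfer_general N C hNodd hrel (y ^ 3 ^ a) ?_ ?_).elim
      fun M hM => hno2 M hM.1 hM.2.1
    · intro k g hk hg
      apply hxC
      apply hcon' _ (N.pow_mem hyN _)
      have h1 := orderOf_dvd_natCard _ hg
      have h2 : orderOf (g⁻¹ * (y ^ 3 ^ a) ^ k * g) = orderOf ((y ^ 3 ^ a) ^ k) := by
        simpa using conj_orderOf g⁻¹ ((y ^ 3 ^ a) ^ k)
      rw [h2, hC, h5, orderOf_dvd_iff_pow_eq_one, ← pow_mul] at h1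
      have h3 := pow_gcd_eq_one.2 ⟨h1, hx4⟩
      have h4 : Nat.gcd (k * (2 * 3 ^ a)) 4 = 2 := by
        have : Odd (k * 3 ^ a) := hk.mul (Odd.pow (by decide))
        rw [show k * (2 * 3 ^ a) = 2 * (k * 3 ^ a) by ring, show 4 = 2 * 2 by rfl, Nat.gcd_mul_left,
          Nat.coprime_two_right.2 this]
      rwa [h4] at h3
    · rintro _ g ⟨k, rfl⟩ hg
      apply hcon' _ hg
      have : g⁻¹ * (y ^ 3 ^ a) ^ (k + k) * g = g⁻¹ * (y ^ 3 ^ a) ^ (k + k) * g⁻¹⁻¹ := by simp
      rw [this, conj_pow, ← pow_mul (y ^ 3 ^ a), show (k + k) * 2 = 4 * k by ring, pow_mul, hx4]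
      simp
  obtain ⟨x, hxP, hxs⟩ : ∃ x ∈ (P : Subgroup G), x * s ≠ s * x := by
    by_contra h
    push Not at h
    exact hsC (mem_centralizer_iff.2 h)
  refine graph C t ht hconj ?_ ?_ ?_ ?_ s x hs2 (fun h => hsC (h ▸ htC))
    (mem_centralizer_singleton_iff.1 (hCent ▸ hsN)) (hPC hxP) (hPodd x hxP) hxs
  · intro u v hu hv hut hvt hu' hv'
    have h1 : u ∈ N := hCent ▸ mem_centralizer_singleton_iff.2 hu'
    have h2 : v ∈ N := hCent ▸ mem_centralizer_singleton_iff.2 hv'
    have h3 : u ∉ C := fun h => hut (huniq u h hu)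
    have h4 : v ∉ C := fun h => hvt (huniq v h hv)
    exact (mul_mem_iff_of_index_two hrel (a := ⟨u, h1⟩) (b := ⟨v, h2⟩)).2 (by
      simp only [mem_subgroupOf, h3, h4])
  · intro y hy hy1 g hg
    by_cases h : g ∈ normalizer (C : Set G)
    · exact hNt g ((mem_normalizer_iff.1 h t).1 htC)
    · exact absurd (hTI g h y hy hg) hy1
  · intro y hy
    exact mem_centralizer_singleton_iff.1 (hCent ▸ hCN hy)
  · intro u y hu huy hy
    by_cases hy1 : y = 1
    · exact ⟨1, by simp [hy1]⟩
    have h1 : u ∈ normalizer (zpowers y : Set G) := by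
      apply mem_normalizer_fintype
      rintro _ ⟨k, rfl⟩
      exact ⟨-k, by simp only [← conj_zpow, huy]; simp⟩
    have h2 := heven (normalizer (zpowers y : Set G)) (fun h => by
      have h3 := hcyc y hy1 h
      have h4 := orderOf_dvd_natCard u
      rw [h3, hu] at h4
      exact Nat.not_even_iff_odd.2 hy (even_iff_two_dvd.2 h4)) (hu ▸ orderOf_dvd_natCard _ h1)
    have h3 := (orderOf_dvd_natCard _ (le_normalizer (mem_zpowers y))).trans h2
    have h5 : Nat.card P = 3 ^ a := ha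
    rw [h5] at h3
    have h4 : orderOf y ∣ 3 ^ a := Nat.Coprime.dvd_of_dvd_mul_left
      (Nat.Coprime.pow_right 2 (Nat.coprime_two_right.2 hy)) h3
    have h6 : IsPGroup 3 (zpowers y) := IsPGroup.of_card_dvd_pow (by rwa [Nat.card_zpowers])
    obtain ⟨Q, hQ⟩ := h6.exists_le_sylow
    obtain ⟨g, hg⟩ := MulAction.exists_smul_eq G Q P
    refine ⟨g, hPC ?_⟩
    rw [← hg]
    exact Subgroup.smul_mem_pointwise_smul _ _ _ (hQ (mem_zpowers y))

end Cfsg.Agent.S4018
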