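import Cfsg.Statements.S4024
import Cfsg.Agent.Fgs.CorEq

set_option autoImplicit false
open Cfsg

namespace Cfsg.Agent.S4024

open CL.Grp CL.Fgs


/-- Let p be an odd prime and G a finite group in which any two p-subgroups of the same order are conjugate, with Sylow p-subgroup P. If H is a normal p-solvable subgroup of G whose order is divisible by p, then P is abelian, and either P ≤ H or P is cyclic. -/
theorem result {G : Type*} [Group G] [Finite G]
    {p : ℕ} [Fact p.Prime] (hp : p ≠ 2) (hC : ∀ H K : Subgroup G, IsPGroup p H → IsPGroup p K → Nat.card H = Nat.card K →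
      ∃ g : G, K = H.map (MulAut.conj g).toMonoidHom) (P : Sylow p G)
    (H : Subgroup G) [H.Normal] (hsolv : Cfsg.IsPSolvable p H) (hdiv : p ∣ Nat.card H) :
    IsMulCommutative P ∧ ((P : Subgroup G) ≤ H ∨ IsCyclic P) := by
  rcases PConj.cases hC P.isPGroup' with h | h | ⟨h, -⟩ | ⟨-, h, -, he⟩
  · exact ⟨IsCyclic.isMulCommutative, Or.inr h⟩
  · exact ⟨h.1, Or.inl ((oneCls_of_abPConj (PConj.ab hC) h.2).le_normal (sylIn_inf_ne_bot (isSylowIn_top P) hdiv))⟩
  · exact absurd h hp
  · refine absurd (OneCls.comm_of_psolv _ G rfl P H (oneCls_of_abPConj (PConj.ab hC) fun x hx => ?_)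
      (isSylowIn_top P) hsolv hdiv) h
    exact congrArg Subtype.val (he ▸ Monoid.pow_exponent_eq_one (⟨x, hx⟩ : (P : Subgroup G)))

end Cfsg.Agent.S4024
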