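import Cfsg.Statements.S4073
import Cfsg.Agent.Cit.CentBase
import Cfsg.Agent.Fgs.ClassFusion2
import Cfsg.Agent.Fgs.ClassIto
import Cfsg.Agent.Fgs.ClassTwo
import Cfsg.Agent.Inv.Misc2

set_option autoImplicit false
open Cfsg

namespace Cfsg.Agent.S4073

open Subgroup MulAction CL.Grp CL.Fgs CL.Cit CL.SL2 CL.Inv Matrix
open scoped MatrixGroups IsMulCommutative Pointwise

def Y (G : Type*) [Group G] : Prop := ∀ H : Subgroup G, ¬ IsMulCommutative H → normalizer (H : Set G) = H

theorem Y.of_equiv {G G' : Type*} [Group G] [Group G'] (h : Y G) (e : G' ≃* G) : Y G' := fun H hH => by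
  have h1 := h (H.map e.toMonoidHom) fun hc => hH (isMulCommutative_of_forall fun a ha b hb =>
    e.injective (by simpa using (comm_of_isMulCommutative hc (mem_map_of_mem _ ha) (mem_map_of_mem _ hb)).eq))
  rw [← map_equiv_normalizer_eq] at h1
  exact map_injective (f := e.toMonoidHom) e.injective h1

theorem card_prime {A : Type*} [Group A] [Finite A] (h : ∀ H : Subgroup A, H ≠ ⊥ → normalizer (H : Set A) = H) :
    Nat.card A = 1 ∨ (Nat.card A).Prime := by
  refine or_iff_not_imp_left.2 fun h1 => ?_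
  obtain ⟨p, hp, hd⟩ := Nat.exists_prime_and_dvd h1
  haveI := Fact.mk hp
  obtain ⟨x, hx⟩ := exists_prime_orderOf_dvd_card' p hd
  have hc : Nat.card (zpowers x) = p := by rw [Nat.card_zpowers, hx]
  have hb : zpowers x ≠ ⊥ := fun e => hp.one_lt.ne' (by rw [← hc, e, card_bot])
  have hP : IsPGroup p (zpowers x) := IsPGroup.of_card (n := 1) (by rw [hc, pow_one])
  have hS : IsSylowIn p (zpowers x) ⊤ := isSylowIn_of_maximal le_top hP fun U hU hle _ => by
    by_contra hne
    have := lt_inf_normalizer_of_isPGroup hU (lt_of_le_of_ne hle (Ne.symm hne))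
    rw [h _ hb] at this
    exact this.not_ge inf_le_right
  obtain ⟨K, hK, hn, hf⟩ := exists_compl_of_npc (npc_of_burnside hS fun g _ hg => by
    rw [h _ hb] at hg
    exact fun y hy => setLike_mul_comm (s := zpowers x) hy hg)
  by_cases hK1 : K = ⊥
  · rw [← card_top, show (⊤ : Subgroup A) = zpowers x from (eq_top_iff.2 fun y _ => ?_).symm, hc]
    · exact hp
    obtain ⟨k, hk, t, ht, rfl⟩ := hf _ hS y trivial
    rw [hK1, mem_bot] at hk
    rwa [hk, one_mul]
  · have := ((hK x).1 (h K hK1 ▸ hn (le_normalizer (mem_top x)))).2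
    rw [hx, Nat.coprime_self] at this
    exact absurd this hp.one_lt.ne'

variable {G : Type*} [Group G] [Finite G]

theorem Y.relIndex (h : Y G) {U : Subgroup G} (hU : IsMulCommutative U) :
    (centralizer (U : Set G)).relIndex (normalizer U) = 1 ∨ ((centralizer (U : Set G)).relIndex (normalizer U)).Prime := by
  let N := normalizer (U : Set G)
  let C := (centralizer (U : Set G)).subgroupOf N
  haveI : C.Normal := U.normalizerMonoidHom_ker.subst (motive := Subgroup.Normal) (MonoidHom.normal_ker _)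
  refine card_prime (A := N ⧸ C) fun B hB => le_antisymm (fun a ha => ?_) le_normalizer
  obtain ⟨n, rfl⟩ := QuotientGroup.mk'_surjective C a
  have hH : ∀ x : N, (x : G) ∈ (B.comap (QuotientGroup.mk' C)).map N.subtype ↔ QuotientGroup.mk' C x ∈ B := fun x =>
    ⟨fun ⟨y, hy, e⟩ => (Subtype.ext e : y = x) ▸ hy, fun hx => ⟨x, hx, rfl⟩⟩
  refine (hH n).1 ((h _ fun hc => hB (eq_bot_iff.2 fun b hb => ?_)).le ?_)
  · obtain ⟨m, rfl⟩ := QuotientGroup.mk'_surjective C b
    refine (QuotientGroup.eq_one_iff m).2 fun u hu => (comm_of_isMulCommutative hc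
      ((hH ⟨u, le_normalizer hu⟩).2 ?_) ((hH m).2 hb)).eq
    rw [QuotientGroup.mk'_apply, (QuotientGroup.eq_one_iff (N := C) ⟨u, le_normalizer hu⟩).2
      fun v hv => setLike_mul_comm (s := U) hv hu]
    exact B.one_mem
  · refine mem_normalizer_fintype ?_
    rintro _ ⟨y, hy, rfl⟩
    exact (hH (n * y * n⁻¹)).2 (by simpa using (mem_normalizer_iff.1 ha _).1 hy)

theorem Y.abCent [IsSimpleGroup G] (hna : ¬ IsMulCommutative G) (h : Y G) : AbCent G := by
  have h2 : 2 ∣ Nat.card G := even_iff_two_dvd.1 (Nat.not_odd_iff_even.1 fun e =>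
    not_isSolvable_of_simple hna (CL.Odd.feit_thompson e))
  have hnpc := not_npc_of_simple hna h2
  have hab : ∀ S : Sylow 2 G, IsMulCommutative S := by
    obtain ⟨P, D, a, hD, hc, ha, han, hac⟩ := exists_centric_of_not_hasNormalPComplement hnpc
    rw [isPiElt_compl_singleton_iff_coprime Nat.prime_two] at ha
    have hDa : IsMulCommutative D := by
      by_contra hn
      exact hac (eq_one_of_coprime_of_mem (P.isPGroup'.to_le hD) (h D hn ▸ han) ha ▸ one_mem _)
    have hP : D = P := by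
      by_contra hne
      have hlt := lt_inf_normalizer_of_isPGroup P.isPGroup' (lt_of_le_of_ne hD hne)
      obtain ⟨s, ⟨hsP, hsN⟩, hsD⟩ := SetLike.exists_of_lt hlt
      let f := D.normalizerMonoidHom
      have hk : ∀ x : normalizer (D : Set G), f x = 1 ↔ (x : G) ∈ centralizer (D : Set G) := fun x => by
        rw [← MonoidHom.mem_ker, normalizerMonoidHom_ker, mem_subgroupOf]
      have hd : ∀ x, orderOf (f x) ∣ (centralizer (D : Set G)).relIndex (normalizer D) := fun x => by
        rw [Subgroup.relIndex, ← normalizerMonoidHom_ker, index_ker]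
        exact Subgroup.orderOf_dvd_natCard _ (MonoidHom.mem_range.2 ⟨x, rfl⟩)
      obtain ⟨k, hk2⟩ := P.isPGroup'.exists_orderOf_dvd_pow ⟨s, hsP⟩
      have e1 : orderOf (f ⟨s, hsN⟩) ≠ 1 := fun e => hsD (hc ⟨hsP, (hk _).1 (orderOf_eq_one_iff.1 e)⟩)
      have e2 : orderOf (f ⟨a, han⟩) ≠ 1 := fun e => hac ((hk _).1 (orderOf_eq_one_iff.1 e))
      rcases h.relIndex hDa with e | e
      · exact e1 (Nat.dvd_one.1 (e ▸ hd _))
      refine e.one_lt.ne' (Nat.eq_one_of_dvd_coprimes (ha.pow_right k) ?_ ?_)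
      · rw [← ((Nat.dvd_prime e).1 (hd _)).resolve_left e2]
        simpa using orderOf_map_dvd f ⟨a, han⟩
      · rw [← ((Nat.dvd_prime e).1 (hd _)).resolve_left e1]
        exact (orderOf_map_dvd f _).trans (by simpa using hk2)
    intro S
    let e := S.equiv P
    exact ⟨⟨fun x y => e.injective (by rw [map_mul, map_mul]; exact (hP ▸ hDa).1.1 _ _)⟩⟩
  intro t a b ht ha hb
  obtain ⟨S, htS⟩ := (IsPGroup.of_card (p := 2) (n := 1) (by rw [Nat.card_zpowers, ht, pow_one])).exists_le_sylow (P := zpowers t)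
  replace htS : t ∈ S := htS (mem_zpowers t)
  haveI := hab S
  have hSC : (S : Subgroup G) ≤ centralizer {t} := fun x hx => mem_cent.2 (setLike_mul_comm (s := (S : Subgroup G)) hx htS)
  have hS := isSylowIn_of_le S hSC
  obtain ⟨K, hK, hn, hf⟩ := exists_compl_of_npc (npc_of_burnside hS fun g hg hgN => by
    have hle : centralizer (S : Set G) ≤ normalizer (S : Set G) ⊓ centralizer {t} :=
      le_inf (Subgroup.centralizer_le_normalizer _) (centralizer_le (by simpa using htS))
    rcases h.relIndex (hab S) with e | e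
    · exact relIndex_eq_one.1 e hgN
    rcases eq_or_eq_of_relIndex_prime hle inf_le_left e with e | e
    · exact e.le ⟨hgN, hg⟩
    have : t ∈ commutator G ⊓ ((S : Subgroup G) ⊓ centralizer (normalizer (S : Set G) : Set G)) :=
      ⟨by rw [commutator_eq_top_of_simple hna]; trivial, htS, fun x hx => mem_cent.1 (e.ge hx).2⟩
    rw [CL.Transfer.commutator_inf_centralizer_normalizer_eq_bot S (hab S), mem_bot] at this
    simp [this] at ht)
  have key : ∀ s ∈ S, IsMulCommutative (K ⊔ zpowers s : Subgroup G) := fun s hs => by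
    by_contra hc
    have hKn : zpowers s ≤ normalizer (K : Set G) := (zpowers_le.2 (hSC hs)).trans (le_normalizer.trans hn)
    refine hnpc (CL.Char.bs_hasNormalPComplement_of_isCyclic S ?_)
    have : (S : Subgroup G) = zpowers s := le_antisymm (fun x hx => ?_) (zpowers_le.2 hs)
    · exact this ▸ inferInstance
    have hx' : x ∈ K ⊔ zpowers s := (h _ hc).le (normalizer_inf_normalizer_le_normalizer_sup _ _
      ⟨hn (le_normalizer (hSC hx)), cent_le_normalizer_zpowers s (mem_cent.2 (setLike_mul_comm (s := (S : Subgroup G)) hx hs))⟩)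
    rw [← SetLike.mem_coe, coe_mul_of_right_le_normalizer_left _ _ hKn] at hx'
    obtain ⟨k, hk, y, hy, rfl⟩ := hx'
    have hy' : y ∈ S := zpowers_le.2 hs hy
    have : k = 1 := eq_one_of_coprime_of_mem S.isPGroup' ((S : Subgroup G).mul_mem_cancel_right hy' |>.1 hx) ((hK k).1 hk).2
    simpa [this] using hy
  obtain ⟨k, hk, s, hs, rfl⟩ := hf _ hS a (mem_cent.2 ha)
  obtain ⟨l, hl, u, hu, rfl⟩ := hf _ hS b (mem_cent.2 hb)
  have c := fun v hv m (hm : m ∈ K) => comm_of_isMulCommutative (key v hv) (mem_sup_left hm) (mem_sup_right (mem_zpowers v))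
  exact ((comm_of_isMulCommutative (key s hs) (mem_sup_left hk) (mem_sup_left hl)).mul_right (c u hu k hk)).mul_left
    ((c s hs l hl).symm.mul_right (setLike_mul_comm (s := (S : Subgroup G)) hs hu))

variable {F : Type*} [Field F] [Fintype F] [CharP F 2]

theorem relIndex_Q (x : P1 F) : ((uhyp_psl 2).Q x).relIndex (stabilizer PSL(2, F) x) = Fintype.card F - 1 := by
  have h1 := card_stabilizer_psl_mul x
  rw [gcd_two_of_eq (CharP.cast_eq_zero F 2), mul_one, ← card_mul_relIndex ((uhyp_psl 2).Q_le x), card_Q_psl,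
    Nat.card_eq_fintype_card] at h1
  exact Nat.eq_of_mul_eq_mul_left Fintype.card_pos h1

theorem cent_Q (x : P1 F) : centralizer (((uhyp_psl 2).Q x : Subgroup PSL(2, F)) : Set PSL(2, F)) = (uhyp_psl 2).Q x := by
  obtain ⟨⟨u, hu⟩, h1⟩ := ne_bot_iff_exists_ne_one.1 (Q_psl_ne_bot 2 x)
  refine le_antisymm ((centralizer_le (by simpa using hu)).trans (psl_centralizer_eq 2 hu (by simpa using h1)).le) ?_
  exact fun a ha b hb => comm_of_isMulCommutative ((uhyp_psl 2).isMulCommutative_Q x) hb ha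

theorem y_psl (hp : (Fintype.card F - 1).Prime) : Y PSL(2, F) := fun H hH => by
  refine le_antisymm (fun g hg => ?_) le_normalizer
  obtain ⟨T, hT⟩ := exists_isSylowIn 2 H
  have hT1 : T ≠ ⊥ := by
    rintro rfl
    have ho : ¬ 2 ∣ Nat.card H := by simpa using hT.not_dvd
    obtain ⟨e⟩ := nonempty_sl_equiv_psl (K := F) (CharP.cast_eq_zero F 2)
    haveI := isCyclic_of_odd 2 ((e.symm : PSL(2, F) →* SL(2, F)).comp H.subtype)
      (e.symm.injective.comp H.subtype_injective) ho (Nat.not_even_iff_odd.1 fun e => ho (even_iff_two_dvd.1 e))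
    exact hH inferInstance
  obtain ⟨x, hx⟩ := (uhyp_psl 2).exists_le_Q hT.isPGroup hT1
  obtain ⟨⟨u, hu⟩, h1⟩ := ne_bot_iff_exists_ne_one.1 hT1
  replace h1 : u ≠ 1 := by simpa using h1
  have hQ := (uhyp_psl (F := F) 2).isMulCommutative_Q x
  have hN : normalizer (T : Set PSL(2, F)) ≤ stabilizer _ x := fun y hy => by
    have h2 := (uhyp_psl 2).conj_mem_Q (g := y) (hx hu)
    exact (uhyp_psl 2).eq_of_fix (by simpa using h1) h2.2 h2.1 (hx ((mem_normalizer_iff.1 hy u).1 hu)).1
  have hQN : (uhyp_psl 2).Q x ≤ normalizer (T : Set PSL(2, F)) := fun y hy => Subgroup.centralizer_le_normalizer _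
    fun v hv => comm_of_isMulCommutative hQ (hx hv) hy
  obtain ⟨n, hn, hy⟩ := hT.frattini le_rfl hg
  refine (H.mul_mem_cancel_left hn).1 ?_
  have hyH : n * g ∈ normalizer (H : Set PSL(2, F)) := mul_mem (le_normalizer hn) hg
  generalize n * g = y at hy hyH
  rcases eq_or_eq_of_relIndex_prime hQN hN (relIndex_Q x ▸ hp) with e | e
  · by_contra hyn
    obtain ⟨K, hK, hKn, hf⟩ := exists_compl_of_npc (npc_of_burnside hT fun a _ ha v hv =>
      comm_of_isMulCommutative hQ (hx hv) (e.le ha))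
    have hinv : ∀ v ∈ (uhyp_psl (F := F) 2).Q x, v ≠ 1 → K ⊓ centralizer {v} = ⊥ := fun v hv hv1 => by
      rw [psl_centralizer_eq 2 hv hv1, eq_bot_iff]
      exact fun k hk => eq_one_of_coprime_of_mem ((uhyp_psl 2).isPGroup_Q x) hk.2 ((hK k).1 hk.1).2
    have hK1 : K = ⊥ := eq_bot_iff.2 fun k hk => by
      have e1 := inverts_of_cent_eq_bot (by rw [← sq]; exact (hx hu).2) (hKn (le_normalizer (hT.le hu))) (hinv u (hx hu) h1) hk
      have e2 := inverts_of_cent_eq_bot (by rw [← sq]; exact (e.le hy).2) (hKn hyH)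
        (hinv y (e.le hy) fun e => hyn (e ▸ one_mem _)) hk
      refine (hinv (u⁻¹ * y) (mul_mem (inv_mem (hx hu)) (e.le hy)) fun e => hyn (inv_mul_eq_one.1 e ▸ hT.le hu)).le
        ⟨hk, mem_cent_comm.1 (mem_cent_iff_conj.2 ?_)⟩
      calc u⁻¹ * y * k * (u⁻¹ * y)⁻¹ = u⁻¹ * (y * k * y⁻¹) * u := by group
        _ = k := by rw [e2, ← e1]; group
    refine hH (isMulCommutative_of_forall fun a ha b hb => ?_)
    obtain ⟨k, hk, s, hs, rfl⟩ := hf _ hT a ha
    obtain ⟨l, hl, v, hv, rfl⟩ := hf _ hT b hb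
    rw [hK1, mem_bot] at hk hl
    rw [hk, hl, one_mul, one_mul]
    exact comm_of_isMulCommutative hQ (hx hs) (hx hv)
  have hTQ : T = (uhyp_psl 2).Q x := by
    refine eq_of_le_of_card_ge hx ?_
    have h2 := ncard_conj_subgroup (stabilizer PSL(2, F) x) u
    rw [psl_centralizer_eq 2 (hx hu) h1, relIndex_Q] at h2
    have h3 : {v | ∃ h ∈ stabilizer PSL(2, F) x, h * u * h⁻¹ = v} ⊆ (T : Set PSL(2, F)) \ {1} := by
      rintro _ ⟨h, hh, rfl⟩
      exact ⟨(mem_normalizer_iff.1 (e.ge hh) u).1 hu, by simpa using h1⟩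
    have h4 := Set.ncard_le_ncard h3
    rw [h2, Set.ncard_sdiff_singleton_of_mem T.one_mem] at h4
    have h5 : 0 < Nat.card T := Nat.card_pos
    rw [card_Q_psl, Nat.card_eq_fintype_card]
    change _ ≤ Nat.card T - 1 at h4
    omega
  by_cases hle : H ≤ stabilizer _ x
  · rcases eq_or_eq_of_relIndex_prime (hTQ ▸ hT.le) hle (relIndex_Q x ▸ hp) with e | e
    · exact absurd (e ▸ hQ) hH
    · exact e.ge (hN hy)
  · obtain ⟨h, hh, hhx⟩ := SetLike.not_le_iff_exists.1 hle
    refine (?_ : ⊤ ≤ H) trivial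
    rw [← psl_Q_sup 2 (show h • x ≠ x from hhx), (uhyp_psl 2).Q_smul]
    refine sup_le ?_ (hTQ ▸ hT.le)
    rintro _ ⟨v, hv, rfl⟩
    exact H.mul_mem (H.mul_mem hh (hT.le (hTQ ▸ hv))) (H.inv_mem hh)


/-- Let G be a finite non-abelian simple group. Every non-abelian subgroup of G is self-normalizing if and only if G is isomorphic to PSL₂(2ⁿ) for some n ≥ 2 with 2ⁿ − 1 prime (this includes the alternating group of degree 5 as PSL₂(4)). -/
theorem result {G : Type*} [Group G] [Finite G] [IsSimpleGroup G]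
    (hna : ¬ IsMulCommutative G) :
    (∀ H : Subgroup G, ¬ IsMulCommutative H → Subgroup.normalizer (H : Set G) = H) ↔
    ∃ n : ℕ, 2 ≤ n ∧ (2 ^ n - 1).Prime ∧ Nonempty (G ≃* Matrix.ProjectiveSpecialLinearGroup (Fin 2) (GaloisField 2 n)) := by
  refine ⟨fun h => ?_, fun ⟨n, hn, hp, ⟨e⟩⟩ => ?_⟩
  · obtain ⟨n, hn, ⟨e⟩⟩ := psl_of_abCent (Y.abCent hna h) (center_eq_bot_of_simple hna) (not_isSolvable_of_simple hna)
    letI : Fintype (GaloisField 2 n) := Fintype.ofFinite _
    have := (Y.of_equiv h e.symm).relIndex ((uhyp_psl 2).isMulCommutative_Q pinf)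
    rw [cent_Q, (uhyp_psl 2).normalizer_Q (Q_psl_ne_bot 2 _), relIndex_Q, card_galoisField n (by omega)] at this
    refine ⟨n, hn, this.resolve_left fun e => ?_, ⟨e⟩⟩
    have : 2 ^ 2 ≤ 2 ^ n := Nat.pow_le_pow_right two_pos hn
    omega
  · letI : Fintype (GaloisField 2 n) := Fintype.ofFinite _
    exact (y_psl (card_galoisField n (by omega) ▸ hp)).of_equiv e

end Cfsg.Agent.S4073
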