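import Cfsg.Statements.S4082
import Cfsg.Agent.Fgs.EqConj3
import Cfsg.Agent.Cls.SL2Dihedral

set_option autoImplicit false
open Cfsg

namespace Cfsg.Agent.S4082

open Cfsg Subgroup CL.Grp CL.Fgs
open scoped Pointwise

theorem isCyclic_of {X : Type*} [Group X] [Finite X] {p : ℕ} [Fact p.Prime] (S : Sylow p X)
    [(S : Subgroup X).Normal] [IsCyclic (S : Subgroup X)] [IsCyclic (X ⧸ (S : Subgroup X))]
    (hk : (S : Subgroup X) ≤ center X) : IsCyclic X := by
  have hc := (QuotientGroup.mk' (S : Subgroup X)).isMulCommutative_of_isCyclic_of_ker_le_center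
    (by rw [QuotientGroup.ker_mk']; exact hk)
  obtain ⟨s, hs⟩ := IsCyclic.exists_ofOrder_eq_natCard (α := (S : Subgroup X))
  obtain ⟨x, hx⟩ := IsCyclic.exists_ofOrder_eq_natCard (α := X ⧸ (S : Subgroup X))
  obtain ⟨x, rfl⟩ := QuotientGroup.mk'_surjective _ x
  obtain ⟨z, -, hz⟩ := (show Commute (s : X) x from hc.is_comm.comm _ _).exists_orderOf_eq_lcm
  refine isCyclic_of_orderOf_eq_card z (Nat.dvd_antisymm (orderOf_dvd_natCard z) ?_)
  rw [← (S : Subgroup X).card_mul_index, hz]
  refine S.card_coprime_index.mul_dvd_of_dvd_of_dvd (by rw [← hs, orderOf_coe]; exact Nat.dvd_lcm_left _ _) ?_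
  rw [index_eq_card, ← hx]
  exact (orderOf_map_dvd _ x).trans (Nat.dvd_lcm_right _ _)

theorem dih_facts {X : Type*} [Group X] {m : ℕ} (e : X ≃* DihedralGroup m) {u x : X} (hu : Odd (orderOf u)) :
    Commute x u ∨ (orderOf x = 2 ∧ ∀ w : X, Odd (orderOf w) → x * w * x⁻¹ = w⁻¹) := by
  have key : ∀ w : X, Odd (orderOf w) → ∃ i, e w = .r i := fun w hw => by
    rcases h : e w with i | i
    · exact ⟨i, rfl⟩
    · rw [← e.orderOf_eq, h, DihedralGroup.orderOf_sr] at hw; exact absurd hw (by decide)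
  rcases h : e x with j | j
  · obtain ⟨i, hi⟩ := key u hu
    refine Or.inl (e.injective ?_)
    rw [map_mul, map_mul, h, hi, DihedralGroup.r_mul_r, DihedralGroup.r_mul_r, add_comm]
  · refine Or.inr ⟨by rw [← e.orderOf_eq, h, DihedralGroup.orderOf_sr], fun w hw => e.injective ?_⟩
    obtain ⟨i, hi⟩ := key w hw
    simp [h, hi]

theorem tool {G : Type*} [Group G] [Finite G] {p : ℕ} [Fact p.Prime] (hp : p ≠ 2)
    (h : ∀ H : Subgroup G, (∀ S : Sylow p ↥H, (S : Subgroup ↥H).Normal) →
        (∀ (S : Sylow p ↥H) [(S : Subgroup ↥H).Normal], IsCyclic (↥H ⧸ (S : Subgroup ↥H))) →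
        IsCyclic H ∨ (∃ n : ℕ, Nonempty (H ≃* DihedralGroup (p ^ n))))
    {U : Subgroup G} (hU : IsPGroup p U) {x : G} (hx : x ∈ normalizer (U : Set G))
    (hc : x ∉ centralizer (U : Set G)) : orderOf x = 2 ∧ ∀ u ∈ U, x * u * x⁻¹ = u⁻¹ := by
  have hn : U ⊔ zpowers x ≤ normalizer (U : Set G) := sup_le le_normalizer ((zpowers_le).2 hx)
  haveI hN : (U.subgroupOf (U ⊔ zpowers x)).Normal := normal_subgroupOf_of_le_normalizer' hn
  have hxH : x ∈ U ⊔ zpowers x := mem_sup_right (mem_zpowers x)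
  haveI hcy : IsCyclic (↥(U ⊔ zpowers x) ⧸ U.subgroupOf (U ⊔ zpowers x)) := by
    refine ⟨⟨QuotientGroup.mk ⟨x, hxH⟩, fun q => ?_⟩⟩
    obtain ⟨⟨g, hg⟩, rfl⟩ := QuotientGroup.mk_surjective q
    obtain ⟨_, ⟨i, rfl⟩, k, hk, rfl⟩ := (mem_sup_iff_of_le_normalizer' (N := U) (H := zpowers x)
      ((zpowers_le).2 hx)).1 (sup_comm U _ ▸ hg)
    exact ⟨i, QuotientGroup.eq.2 (show _ ∈ U by simpa using hk)⟩
  have hle : ∀ S : Sylow p ↥(U ⊔ zpowers x), U.subgroupOf (U ⊔ zpowers x) ≤ S := fun S =>
    (show IsPGroup p (U.subgroupOf (U ⊔ zpowers x)) from hU.comap_subtype).le_sylow_of_normal S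
  have hodd : ∀ u ∈ U, Odd (orderOf u) := fun u hu => by
    obtain ⟨k, hk⟩ := hU.exists_card_eq
    exact (((Fact.out : p.Prime).odd_of_ne_two hp).pow (n := k)).of_dvd_nat (hk ▸ orderOf_dvd_natCard U hu)
  obtain ⟨u, hu, hux⟩ : ∃ u ∈ U, ¬ Commute x u := by
    by_contra hh; push Not at hh; exact hc fun u hu => (hh u hu).symm
  rcases h (U ⊔ zpowers x) (fun S => by
      rw [← comap_map_eq_self (f := QuotientGroup.mk' (U.subgroupOf (U ⊔ zpowers x)))
        (H := (S : Subgroup _)) (by rw [QuotientGroup.ker_mk']; exact hle S)]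
      haveI := hcy.commGroup
      exact Normal.comap ⟨fun a ha g => by
        rwa [(IsCyclic.isMulCommutative).is_comm.comm g a, mul_inv_cancel_right]⟩ _)
    (fun S _ => isCyclic_of_surjective (QuotientGroup.map _ _ (MonoidHom.id _) (hle S))
      (QuotientGroup.map_surjective_of_surjective _ _ _ (QuotientGroup.mk_surjective) _)) with h1 | ⟨n, ⟨e⟩⟩
  · exact absurd (setLike_mul_comm (s := U ⊔ zpowers x) hxH (mem_sup_left hu)) hux
  · rcases dih_facts e (u := ⟨u, mem_sup_left hu⟩) (x := ⟨x, hxH⟩) (by rw [orderOf_mk]; exact hodd u hu)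
      with h2 | ⟨h2, h3⟩
    · exact absurd (congrArg Subtype.val h2.eq) hux
    · exact ⟨by rwa [orderOf_mk] at h2, fun w hw =>
        congrArg Subtype.val (h3 ⟨w, mem_sup_left hw⟩ (by rw [orderOf_mk]; exact hodd w hw))⟩

/-- Let p be an odd prime and G a finite group with Sylow p-subgroup P. Say that G has restricted p-by-cyclic subgroups when every subgroup H of G whose Sylow p-subgroup is normal in H with cyclic quotient is itself cyclic or dihedral of order 2pⁿ for some n. Then G has restricted p-by-cyclic subgroups if and only if P is cyclic and one of the following holds: (1) N_G(P) = C_G(P); or (2) N_G(P)/C_G(P) has order 2 and, for the subgroup Q of order p of P, the centralizer C_G(Q) is abelian and every element of N_G(Q) outside C_G(Q) is an involution inverting every element of C_G(Q). -/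
theorem result {G : Type*} [Group G] [Finite G] {p : ℕ}
    [Fact p.Prime] (hp : p ≠ 2) (P : Sylow p G) :
    (∀ H : Subgroup G, (∀ S : Sylow p ↥H, (S : Subgroup ↥H).Normal) →
        (∀ (S : Sylow p ↥H) [(S : Subgroup ↥H).Normal], IsCyclic (↥H ⧸ (S : Subgroup ↥H))) →
        IsCyclic H ∨ (∃ n : ℕ, Nonempty (H ≃* DihedralGroup (p ^ n)))) ↔
    (IsCyclic P ∧
      (Subgroup.normalizer ((P : Subgroup G) : Set G) = Subgroup.centralizer ((P : Subgroup G) : Set G) ∨
       ((Subgroup.centralizer ((P : Subgroup G) : Set G)).relIndex (Subgroup.normalizer ((P : Subgroup G) : Set G)) = 2 ∧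
        ∀ Q : Subgroup G, Q ≤ P → Nat.card Q = p →
          IsMulCommutative ↥(Subgroup.centralizer (Q : Set G)) ∧
          ∀ x : G, x ∈ Subgroup.normalizer (Q : Set G) → x ∉ Subgroup.centralizer (Q : Set G) →
            orderOf x = 2 ∧ ∀ c : G, c ∈ Subgroup.centralizer (Q : Set G) → x * c * x⁻¹ = c⁻¹))) := by
  have hodd : ∀ U : Subgroup G, IsPGroup p U → Odd (Nat.card U) := fun U hU => by
    obtain ⟨k, hk⟩ := hU.exists_card_eq
    exact hk ▸ ((Fact.out : p.Prime).odd_of_ne_two hp).pow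
  constructor
  · intro h
    have top : ∀ S : Sylow p (P : Subgroup G), (S : Subgroup (P : Subgroup G)) = ⊤ := fun S =>
      (S.3 (P.2.to_subgroup ⊤) le_top).symm
    have hP : IsCyclic P := by
      rcases h P (fun S => top S ▸ inferInstance) (fun S _ => by
        have : Subsingleton ((P : Subgroup G) ⧸ (S : Subgroup (P : Subgroup G))) :=
          QuotientGroup.subsingleton_iff.2 (top S)
        infer_instance) with h1 | ⟨n, ⟨e⟩⟩
      · exact h1
      · have := hodd P P.2
        rw [Nat.card_congr e.toEquiv, DihedralGroup.nat_card] at this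
        exact absurd this (by simp)
    refine ⟨hP, ?_⟩
    by_cases hNC : normalizer ((P : Subgroup G) : Set G) = centralizer ((P : Subgroup G) : Set G)
    · exact Or.inl hNC
    right
    obtain ⟨x, hx, hxc⟩ := SetLike.exists_of_lt (lt_of_le_of_ne (centralizer_le_normalizer _) (Ne.symm hNC))
    have hx' := tool hp h P.2 hx hxc
    refine ⟨?_, fun Q hQ hc => ?_⟩
    · refine index_eq_two_iff.2 ⟨⟨x, hx⟩, fun y => ?_⟩
      change Xor ((y : G) * x ∈ centralizer _) ((y : G) ∈ centralizer _)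
      by_cases hy : (y : G) ∈ centralizer ((P : Subgroup G) : Set G)
      · exact Or.inr ⟨hy, fun h' => hxc ((mul_mem_cancel_left hy).1 h')⟩
      · refine Or.inl ⟨fun u hu => ?_, hy⟩
        have := (tool hp h P.2 y.2 hy).2 _ (inv_mem hu)
        rw [← hx'.2 u hu, hx'.2 u hu, inv_inv, ← hx'.2 u hu] at this
        calc u * (y * x) = (y * (x * u * x⁻¹) * (y : G)⁻¹) * (y * x) := by rw [this]
          _ = _ := by group
    · have hQp := P.2.to_le hQ
      have key : ∀ x : G, x ∈ normalizer (Q : Set G) → x ∉ centralizer (Q : Set G) →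
          orderOf x = 2 ∧ ∀ c : G, c ∈ centralizer (Q : Set G) → x * c * x⁻¹ = c⁻¹ := fun x h1 h2 => by
        have a := (tool hp h hQp h1 h2).1
        refine ⟨a, fun c hc => ?_⟩
        have b := (tool hp h hQp (mul_mem h1 (centralizer_le_normalizer _ hc))
          fun h' => h2 ((mul_mem_cancel_right hc).1 h')).1
        have a' : x⁻¹ = x := inv_eq_of_mul_eq_one_right (by rw [← sq, ← a, pow_orderOf_eq_one])
        have b' : x * c * (x * c) = 1 := by rw [← sq, ← b, pow_orderOf_eq_one]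
        rw [a', eq_inv_iff_mul_eq_one, mul_assoc (x * c), b']
      refine ⟨?_, key⟩
      have h1 : x ∈ normalizer (Q : Set G) := mem_normalizer_fintype fun u hu => by
        rw [hx'.2 u (hQ hu)]; exact inv_mem hu
      have h2 : x ∉ centralizer (Q : Set G) := fun h2 => by
        have h3 : Q = ⊥ := eq_bot_iff.2 fun u hu => by
          have a := hx'.2 u (hQ hu)
          rw [← h2 u hu, mul_inv_cancel_right, eq_inv_iff_mul_eq_one, ← sq] at a
          have b := (hodd Q hQp).of_dvd_nat (orderOf_dvd_natCard Q hu)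
          exact orderOf_eq_one_iff.1 (Nat.Coprime.eq_one_of_dvd (Nat.coprime_two_right.2 b)
            (orderOf_dvd_of_pow_eq_one a))
        rw [h3, card_bot] at hc
        exact (Fact.out : p.Prime).one_lt.ne hc
      refine ⟨⟨fun a b => Subtype.ext ?_⟩⟩
      have := (key x h1 h2).2 _ (mul_mem b.2 a.2)
      rw [show x * (b * a) * x⁻¹ = (x * b * x⁻¹) * (x * a * x⁻¹) by group, (key x h1 h2).2 _ a.2,
        (key x h1 h2).2 _ b.2, ← mul_inv_rev, inv_inj] at this
      exact this
  · rintro ⟨hP, h⟩ H h1 h2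
    obtain ⟨S⟩ : Nonempty (Sylow p H) := inferInstance
    haveI := h1 S
    haveI := h2 S
    obtain ⟨g, hg⟩ := exists_conj_le_sylow P (S.2.map H.subtype)
    set φ : H →* G := (MulAut.conj g).toMonoidHom.comp H.subtype with hφ
    have hφi : Function.Injective φ := (MulAut.conj g).injective.comp H.subtype_injective
    have hT : (S : Subgroup H).map φ ≤ P := by rw [hφ, ← map_map]; exact hg
    set T := (S : Subgroup H).map φ with hTd
    haveI : IsCyclic T := Subgroup.isCyclic_of_le hT
    haveI : IsCyclic (S : Subgroup H) := ((S : Subgroup H).equivMapOfInjective _ hφi).isCyclic.2 inferInstance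
    have hN : ∀ y : H, φ y ∈ normalizer (T : Set G) := fun y =>
      le_normalizer_map φ ⟨y, by rw [normalizer_eq_top]; trivial, rfl⟩
    have cyc : (∀ y : H, φ y ∈ centralizer (T : Set G)) → IsCyclic H := fun hc =>
      isCyclic_of S fun s hs => mem_center_iff.2 fun y => hφi (by
        rw [map_mul, map_mul]; exact (hc y _ (mem_map_of_mem φ hs)).symm)
    have hPC : ∀ U : Subgroup G, U ≤ P → (P : Subgroup G) ≤ centralizer (U : Set G) := fun U hU a ha b hb =>
      setLike_mul_comm (s := (P : Subgroup G)) (hU hb) ha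
    rcases h with h | ⟨-, h⟩
    · refine Or.inl (cyc fun y => ?_)
      obtain ⟨n, hn, hn'⟩ := (isSylowIn_of_le P (hPC T hT)).frattini (le_normalizer_centralizer' le_rfl)
        (hN y)
      rw [h] at hn'
      exact (mul_mem_cancel_left hn).1 (centralizer_le (SetLike.coe_subset_coe.2 hT) hn')
    by_cases hT0 : T = ⊥
    · exact Or.inl (cyc fun y t ht => by rw [hT0] at ht; rw [mem_bot.1 ht]; simp)
    obtain ⟨k, hk⟩ := (P.2.to_le hT).exists_card_eq
    obtain ⟨q, hq⟩ := exists_prime_orderOf_dvd_card' (G := T) p (by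
      rcases k with _ | k
      · exact absurd (card_eq_one.1 hk) hT0
      · exact hk ▸ dvd_pow_self p k.succ_ne_zero)
    have hQT : zpowers (q : G) ≤ T := (zpowers_le).2 q.2
    obtain ⟨hab, hinv⟩ := h (zpowers (q : G)) (hQT.trans hT) (by rw [Nat.card_zpowers, orderOf_coe, hq])
    have hNQ : ∀ y : H, φ y ∈ normalizer ((zpowers (q : G) : Subgroup G) : Set G) := fun y =>
      (conj_smul_eq_self_iff _ _).1 (eq_of_le_isCyclic_of_card_eq inferInstance
        (conj_smul_le_of_mem_normalizer hQT (hN y)) hQT (card_conj_smul _ _))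
    have hTC : T ≤ centralizer ((zpowers (q : G) : Subgroup G) : Set G) := hT.trans (hPC _ (hQT.trans hT))
    obtain ⟨x, hx⟩ := IsCyclic.exists_generator (α := H ⧸ (S : Subgroup H))
    obtain ⟨x, rfl⟩ := QuotientGroup.mk_surjective x
    have hgen : ∀ y : H, ∃ i : ℤ, (x ^ i)⁻¹ * y ∈ (S : Subgroup H) := fun y => by
      obtain ⟨i, hi⟩ := hx y
      exact ⟨i, QuotientGroup.eq.1 hi⟩
    by_cases hxc : φ x ∈ centralizer ((zpowers (q : G) : Subgroup G) : Set G)
    · refine Or.inl (cyc fun y t ht => setLike_mul_comm (s := centralizer _) (hTC ht) ?_)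
      obtain ⟨i, hi⟩ := hgen y
      have := mul_mem (zpow_mem hxc i) (hTC (mem_map_of_mem φ hi))
      simpa using this
    right
    obtain ⟨o2, hi⟩ := hinv _ (hNQ x) hxc
    rw [orderOf_injective φ hφi] at o2
    have hxx : x * x = 1 := by rw [← sq, ← o2, pow_orderOf_eq_one]
    have hxS : x ∉ (S : Subgroup H) := fun h => hxc (hTC (mem_map_of_mem φ h))
    obtain ⟨a, ha⟩ := (Subgroup.isCyclic_iff_exists_zpowers_eq_top (S : Subgroup H)).1 inferInstance
    obtain ⟨n, hn⟩ := S.2.exists_card_eq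
    haveI : NeZero (p ^ n) := ⟨(pow_pos (Fact.out : p.Prime).pos n).ne'⟩
    refine ⟨n, CL.SL2.nonempty_dihedral a x (by rw [← Nat.card_zpowers, ha, hn]) hxx (hφi ?_) (ha ▸ hxS)
      fun y => ?_⟩
    · rw [map_mul, map_mul, map_inv, map_inv]
      exact hi _ (hTC (mem_map_of_mem φ (ha ▸ mem_zpowers a)))
    · obtain ⟨i, hi⟩ := hgen y
      have h2 : x ^ (2 : ℤ) = 1 := by rw [zpow_two, hxx]
      rw [ha]
      rcases Int.even_or_odd' i with ⟨r, rfl | rfl⟩
      · left; simpa [zpow_mul, h2] using hi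
      · right
        rw [zpow_add, zpow_mul, h2, one_zpow, one_mul, zpow_one, inv_eq_of_mul_eq_one_right hxx] at hi
        exact hi

end Cfsg.Agent.S4082
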