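import Cfsg.Statements.S4083
import Cfsg.Agent.GW.LiftS

set_option autoImplicit false
open Cfsg

namespace Cfsg.Agent.S4083

open Subgroup CL.Inv CL.GW CL.Odd CL.Grp
open scoped Pointwise

theorem index_centralizer {X : Type*} [Group X] [Finite X] (S : Sylow 2 X) [(S : Subgroup X).Normal]
    (h : IsPGroup 2 (MulAut (S : Subgroup X))) : ∃ k, (centralizer ((S : Subgroup X) : Set X)).index = 2 ^ k := by
  have h1 := relIndex_centralizer_dvd_card_mulAut (S : Subgroup X)
  obtain ⟨k, hk⟩ := h.exists_card_eq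
  rw [normalizer_eq_top, relIndex_top_right, hk] at h1
  obtain ⟨j, -, hj⟩ := (Nat.dvd_prime_pow Nat.prime_two).1 h1
  exact ⟨j, hj⟩

theorem isCyclic_of {X : Type*} [Group X] [Finite X] (S : Sylow 2 X) [(S : Subgroup X).Normal]
    [IsCyclic (S : Subgroup X)] [IsCyclic (X ⧸ (S : Subgroup X))] : IsCyclic X := by
  obtain ⟨k, hk⟩ := index_centralizer S (isPGroup_mulAut_of_isCyclic S.2)
  have h1 : (S : Subgroup X) ≤ centralizer ((S : Subgroup X) : Set X) := le_centralizer _
  have h2 := index_dvd_of_le h1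
  obtain rfl : k = 0 := by
    by_contra h
    exact S.not_dvd_index ((dvd_pow_self 2 h).trans (hk ▸ h2))
  rw [pow_zero, index_eq_one, centralizer_eq_top_iff_subset] at hk
  have hc := (QuotientGroup.mk' (S : Subgroup X)).isMulCommutative_of_isCyclic_of_ker_le_center
    (by rw [QuotientGroup.ker_mk']; exact hk)
  obtain ⟨s, hs⟩ := IsCyclic.exists_ofOrder_eq_natCard (α := (S : Subgroup X))
  obtain ⟨x, hx⟩ := IsCyclic.exists_ofOrder_eq_natCard (α := X ⧸ (S : Subgroup X))
  obtain ⟨x, rfl⟩ := QuotientGroup.mk'_surjective _ x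
  obtain ⟨z, -, hz⟩ := (show Commute (s : X) x from hc.is_comm.comm _ _).exists_orderOf_eq_lcm
  refine isCyclic_of_orderOf_eq_card z (Nat.dvd_antisymm (orderOf_dvd_natCard z) ?_)
  rw [← (S : Subgroup X).card_mul_index, hz]
  refine S.card_coprime_index.mul_dvd_of_dvd_of_dvd (by rw [← hs, orderOf_coe]; exact Nat.dvd_lcm_left _ _) ?_
  rw [index_eq_card, ← hx]
  exact (orderOf_map_dvd _ x).trans (Nat.dvd_lcm_right _ _)

theorem dih_pow {X : Type*} [Group X] [Finite X] (h : IsPGroup 2 X) (hd : IsDih X) :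
    ∃ n, Nonempty (X ≃* DihedralGroup (2 ^ n)) := by
  obtain ⟨m, -, ⟨e⟩⟩ := hd
  obtain ⟨k, hk⟩ := h.exists_card_eq
  rw [Nat.card_congr e.toEquiv, DihedralGroup.nat_card] at hk
  obtain ⟨n, -, rfl⟩ := (Nat.dvd_prime_pow Nat.prime_two).1 (Dvd.intro_left _ hk)
  exact ⟨n, ⟨e⟩⟩

theorem dih_or_alt {X : Type*} [Group X] [Finite X] (S : Sylow 2 X) [hn : (S : Subgroup X).Normal]
    (hS : IsDih (S : Subgroup X)) (h : ∀ K : Subgroup X, IsKleinFour K → C[K] ≤ K) :
    (∃ n, Nonempty (X ≃* DihedralGroup (2 ^ n))) ∨ Nonempty (X ≃* alternatingGroup (Fin 4)) := by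
  have hO : oddCore X = ⊥ := by
    obtain ⟨m, hm, ⟨e⟩⟩ := hS
    obtain ⟨r, s, t, D⟩ := exists_dihData S.2 hm e
    have h4 := isKleinFour_four D.t_ord D.s_ord D.s_ne_t.symm (D.t_comm D.s_mem).symm
    have h5 : four t s ≤ S := four_le.2 ⟨D.t_memS, D.s_mem⟩
    have h6 := inf_eq_bot_of_odd_of_two (odd_card_oddCore (G := X)) S.2
    refine eq_bot_iff.2 (h6 ▸ le_inf le_rfl (le_trans (fun x hx => mem_centralizer_iff.2 fun y hy => ?_) ((h _ h4).trans h5)))
    exact (commute_of_normal_of_disjoint _ _ inferInstance hn (disjoint_iff.2 h6) x y hx (h5 hy)).eq.symm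
  by_cases h2 : IsPGroup 2 X
  · refine Or.inl (dih_pow h2 (hS.of_equiv ?_))
    rw [show (S : Subgroup X) = ⊤ from (S.3 (h2.to_subgroup ⊤) le_top).symm]
    exact topEquiv
  refine Or.inr (nonempty_alt_four_of_dih_normal S hS (pResidual_eq_top_of_sylow_le S ?_) hO)
  have h4 : IsKleinFour (S : Subgroup X) := by
    obtain ⟨m, hm, ⟨e⟩⟩ := hS
    refine (dihedral_sylow_cases S hm e).elim id fun ⟨n, ⟨D⟩⟩ => ?_
    obtain ⟨i, hi⟩ := D.dih_aut_cases le_rfl fun h3 => h2 (by
      obtain ⟨k, hk⟩ := index_centralizer S h3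
      obtain ⟨j, hj⟩ := (S.2.to_le (centralizer_le_of_normal_sylow S hO)).exists_card_eq
      exact IsPGroup.of_card (by rw [← (C[(S : Subgroup X)]).card_mul_index, hk, hj, ← pow_add]))
    exact hi ▸ D.dih_isKleinFour i
  have h5 := Nat.le_of_dvd Nat.card_pos ((dih_inf_pResidual S hS hO h2).1.four_dvd_card (S.2.to_le inf_le_left))
  exact inf_eq_left.1 (eq_of_le_of_card_ge inf_le_left (h4.card_four ▸ h5))


/-- Let G be a finite group with Sylow 2-subgroup P. Every subgroup H of G whose Sylow 2-subgroup is normal in H with cyclic quotient is cyclic, dihedral of 2-power order, or isomorphic to the alternating group of degree 4, if and only if either P is cyclic, or P is dihedral (of order at least 4) and every elementary abelian subgroup K of order 4 of P satisfies C_G(K) = K. -/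
theorem result {G : Type*} [Group G] [Finite G] (P : Sylow 2 G) :
    (∀ H : Subgroup G, (∀ S : Sylow 2 ↥H, (S : Subgroup ↥H).Normal) →
        (∀ (S : Sylow 2 ↥H) [(S : Subgroup ↥H).Normal], IsCyclic (↥H ⧸ (S : Subgroup ↥H))) →
        IsCyclic H ∨ (∃ n : ℕ, Nonempty (H ≃* DihedralGroup (2 ^ n))) ∨ Nonempty (H ≃* alternatingGroup (Fin 4))) ↔
    (IsCyclic P ∨
      ((∃ n : ℕ, 1 ≤ n ∧ Nonempty ((P : Subgroup G) ≃* DihedralGroup (2 ^ n))) ∧
        ∀ K : Subgroup G, K ≤ P → Nat.card K = 4 → (∀ k ∈ K, k ^ 2 = 1) → Subgroup.centralizer (K : Set G) = K)) := by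
  constructor
  · intro h
    have top : ∀ S : Sylow 2 (P : Subgroup G), (S : Subgroup (P : Subgroup G)) = ⊤ := fun S =>
      (S.3 (P.2.to_subgroup ⊤) le_top).symm
    rcases h P (fun S => top S ▸ inferInstance) (fun S _ => by
      have : Subsingleton ((P : Subgroup G) ⧸ (S : Subgroup (P : Subgroup G))) :=
        QuotientGroup.subsingleton_iff.2 (top S)
      infer_instance) with h1 | ⟨n, ⟨e⟩⟩ | ⟨⟨e⟩⟩
    · exact Or.inl h1
    · rcases n with _ | n
      · exact Or.inl (isCyclic_of_prime_card (p := 2) (by rw [Nat.card_congr e.toEquiv, DihedralGroup.nat_card]; rfl))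
      refine Or.inr ⟨⟨n + 1, by omega, ⟨e⟩⟩, fun K _ h4 h2 => ?_⟩
      have hK := isKleinFour_of_card_of_mul_self h4 fun g hg => (pow_two g).symm.trans (h2 g hg)
      refine le_antisymm (fun x hx => ?_) (four_le_C hK)
      have hc : ∀ a b : (K ⊔ zpowers x : Subgroup G), a * b = b * a := by
        have h1 : K ⊔ zpowers x ≤ C[K ⊔ zpowers x] := by
          have h2 : zpowers x ≤ C[K] := zpowers_le.2 hx
          exact sup_le (le_centralizer_iff.1 (sup_le (four_le_C hK) h2))
            (le_centralizer_iff.1 (sup_le (le_centralizer_iff.1 h2) (le_centralizer _)))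
        exact fun a b => Subtype.ext (h1 b.2 a a.2)
      have hn : ∀ S : Subgroup (K ⊔ zpowers x : Subgroup G), S.Normal := fun S =>
        ⟨fun a ha g => by rwa [hc g a, mul_inv_cancel_right]⟩
      rcases h (K ⊔ zpowers x) (fun S => hn S) (fun S _ => by
        refine ⟨⟨QuotientGroup.mk ⟨x, mem_sup_right (mem_zpowers x)⟩, fun q => ?_⟩⟩
        obtain ⟨⟨g, hg⟩, rfl⟩ := QuotientGroup.mk_surjective q
        obtain ⟨k, hk, _, ⟨i, rfl⟩, rfl⟩ := (mem_sup_iff_of_le_normalizer (N := K) (H := zpowers x)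
          ((zpowers_le.2 hx).trans (centralizer_le_normalizer _))).1 hg
        refine ⟨i, ?_⟩
        have h5 : (⟨k, mem_sup_left hk⟩ : (K ⊔ zpowers x : Subgroup G)) ∈ (S : Subgroup _) :=
          haveI := hn (K.subgroupOf (K ⊔ zpowers x))
          ((isPGroup_four hK).comap_subtype (K := K ⊔ zpowers x)).le_sylow_of_normal S hk
        simp only
        rw [← QuotientGroup.mk_zpow, ← one_mul (QuotientGroup.mk _), ← (QuotientGroup.eq_one_iff _).2 h5]
        rfl) with h1 | ⟨m, ⟨f⟩⟩ | ⟨⟨f⟩⟩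
      · exact absurd (isCyclic_of_le (le_sup_left : K ≤ K ⊔ zpowers x)) (not_isCyclic_four hK)
      · have h5 := congrArg f (hc (f.symm (.r 1)) (f.symm (.sr 0)))
        simp only [map_mul, MulEquiv.apply_symm_apply, DihedralGroup.r_mul_sr, DihedralGroup.sr_mul_r,
          DihedralGroup.sr.injEq] at h5
        have h6 := Nat.le_of_dvd two_pos ((ZMod.natCast_eq_zero_iff 2 (2 ^ m)).1 (by linear_combination -h5))
        rw [eq_of_le_of_card_ge (le_sup_left : K ≤ K ⊔ zpowers x)
          (by rw [Nat.card_congr f.toEquiv, DihedralGroup.nat_card, h4]; omega)]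
        exact mem_sup_right (mem_zpowers x)
      · have h5 := congrArg f (hc (f.symm ⟨Equiv.swap 0 1 * Equiv.swap 1 2, Equiv.Perm.mem_alternatingGroup.2 (by decide)⟩)
          (f.symm ⟨Equiv.swap 0 1 * Equiv.swap 2 3, Equiv.Perm.mem_alternatingGroup.2 (by decide)⟩))
        simp only [map_mul, MulEquiv.apply_symm_apply, Subtype.ext_iff, coe_mul] at h5
        exact absurd h5 (by decide)
    · obtain ⟨k, hk⟩ := P.2.exists_card_eq
      rw [Nat.card_congr e.toEquiv, nat_card_alternatingGroup, Nat.card_fin] at hk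
      exact absurd ((Nat.prime_three.dvd_of_dvd_pow (hk ▸ by decide : 3 ∣ 2 ^ k))) (by decide)
  · intro h H h1 h2
    obtain ⟨S⟩ : Nonempty (Sylow 2 H) := inferInstance
    have := h1 S
    have := h2 S
    have e := (S : Subgroup H).equivMapOfInjective _ H.subtype_injective
    obtain ⟨g, hg⟩ := exists_conj_le_sylow P (S.2.map H.subtype)
    have e' := e.trans (equivSMul (MulAut.conj g) _)
    have cyc : IsCyclic ↥(MulAut.conj g • (S : Subgroup H).map H.subtype) → IsCyclic H := fun h =>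
      have := e'.isCyclic.2 h
      isCyclic_of S
    rcases h with h | ⟨⟨n, hn, h⟩, h3⟩
    · exact Or.inl (cyc (isCyclic_of_le hg))
    rcases Lift.isCyclic_or_isDih P.2 ⟨_, Nat.pow_le_pow_right two_pos hn, h⟩ hg with h4 | h4
    · exact Or.inl (cyc h4)
    refine Or.inr (dih_or_alt S (h4.of_equiv e'.symm) fun K hK x hx => ?_)
    have f := K.equivMapOfInjective _ H.subtype_injective
    obtain ⟨c, hc⟩ := exists_conj_le_sylow P ((isPGroup_four hK).map H.subtype)
    have f' := f.trans (equivSMul (MulAut.conj c) _)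
    have h5 := h3 _ hc (by rw [← Nat.card_congr f'.toEquiv, hK.card_four]) (fun k hk => by
      obtain ⟨a, ha⟩ := f'.surjective ⟨k, hk⟩
      have := congrArg f' (IsKleinFour.mul_self a)
      rw [map_mul, ha, map_one] at this
      exact (pow_two k).trans (congrArg Subtype.val this))
    have h6 : c * x * c⁻¹ ∈ MulAut.conj c • K.map H.subtype := by
      rw [← h5]
      intro y hy
      obtain ⟨k, hk, e⟩ := mem_conj'.1 hy
      have := congrArg Subtype.val (hx k hk)
      change (k : G) = _ at e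
      simp only [coe_mul, e] at this
      calc _ = c * (c⁻¹ * y * c * x) * c⁻¹ := by group
        _ = _ := by rw [this]; group
    obtain ⟨k, hk, e⟩ := mem_conj.1 h6
    rwa [← Subtype.ext e]

end Cfsg.Agent.S4083
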