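import Cfsg.Statements.S4113
import Cfsg.Agent.Odd.Frob1

set_option autoImplicit false
open Cfsg

namespace Cfsg.Agent.S4113

open scoped Pointwise
open CL.Grp CL.Odd

/-- Let G be a finite group, M ≤ N non-trivial proper normal subgroups, and H a subgroup with HM = G and H ∩ M = 1. Then every element of G outside N acts fixed-point-freely on M (C_G(x) ≤ N for every x ∈ M, x ≠ 1) if and only if H ∩ gHg⁻¹ ≤ H ∩ N for every g outside H, with H proper and non-trivial and H ∩ N proper in H. -/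
theorem result {G : Type*} [Group G] [Finite G] (N M : Subgroup G) [N.Normal] [M.Normal] (hMN : M ≤ N) (hM1 : M ≠ ⊥) (hN2 : N ≠ ⊤)
    (H : Subgroup G) (hHM : H ⊔ M = ⊤) (hHM' : H ⊓ M = ⊥) :
    (∀ x ∈ M, x ≠ 1 → Subgroup.centralizer ({x} : Set G) ≤ N) ↔
      (H ≠ ⊥ ∧ H ≠ ⊤ ∧ H ⊓ N < H ∧ ∀ g : G, g ∉ H → H ⊓ H.map (MulAut.conj g).toMonoidHom ≤ N) := by
  have hMn : ∀ X : Subgroup G, X ≤ N[M] := fun X => by rw [Subgroup.normalizer_eq_top]; exact le_top
  have hdec : ∀ g : G, ∃ m ∈ M, ∃ h ∈ H, g = m * h := fun g =>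
    (mem_sup_norm (hMn H)).1 (by rw [sup_comm, hHM]; trivial)
  have hone : ∀ x : G, x ∈ H → x ∈ M → x = 1 := fun x h1 h2 => eq_one_of_mem_of_eq_bot hHM' ⟨h1, h2⟩
  constructor
  · intro h
    have hlt : H ⊓ N < H := by
      refine lt_of_le_of_ne inf_le_left fun e => hN2 (top_le_iff.1 ?_)
      rw [← hHM]
      exact sup_le (e.ge.trans inf_le_right) hMN
    refine ⟨fun e => ?_, fun e => hM1 ?_, hlt, fun g hg => ?_⟩
    · rw [e] at hlt
      exact not_lt_bot hlt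
    · rwa [e, top_inf_eq] at hHM'
    · obtain ⟨m, hm, k, hk, rfl⟩ := hdec g
      have hm1 : m ≠ 1 := by
        rintro rfl
        exact hg (by rwa [one_mul])
      rw [← cj_eq_map, cj_mul, cj_eq_self_of_mem hk]
      rintro x ⟨hx, hx'⟩
      have hx2 : m⁻¹ * x * m ∈ H := mem_cj.1 hx'
      have e : m⁻¹ * x * m * x⁻¹ = 1 := by
        refine hone _ (H.mul_mem hx2 (H.inv_mem hx)) ?_
        have := M.mul_mem (M.inv_mem hm) (Subgroup.Normal.conj_mem inferInstance m hm x)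
        simpa only [mul_assoc] using this
      refine h m hm hm1 (mem_c1.2 ?_)
      calc x * m = m * (m⁻¹ * x * m * x⁻¹) * x := by group
        _ = m * x := by rw [e, mul_one]
  · rintro ⟨-, -, -, h⟩ x hx hx1 c hc
    by_contra hcN
    obtain ⟨m, hm, k, hk, rfl⟩ := hdec c
    have hkN : k ∉ N := fun hkN => hcN (N.mul_mem (hMN hm) hkN)
    have hf : M ⊓ C1[k] = ⊥ := by
      refine eq_bot_iff.2 fun y ⟨hy, hyc⟩ => ?_
      by_contra hy1
      have hyH : y ∉ H := fun hyH => hy1 (hone y hyH hy)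
      refine hkN (h y hyH ⟨hk, ?_⟩)
      rw [← cj_eq_map]
      refine mem_cj.2 ?_
      rwa [mul_assoc, ← mem_c1.1 hyc, inv_mul_cancel_left]
    obtain ⟨y, hy, e⟩ := exists_comm_eq_of_inf_c1 (hMn ⊤ trivial : k ∈ N[M]) hf hm
    have e2 := mem_c1.1 hc
    rw [← e] at e2
    have : y * x * y⁻¹ ∈ M ⊓ C1[k] := by
      refine ⟨Subgroup.Normal.conj_mem inferInstance x hx y, mem_c1.2 ?_⟩
      calc y * x * y⁻¹ * k = y * (x * (y⁻¹ * (k * y * k⁻¹) * k)) * y⁻¹ := by group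
        _ = k * (y * x * y⁻¹) := by rw [← e2]; group
    exact hx1 (conj_eq_one_iff'.1 (eq_one_of_mem_of_eq_bot hf this))

end Cfsg.Agent.S4113
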