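import Cfsg.Statements.S4126
import Cfsg.Agent.Fgs.ClassIto2
import Cfsg.Agent.Grp.PGroupCritical
import Cfsg.Agent.Grp.CoprimeAct
import Cfsg.Agent.Grp.Fitting

set_option autoImplicit false
open Cfsg

namespace Cfsg.Agent.S4126

open CL.Fgs CL.Grp Subgroup
open scoped commutatorElement


/-- Let G be a finite group and p a prime. Suppose every element of order p, and when p = 2 also every element of order 4, has a conjugacy class of p-power size. Then G has a normal p-complement. -/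
theorem result {G : Type*} [Group G] [Finite G] (p : ℕ) [Fact p.Prime]
    (h : ∀ x : G, (orderOf x = p ∨ (p = 2 ∧ orderOf x = 4)) → ∃ a : ℕ, (Subgroup.centralizer ({x} : Set G)).index = p ^ a) :
    Cfsg.HasNormalPComplement p G := by
  have hp : p.Prime := Fact.out
  obtain ⟨P⟩ : Nonempty (Sylow p G) := inferInstance
  rw [hasNormalPComplement_iff_normalizer_coprime_centralizes P]
  intro Q hQ g hg hco
  obtain ⟨K, hKQ, -, hN, -, hexp, -, hc⟩ := exists_critical_omega_in (P.isPGroup'.to_le hQ)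
  refine hc g hg hco ?_
  have hA : zpowers g ≤ normalizer (K : Set G) := zpowers_le.2 (hN hg)
  obtain ⟨k, hk⟩ := (P.isPGroup'.to_le (hKQ.trans hQ)).exists_card_eq
  have hcop : (Nat.card (zpowers g)).Coprime (Nat.card K) := by
    rw [Nat.card_zpowers, hk]; exact Nat.Coprime.pow_right _ hco
  have hD := commutator_commutator_eq' hA hcop
  set D := ⁅K, zpowers g⁆ with hDdef
  have hDK : D ≤ K := by
    rw [hDdef, commutator_le]
    intro a ha b hb
    have : ⁅a, b⁆ = a * (b * a⁻¹ * b⁻¹) := by rw [commutatorElement_def]; group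
    rw [this]
    exact mul_mem ha ((mem_normalizer_iff.1 (hA hb) _).1 (inv_mem ha))
  have hcs : ∀ x ∈ D, ∃ a, cs(x) = p ^ a := fun x hx => by
    by_cases h1 : x = 1
    · exact ⟨0, by rw [h1, cs_one, pow_zero]⟩
    rcases hexp x (hDK hx) with h2 | ⟨h2, h3⟩
    · exact h x (Or.inl (orderOf_eq_prime h2 h1))
    · have h4 : orderOf x ∣ 2 ^ 2 := orderOf_dvd_of_pow_eq_one h3
      obtain ⟨j, hj, e⟩ := (Nat.dvd_prime_pow Nat.prime_two).1 h4
      interval_cases j
      · exact absurd (orderOf_eq_one_iff.1 e) h1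
      · exact h x (Or.inl (by rw [e, h2]; rfl))
      · exact h x (Or.inr ⟨h2, e⟩)
  have hconj : ∀ x ∈ D, ∀ u : G, ∃ v ∈ (P : Subgroup G), v * x * v⁻¹ = u * x * u⁻¹ := fun x hx u => by
    obtain ⟨a, ha⟩ := hcs x hx
    exact exists_conj_eq_of_coprime (ha ▸ coprime_sylow_index_pow P a) u
  set N := normalClosure (D : Set G) with hNdef
  have hDN : D ≤ N := le_normalClosure
  have hcomm : ∀ x ∈ D, ∀ u : G, ⁅x, u⁆ ∈ ⁅N, (P : Subgroup G)⁆ := fun x hx u => by
    obtain ⟨v, hv, e⟩ := hconj x hx u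
    have : ⁅x, u⁆ = ⁅x, v⁆ := by
      calc ⁅x, u⁆ = x * (u * x * u⁻¹)⁻¹ := by rw [commutatorElement_def]; group
        _ = x * (v * x * v⁻¹)⁻¹ := by rw [e]
        _ = _ := by rw [commutatorElement_def]; group
    rw [this]
    exact commutator_mem_commutator (hDN hx) hv
  have hD2 : D ≤ ⁅N, (P : Subgroup G)⁆ := by
    rw [← hD, commutator_le]
    exact fun a ha b _ => hcomm a ha b
  have hgen : ∀ L : Subgroup G, (∀ x ∈ D, ∀ u : G, u * x * u⁻¹ ∈ L) → N ≤ L := fun L hL => by
    refine (closure_le _).2 fun y hy => ?_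
    obtain ⟨a, ha, hay⟩ := Group.mem_conjugatesOfSet_iff.1 hy
    obtain ⟨u, rfl⟩ := isConj_iff.1 hay
    exact hL a ha u
  have hNP : N ≤ P := hgen _ fun x hx u => by
    obtain ⟨v, hv, e⟩ := hconj x hx u
    rw [← e]
    exact mul_mem (mul_mem hv ((hDK.trans (hKQ.trans hQ)) hx)) (inv_mem hv)
  have hN2 : N ≤ ⁅N, (P : Subgroup G)⁆ := hgen _ fun x hx u => by
    have : u * x * u⁻¹ = ⁅x, u⁆⁻¹ * x := by rw [commutatorElement_def]; group
    rw [this]
    exact mul_mem (inv_mem (hcomm x hx u)) (hD2 hx)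
  have hbot : N = ⊥ := eq_bot_of_le_commutator P.isPGroup'.isNilpotent hNP hN2
  have hD0 : D = ⊥ := le_bot_iff.1 (hbot ▸ hDN)
  rw [hDdef, commutator_comm, commutator_eq_bot_iff_le_centralizer] at hD0
  exact hD0 (mem_zpowers g)

end Cfsg.Agent.S4126
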