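import Cfsg.Statements.S4134
import Cfsg.Agent.Fgs.ClassTwo

set_option autoImplicit false
open Cfsg

namespace Cfsg.Agent.S4134

open CL.Fgs CL.Grp Subgroup


/-- Let G be a finite group whose conjugacy classes have exactly two sizes, 1 and n > 1. Then n is a power of a prime p and G is the direct product of a p-group and an abelian group of order prime to p: its Sylow p-subgroup P is normal with an abelian normal complement centralizing it; moreover P has an abelian normal subgroup A with P/A of exponent dividing p. -/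
theorem result {G : Type*} [Group G] [Finite G] (n : ℕ) (hn : 1 < n)
    (h : ∀ x : G, (Subgroup.centralizer ({x} : Set G)).index = 1 ∨ (Subgroup.centralizer ({x} : Set G)).index = n) (hex : ∃ x : G, (Subgroup.centralizer ({x} : Set G)).index = n) :
    ∃ (p : ℕ) (_ : Fact p.Prime) (a : ℕ), n = p ^ a ∧ ∀ P : Sylow p G, (P : Subgroup G).Normal ∧
      (∃ N : Subgroup G, N.Normal ∧ N.IsComplement' (P : Subgroup G) ∧ IsMulCommutative N ∧
        ∀ x ∈ N, ∀ y ∈ (P : Subgroup G), x * y = y * x) ∧
      ∃ A : Subgroup (P : Subgroup G), A.Normal ∧ IsMulCommutative A ∧ ∀ y : (P : Subgroup G), y ^ p ∈ A := by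
  obtain ⟨x, hx⟩ := hex
  obtain ⟨p, hp, R, hR⟩ : ∃ (p : ℕ) (_ : Fact p.Prime) (R : Sylow p G),
      ¬ (R : Subgroup G) ≤ center G := by
    by_contra hc
    push Not at hc
    have : center G = ⊤ := eq_top_of_forall_sylow_le fun p hp =>
      ⟨Classical.arbitrary _, hc p hp _⟩
    have h1 : cs(x) = 1 := cs_eq_one_iff.2 (this ▸ mem_top x)
    omega
  haveI : Group.IsNilpotent G := by
    haveI := isNilpotent_of_two_sizes R hR ⊤ le_top fun y _ => h y
    exact Group.nilpotent_of_mulEquiv topEquiv
  obtain ⟨w, hwR, hwZ⟩ := SetLike.not_le_iff_exists.1 hR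
  have hw := isPiElt_singleton_of_mem R.isPGroup' hwR
  have hm : ∀ y : G, y ∉ center G → cs(y) = n := fun y hy =>
    (h y).resolve_left fun e => hy (cs_eq_one_iff.1 e)
  have hcomm : ∀ u v : G, IsPiElt {p} u → IsPiElt {p}ᶜ v → Commute u v := fun u v hu hv =>
    commute_of_coprime_orderOf_of_isNilpotent (hu.coprime hv)
  have hZ : ∀ y : G, IsPiElt {p}ᶜ y → y ∈ center G := fun y hy => by
    by_contra hyZ
    have e := cent_mul_of_coprime (hcomm w y hw hy) (hw.coprime hy)
    have e1 : cent(w * y) = cent(w) := cent_eq_of_le_of_cs_le (e ▸ inf_le_left) (by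
      rw [hm w hwZ]; rcases h (w * y) with e | e <;> omega)
    have e2 : cent(w * y) = cent(y) := cent_eq_of_le_of_cs_le (e ▸ inf_le_right) (by
      rw [hm y hyZ]; rcases h (w * y) with e | e <;> omega)
    refine hyZ (cent_eq_top_iff.1 (eq_top_iff.2 fun g _ => ?_))
    rw [← piPart_mul_piPart_compl {p} g]
    refine mul_mem (mem_cent.2 (hcomm _ _ (isPiElt_piPart _ _) hy)) ?_
    rw [← e2, e1]
    exact mem_cent'.2 (hcomm _ _ hw (isPiElt_piPart _ _))
  have hnpc : HasNormalPComplement p G := hasNormalPComplement_of_isNilpotent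
  have hNZ : pResidual p G ≤ center G := fun y hy => hZ y
    ((isPiElt_compl_singleton_iff_coprime hp.out).2 (hasNormalPComplement_iff_forall_mem.1 hnpc y hy))
  obtain ⟨k, hk⟩ := index_pResidual p G
  obtain ⟨a, -, ha⟩ := (Nat.dvd_prime_pow hp.out).1
    (hk ▸ index_dvd_of_le (hNZ.trans (center_le_cent x)))
  refine ⟨p, hp, a, hx ▸ ha, fun P => ⟨isNilpotent_iff_sylow_normal.1 inferInstance p hp P,
    ⟨pResidual p G, inferInstance, HasNormalPComplement.isComplement' hnpc P,
      isMulCommutative_of_forall fun u _ v hv => mem_center_iff.1 (hNZ hv) u,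
      fun u hu v _ => (mem_center_iff.1 (hNZ hu) v).symm⟩,
    center _, inferInstance, inferInstance, fun y => ?_⟩⟩
  refine pow_mem_center_of_two_sizes P.isPGroup' (m := n) (fun u => ?_) y
  rw [cs_coe, relIndex_eq_index_of_coprime]
  · exact h u
  · rcases h u with e | e
    · rw [e]; exact Nat.coprime_one_left _
    · rw [e, ← hx, ha]; exact (coprime_sylow_index_pow P a).symm

end Cfsg.Agent.S4134
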