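import Cfsg.Statements.S4139
import Cfsg.Agent.Fgs.ClassGraph
import Cfsg.Agent.Fgs.ClassCount

set_option autoImplicit false
open Cfsg

namespace Cfsg.Agent.S4139

open CL.Fgs CL.Grp Subgroup

theorem card_fiber (G : Type*) [Group G] [Finite G] (k : ℕ) :
    Nat.card {x : G // cs(x) = k} = k * Nat.card {C : ConjClasses G // Nat.card C.carrier = k} := by
  classical
  haveI := Fintype.ofFinite G
  have h := card_classes_mul_card (G := G) (fun C => Nat.card C.carrier = k) (fun x => cs(x) = k)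
    fun x => by rw [card_carrier_mk]
  refine Nat.eq_of_mul_eq_mul_right (Nat.card_pos (α := G)) ?_
  rw [mul_assoc, h, Finset.mul_sum, card_subtype_eq_filter, Finset.card_eq_sum_ones, Finset.sum_mul]
  refine Finset.sum_congr rfl fun x hx => ?_
  rw [one_mul, ← (Finset.mem_filter.1 hx).2, cs_mul_card_cent]

theorem aux {G : Type*} [Group G] [Finite G] (p : ℕ) [hp : Fact p.Prime] :
    ∃ k, ¬ p ∣ k ∧ Nat.card {x : G | ∃ a, cs(x) = p ^ a} =
      Nat.card (centralizer (pResidual p G : Set G)) * k := by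
  set O := pResidual p G with hO
  set C := centralizer (O : Set G) with hC
  set S := {x : G | ∃ a, cs(x) = p ^ a} with hS
  obtain ⟨n, hn⟩ := index_pResidual p G
  have hrel : ∀ x ∈ S, ∃ a, (cent(x)).relIndex O = p ^ a := fun x ⟨a, ha⟩ => by
    obtain ⟨b, -, hb⟩ := (Nat.dvd_prime_pow hp.out).1 (ha ▸ relIndex_dvd_index_of_normal cent(x) O)
    exact ⟨b, hb⟩
  have hmul : ∀ x ∈ S, ∀ c ∈ C, x * c ∈ S := fun x hx c hc => by
    obtain ⟨a, ha⟩ := hrel x hx
    have h1 : cs(x * c) ∣ p ^ (a + n) := by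
      rw [pow_add, ← ha, ← hn, ← inf_relIndex_right, relIndex_mul_index inf_le_right]
      exact index_dvd_of_le ((inf_le_inf_left _ (le_cent_iff.2 hc)).trans (inf_le_cent_mul x c))
    obtain ⟨b, -, hb⟩ := (Nat.dvd_prime_pow hp.out).1 h1
    exact ⟨b, hb⟩
  set T : Set (G ⧸ C) := QuotientGroup.mk '' S with hT
  have hpre : QuotientGroup.mk ⁻¹' T = S := by
    refine Set.Subset.antisymm ?_ (Set.subset_preimage_image _ _)
    rintro x ⟨y, hy, e⟩
    have := hmul y hy _ (QuotientGroup.eq.1 e)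
    rwa [mul_inv_cancel_left] at this
  refine ⟨T.ncard, ?_, by rw [← hpre, QuotientGroup.card_preimage_mk]; rfl⟩
  obtain ⟨P⟩ : Nonempty (Sylow p G) := inferInstance
  have h1 : (1 : G ⧸ C) ∈ T := ⟨1, ⟨0, by rw [cs_one, pow_zero]⟩, rfl⟩
  have h2 : p ∣ (T \ {1}).ncard := by
    refine dvd_ncard_of_forall_dvd_relIndex ((P : Subgroup G).map (QuotientGroup.mk' C)) _ _ ?_ ?_
    · rintro _ ⟨g, -, rfl⟩ _ ⟨⟨x, ⟨a, ha⟩, rfl⟩, hx⟩
      refine ⟨⟨g * x * g⁻¹, ⟨a, by rw [cs_conj, ha]⟩, rfl⟩, fun e => hx ?_⟩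
      have e' : (QuotientGroup.mk' C g) * x * (QuotientGroup.mk' C g)⁻¹ = 1 := e
      rw [mul_inv_eq_one, mul_eq_left] at e'
      exact e'
    · rintro _ ⟨⟨x, ⟨a, ha⟩, rfl⟩, hx⟩
      obtain ⟨k, hk⟩ := (P.isPGroup'.map (QuotientGroup.mk' C)).exists_card_eq
      obtain ⟨j, -, hj⟩ := (Nat.dvd_prime_pow hp.out).1 (hk ▸ relIndex_dvd_card
        cent((x : G ⧸ C)) ((P : Subgroup G).map (QuotientGroup.mk' C)))
      rw [hj]
      refine dvd_pow_self _ fun e => hx ((QuotientGroup.eq_one_iff x).2 ?_)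
      rw [e, pow_zero, relIndex_eq_one] at hj
      have h3 : ∀ g : G, x⁻¹ * (g * x * g⁻¹) ∈ C := fun g => by
        obtain ⟨u, hu, e⟩ := exists_conj_eq_of_coprime (ha ▸ coprime_sylow_index_pow P a) g
        rw [← e, ← QuotientGroup.eq]
        exact (mem_cent_iff_conj.1 (hj (mem_map_of_mem _ hu))).symm
      haveI : ((cent(x)).subgroupOf O).Normal := ⟨fun k hk o => by
        rw [mem_subgroupOf, mem_cent_iff_conj] at hk ⊢
        have h4 := h3 (o : G)⁻¹
        have h5 := h4 _ k.2
        simp only [coe_mul, coe_inv]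
        calc (o : G) * k * (o : G)⁻¹ * x * ((o : G) * k * (o : G)⁻¹)⁻¹
            = o * ((k * x * (k : G)⁻¹) * (k * (x⁻¹ * ((o : G)⁻¹ * x * (o : G)⁻¹⁻¹))) * (k : G)⁻¹) *
              (o : G)⁻¹ := by group
          _ = x := by rw [hk, h5]; group⟩
      obtain ⟨b, hb⟩ := hrel x ⟨a, ha⟩
      have h6 := pResidual_le_of_index_eq_pow (N := (cent(x)).subgroupOf O) hb
      rw [hO, pResidual_pResidual, top_le_iff, subgroupOf_eq_top] at h6
      exact le_cent_iff.1 h6
  intro h3
  have h4 := Set.ncard_sdiff_singleton_add_one h1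
  rw [← h4] at h3
  exact hp.out.one_lt.ne' (Nat.dvd_one.1 ((Nat.dvd_add_right h2).1 h3))


/-- Let G and H be finite groups such that for every natural number k, G and H have the same number of conjugacy classes of size k. If H is nilpotent then G is nilpotent. -/
theorem result {G H : Type*} [Group G] [Finite G] [Group H] [Finite H]
    (hH : Group.IsNilpotent H)
    (h : ∀ k : ℕ, Nat.card {C : ConjClasses G // Nat.card C.carrier = k} = Nat.card {C : ConjClasses H // Nat.card C.carrier = k}) :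
    Group.IsNilpotent G := by
  let e : G ≃ H := Equiv.ofFiberEquiv (f := fun x : G => cs(x)) (g := fun x : H => cs(x)) fun k =>
    (Finite.card_eq.1 (by rw [card_fiber, card_fiber, h])).some
  have he : ∀ x, cs(e x) = cs(x) := fun x =>
    Equiv.ofFiberEquiv_map (f := fun x : G => cs(x)) (g := fun x : H => cs(x)) _ x
  refine isNilpotent_iff_sylow_normal.2 fun p hp P => ?_
  obtain ⟨k, hk, e1⟩ := aux (G := G) p
  obtain ⟨l, -, e2⟩ := aux (G := H) p
  obtain ⟨Q⟩ : Nonempty (Sylow p H) := inferInstance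
  have h1 : (Q : Subgroup H) ≤ centralizer (pResidual p H : Set H) := by
    rw [le_centralizer_iff, pResidual_le_iff]
    exact fun g hg x hx => commute_of_coprime_orderOf_of_isNilpotent
      ((isPiElt_singleton_of_mem Q.isPGroup' hx).coprime
        ((isPiElt_compl_singleton_iff_coprime hp.out).2 hg))
  have e3 : Nat.card {x : G | ∃ a, cs(x) = p ^ a} = Nat.card {x : H | ∃ a, cs(x) = p ^ a} :=
    Nat.card_congr (e.subtypeEquiv fun x => by simp only [Set.mem_setOf_eq, he])
  have h2 : Nat.card (P : Subgroup G) ∣ Nat.card (centralizer (pResidual p G : Set G)) := by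
    have h3 : Nat.card (P : Subgroup G) = Nat.card (Q : Subgroup H) := by
      rw [P.card_eq_multiplicity, Q.card_eq_multiplicity, Nat.card_congr e]
    have h4 : Nat.card (P : Subgroup G) ∣ Nat.card (centralizer (pResidual p G : Set G)) * k := by
      rw [← e1, e3, e2, h3]
      exact (card_dvd_of_le h1).mul_right _
    refine Nat.Coprime.dvd_of_dvd_mul_right ?_ h4
    rw [P.card_eq_multiplicity]
    exact Nat.Coprime.pow_left _ ((Nat.Prime.coprime_iff_not_dvd hp.out).2 hk)
  have h5 : (P : Subgroup G) ≤ centralizer (pResidual p G : Set G) := by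
    have h6 := isSylowIn_inf_normal P (centralizer (pResidual p G : Set G))
    obtain ⟨n, hn⟩ := P.isPGroup'.exists_card_eq
    have h7 : Nat.card (P : Subgroup G) ∣
        Nat.card ↥((P : Subgroup G) ⊓ centralizer (pResidual p G : Set G)) := by
      rw [h6.card_eq_pow, hn]
      exact pow_dvd_pow _ ((hp.out.pow_dvd_iff_le_factorization Nat.card_pos.ne').1 (hn ▸ h2))
    exact inf_eq_left.1 (eq_of_le_of_card_ge inf_le_left (Nat.le_of_dvd Nat.card_pos h7))
  rw [← normalizer_eq_top_iff, eq_top_iff, ← pResidual_sup_sylow P]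
  exact sup_le ((le_centralizer_iff.1 h5).trans (centralizer_le_normalizer _)) le_normalizer

end Cfsg.Agent.S4139
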