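import Cfsg.Statements.S4346
import Cfsg.Agent.Fgs.SylSmall2

set_option autoImplicit false
open Cfsg
open scoped Pointwise

namespace Cfsg.Agent.S4346

open CL.Fgs CL.Grp MulAction

theorem card_sylow_three {S : Type*} [Group S] [Finite S] [IsSimpleGroup S]
    (hn : Nat.card (Sylow 3 S) = 22) (P : Sylow 3 S) : Nat.card P = 3 := by
  haveI : Fact (Nat.Prime 3) := ⟨by norm_num⟩
  let Γ : Sylow 3 S → Set (Sylow 3 S) := fun A => {B | (B : Subgroup S).relIndex A = 3}
  have hΓ : ∀ A, (Γ A).ncard = (Γ P).ncard := by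
    intro A
    obtain ⟨g, rfl⟩ := exists_smul_eq S P A
    rw [← Set.ncard_smul_set g (Γ P)]
    congr 1
    ext B
    obtain ⟨B, rfl⟩ : ∃ B', B = g • B' := ⟨g⁻¹ • B, (smul_inv_smul g B).symm⟩
    rw [Set.smul_mem_smul_set_iff]
    simp only [Γ, Set.mem_setOf_eq, relIndex_sylow_smul]
  have hγ : (Γ P).ncard % 9 = 3 := by
    have h1 := dvd_ncard_sylow_relIndex 9 P
    have h2 : {Q : Sylow 3 S | 9 ∣ (Q : Subgroup S).relIndex P} = (insert P (Γ P))ᶜ := by
      ext Q
      simp only [Γ, Set.mem_setOf_eq, Set.mem_compl_iff, Set.mem_insert_iff]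
      rw [eq_comm (a := Q), ← relIndex_sylow_eq_one_iff]
      obtain ⟨k, hk⟩ := exists_relIndex_sylow_eq_pow P Q
      rw [hk]
      rcases k with _ | _ | k
      · simp
      · simp
      · have : 0 < 3 ^ k := by positivity
        rw [pow_succ, pow_succ]
        omega
    have h3 := Set.ncard_add_ncard_compl (insert P (Γ P))
    rw [Set.ncard_insert_of_notMem (by simp [Γ]), hn] at h3
    rw [h2] at h1
    omega
  obtain ⟨Q, hQ⟩ : (Γ P).Nonempty := (Set.ncard_pos (Set.toFinite _)).1 (by omega)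
  change (Q : Subgroup S).relIndex P = 3 at hQ
  have hPQ : P ≠ Q := fun h => by
    rw [(relIndex_sylow_eq_one_iff P Q).2 h] at hQ
    omega
  set D : Subgroup S := (P : Subgroup S) ⊓ Q with hD
  have hDc : ∀ R : Sylow 3 S, Nat.card D * 3 = Nat.card R := fun R => by
    rw [← card_sylow_eq_card_sylow P R, ← card_sylow_inf_mul P Q, hQ]
  let l : Set (Sylow 3 S) := {R | D ≤ R}
  have hl : ∀ R ∈ l, ∀ R' ∈ l, R ≠ R' → (R : Subgroup S) ⊓ R' = D ∧ R' ∈ Γ R := by
    intro R hR R' hR' hne
    have h1 : (R : Subgroup S) ⊓ R' = D :=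
      (eq_or_eq_of_card_mul_prime Nat.prime_three (le_inf hR hR') inf_le_left (hDc R)).resolve_right
        fun h => hne (sylow_eq_of_le (inf_eq_left.1 h))
    refine ⟨h1, ?_⟩
    have h2 := card_sylow_inf_mul R R'
    rw [h1, ← hDc R] at h2
    exact Nat.eq_of_mul_eq_mul_left Nat.card_pos h2
  have hs1 : l.ncard % 3 = 1 := card_sylow_ge_modEq_one (p := 3) (D := D) P.2.to_inf_left
  have hPl : P ∈ l := (inf_le_left : D ≤ P)
  have hQl : Q ∈ l := (inf_le_right : D ≤ Q)
  have hs2 : 1 < l.ncard := (Set.one_lt_ncard (Set.toFinite _)).2 ⟨P, hPl, Q, hQl, hPQ⟩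
  have hdiff : ∀ R ∈ l, (Γ R \ l).ncard + (l.ncard - 1) = (Γ P).ncard := by
    intro R hR
    rw [← hΓ R, ← Set.ncard_diff_singleton_of_mem hR, ← Set.ncard_inter_add_ncard_diff_eq_ncard (Γ R) l,
      add_comm]
    congr 2
    ext X
    refine ⟨fun hX => ⟨(hl R hR X hX.1 (Ne.symm hX.2)).2, hX.1⟩, fun hX => ⟨hX.2, ?_⟩⟩
    rintro rfl
    have := hX.1
    simp [Γ] at this
  have hcount : l.ncard * (Γ P \ l).ncard + l.ncard ≤ 22 := by
    haveI := Fintype.ofFinite l
    let f : (Σ R : l, (Γ R \ l : Set (Sylow 3 S))) → (lᶜ : Set (Sylow 3 S)) := fun a => ⟨a.2, a.2.2.2⟩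
    have hf : Function.Injective f := by
      rintro ⟨R, X⟩ ⟨R', X'⟩ e
      have e' : (X : Sylow 3 S) = X' := congrArg Subtype.val e
      obtain rfl : R = R' := by
        by_contra hne
        have h1 := hl R R.2 R' R'.2 fun h => hne (Subtype.ext h)
        have h2 := sylow_inf_le_of_triangle h1.2 X.2.1 (e' ▸ X'.2.1)
        rw [h1.1] at h2
        exact X.2.2 h2
      rw [Subtype.ext e']
    have h1 := Nat.card_le_card_of_injective f hf
    have h2 : ∀ R : l, Nat.card (Γ R \ l : Set (Sylow 3 S)) = (Γ P \ l).ncard := fun R => by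
      have h3 := hdiff R R.2
      have h4 := hdiff P hPl
      rw [Nat.card_coe_set_eq]
      omega
    rw [Nat.card_sigma] at h1
    simp only [h2, Finset.sum_const, Finset.card_univ, smul_eq_mul] at h1
    rw [← Nat.card_eq_fintype_card, Nat.card_coe_set_eq, Nat.card_coe_set_eq] at h1
    have h5 := Set.ncard_add_ncard_compl l
    omega
  have hsub : Γ P ⊆ l := by
    rw [← Set.diff_eq_empty, ← Set.ncard_eq_zero]
    have h4 := hdiff P hPl
    have h5 : l.ncard ≤ 22 := by omega
    generalize l.ncard = s at *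
    generalize (Γ P \ l).ncard = d at *
    interval_cases s <;> omega
  have hNM : Subgroup.normalizer ((P : Subgroup S) : Set S) ≤ Subgroup.normalizer (D : Set S) := by
    intro g hg
    have h1 := (sylow_smul_eq_iff g P).2 hg
    have h2 : g • Q ∈ Γ P := by
      have := relIndex_sylow_smul g P Q
      rw [h1, hQ] at this
      exact this
    rw [← conj_smul_eq_self_iff]
    refine (Subgroup.eq_of_le_of_card_ge ?_ (card_conj_smul g D).le).symm
    rw [hD, Subgroup.smul_inf, ← coe_sylow_smul, ← coe_sylow_smul, h1]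
    exact le_inf inf_le_left (hsub h2)
  have hPM := Subgroup.le_normalizer.trans hNM
  have hQM := le_normalizer_of_card_mul_prime Q.2 (inf_le_right : D ≤ Q) (hDc Q)
  have h1 := card_sylow_modEq_one 3 (Subgroup.normalizer (D : Set S))
  rw [card_sylow_subgroup (isSylowIn_of_le P hPM)] at h1
  have h2 := Subgroup.relIndex_mul_index hNM
  rw [← CL.Inv.card_sylow_eq_index, hn] at h2
  have h3 : (Subgroup.normalizer ((P : Subgroup S) : Set S)).relIndex
      (Subgroup.normalizer (D : Set S)) ≠ 1 := by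
    rw [Ne, Subgroup.relIndex_eq_one]
    intro h
    exact hPQ (sylow_eq_of_le (le_sylow_of_le_normalizer Q.2 (hQM.trans h))).symm
  have h4 : (Subgroup.normalizer (D : Set S)).index = 1 := by
    generalize (Subgroup.normalizer (D : Set S)).index = b at *
    generalize (Subgroup.normalizer ((P : Subgroup S) : Set S)).relIndex
      (Subgroup.normalizer (D : Set S)) = a at *
    have : a ≤ 22 := Nat.le_of_dvd (by norm_num) ⟨b, h2.symm⟩
    unfold Nat.ModEq at h1
    interval_cases a <;> omega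
  rw [Subgroup.index_eq_one, Subgroup.normalizer_eq_top_iff] at h4
  rcases h4.eq_bot_or_eq_top with h5 | h5
  · rw [← hDc P, h5, Subgroup.card_bot]
  · exact absurd (sylow_eq_of_le (le_top.trans (h5.ge.trans inf_le_right))) hPQ

theorem not_simple {S : Type*} [Group S] [Finite S] [IsSimpleGroup S]
    (hn : Nat.card (Sylow 3 S) = 22) : False := by
  haveI : Fact (Nat.Prime 3) := ⟨by norm_num⟩
  haveI : Fact (Nat.Prime 7) := ⟨by norm_num⟩
  haveI : Fact (Nat.Prime 11) := ⟨by norm_num⟩
  have hne : Nat.card (Sylow 3 S) ≠ 1 := by omega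
  have hG := CL.Inv.commutator_eq_top_of_simple (not_isMulCommutative_of_card_sylow_ne_one hne)
  haveI := faithfulSMul_sylow hne
  obtain ⟨P⟩ : Nonempty (Sylow 3 S) := inferInstance
  have hP := card_sylow_three hn P
  obtain ⟨c, e, he, he1, hcard, hall⟩ := exists_prime_sylow_data hG hP
  obtain rfl : e = 2 := by
    have : e ≤ 2 := Nat.le_of_dvd (by norm_num) he
    interval_cases e <;> omega
  obtain ⟨y, hy, hPy⟩ := exists_sylow_eq_zpowers hP
  have hlt : ∀ z : S, (orderOf z).Prime → (fixedBy (Sylow 3 S) z).ncard < 22 := fun z hz =>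
    hn ▸ ncard_fixedBy_lt_card (fun e => by simp [e] at hz; exact Nat.not_prime_one hz)
  have hdvd : ∀ z : S, (orderOf z).Prime → orderOf z ∣ 22 - (fixedBy (Sylow 3 S) z).ncard :=
    fun z hz => hn ▸ dvd_card_sub_ncard_fixedBy hz
  have hfour : ∀ z : S, orderOf z = 2 → 4 ∣ 22 - (fixedBy (Sylow 3 S) z).ncard :=
    fun z hz => hn ▸ four_dvd_card_sub_ncard_fixedBy hG (hz ▸ pow_orderOf_eq_one z)
  have hc := (hall P y hy hPy).1
  obtain ⟨k, rfl⟩ : 3 ∣ c := by
    rw [← hc, ← hy]
    exact Subgroup.orderOf_dvd_natCard _ (Subgroup.mem_centralizer_singleton_iff.2 rfl)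
  have hk3 : ¬ 3 ∣ k := by
    intro h
    apply P.not_dvd_index
    have h1 := (P : Subgroup S).card_mul_index
    rw [hP, hcard, hn] at h1
    omega
  have hk : k ∣ 560 := by
    obtain ⟨j, hj⟩ := card_centralizer_dvd_of_unique_fixed (m := 7) Nat.prime_three hy
      (fixedBy_sylow_eq_singleton hy hPy) (by rw [hn])
    rw [hc, show 3 ^ j * Nat.factorial 7 = 3 ^ (j + 2) * 560 by rw [pow_add, mul_assoc]; rfl] at hj
    refine Nat.Coprime.dvd_of_dvd_mul_left ?_ ((Dvd.intro_left _ rfl).trans hj)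
    exact (((Nat.Prime.coprime_iff_not_dvd Nat.prime_three).2 hk3).symm).pow_right _
  have hk11 : ¬ 11 ∣ k := fun h => absurd (h.trans hk) (by norm_num)
  rw [hn] at hcard
  obtain ⟨R⟩ : Nonempty (Sylow 11 S) := inferInstance
  have hR : Nat.card R = 11 := CL.Inv.card_sylow_subgroup_eq (a := 1) (m := 12 * k)
    (by rw [hcard]; ring) (by omega) R
  obtain ⟨c', e', he', he1', hcard', hall'⟩ := exists_prime_sylow_data hG hR
  obtain ⟨w, hw, hRw⟩ := exists_sylow_eq_zpowers hR
  have hgen : ∀ Q : Sylow 3 S, ∃ y : S, orderOf y = 3 ∧ (Q : Subgroup S) = Subgroup.zpowers y :=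
    fun Q => exists_sylow_eq_zpowers (card_sylow_three hn Q)
  have hfw : fixedBy (Sylow 3 S) w = ∅ := by
    rw [Set.eq_empty_iff_forall_notMem]
    intro Q hQ
    obtain ⟨y', hy', hQy⟩ := hgen Q
    have h1 := Subgroup.orderOf_dvd_natCard (stabilizer S Q) hQ
    rw [(hall Q y' hy' hQy).2.1, hw] at h1
    omega
  have hCw : ∀ z : S, Commute z w → (orderOf z).Prime → orderOf z = 11 := by
    intro z hz hzp
    have h1 := ncard_fixedBy_modEq_of_commute (Ω := Sylow 3 S) Fact.out hw hz
    rw [hfw, Set.inter_empty, Set.ncard_empty] at h1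
    have h2 := hlt z hzp
    have h3 := hdvd z hzp
    have h4 := hfour z
    unfold Nat.ModEq at h1
    have h5 : orderOf z ∣ 2 * 11 := by
      have : (fixedBy (Sylow 3 S) z).ncard = 0 ∨ (fixedBy (Sylow 3 S) z).ncard = 11 := by omega
      rcases this with h | h <;> rw [h] at h3
      · exact h3
      · exact h3.mul_left 2
    rcases (Nat.Prime.dvd_mul hzp).1 h5 with h | h
    · have := (Nat.prime_dvd_prime_iff_eq hzp Nat.prime_two).1 h
      rw [this] at h3
      omega
    · exact (Nat.prime_dvd_prime_iff_eq hzp Fact.out).1 h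
  obtain rfl : c' = 11 := by
    rw [← (hall' R w hw hRw).1, card_centralizer_eq_prime hw hRw hCw]
  have hst := (hall' R w hw hRw).2.1
  obtain rfl : e' = 2 := by
    by_contra hne2
    have h5 : 5 ∣ e' := by
      have : e' ≤ 10 := Nat.le_of_dvd (by norm_num) he'
      interval_cases e' <;> omega
    obtain ⟨z, hz, hz5⟩ := exists_mem_prime_order (H := stabilizer S R) Nat.prime_five
      (by rw [hst]; exact h5.mul_left _)
    have hzp : (orderOf z).Prime := hz5 ▸ Nat.prime_five
    have h1 := mul_ncard_fixedBy_diff_le (Ω := Sylow 3 S) Fact.out hw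
      (conj_mem_zpowers_of_smul_eq hRw hz) (fun h => by have := hCw z h hzp; omega)
    rw [hfw, Set.diff_empty, hn] at h1
    have h2 := hdvd z hzp
    rw [hz5] at h2
    obtain ⟨Q, hQ⟩ : (fixedBy (Sylow 3 S) z).Nonempty := (Set.ncard_pos (Set.toFinite _)).1 (by omega)
    obtain ⟨y', hy', hQy⟩ := hgen Q
    have h3 := ncard_fixedBy_modEq_one hy' hQy ((hall Q y' hy' hQy).2.2 z hQ (by rw [hz5]; norm_num))
    unfold Nat.ModEq at h3
    omega
  have h11 := card_sylow_modEq_one 11 S
  have hn11 : Nat.card (Sylow 11 S) = 6 * k := by omega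
  have hk' : k = 2 ∨ k = 35 ∨ k = 112 := by
    have : ∀ k ∈ Nat.divisors 560, 6 * k % 11 = 1 → k = 2 ∨ k = 35 ∨ k = 112 := by decide +kernel
    exact this k (Nat.mem_divisors.2 ⟨hk, by norm_num⟩) (hn11 ▸ h11)
  by_cases hk2 : k = 2
  · subst hk2
    obtain ⟨t, ht, ht2⟩ := exists_mem_prime_order (H := stabilizer S R) Nat.prime_two
      (by rw [hst]; norm_num)
    have h1 := mul_ncard_fixedBy_le hw hRw ht (fun h => by
      have := hCw t h (ht2 ▸ Nat.prime_two); omega)
    have h2 := four_dvd_card_sub_ncard_fixedBy (Ω := Sylow 11 S) hG (ht2 ▸ pow_orderOf_eq_one t)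
    have h3 : 0 < (fixedBy (Sylow 11 S) t).ncard := (Set.ncard_pos (Set.toFinite _)).2 ⟨R, ht⟩
    omega
  set C := Subgroup.centralizer ({y} : Set S) with hC
  obtain ⟨Y⟩ : Nonempty (Sylow 7 C) := inferInstance
  have hY : Nat.card Y = 7 := CL.Inv.card_sylow_subgroup_eq (a := 1) (m := 3 * k / 7)
    (by rw [hc]; omega) (by omega) Y
  obtain ⟨v, hv, hYv⟩ := exists_sylow_eq_zpowers hY
  have hv' : orderOf (v : S) = 7 := by rw [Subgroup.orderOf_coe, hv]
  obtain ⟨z, hz, hzo⟩ : ∃ z ∈ stabilizer C Y, orderOf z = 2 ∨ orderOf z = 5 := by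
    have h1 := card_sylow_modEq_one 7 C
    have h2 := (stabilizer C Y).card_mul_index
    rw [index_stabilizer_of_transitive, hc] at h2
    have h3 : 3 ∣ Nat.card (stabilizer C Y) := by
      let y' : C := ⟨y, Subgroup.mem_centralizer_singleton_iff.2 rfl⟩
      have h4 : y' ∈ stabilizer C Y := smul_sylow_eq_of_commute hYv
        (Subtype.ext (Subgroup.mem_centralizer_singleton_iff.1 v.2).symm)
      have h5 := Subgroup.orderOf_dvd_natCard _ h4
      rwa [← Subgroup.orderOf_coe, hy] at h5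
    have h4 : 2 ∣ Nat.card (stabilizer C Y) ∨ 5 ∣ Nat.card (stabilizer C Y) := by
      generalize Nat.card (stabilizer C Y) = a at *
      generalize Nat.card (Sylow 7 C) = b at *
      unfold Nat.ModEq at h1
      obtain ⟨a, rfl⟩ := h3
      rcases hk' with h | rfl | rfl
      · exact absurd h hk2
      · have : b ≤ 35 := Nat.le_of_dvd (by norm_num) ⟨a, by linarith⟩
        interval_cases b <;> omega
      · have : b ≤ 112 := Nat.le_of_dvd (by norm_num) ⟨a, by linarith⟩
        interval_cases b <;> omega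
    rcases h4 with h | h
    · obtain ⟨z, hz, h⟩ := exists_mem_prime_order Nat.prime_two h
      exact ⟨z, hz, Or.inl h⟩
    · obtain ⟨z, hz, h⟩ := exists_mem_prime_order Nat.prime_five h
      exact ⟨z, hz, Or.inr h⟩
  rw [← Subgroup.orderOf_coe] at hzo
  have hcy : ∀ x : C, Commute (x : S) y := fun x => Subgroup.mem_centralizer_singleton_iff.1 x.2
  have hfv : fixedBy (Sylow 3 S) (v : S) = {P} := by
    have h1 := ncard_fixedBy_modEq_one hy hPy (hcy v)
    have h2 := hlt v (hv' ▸ Fact.out)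
    have h3 := hdvd v (hv' ▸ Fact.out)
    rw [hv'] at h3
    unfold Nat.ModEq at h1
    obtain ⟨A, hA⟩ := Set.ncard_eq_one.1 (show (fixedBy (Sylow 3 S) (v : S)).ncard = 1 by omega)
    have h4 : P ∈ fixedBy (Sylow 3 S) (v : S) := smul_sylow_eq_of_commute hPy (hcy v)
    rw [hA] at h4 ⊢
    rw [h4]
  have hzP : P ∈ fixedBy (Sylow 3 S) (z : S) := smul_sylow_eq_of_commute hPy (hcy z)
  have hzp : (orderOf (z : S)).Prime := by
    rcases hzo with h | h <;> rw [h] <;> norm_num
  have hf : (fixedBy (Sylow 3 S) (z : S)).ncard = 7 ∨ (fixedBy (Sylow 3 S) (z : S)).ncard = 10 := by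
    have h1 := ncard_fixedBy_modEq_one hy hPy (hcy z)
    have h2 := hlt z hzp
    have h3 := hdvd z hzp
    have h4 := hfour z
    unfold Nat.ModEq at h1
    rcases hzo with h | h
    · have := h4 h
      omega
    · rw [h] at h3
      omega
  by_cases hzv : Commute (z : S) v
  · have h1 := ncard_fixedBy_modEq_of_commute (Ω := Sylow 3 S) Fact.out hv' hzv
    rw [hfv, Set.inter_singleton_of_mem hzP, Set.ncard_singleton] at h1
    unfold Nat.ModEq at h1
    omega
  · obtain ⟨j, hj⟩ := conj_mem_zpowers_of_smul_eq hYv hz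
    have h1 := mul_ncard_fixedBy_diff_le (Ω := Sylow 3 S) Fact.out hv'
      ⟨j, congrArg Subtype.val hj⟩ hzv
    rw [hfv, Set.ncard_diff_singleton_of_mem hzP, hn] at h1
    omega

/-- No finite group has exactly 22 Sylow 3-subgroups. -/
theorem result {G : Type*} [Group G] [Finite G] : Nat.card (Sylow 3 G) ≠ 22 := by
  intro h
  haveI : Fact (Nat.Prime 3) := ⟨by norm_num⟩
  obtain ⟨S, _, _, hS, hn⟩ := exists_simple_card_sylow (p := 3) (n := 22) (by norm_num)
    (prime_pow_ne_of_two_primes (a := 2) (b := 11) (by norm_num) (by norm_num) (by norm_num)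
      (by norm_num) (by norm_num)) (fun a b ha hb hab => by
        have : a ≤ 22 := Nat.le_of_dvd (by norm_num) ⟨b, hab.symm⟩
        unfold Nat.ModEq at ha hb
        interval_cases a <;> omega) G h
  exact not_simple hn

end Cfsg.Agent.S4346
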