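import Cfsg.Statements.S4150
import Cfsg.Agent.Fgs.SylSmall2
import Cfsg.Agent.Fgs.PrimeGap
import Cfsg.Agent.S4346
import Cfsg.Agent.Perm.PrimBasic
import Cfsg.Agent.Inv.PSL2pA

set_option autoImplicit false
open Cfsg
open scoped Pointwise

namespace Cfsg.Agent.S4150

open CL.Fgs MulAction Equiv

theorem commute_of_conj_mem_of_coprime {G : Type*} [Group G] [Finite G] {z w : G} {q : ℕ}
    (hq : q.Prime) (hz : orderOf z = q) (h : w * z * w⁻¹ ∈ Subgroup.zpowers z)
    (hc : (orderOf w).Coprime (q - 1)) : Commute w z := by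
  haveI : Fact q.Prime := ⟨hq⟩
  have hw : w ∈ Subgroup.normalizer (Subgroup.zpowers z : Set G) := by
    apply Subgroup.mem_normalizer_fintype
    rintro _ ⟨k, rfl⟩
    rw [← conj_zpow]
    exact Subgroup.zpow_mem _ h k
  have hcard : Nat.card (Subgroup.zpowers z) = q := by rw [Nat.card_zpowers, hz]
  haveI : IsCyclic (Subgroup.zpowers z) := isCyclic_of_prime_card hcard
  have h1 : orderOf ((Subgroup.zpowers z).normalizerMonoidHom ⟨w, hw⟩) ∣ q - 1 := by
    rw [← Nat.totient_prime hq, ← hcard, ← IsCyclic.card_mulAut]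
    exact orderOf_dvd_natCard _
  have h2 : orderOf ((Subgroup.zpowers z).normalizerMonoidHom ⟨w, hw⟩) ∣ orderOf w := by
    rw [← Subgroup.orderOf_mk w hw]
    exact orderOf_map_dvd _ _
  have h3 : (⟨w, hw⟩ : Subgroup.normalizer (Subgroup.zpowers z : Set G)) ∈
      (Subgroup.zpowers z).normalizerMonoidHom.ker :=
    orderOf_eq_one_iff.1 (Nat.eq_one_of_dvd_coprimes hc h2 h1)
  rw [Subgroup.normalizerMonoidHom_ker, Subgroup.mem_subgroupOf] at h3
  exact (h3 z (Subgroup.mem_zpowers z)).symm

section

variable {β : Type*} [Fintype β] [DecidableEq β]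

theorem ncard_fixedBy_perm (g : Perm β) : (fixedBy β g).ncard + g.support.card = Nat.card β := by
  rw [← Set.ncard_add_ncard_compl (fixedBy β g), ← Set.ncard_coe_finset]
  congr 2
  ext a
  simp

theorem prim {x y : Perm β} {p q : ℕ} (hp : p.Prime) (hq : q.Prime) (hx : orderOf x = p)
    (hy : orderOf y = q) (h2 : Nat.card β < 2 * q) (hpq : Nat.card β < p + q)
    (hcov : ∀ a, x a ≠ a ∨ y a ≠ a) {G : Subgroup (Perm β)} (hxG : x ∈ G) (hyG : y ∈ G) :
    IsPreprimitive G β := by
  have hyc : y.IsCycle := Perm.isCycle_of_prime_order' (hy ▸ hq)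
    (by rwa [hy, ← Nat.card_eq_fintype_card])
  have hys : y.support.card = q := hyc.orderOf.symm.trans hy
  haveI : IsPretransitive G β := by
    obtain ⟨b, hb, hcyc⟩ := hyc
    rw [isPretransitive_iff_base b]
    have key : ∀ a, y a ≠ a → ∃ g : G, g • b = a := fun a ha => by
      obtain ⟨i, hi⟩ := hcyc ha
      exact ⟨⟨y ^ i, G.zpow_mem hyG i⟩, hi⟩
    intro a
    rcases hcov a with ha | ha
    swap
    · exact key a ha
    have h1 : (orbit (Subgroup.zpowers x) a).ncard = p := by
      rw [← index_stabilizer]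
      have h3 := (stabilizer (Subgroup.zpowers x) a).index_dvd_card
      rw [Nat.card_zpowers, hx] at h3
      refine ((Nat.dvd_prime hp).1 h3).resolve_left fun h => ha ?_
      rw [Subgroup.index_eq_one] at h
      exact (h ▸ Subgroup.mem_top _ : (⟨x, Subgroup.mem_zpowers x⟩ : Subgroup.zpowers x) ∈
        stabilizer (Subgroup.zpowers x) a)
    obtain ⟨c, ⟨⟨_, j, rfl⟩, rfl⟩, hc⟩ : ∃ c ∈ orbit (Subgroup.zpowers x) a, y c ≠ c := by
      by_contra hcon
      push Not at hcon
      have h3 : orbit (Subgroup.zpowers x) a ⊆ fixedBy β y := hcon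
      have h4 := Set.ncard_le_ncard h3
      have h5 := ncard_fixedBy_perm y
      omega
    obtain ⟨g, hg⟩ := key _ hc
    refine ⟨⟨(x ^ j)⁻¹, G.inv_mem (G.zpow_mem hxG j)⟩ * g, ?_⟩
    rw [mul_smul, hg]
    exact inv_smul_smul (x ^ j) a
  haveI := Perm.isPretransitive_of_isCycle_mem hyc hyG
  have h1 : Nat.card (SubMulAction.ofFixingSubgroup G (y.support : Set β)ᶜ) = q := by
    change ((y.support : Set β)ᶜ)ᶜ.ncard = q
    rw [compl_compl, Set.ncard_coe_finset, hys]
  haveI : IsPreprimitive (fixingSubgroup G (y.support : Set β)ᶜ)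
      (SubMulAction.ofFixingSubgroup G (y.support : Set β)ᶜ) :=
    IsPreprimitive.of_prime_card (h1 ▸ hq)
  refine IsPreprimitive.of_card_lt
    (f := SubMulAction.ofFixingSubgroup_equivariantMap G (y.support : Set β)ᶜ) ?_
  rw [Set.ncard_range_of_injective SubMulAction.ofFixingSubgroup_equivariantMap_injective, h1]
  exact h2

theorem alt_not_comm (h : 5 ≤ Nat.card β) : ¬ IsMulCommutative (alternatingGroup β) := by
  haveI := alternatingGroup.isSimpleGroup h
  haveI : Nontrivial β := Finite.one_lt_card_iff_nontrivial.1 (by omega)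
  apply CL.Inv.not_isMulCommutative_of_not_prime
  have h1 := two_mul_nat_card_alternatingGroup (α := β)
  rw [Nat.card_perm] at h1
  obtain ⟨k, hk⟩ : 120 ∣ (Nat.card β).factorial := Nat.factorial_dvd_factorial h
  intro hp
  have h2 : 2 ∣ Nat.card (alternatingGroup β) := ⟨30 * k, by omega⟩
  have h3 : 3 ∣ Nat.card (alternatingGroup β) := ⟨20 * k, by omega⟩
  have h4 := (Nat.prime_dvd_prime_iff_eq Nat.prime_two hp).1 h2
  have h5 := (Nat.prime_dvd_prime_iff_eq Nat.prime_three hp).1 h3
  omega

theorem four_dvd_of_mem_alt (h : 5 ≤ Nat.card β) {t : Perm β} (ht : t ∈ alternatingGroup β)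
    (h2 : orderOf t = 2) : 4 ∣ Nat.card β - (fixedBy β t).ncard := by
  haveI := alternatingGroup.isSimpleGroup h
  exact four_dvd_card_sub_ncard_fixedBy (Ω := β) (CL.Inv.commutator_eq_top_of_simple (alt_not_comm h))
    (t := ⟨t, ht⟩) (Subtype.ext (h2 ▸ pow_orderOf_eq_one t))

theorem ne_one_of_prime {G : Type*} [Group G] {g : G} (h : (orderOf g).Prime) : g ≠ 1 := by
  rintro rfl
  rw [orderOf_one] at h
  exact Nat.not_prime_one h

theorem eq_top_seven (h7 : Nat.card β = 7) (H : Subgroup (alternatingGroup β))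
    (h35 : 35 ∣ Nat.card H) : H = ⊤ := by
  haveI : Fact (Nat.Prime 7) := ⟨by norm_num⟩
  haveI := alternatingGroup.isSimpleGroup (α := β) (by omega)
  haveI : Nontrivial β := Finite.one_lt_card_iff_nontrivial.1 (by omega)
  by_contra hne
  have hA : Nat.card (alternatingGroup β) = 2520 := by
    have h1 := two_mul_nat_card_alternatingGroup (α := β)
    rw [Nat.card_perm, h7, show Nat.factorial 7 = 5040 from rfl] at h1
    omega
  have h1 := CL.Inv.two_mul_card_dvd_index_factorial (alt_not_comm (by omega)) H hne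
  have h2 := H.card_mul_index
  rw [hA] at h1 h2
  have h3 : 7 ≤ H.index := by
    by_contra h
    have h4 := h1.trans (Nat.factorial_dvd_factorial (show H.index ≤ 6 by omega))
    norm_num [Nat.factorial] at h4
  obtain ⟨k, hk⟩ := h35
  obtain ⟨Y⟩ : Nonempty (Sylow 7 H) := inferInstance
  have hk72 : k * H.index = 72 := by rw [hk] at h2; linarith
  have hY : Nat.card Y = 7 := CL.Inv.card_sylow_subgroup_eq (a := 1) (m := 5 * k)
    (by rw [hk]; ring) (fun h => by
      have : 7 ∣ k := by omega
      have : 7 ∣ 72 := hk72 ▸ this.mul_right _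
      omega) Y
  obtain ⟨v, hv, hYv⟩ := exists_sylow_eq_zpowers hY
  have h5 : 5 ∣ Nat.card (stabilizer H Y) := by
    have h4 := (stabilizer H Y).card_mul_index
    rw [index_stabilizer_of_transitive, hk] at h4
    refine ((Nat.Prime.dvd_mul Nat.prime_five).1 (by rw [h4]; exact ⟨7 * k, by ring⟩)).resolve_right fun h => ?_
    have h6 := card_sylow_modEq_one 7 H
    have h8 := card_sylow_seven_ne_fifteen H
    have h9 := CL.Inv.card_sylow_dvd_of_card (p := 7) (G := H) (a := 1) (m := 5 * k)
      (by rw [hk]; ring) (fun h => by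
        have : 7 ∣ k := by omega
        have : 7 ∣ 72 := hk72 ▸ this.mul_right _
        omega)
    have h10 : k ≤ 10 := by nlinarith
    have h11 : 0 < k := by nlinarith
    have h12 := Nat.le_of_dvd (by omega) h9
    have h13 : Nat.card (Sylow 7 H) = 50 := by
      unfold Nat.ModEq at h6
      omega
    rw [h13] at h9
    have h14 : 5 ∣ k := by omega
    have : 5 ∣ 72 := hk72 ▸ h14.mul_right _
    omega
  obtain ⟨z, hz, hz5⟩ := exists_mem_prime_order Nat.prime_five h5
  have hfv : fixedBy β v = ∅ := by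
    have h4 := ncard_fixedBy_lt_card (Ω := β) (ne_one_of_prime (g := v) (hv ▸ Fact.out))
    have h6 := dvd_card_sub_ncard_fixedBy (Ω := β) (z := v) (hv ▸ Fact.out)
    rw [hv] at h6
    rw [← Set.ncard_eq_zero]
    omega
  have h6 := dvd_card_sub_ncard_fixedBy (Ω := β) (z := z) (hz5 ▸ Nat.prime_five)
  have h8 := ncard_fixedBy_lt_card (Ω := β) (ne_one_of_prime (g := z) (hz5 ▸ Nat.prime_five))
  rw [hz5] at h6
  by_cases hc : Commute z v
  · have h4 := ncard_fixedBy_modEq_of_commute (Ω := β) Fact.out hv hc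
    rw [hfv, Set.inter_empty, Set.ncard_empty] at h4
    unfold Nat.ModEq at h4
    omega
  · have h4 := mul_ncard_fixedBy_diff_le (Ω := β) Fact.out hv (conj_mem_zpowers_of_smul_eq hYv hz) hc
    rw [hfv, Set.diff_empty] at h4
    omega

theorem not_card_fifteen (h6 : Nat.card β = 6) (H : Subgroup (alternatingGroup β))
    (h : Nat.card H = 15 ∨ Nat.card H = 45) : False := by
  haveI : Fact (Nat.Prime 5) := ⟨by norm_num⟩
  obtain ⟨Y⟩ : Nonempty (Sylow 5 H) := inferInstance
  have hY : Nat.card Y = 5 := CL.Inv.card_sylow_subgroup_eq (a := 1) (m := Nat.card H / 5)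
    (by omega) (by omega) Y
  obtain ⟨v, hv, hYv⟩ := exists_sylow_eq_zpowers hY
  have h1 : Nat.card (Sylow 5 H) = 1 := by
    have h2 := CL.Inv.card_sylow_dvd_of_card (p := 5) (G := H) (a := 1) (m := Nat.card H / 5)
      (by omega) (by omega)
    have h3 := card_sylow_modEq_one 5 H
    have h4 : Nat.card (Sylow 5 H) ∣ 9 := by
      rcases h with h | h <;> rw [h] at h2
      · exact h2.trans (by norm_num)
      · exact h2
    have h5 := Nat.le_of_dvd (by norm_num) h4
    unfold Nat.ModEq at h3
    generalize Nat.card (Sylow 5 H) = a at *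
    interval_cases a <;> omega
  haveI : Fact (Nat.Prime 3) := ⟨by norm_num⟩
  obtain ⟨w, hw⟩ := exists_prime_orderOf_dvd_card' (G := H) 3 (by omega)
  haveI := (Nat.card_eq_one_iff_unique.1 h1).1
  have hc : Commute w v := commute_of_conj_mem_of_coprime Fact.out hv
    (conj_mem_zpowers_of_smul_eq hYv (Subsingleton.elim _ _)) (by rw [hw]; norm_num)
  have h2 := ncard_fixedBy_modEq_of_commute (Ω := β) Fact.out hv hc
  have h3 := ncard_fixedBy_modEq_of_commute (Ω := β) Fact.out hw hc.symm
  have h4 := ncard_fixedBy_lt_card (Ω := β) (ne_one_of_prime (g := v) (hv ▸ Fact.out))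
  have h5 := ncard_fixedBy_lt_card (Ω := β) (ne_one_of_prime (g := w) (hw ▸ Fact.out))
  have h7 := dvd_card_sub_ncard_fixedBy (Ω := β) (z := v) (hv ▸ Fact.out)
  have h8 := dvd_card_sub_ncard_fixedBy (Ω := β) (z := w) (hw ▸ Fact.out)
  have h9 := Set.ncard_inter_le_ncard_left (fixedBy β v) (fixedBy β w)
  rw [Set.inter_comm] at h2
  rw [hv] at h7
  rw [hw] at h8
  unfold Nat.ModEq at h2 h3
  omega

theorem iso_six (h6 : Nat.card β = 6) (H : Subgroup (alternatingGroup β))
    (h15 : 15 ∣ Nat.card H) : H = ⊤ ∨ Nonempty (H ≃* alternatingGroup (Fin 5)) := by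
  classical
  haveI := alternatingGroup.isSimpleGroup (α := β) (by omega)
  haveI : Nontrivial β := Finite.one_lt_card_iff_nontrivial.1 (by omega)
  refine or_iff_not_imp_left.2 fun hne => ?_
  have hA : Nat.card (alternatingGroup β) = 360 := by
    have h1 := two_mul_nat_card_alternatingGroup (α := β)
    rw [Nat.card_perm, h6, show Nat.factorial 6 = 720 from rfl] at h1
    omega
  have hna := alt_not_comm (β := β) (by omega)
  have h1 := CL.Inv.two_mul_card_dvd_index_factorial hna H hne
  have h2 := H.card_mul_index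
  rw [hA] at h1 h2
  have h3 : 6 ≤ H.index := by
    by_contra h
    have h4 := h1.trans (Nat.factorial_dvd_factorial (show H.index ≤ 5 by omega))
    norm_num [Nat.factorial] at h4
  obtain ⟨k, hk⟩ := h15
  have hk24 : k * H.index = 24 := by rw [hk] at h2; linarith
  have h4 : k ≤ 4 := by nlinarith
  have h5 : k = 4 := by
    by_contra h
    have h30 : Nat.card H = 30 := by
      by_contra h30
      refine not_card_fifteen h6 H ?_
      interval_cases k <;> omega
    haveI : Fact (Nat.Prime 2) := ⟨Nat.prime_two⟩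
    obtain ⟨T⟩ : Nonempty (Sylow 2 H) := inferInstance
    have hT : Nat.card T = 2 := CL.Inv.card_sylow_subgroup_eq (a := 1) (m := 15)
      (by omega) (by omega) T
    obtain ⟨K, hK⟩ : ∃ K : Subgroup H, K.IsComplement' T :=
      ⟨_, IsCyclic.isComplement' (by rw [h30]; norm_num) (isCyclic_of_prime_card hT)⟩
    have hc := hK.card_mul
    refine not_card_fifteen h6 (K.map H.subtype) (Or.inl ?_)
    rw [show Nat.card (T : Subgroup H) = 2 from hT] at hc
    rw [Subgroup.card_subtype]
    omega
  subst h5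
  have hi : Nat.card (alternatingGroup β ⧸ H) = 6 := by rw [← Subgroup.index]; omega
  haveI := Fintype.ofFinite (alternatingGroup β ⧸ H)
  let s : Finset (alternatingGroup β ⧸ H) := {((1 : alternatingGroup β) : alternatingGroup β ⧸ H)}ᶜ
  have hs : Nat.card s = 5 := by
    rw [Nat.card_eq_fintype_card, Fintype.card_coe, Finset.card_compl, Finset.card_singleton,
      ← Nat.card_eq_fintype_card, hi]
  let φ : alternatingGroup β →* alternatingGroup (alternatingGroup β ⧸ H) :=
    (toPermHom _ _).codRestrict _ fun g =>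
      CL.Inv.sign_toPerm_eq_one (CL.Inv.commutator_eq_top_of_simple hna) g
  have hφ : Function.Injective φ := fun a b h =>
    CL.Inv.toPermHom_injective_of_simple (CL.Inv.exists_smul_ne_quotient H hne)
      (congrArg Subtype.val h)
  obtain ⟨e⟩ := CL.Inv.nonempty_mulEquiv_of_range_le (φ.comp H.subtype) (alternatingGroup.ofSubtype s)
    (hφ.comp Subtype.val_injective) (by
      rintro _ ⟨g, rfl⟩
      rw [alternatingGroup.mem_range_ofSubtype_iff]
      intro c hc
      rw [Finset.mem_compl, Finset.mem_singleton]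
      rintro rfl
      apply Perm.mem_support.1 hc
      change (g : alternatingGroup β) • ((1 : alternatingGroup β) : alternatingGroup β ⧸ H) = _
      rw [MulAction.Quotient.smul_mk, QuotientGroup.eq]
      simp) (by
      haveI : Nontrivial s := Finite.one_lt_card_iff_nontrivial.1 (by omega)
      have h1 := two_mul_nat_card_alternatingGroup (α := s)
      rw [Nat.card_perm, hs, show Nat.factorial 5 = 120 from rfl] at h1
      omega)
  exact ⟨e.trans (Finite.equivFinOfCardEq hs).altCongrHom⟩

theorem alt_le_thirteen (h13 : Nat.card β = 13) {G : Subgroup (Perm β)} (hG : IsPreprimitive G β)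
    (hA : G ≤ alternatingGroup β) {x : Perm β} (hx : orderOf x = 11) (hxG : x ∈ G) :
    alternatingGroup β ≤ G := by
  haveI : Fact (Nat.Prime 3) := ⟨by norm_num⟩
  haveI : Fact (Nat.Prime 5) := ⟨by norm_num⟩
  haveI : Fact (Nat.Prime 11) := ⟨by norm_num⟩
  by_contra hne
  have hlt : ∀ z : Perm β, (orderOf z).Prime → (fixedBy β z).ncard < 13 := fun z hz =>
    h13 ▸ ncard_fixedBy_lt_card (ne_one_of_prime hz)
  have hdvd : ∀ z : Perm β, (orderOf z).Prime → orderOf z ∣ 13 - (fixedBy β z).ncard := fun z hz =>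
    h13 ▸ dvd_card_sub_ncard_fixedBy hz
  have hJ : ∀ z ∈ G, (orderOf z).Prime → orderOf z ≤ 10 → (fixedBy β z).ncard + orderOf z ≠ 13 := by
    intro z hz hzp h10 h
    have h1 := ncard_fixedBy_perm z
    have h2 : z.support.card = orderOf z := by omega
    exact hne (CL.Perm.alternatingGroup_le_of_isPreprimitive_of_isCycle_mem hG hzp
      (by rw [← Nat.card_eq_fintype_card]; omega)
      (Perm.isCycle_of_prime_order hzp (by have := hzp.pos; omega)) h2 hz)
  by_cases h5 : 5 ∣ Nat.card G
  · have hf5 : ∀ z ∈ G, orderOf z = 5 → (fixedBy β z).ncard = 3 := by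
      intro z hz hz5
      have h1 := hlt z (hz5 ▸ Fact.out)
      have h2 := hdvd z (hz5 ▸ Fact.out)
      have h3 := hJ z hz (hz5 ▸ Fact.out) (by omega)
      rw [hz5] at h2 h3
      omega
    have h25 : ¬ 5 ^ 2 ∣ Nat.card G := by
      intro h
      obtain ⟨T, hT⟩ := Sylow.exists_subgroup_card_pow_prime 5 h
      have hTp : IsPGroup 5 T := IsPGroup.of_card hT
      have h1 := hTp.card_modEq_card_fixedPoints β
      have h2 := card_dvd_ncard_of_semiregular T (fixedPoints T β)ᶜ (by
        intro g hg a ha hga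
        apply ha
        have h3 : (⟨g, hg⟩⁻¹ : T) • g • a = g • a := hga _
        have h4 : a = g • a := by
          rw [← h3]
          exact (inv_smul_smul g a).symm
        rw [h4]
        exact hga) (by
        intro g hg a ha hga
        by_contra hg1
        obtain ⟨r, m, hr, hm⟩ := exists_prime_order_pow hg1
        obtain ⟨k, hk⟩ := exists_orderOf_eq_pow_of_mem hTp (T.pow_mem hg m)
        have hr5 : r = 5 := (Nat.prime_dvd_prime_iff_eq hr Fact.out).1
          (hr.dvd_of_dvd_pow (hm.symm.trans hk).dvd)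
        have h3 := hf5 (g ^ m : G) (g ^ m).2 (by rw [Subgroup.orderOf_coe, hm, hr5])
        have h4 : insert a (fixedPoints T β) ⊆ fixedBy β ((g ^ m : G) : Perm β) := by
          rintro b (rfl | hb)
          · have := mem_fixedBy_zpow (show b ∈ fixedBy β g from hga) m
            rwa [zpow_natCast] at this
          · exact hb ⟨g ^ m, T.pow_mem hg m⟩
        have h6 := Set.ncard_le_ncard h4
        rw [Set.ncard_insert_of_notMem ha] at h6
        rw [Nat.card_coe_set_eq, h13] at h1
        unfold Nat.ModEq at h1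
        omega)
      have h3 := Set.ncard_add_ncard_compl (fixedPoints T β)
      have h4 : (fixedPoints T β).ncard = 13 := by rw [hT] at h2; omega
      obtain ⟨z, hz, hz5⟩ := exists_mem_prime_order (H := T) Nat.prime_five (by rw [hT]; norm_num)
      have h6 := hf5 z z.2 (by rw [Subgroup.orderOf_coe, hz5])
      have h7 : fixedPoints T β ⊆ fixedBy β (z : Perm β) := fun b hb => hb ⟨z, hz⟩
      have := Set.ncard_le_ncard h7
      omega
    obtain ⟨z, hz5⟩ := exists_prime_orderOf_dvd_card' 5 h5
    have hfz : (fixedBy β z).ncard = 3 := hf5 z z.2 (by rw [Subgroup.orderOf_coe, hz5])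
    obtain ⟨a, ha⟩ : (fixedBy β z).Nonempty := (Set.ncard_pos (Set.toFinite _)).1 (by omega)
    set N := Subgroup.normalizer (Subgroup.zpowers z : Set G) with hN
    have horb : orbit N a = fixedBy β z := by
      ext b
      constructor
      · rintro ⟨n, rfl⟩
        obtain ⟨k, hk⟩ := (Subgroup.mem_normalizer_iff''.1 n.2 z).1 (Subgroup.mem_zpowers z)
        change z • (n : G) • a = (n : G) • a
        simp only at hk
        rw [← inv_smul_eq_iff, smul_smul, smul_smul, ← hk]
        exact mem_fixedBy_zpow ha k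
      · intro hb
        obtain ⟨g, hg⟩ := exists_smul_eq G a b
        have h1 : g * z * g⁻¹ ∈ stabilizer G b := by
          rw [mem_stabilizer_iff, ← hg, mul_smul, inv_smul_smul, mul_smul, show z • a = a from ha]
        obtain ⟨u, k, hk⟩ := CL.Perm.exists_conj_mem_zpowers_of_not_sq_dvd (K := stabilizer G b)
          Nat.prime_five (fun h => h25 (h.trans (Subgroup.card_subgroup_dvd_card _)))
          (x := ⟨z, hb⟩) (y := ⟨_, h1⟩) ((Subgroup.orderOf_mk _ _).trans hz5)
          (by rw [Subgroup.orderOf_mk, ← hz5]; exact (MulAut.conj g).orderOf_eq _)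
        have h2 : z ^ k = (u : G) * (g * z * g⁻¹) * (u : G)⁻¹ := congrArg Subtype.val hk
        refine ⟨⟨u * g, ?_⟩, ?_⟩
        · apply Subgroup.mem_normalizer_fintype
          rintro _ ⟨j, rfl⟩
          rw [← conj_zpow]
          refine Subgroup.zpow_mem (Subgroup.zpowers z) (Subgroup.mem_zpowers_iff.2 ⟨k, ?_⟩) j
          rw [h2]
          group
        · change ((u : G) * g) • a = b
          rw [mul_smul, hg]
          exact u.2
    obtain ⟨w, hwN, hw3⟩ := exists_mem_prime_order (H := N) Nat.prime_three (by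
      rw [← hfz, ← horb, ← index_stabilizer]
      exact Subgroup.index_dvd_card _)
    have hc : Commute w z := commute_of_conj_mem_of_coprime Fact.out hz5
      ((Subgroup.mem_normalizer_iff.1 hwN z).1 (Subgroup.mem_zpowers z)) (by rw [hw3]; norm_num)
    have h1 := ncard_fixedBy_modEq_of_commute (Ω := β) Fact.out hz5 hc
    have h2 := ncard_fixedBy_modEq_of_commute (Ω := β) Fact.out hw3 hc.symm
    have hw3' : orderOf (w : Perm β) = 3 := by rw [Subgroup.orderOf_coe, hw3]
    have h3 := hlt w (hw3' ▸ Fact.out)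
    have h4 := hdvd w (hw3' ▸ Fact.out)
    have h6 := hJ w w.2 (hw3' ▸ Fact.out) (by omega)
    have h7 := Set.ncard_inter_le_ncard_left (fixedBy β z) (fixedBy β w)
    have h8 : fixedBy β (w : Perm β) = fixedBy β w := rfl
    have h9 := Set.ncard_inter_le_ncard_right (fixedBy β z) (fixedBy β w)
    rw [Set.inter_comm] at h1
    rw [hw3', h8] at h4 h6
    rw [h8] at h3
    unfold Nat.ModEq at h1 h2
    omega
  have hf11 : ∀ u : Perm β, orderOf u = 11 → (fixedBy β u).ncard = 2 := by
    intro u hu
    have h1 := hlt u (hu ▸ Fact.out)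
    have h2 := hdvd u (hu ▸ Fact.out)
    rw [hu] at h2
    omega
  have hxc : x.IsCycle := Perm.isCycle_of_prime_order' (hx ▸ Fact.out)
    (by rw [hx, ← Nat.card_eq_fintype_card]; omega)
  have hxs : x.support.card = 11 := hxc.orderOf.symm.trans hx
  have hs : (x.support : Set β)ᶜ = fixedBy β x := by ext a; simp
  set H := fixingSubgroup G (x.support : Set β)ᶜ with hH
  haveI := Perm.isPretransitive_of_isCycle_mem hxc hxG
  have hc11 : Nat.card (SubMulAction.ofFixingSubgroup G (x.support : Set β)ᶜ) = 11 := by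
    change ((x.support : Set β)ᶜ)ᶜ.ncard = 11
    rw [compl_compl, Set.ncard_coe_finset, hxs]
  haveI hprim : IsPreprimitive H (SubMulAction.ofFixingSubgroup G (x.support : Set β)ᶜ) :=
    IsPreprimitive.of_prime_card (hc11 ▸ Fact.out)
  haveI := CL.Perm.faithfulSMul_ofFixingSubgroup (G := G) (x.support : Set β)ᶜ
  have hxH : (⟨x, hxG⟩ : G) ∈ H := (mem_fixingSubgroup_iff G).2 fun a ha => by
    rw [hs] at ha; exact ha
  have hHc : Nat.card H = 11 := by
    have h1 := CL.Perm.card_fixingSubgroup_dvd_factorial (G := G) (x.support : Set β)ᶜ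
    rw [compl_compl, Set.ncard_coe_finset, hxs] at h1
    have h2 : 11 ∣ Nat.card H := by
      have := Subgroup.orderOf_dvd_natCard H hxH
      rwa [Subgroup.orderOf_mk, hx] at this
    obtain ⟨k, hk⟩ := h2
    have hk11 : ¬ 11 ∣ k := fun h => by
      have h3 : 11 * 11 ∣ Nat.factorial 11 := (hk ▸ Nat.mul_dvd_mul_left 11 h).trans h1
      norm_num [Nat.factorial] at h3
    obtain ⟨X⟩ : Nonempty (Sylow 11 H) := inferInstance
    have hX : Nat.card X = 11 := CL.Inv.card_sylow_subgroup_eq (a := 1) (m := k) hk hk11 X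
    obtain ⟨v, hv, hXv⟩ := exists_sylow_eq_zpowers hX
    have hv' : orderOf ((v : G) : Perm β) = 11 := by rw [Subgroup.orderOf_coe, Subgroup.orderOf_coe, hv]
    have hNC : Subgroup.normalizer ((X : Subgroup H) : Set H) ≤
        Subgroup.centralizer ((X : Subgroup H) : Set H) := by
      intro n hn
      rw [centralizer_sylow_eq hXv, Subgroup.mem_centralizer_singleton_iff]
      have hn' := (sylow_smul_eq_iff n X).2 hn
      refine commute_of_conj_mem_of_coprime Fact.out hv (conj_mem_zpowers_of_smul_eq hXv hn') ?_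
      refine Nat.Coprime.mul_right (m := 2) (n := 5) ?_ ?_
      · rw [Nat.coprime_comm, Nat.Prime.coprime_iff_not_dvd Nat.prime_two]
        intro h2
        obtain ⟨t, ht, ht2⟩ := exists_mem_prime_order (H := stabilizer H X) Nat.prime_two
          (h2.trans (Subgroup.orderOf_dvd_natCard _ hn'))
        have ht2' : orderOf ((t : G) : Perm β) = 2 := by
          rw [Subgroup.orderOf_coe, Subgroup.orderOf_coe, ht2]
        have h3 := four_dvd_of_mem_alt (by omega) (hA (t : G).2) ht2'
        have h4 := hlt _ (ht2' ▸ Nat.prime_two)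
        have h6 : fixedBy β ((t : G) : Perm β) = fixedBy β t := rfl
        have h7 : (fixedBy β v).ncard = 2 := hf11 _ hv'
        have h8 : fixedBy β v ⊆ fixedBy β t := by
          have h9 : fixedBy β x ⊆ fixedBy β v := fun a ha => v.2 ⟨a, hs ▸ ha⟩
          rw [← Set.eq_of_subset_of_ncard_le h9 (by rw [h7, hf11 x hx])]
          exact fun a ha => t.2 ⟨a, hs ▸ ha⟩
        rw [h6, h13] at h3
        rw [h6] at h4
        by_cases hc : Commute t v
        · have h9 := ncard_fixedBy_modEq_of_commute (Ω := β) Fact.out hv hc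
          rw [Set.inter_eq_right.2 h8] at h9
          unfold Nat.ModEq at h9
          omega
        · have h9 := mul_ncard_fixedBy_diff_le (Ω := β) Fact.out hv
            (conj_mem_zpowers_of_smul_eq hXv ht) hc
          have h10 := Set.ncard_diff_add_ncard_of_subset h8
          omega
      · rw [Nat.coprime_comm, Nat.Prime.coprime_iff_not_dvd Nat.prime_five]
        exact fun h => h5 (h.trans ((orderOf_dvd_natCard n).trans (Subgroup.card_subgroup_dvd_card _)))
    have hK := MonoidHom.ker_transferSylow_isComplement' X hNC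
    have hKc := hK.card_mul
    by_cases hK0 : (MonoidHom.transferSylow X hNC).ker = ⊥
    · rw [hK0, Subgroup.card_bot, one_mul] at hKc
      rw [← hKc]
      exact hX
    · haveI := CL.Perm.isPretransitive_of_normal_of_ne_bot
        (α := SubMulAction.ofFixingSubgroup G (x.support : Set β)ᶜ) hK0
      obtain ⟨a⟩ : Nonempty (SubMulAction.ofFixingSubgroup G (x.support : Set β)ᶜ) :=
        (Nat.card_pos_iff.1 (by omega)).1
      have h3 := CL.Perm.card_eq_mul_card_stabilizer (G := (MonoidHom.transferSylow X hNC).ker) a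
      rw [h3, hc11, hk, show Nat.card (X : Subgroup H) = 11 from hX] at hKc
      omega
  have h2t : IsMultiplyPretransitive G β ((x.support : Set β)ᶜ.ncard) := by
    have h1 := (hG.isMultiplyPreprimitive (s := (x.support : Set β)ᶜ) (n := 1)
      (by rw [hs, hf11 x hx]) (by omega) hprim).isMultiplyPretransitive
    exact isMultiplyPretransitive_of_le' (n := 1 + 2) (by rw [hs, hf11 x hx]; omega)
      (by rw [ENat.card_eq_coe_natCard, h13]; norm_num)
  have hGc : Nat.card G = 1716 := by
    have h1 := h2t.index_of_fixingSubgroup_eq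
    rw [← H.card_mul_index, h1, hHc, hs, hf11 x hx, h13]
    norm_num [Nat.choose]
  obtain ⟨a⟩ : Nonempty β := (Nat.card_pos_iff.1 (by omega)).1
  have hM : Nat.card (stabilizer G a) = 3 ^ 1 * 44 := by
    have := CL.Perm.card_eq_mul_card_stabilizer (G := G) a
    rw [h13] at this
    omega
  obtain ⟨W⟩ : Nonempty (Sylow 3 (stabilizer G a)) := inferInstance
  obtain ⟨w, hw, hWw⟩ := exists_sylow_eq_zpowers (CL.Inv.card_sylow_subgroup_eq hM (by norm_num) W)
  obtain ⟨u, hu, hu11⟩ := exists_mem_prime_order (H := stabilizer (stabilizer G a) W)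
    (Fact.out : Nat.Prime 11) (by
      have h1 := (stabilizer (stabilizer G a) W).card_mul_index
      rw [index_stabilizer_of_transitive, hM] at h1
      refine ((Nat.Prime.dvd_mul Fact.out).1 (by rw [h1]; norm_num)).resolve_right fun h => ?_
      have h2 := CL.Inv.card_sylow_dvd_of_card hM (by norm_num)
      have h3 := card_sylow_modEq_one 3 (stabilizer G a)
      have h4 := Cfsg.Agent.S4346.result (G := stabilizer G a)
      have h6 := Nat.le_of_dvd (by norm_num) h2
      unfold Nat.ModEq at h3
      omega)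
  have hc : Commute u w := commute_of_conj_mem_of_coprime Fact.out hw
    (conj_mem_zpowers_of_smul_eq hWw hu) (by rw [hu11]; norm_num)
  have h1 := ncard_fixedBy_modEq_of_commute (Ω := β) Fact.out hw hc
  have h2 := ncard_fixedBy_modEq_of_commute (Ω := β) Fact.out hu11 hc.symm
  have hw' : orderOf ((w : G) : Perm β) = 3 := by rw [Subgroup.orderOf_coe, Subgroup.orderOf_coe, hw]
  have h3 : (fixedBy β w).ncard < 13 := hlt _ (hw' ▸ Fact.out)
  have h4 : orderOf ((w : G) : Perm β) ∣ 13 - (fixedBy β w).ncard := hdvd _ (hw' ▸ Fact.out)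
  have h6 : (fixedBy β u).ncard = 2 := hf11 ((u : G) : Perm β)
    (by rw [Subgroup.orderOf_coe, Subgroup.orderOf_coe, hu11])
  have h7 := Set.ncard_inter_le_ncard_left (fixedBy β u) (fixedBy β w)
  rw [Set.inter_comm] at h2
  rw [hw'] at h4
  unfold Nat.ModEq at h1 h2
  omega

theorem closure_eq_top {x y : alternatingGroup β} {p q : ℕ} (hp : p.Prime) (hq : q.Prime)
    (hx : orderOf x = p) (hy : orderOf y = q) (hpq : p < q) (h2 : Nat.card β ≤ 2 * p)
    (hcov : ∀ a, (x : Perm β) a ≠ a ∨ (y : Perm β) a ≠ a)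
    (h : (Nat.card β < 2 * p ∧ (p + 3 ≤ Nat.card β ∨ p = 3)) ∨ q + 3 ≤ Nat.card β ∨
      (p = 5 ∧ q = 7 ∧ Nat.card β = 7) ∨ (p = 11 ∧ Nat.card β = 13)) :
    Subgroup.closure ({x, y} : Set (alternatingGroup β)) = ⊤ := by
  set H := Subgroup.closure ({x, y} : Set (alternatingGroup β)) with hH
  have hxH : x ∈ H := Subgroup.subset_closure (by simp)
  have hyH : y ∈ H := Subgroup.subset_closure (by simp)
  have hxG : (x : Perm β) ∈ H.map (alternatingGroup β).subtype := ⟨x, hxH, rfl⟩
  have hyG : (y : Perm β) ∈ H.map (alternatingGroup β).subtype := ⟨y, hyH, rfl⟩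
  have hx' : orderOf (x : Perm β) = p := by rw [Subgroup.orderOf_coe, hx]
  have hy' : orderOf (y : Perm β) = q := by rw [Subgroup.orderOf_coe, hy]
  have hG := prim hp hq hx' hy' (by omega) (by omega) hcov hxG hyG
  have key : alternatingGroup β ≤ H.map (alternatingGroup β).subtype → H = ⊤ := fun h => by
    rw [eq_top_iff]
    intro g _
    obtain ⟨g', hg', e⟩ := h g.2
    exact Subtype.ext e ▸ hg'
  rcases h with ⟨h1, h3⟩ | h | ⟨rfl, rfl, h⟩ | ⟨rfl, h⟩
  · have hxc : (x : Perm β).IsCycle := Perm.isCycle_of_prime_order' (hx' ▸ hp)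
      (by rwa [hx', ← Nat.card_eq_fintype_card])
    have hxs := hxc.orderOf.symm.trans hx'
    rcases h3 with h3 | rfl
    · exact key (CL.Perm.alternatingGroup_le_of_isPreprimitive_of_isCycle_mem hG hp
        (by rwa [← Nat.card_eq_fintype_card]) hxc hxs hxG)
    · exact key (Perm.alternatingGroup_le_of_isPreprimitive_of_isThreeCycle_mem hG
        (card_support_eq_three_iff.1 hxs) hxG)
  · have hyc : (y : Perm β).IsCycle := Perm.isCycle_of_prime_order' (hy' ▸ hq)
      (by rw [hy', ← Nat.card_eq_fintype_card]; omega)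
    exact key (CL.Perm.alternatingGroup_le_of_isPreprimitive_of_isCycle_mem hG hq
      (by rwa [← Nat.card_eq_fintype_card]) hyc (hyc.orderOf.symm.trans hy') hyG)
  · refine eq_top_seven h H (Nat.Coprime.mul_dvd_of_dvd_of_dvd (m := 5) (n := 7) (by norm_num) ?_ ?_)
    · exact hx ▸ Subgroup.orderOf_dvd_natCard _ hxH
    · exact hy ▸ Subgroup.orderOf_dvd_natCard _ hyH
  · exact key (alt_le_thirteen h hG (Subgroup.map_subtype_le _) hx' hxG)

end

theorem main (m p q : ℕ) (hp : p.Prime) (hq : q.Prime) (hpq : p < q) (h5 : 5 ≤ q) (hm : m ≤ 2 * p)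
    (h : ∀ d, q ≤ d → d ≤ m → (d < 2 * p ∧ (p + 3 ≤ d ∨ p = 3)) ∨ q + 3 ≤ d ∨
      (p = 5 ∧ q = 7 ∧ d = 7) ∨ (p = 11 ∧ d = 13))
    (x y : alternatingGroup (Fin m)) (hx : orderOf x = p) (hy : orderOf y = q) :
    ∃ d : ℕ, 5 ≤ d ∧ Nonempty (Subgroup.closure ({x, y} : Set (alternatingGroup (Fin m))) ≃*
      alternatingGroup (Fin d)) := by
  let s : Finset (Fin m) := (x : Perm (Fin m)).support ∪ (y : Perm (Fin m)).support
  obtain ⟨x', hx'⟩ := (alternatingGroup.mem_range_ofSubtype_iff s x).2 Finset.subset_union_left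
  obtain ⟨y', hy'⟩ := (alternatingGroup.mem_range_ofSubtype_iff s y).2 Finset.subset_union_right
  have hinj := alternatingGroup.ofSubtype_injective (s := s)
  have hd : Nat.card s ≤ m := by
    simpa using Nat.card_le_card_of_injective (Subtype.val : s → Fin m) Subtype.val_injective
  have hqd : q ≤ Nat.card s := by
    have hy'' : orderOf (y : Perm (Fin m)) = q := by rw [Subgroup.orderOf_coe, hy]
    have hyc : (y : Perm (Fin m)).IsCycle := Perm.isCycle_of_prime_order' (hy'' ▸ hq)
      (by rw [hy'', Fintype.card_fin]; omega)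
    rw [← hy'', hyc.orderOf, Nat.card_eq_fintype_card, Fintype.card_coe]
    exact Finset.card_le_card Finset.subset_union_right
  have htop := closure_eq_top (x := x') (y := y') hp hq
    (by rw [← orderOf_injective _ hinj, hx', hx]) (by rw [← orderOf_injective _ hinj, hy', hy]) hpq
    (by omega) (fun a => by
      have h1 : (x : Perm (Fin m)) a = (x' : Perm s) a := by
        rw [← hx', alternatingGroup.coe_ofSubtype, Perm.ofSubtype_apply_coe]
      have h2 : (y : Perm (Fin m)) a = (y' : Perm s) a := by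
        rw [← hy', alternatingGroup.coe_ofSubtype, Perm.ofSubtype_apply_coe]
      rcases Finset.mem_union.1 a.2 with ha | ha
      · exact Or.inl fun e => Perm.mem_support.1 ha (by rw [h1, e])
      · exact Or.inr fun e => Perm.mem_support.1 ha (by rw [h2, e])) (h _ hqd hd)
  have heq : Subgroup.closure ({x, y} : Set (alternatingGroup (Fin m))) =
      (alternatingGroup.ofSubtype s).range := by
    rw [MonoidHom.range_eq_map, ← htop, MonoidHom.map_closure, Set.image_pair, hx', hy']
  exact ⟨Nat.card s, by omega, ⟨(MulEquiv.subgroupCongr heq).trans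
    ((MonoidHom.ofInjective hinj).symm.trans (Finite.equivFin s).altCongrHom)⟩⟩

/-- Let m ≥ 5. Then there are primes p < q with m/2 ≤ p and q ≤ m such that any two elements x, y of the alternating group of degree m with x of order p and y of order q generate a subgroup isomorphic to an alternating group of some degree d ≥ 5. -/
theorem result (m : ℕ) (hm : 5 ≤ m) :
    ∃ p q : ℕ, p.Prime ∧ q.Prime ∧ m ≤ 2 * p ∧ p < q ∧ q ≤ m ∧
      ∀ x y : alternatingGroup (Fin m), orderOf x = p → orderOf y = q →
        ∃ d : ℕ, 5 ≤ d ∧ Nonempty (Subgroup.closure ({x, y} : Set (alternatingGroup (Fin m))) ≃* alternatingGroup (Fin d)) := by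
  by_cases h6 : m = 6
  · subst h6
    refine ⟨3, 5, by norm_num, by norm_num, by norm_num, by norm_num, by norm_num, fun x y hx hy => ?_⟩
    rcases iso_six (by simp) (Subgroup.closure ({x, y} : Set (alternatingGroup (Fin 6))))
      (Nat.Coprime.mul_dvd_of_dvd_of_dvd (m := 3) (n := 5) (by norm_num)
        (hx ▸ Subgroup.orderOf_dvd_natCard _ (Subgroup.subset_closure (by simp)))
        (hy ▸ Subgroup.orderOf_dvd_natCard _ (Subgroup.subset_closure (by simp)))) with h | h
    · exact ⟨6, by norm_num, ⟨(MulEquiv.subgroupCongr h).trans Subgroup.topEquiv⟩⟩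
    · exact ⟨5, le_rfl, h⟩
  by_cases h5 : m = 5
  · exact ⟨3, 5, by norm_num, by norm_num, by omega, by norm_num, by omega,
      main m 3 5 (by norm_num) (by norm_num) (by norm_num) le_rfl (by omega) (by omega)⟩
  by_cases h10 : m ≤ 10
  · exact ⟨5, 7, by norm_num, by norm_num, by omega, by norm_num, by omega,
      main m 5 7 (by norm_num) (by norm_num) (by norm_num) (by norm_num) (by omega) (by omega)⟩
  by_cases h14 : m ≤ 14
  · exact ⟨7, 11, by norm_num, by norm_num, by omega, by norm_num, by omega,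
      main m 7 11 (by norm_num) (by norm_num) (by norm_num) (by norm_num) (by omega) (by omega)⟩
  by_cases h16 : m ≤ 16
  · exact ⟨11, 13, by norm_num, by norm_num, by omega, by norm_num, by omega,
      main m 11 13 (by norm_num) (by norm_num) (by norm_num) (by norm_num) (by omega) (by omega)⟩
  obtain ⟨p, q, hp, hq, h1, h2, h3⟩ := exists_two_primes_gap m (by omega)
  exact ⟨p, q, hp, hq, by omega, by omega, h3,
    main m p q hp hq (by omega) (by omega) (by omega) (by omega)⟩

end Cfsg.Agent.S4150
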