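import Cfsg.Statements.S4155
import Cfsg.Agent.Fgs.ClassGraph
import Cfsg.Agent.S4107
import Cfsg.Agent.Grp.FrobCompl

set_option autoImplicit false
open Cfsg

namespace Cfsg.Agent.S4155

open CL.Fgs CL.Grp Subgroup


/-- Let G be a finite group and N a proper non-trivial normal nilpotent subgroup whose order is not a prime power, such that for every x outside N all elements of the coset xN have the same order as x. Then N is the Fitting subgroup of G, and for every prime q every Sylow q-subgroup of G/N is cyclic or generalized quaternion. -/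
theorem result {G : Type*} [Group G] [Finite G] (N : Subgroup G) [N.Normal] (hN1 : N ≠ ⊥) (hN2 : N ≠ ⊤)
    (heq : ∀ x : G, x ∉ N → ∀ n ∈ N, orderOf (x * n) = orderOf x)
    (hnil : Group.IsNilpotent N) (hnpp : ¬ IsPrimePow (Nat.card N)) :
    N = Cfsg.fittingSubgroup G ∧
    ∀ (q : ℕ) [Fact q.Prime] (Q : Sylow q (G ⧸ N)), IsCyclic (Q : Subgroup (G ⧸ N)) ∨ ∃ n : ℕ, Nonempty ((Q : Subgroup (G ⧸ N)) ≃* QuaternionGroup (2 ^ n)) := by
  have hcard : Nat.card N ≠ 1 := fun e => hN1 (card_eq_one.1 e)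
  have hpp : ∀ (q : ℕ) [Fact q.Prime], ¬ IsPGroup q N := fun q hq h => by
    obtain ⟨k, hk⟩ := h.exists_card_eq
    refine hnpp ((isPrimePow_nat_iff _).2 ⟨q, k, hq.out, Nat.pos_of_ne_zero fun e => hcard ?_, hk.symm⟩)
    rw [hk, e, pow_zero]
  refine ⟨?_, fun q hq Q => ?_⟩
  · by_contra hne
    obtain ⟨p, k, hp, -, e⟩ := (isPrimePow_nat_iff _).1 ((Cfsg.Agent.S4107.result N hN1 hN2 heq).2
      (lt_of_le_of_ne (le_fittingSubgroup hnil) hne))
    haveI := Fact.mk hp
    exact hpp p ((IsPGroup.of_card e.symm).to_le (le_fittingSubgroup hnil))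
  obtain ⟨p, hp, hpd, hpq⟩ : ∃ p : ℕ, p.Prime ∧ p ∣ Nat.card N ∧ p ≠ q := by
    by_contra hc
    push Not at hc
    obtain ⟨k, hk⟩ := (isPiNum_singleton_iff hq.out Nat.card_pos.ne').1 fun r hr hd => hc r hr hd
    exact hpp q (IsPGroup.of_card hk)
  haveI := Fact.mk hp
  set M := pCoreOf q N with hM
  set K := pCoreOf p N with hK
  have hKM : K ⊓ M = ⊥ := (IsPGroup.disjoint_of_ne p q hpq K M (pCoreOf_isPGroup p N)
    (pCoreOf_isPGroup q N)).eq_bot
  have hK0 : K ≠ ⊥ := fun e => by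
    have := not_dvd_relIndex_pCoreOf_of_isNilpotent hnil p
    rw [← hK, e, relIndex_bot_left] at this
    exact this hpd
  obtain ⟨S, hS⟩ := Sylow.mapSurjective_surjective (QuotientGroup.mk'_surjective N) q Q
  have hS' : (S : Subgroup G).map (QuotientGroup.mk' N) = Q := by rw [← hS]; rfl
  have hSM : ∀ s ∈ (S : Subgroup G), s ∈ N → s ∈ M := fun s hs hsN =>
    le_pCoreOf_of_isNilpotent hnil (S.isPGroup'.to_le inf_le_left) inf_le_right (mem_inf.2 ⟨hs, hsN⟩)
  haveI := (inferInstance : K.Normal).map _ (QuotientGroup.mk'_surjective M)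
  have h1 : PQCyclic ((S : Subgroup G).map (QuotientGroup.mk' M)) := by
    refine pqCyclic_of_fpf (K := K.map (QuotientGroup.mk' M)) (fun e => hK0 ?_)
      le_normalizer_of_normal ?_
    · rw [Subgroup.map_eq_bot_iff, QuotientGroup.ker_mk'] at e
      rw [← hKM, inf_eq_left.2 e]
    rintro _ ⟨s, hs, rfl⟩ hs1
    refine eq_bot_iff.2 ?_
    rintro _ ⟨⟨k, hk, rfl⟩, hc⟩
    have hsN : s ∉ N := fun e => hs1 ((QuotientGroup.eq_one_iff s).2 (hSM s hs e))
    have h2 : k * s * k⁻¹ * s⁻¹ ∈ K ⊓ M := ⟨comm_mem_of_normal hk s, by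
      show _ ∈ M
      rw [← QuotientGroup.eq_one_iff]
      have := mem_cent_iff_conj.1 hc
      simp only [QuotientGroup.mk'_apply] at this
      simp only [QuotientGroup.mk_mul, QuotientGroup.mk_inv, this, mul_inv_cancel]⟩
    rw [hKM, mem_bot] at h2
    have h3 : Commute s k := by
      calc s * k = (k * s * k⁻¹ * s⁻¹) * (s * k) := by rw [h2, one_mul]
        _ = _ := by group
    have h4 := heq s hsN k (pCoreOf_le p N hk)
    rw [h3.orderOf_mul_eq_mul_orderOf_of_coprime ((isPiElt_singleton_of_mem S.isPGroup' hs).coprime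
      ((isPiElt_singleton_of_mem (pCoreOf_isPGroup p N) hk).mono
        (Set.singleton_subset_iff.2 hpq))), mul_eq_left₀ (orderOf_pos s).ne', orderOf_eq_one_iff] at h4
    rw [h4, map_one]; exact one_mem _
  let f : G ⧸ M →* G ⧸ N := QuotientGroup.map M N (MonoidHom.id G) (pCoreOf_le q N)
  let g : (S : Subgroup G).map (QuotientGroup.mk' M) →* (Q : Subgroup (G ⧸ N)) :=
    (f.comp (Subgroup.subtype _)).codRestrict _ (by
      rintro ⟨_, s, hs, rfl⟩
      rw [← hS']; exact ⟨s, hs, rfl⟩)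
  have hg : Function.Bijective g := by
    constructor
    · rw [injective_iff_map_eq_one]
      rintro ⟨_, s, hs, rfl⟩ e
      exact Subtype.ext ((QuotientGroup.eq_one_iff s).2 (hSM s hs
        ((QuotientGroup.eq_one_iff s).1 (congrArg Subtype.val e))))
    · rintro ⟨y, hy⟩
      have hy' := hy
      rw [← hS'] at hy'
      obtain ⟨s, hs, rfl⟩ := hy'
      exact ⟨⟨_, s, hs, rfl⟩, rfl⟩
  have h2 := h1.of_injective (MulEquiv.ofBijective g hg).symm.toMonoidHom
    (MulEquiv.ofBijective g hg).symm.injective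
  rcases isCyclic_or_nonempty_quaternion_of_unique Q.isPGroup'
    (h2.eq_of_card_eq_prime Q.isPGroup') with h | ⟨-, k, h⟩
  · exact Or.inl h
  · exact Or.inr ⟨_, h⟩

end Cfsg.Agent.S4155
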