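import Cfsg.Statements.S4161
import Cfsg.Agent.Fgs.ClassDiam

set_option autoImplicit false
open Cfsg

namespace Cfsg.Agent.S4161

/-- Let G be a finite non-solvable group and p ≠ q primes each dividing the size of some conjugacy class of G. Then either some class size is divisible by pq, or there is a prime r, different from p and q, such that some class size is divisible by pr and some class size is divisible by rq. -/
theorem result {G : Type*} [Group G] [Finite G] (hG : ¬ Group.IsSolvable G)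
    (p q : ℕ) (hp : p.Prime) (hq : q.Prime) (hpq : p ≠ q) (hp' : ∃ x : G, p ∣ (Subgroup.centralizer ({x} : Set G)).index) (hq' : ∃ x : G, q ∣ (Subgroup.centralizer ({x} : Set G)).index) :
    (∃ x : G, p * q ∣ (Subgroup.centralizer ({x} : Set G)).index) ∨ ∃ r : ℕ, r.Prime ∧ r ≠ p ∧ r ≠ q ∧ (∃ x : G, p * r ∣ (Subgroup.centralizer ({x} : Set G)).index) ∧ (∃ y : G, r * q ∣ (Subgroup.centralizer ({y} : Set G)).index) := by
  haveI := Fact.mk hp
  haveI := Fact.mk hq
  by_contra h
  push Not at h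
  refine hG (CL.Fgs.Diam.Far.solvable ⟨hpq, hp', hq', fun x y hx hy => by_contra fun hc => ?_⟩)
  obtain ⟨r, hr, h1, h2⟩ := CL.Fgs.exists_prime_dvd_of_not_coprime hc
  by_cases e1 : r = p
  · exact h.1 y ((CL.Fgs.eq_or_mul_dvd hp hq (e1 ▸ h2) hy).resolve_left hpq)
  by_cases e2 : r = q
  · exact h.1 x ((CL.Fgs.eq_or_mul_dvd hp hq hx (e2 ▸ h1)).resolve_left hpq)
  exact h.2 r hr e1 e2 ⟨x, (CL.Fgs.eq_or_mul_dvd hp hr hx h1).resolve_left (Ne.symm e1)⟩ y
    ((CL.Fgs.eq_or_mul_dvd hr hq h2 hy).resolve_left e2)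

end Cfsg.Agent.S4161
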