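import Cfsg.Statements.S4162
import Cfsg.Agent.AH.Fin
import Cfsg.Agent.AH.PSq
import Cfsg.Agent.AH.Red
import Cfsg.Agent.AH.Str
import Cfsg.Agent.AH.Bot
import Cfsg.Agent.AH.C36
import Cfsg.Agent.AH.C6b
import Cfsg.Agent.AH.SN
import Cfsg.Agent.AH.C2
import Cfsg.Agent.AH.Sum

set_option autoImplicit false
open Cfsg

namespace Cfsg.Agent.S4162

/-- Let G be a non-trivial finite solvable group in which distinct conjugacy classes have distinct sizes. Then G is isomorphic to the symmetric group of degree 3. -/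
theorem result {G : Type*} [Group G] [Finite G] [Nontrivial G] (hG : Group.IsSolvable G)
    (h : Function.Injective fun C : ConjClasses G => Nat.card C.carrier) : Nonempty (G ≃* Equiv.Perm (Fin 3)) := by
  exact CL.AH.final CL.AH.psq CL.AH.red CL.AH.str CL.AH.s8 CL.AH.bot CL.AH.c3 CL.AH.c6a
    (CL.AH.c6b CL.AH.sn CL.AH.cp) CL.AH.c2 CL.AH.sum1 CL.AH.sum2 CL.AH.sum3 CL.AH.sum4 hG h

end Cfsg.Agent.S4162
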