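import Cfsg.Statements.S4187
import Cfsg.Agent.Fgs.RealSyl2

set_option autoImplicit false
open Cfsg

namespace Cfsg.Agent.S4187

open CL.Fgs CL.Fgs.RealSyl Subgroup

theorem core {G : Type*} [Group G] [Finite G] {π₁ π₂ : Set ℕ} (h2 : 2 ∈ π₁) {p : ℕ} (hp : p ∈ π₂)
    {z : G} (hz : IsConj z z⁻¹) (hpz : p ∣ cs(z))
    (hcover : ∀ (q : ℕ) (x : G), q.Prime → IsConj x x⁻¹ → q ∣ cs(x) → q ∈ π₁ ∨ q ∈ π₂)
    (hno : ∀ a ∈ π₁, ∀ b ∈ π₂, ∀ x : G, IsConj x x⁻¹ → ¬ (a ∣ cs(x) ∧ b ∣ cs(x))) :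
    (∃ S : Sylow 2 G, cent(z) ≤ normalizer ((S : Subgroup G) : Set G)) ∧
    (∀ q : ℕ, q.Prime → q ∣ Nat.card (Sylow 2 G) → q ∈ π₂) ∧ Group.IsSolvable G := by
  obtain ⟨S, hS⟩ := cent_le_normalizer (hno 2 h2 p hp) hz hpz
  have h3 : ∀ q : ℕ, q.Prime → q ∣ Nat.card (Sylow 2 G) → q ∈ π₂ := by
    intro q hq hd
    rw [S.card_eq_index_normalizer] at hd
    have h4 := hd.trans (index_dvd_of_le hS)
    exact (hcover q z hq hz h4).resolve_left fun h => hno q h p hp z hz ⟨h4, hpz⟩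
  refine ⟨⟨S, hS⟩, h3, isSolvable_of_cop fun y ho hr => ?_⟩
  by_cases y1 : y = 1
  · rw [y1, cs_one]; exact Nat.coprime_one_left _
  · exact Nat.coprime_of_dvd fun q hq h5 h6 =>
      hno 2 h2 q (h3 q hq h6) y hr ⟨even_cs y1 ho hr, h5⟩


/-- Let G be a finite group. Call an element real when it is conjugate to its inverse, and consider the graph whose vertices are the primes dividing the size of some conjugacy class of real elements, two distinct primes being adjacent when their product divides such a class size. If this graph is disconnected — its vertex set splits into two non-empty parts such that no real class size is divisible by a prime from each part — then G is solvable. -/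
theorem result {G : Type*} [Group G] [Finite G] (π₁ π₂ : Set ℕ) (h₁ : π₁.Nonempty) (h₂ : π₂.Nonempty) (hcover : ∀ q : ℕ, q.Prime → (∃ n ∈ {n : ℕ | ∃ x : G, IsConj x x⁻¹ ∧ (Subgroup.centralizer ({x} : Set G)).index = n}, q ∣ n) → q ∈ π₁ ∨ q ∈ π₂) (hsub : ∀ q ∈ π₁ ∪ π₂, q.Prime ∧ ∃ n ∈ {n : ℕ | ∃ x : G, IsConj x x⁻¹ ∧ (Subgroup.centralizer ({x} : Set G)).index = n}, q ∣ n) (hdisj : Disjoint π₁ π₂) (hnoedge : ∀ a ∈ π₁, ∀ b ∈ π₂, ∀ n ∈ {n : ℕ | ∃ x : G, IsConj x x⁻¹ ∧ (Subgroup.centralizer ({x} : Set G)).index = n}, ¬ (a ∣ n ∧ b ∣ n)) : Group.IsSolvable G := by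
  obtain ⟨S⟩ : Nonempty (Sylow 2 G) := inferInstance
  by_cases hS : (S : Subgroup G).Normal
  · exact isSolvable_of_normal_sylow S
  obtain ⟨y, y1, ho, hr⟩ : ∃ y : G, y ≠ 1 ∧ Odd (orderOf y) ∧ IsConj y y⁻¹ := by
    by_contra hc
    exact hS ((Cfsg.Agent.S3861.result S).1 fun x h1 h2 h3 => hc ⟨x, h1, h2, h3⟩)
  have hc : ∀ (q : ℕ) (x : G), q.Prime → IsConj x x⁻¹ → q ∣ cs(x) → q ∈ π₁ ∨ q ∈ π₂ :=
    fun q x hq hx hd => hcover q hq ⟨_, ⟨x, hx, rfl⟩, hd⟩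
  have hno : ∀ a ∈ π₁, ∀ b ∈ π₂, ∀ x : G, IsConj x x⁻¹ → ¬ (a ∣ cs(x) ∧ b ∣ cs(x)) :=
    fun a ha b hb x hx => hnoedge a ha b hb _ ⟨x, hx, rfl⟩
  rcases hc 2 y Nat.prime_two hr (even_cs y1 ho hr) with h2 | h2
  · obtain ⟨p, hp⟩ := h₂
    obtain ⟨-, _, ⟨z, hz, rfl⟩, hpz⟩ := hsub p (Or.inr hp)
    exact (core h2 hp hz hpz hc hno).2.2
  · obtain ⟨p, hp⟩ := h₁
    obtain ⟨-, _, ⟨z, hz, rfl⟩, hpz⟩ := hsub p (Or.inl hp)
    exact (core h2 hp hz hpz (fun q x hq hx hd => (hc q x hq hx hd).symm)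
      (fun a ha b hb x hx h => hno b hb a ha x hx h.symm)).2.2

end Cfsg.Agent.S4187
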