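import Cfsg.Statements.S4192
import Cfsg.Agent.S4187
import Cfsg.Agent.S3863

set_option autoImplicit false
open Cfsg

namespace Cfsg.Agent.S4192

open CL.Fgs CL.Fgs.RealSyl Subgroup

theorem even_of_coprime {G : Type*} [Group G] [Finite G] {v w g : G} (hw : w * w = 1)
    (hc : Commute w (g * w * g⁻¹)) (hg : g * w * g⁻¹ ≠ w)
    (h1 : (cs(v)).Coprime cs(w)) (h2 : (cs(v * w)).Coprime cs(w)) : 2 ∣ cs(v) := by
  classical
  by_contra hodd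
  haveI := Fintype.ofFinite G
  have hw' : g * w * g⁻¹ * (g * w * g⁻¹) = 1 := by rw [conj_mul, hw]; simp
  have hd : w * (g * w * g⁻¹) * (w * (g * w * g⁻¹)) = 1 := by
    rw [hc.symm.mul_mul_mul_comm, hw, hw', one_mul]
  let φ : {y : G // IsConj v y} → {y : G // IsConj v y} := fun y =>
    ⟨y.1 * (w * (g * w * g⁻¹)), by
      obtain ⟨a, ha⟩ := isConj_iff.1 y.2
      obtain ⟨b, hb⟩ := isConj_iff.1 (isConj_mul_of_coprime_cs h1 a 1)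
      have := isConj_mul_of_coprime_cs h2 b g
      rwa [hb, ha, mul_assoc v, hw, mul_one, one_mul, inv_one, mul_one, mul_assoc y.1] at this⟩
  have hφ : Function.Involutive φ := fun y => Subtype.ext (by
    simp only [φ]; rw [mul_assoc, hd, mul_one])
  obtain ⟨y, hy⟩ := Equiv.Perm.exists_fixed_point_of_prime (p := 2) (n := 1)
    (σ := hφ.toPerm) (by rwa [← Nat.card_eq_fintype_card, card_isConj])
    (by ext y; simp [sq, hφ y])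
  have h3 : y.1 * (w * (g * w * g⁻¹)) = y.1 := congrArg Subtype.val hy
  rw [mul_eq_left] at h3
  exact hg (by rw [← inv_eq_of_mul_eq_one_right h3, inv_eq_of_mul_eq_one_right hw])

theorem exists_even {G : Type*} [Group G] [Finite G] {π₁ π₂ : Set ℕ} {p₁ p₂ : ℕ} (hp₁ : p₁ ∈ π₁)
    (hp₂ : p₂ ∈ π₂) (pp₁ : p₁.Prime) (pp₂ : p₂.Prime) {v w : G} (hv : IsConj v v⁻¹)
    (hw : IsConj w w⁻¹) (hpv : p₁ ∣ cs(v)) (hpw : p₂ ∣ cs(w))
    (hcover : ∀ (q : ℕ) (x : G), q.Prime → IsConj x x⁻¹ → q ∣ cs(x) → q ∈ π₁ ∨ q ∈ π₂)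
    (hno : ∀ a ∈ π₁, ∀ b ∈ π₂, ∀ x : G, IsConj x x⁻¹ → ¬ (a ∣ cs(x) ∧ b ∣ cs(x))) :
    ∃ x : G, IsConj x x⁻¹ ∧ 2 ∣ cs(x) := by
  by_contra hc
  have h1 : ∀ x : G, IsConj x x⁻¹ → ¬ 2 ∣ cs(x) := fun x hx h => hc ⟨x, hx, h⟩
  have h2 : ∀ x : G, IsConj x x⁻¹ → x * x = 1 := fun x hx => by
    have := h1 x hx
    rw [← sq, sq_eq_one_of_real_of_odd_cs hx (Nat.odd_iff.2 (by omega))]
  have h2' : ∀ x : G, x * x = 1 → IsConj x x⁻¹ := fun x hx => by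
    rw [inv_eq_of_mul_eq_one_right hx]
  obtain ⟨S⟩ : Nonempty (Sylow 2 G) := inferInstance
  haveI := Sylow.unique_of_normal S
    ((Cfsg.Agent.S3861.result S).1 fun x x1 xo xr => h1 x xr (even_cs x1 xo xr))
  have h3 : ∀ x y : G, x * x = 1 → y * y = 1 → Commute x y := fun x y hx hy => by
    obtain ⟨P, hP⟩ := exists_sylow_le_of_not_dvd_index (h1 y (h2' y hy))
    obtain ⟨Q, hQ⟩ := (isPiElt_two_of_sq (x := x) (by rwa [sq])).exists_mem_sylow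
    exact mem_cent.1 (hP (Subsingleton.elim Q P ▸ hQ))
  have key : ∀ x y : G, x * x = 1 → y * y = 1 → 1 < cs(y) → (cs(x)).Coprime cs(y) →
      ¬ (cs(x * y)).Coprime cs(y) := fun x y hx hy h4 h5 h6 => by
    obtain ⟨g, hg⟩ : ∃ g : G, g * y * g⁻¹ ≠ y := by
      by_contra hg
      push Not at hg
      rw [cs_eq_one_iff.2 (mem_center_iff.2 fun g => by rw [← mul_inv_eq_iff_eq_mul, hg])] at h4
      exact lt_irrefl _ h4
    exact h1 x (h2' x hx) (even_of_coprime hy (h3 _ _ hy (by rw [conj_mul, hy]; simp)) hg h5 h6)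
  have hv1 : ∀ q : ℕ, q.Prime → q ∣ cs(v) → q ∈ π₁ := fun q hq hd =>
    (hcover q v hq hv hd).resolve_right fun h => hno _ hp₁ q h v hv ⟨hpv, hd⟩
  have hw1 : ∀ q : ℕ, q.Prime → q ∣ cs(w) → q ∈ π₂ := fun q hq hd =>
    (hcover q w hq hw hd).resolve_left fun h => hno q h _ hp₂ w hw ⟨hd, hpw⟩
  have hco : (cs(v)).Coprime cs(w) := Nat.coprime_of_dvd fun q hq h4 h5 =>
    hno q (hv1 q hq h4) _ hp₂ w hw ⟨h5, hpw⟩
  have hvw := h3 v w (h2 v hv) (h2 w hw)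
  obtain ⟨q, hq, h4, h5⟩ := Nat.Prime.not_coprime_iff_dvd.1 (key v w (h2 v hv) (h2 w hw)
    (pp₂.one_lt.trans_le (Nat.le_of_dvd (cs_pos w) hpw)) hco)
  obtain ⟨r, hr, h6, h7⟩ := Nat.Prime.not_coprime_iff_dvd.1 (key w v (h2 w hw) (h2 v hv)
    (pp₁.one_lt.trans_le (Nat.le_of_dvd (cs_pos v) hpv)) hco.symm)
  rw [← hvw.eq] at h6
  exact hno r (hv1 r hr h7) q (hw1 q hq h5) (v * w) (h2' _ (by
    rw [hvw.symm.mul_mul_mul_comm, h2 v hv, h2 w hw, one_mul])) ⟨h6, h4⟩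

theorem core2 {G : Type*} [Group G] [Finite G] {π₁ π₂ : Set ℕ} (h2 : 2 ∈ π₁) {p : ℕ} (hp : p ∈ π₂)
    {z : G} (hz : IsConj z z⁻¹) (hpz : p ∣ cs(z))
    (hcover : ∀ (q : ℕ) (x : G), q.Prime → IsConj x x⁻¹ → q ∣ cs(x) → q ∈ π₁ ∨ q ∈ π₂)
    (hno : ∀ a ∈ π₁, ∀ b ∈ π₂, ∀ x : G, IsConj x x⁻¹ → ¬ (a ∣ cs(x) ∧ b ∣ cs(x)))
    (hS : ¬ ∀ P : Sylow 2 G, (P : Subgroup G).Normal) :
    (∀ x : CL.Char.rppGen 2 G, IsConj x x⁻¹ → ∀ q : ℕ, q.Prime → q ∣ cs(x) → 2 ∣ cs(x) → q = 2) ∧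
    ∃ (q : ℕ) (x : CL.Char.rppGen 2 G), q.Prime ∧ q ≠ 2 ∧ IsConj x x⁻¹ ∧ q ∣ cs(x) := by
  obtain ⟨⟨S, h3⟩, h4, hsol⟩ := Cfsg.Agent.S4187.core h2 hp hz hpz hcover hno
  constructor
  · intro x hx q hq hd he
    by_contra hq2
    haveI := Fact.mk hq
    obtain ⟨y, y1, yq, yr⟩ := exists_real_of_prime hq hq2 (CL.Char.rppGen 2 G) inferInstance
      (fun M hM ho => by
        have h5 : CL.Char.rppGen 2 G ≤ M.map (CL.Char.rppGen 2 G).subtype := by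
          refine (closure_le _).2 fun g ⟨k, hk⟩ => ?_
          refine ⟨⟨g, subset_closure ⟨k, hk⟩⟩, ?_, rfl⟩
          exact CL.Char.rpp_mem_of_not_dvd_index Nat.prime_two (k := k)
            (by rwa [← even_iff_two_dvd, Nat.not_even_iff_odd]) (by rw [← hk, orderOf_mk])
        rw [eq_top_iff]
        intro w _
        obtain ⟨w', h6, h7⟩ := h5 w.2
        exact (Subtype.ext h7 : w' = w) ▸ h6) (hd.trans (cs_dvd_card x))
    have h5 : q ∣ Nat.card (Sylow 2 G) := by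
      by_contra h5
      rw [S.card_eq_index_normalizer] at h5
      obtain ⟨Q, hQ⟩ := exists_sylow_le_of_not_dvd_index h5
      obtain ⟨g, hg⟩ := (isPiElt_coe_iff.2 yq).exists_conj_mem_sylow Q
      have h6 := eq_one_of_real_of_mem_normalizer G hsol S _
        (isPiElt_compl_two_iff.1 (((isPiElt_coe_iff.2 yq).conj g).mono (by simpa using Ne.symm hq2)))
        (hQ hg) (IsConj.map_inv (MulAut.conj g).toMonoidHom
          (IsConj.map_inv (CL.Char.rppGen 2 G).subtype yr))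
      exact y1 (Subtype.ext (by simpa using h6))
    exact hno 2 h2 q (h4 q hq h5) x (IsConj.map_inv (CL.Char.rppGen 2 G).subtype hx)
      ⟨he.trans (cs_coe_dvd x), hd.trans (cs_coe_dvd x)⟩
  · obtain ⟨hzK, hzr⟩ := (Cfsg.Agent.S3863.result z hz).2.2 _ (CL.Char.rpp_odd_index (G := G))
    have h5 : cs((⟨z, hzK⟩ : CL.Char.rppGen 2 G)) ≠ 1 := by
      intro h
      apply hS
      have h6 : CL.Char.rppGen 2 G ≤ normalizer ((S : Subgroup G) : Set G) := fun k hk =>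
        h3 (mem_cent.2 (congrArg Subtype.val (mem_center_iff.1 (cs_eq_one_iff.1 h) ⟨k, hk⟩)))
      have h7 : ∀ P : Sylow 2 G, P = S := fun P => by
        have h8 := (CL.Char.rpp_le_gen P.isPGroup').trans h6
        have h9 := S.is_maximal' (IsPGroup.to_sup_of_normal_left' S.isPGroup' P.isPGroup' h8)
          le_sup_left
        exact Sylow.ext (P.is_maximal' S.isPGroup' (h9 ▸ le_sup_right)).symm
      haveI : Subsingleton (Sylow 2 G) := ⟨fun a b => (h7 a).trans (h7 b).symm⟩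
      exact fun P => Sylow.normal_of_subsingleton P
    obtain ⟨q, hq, hd⟩ := Nat.exists_prime_and_dvd h5
    refine ⟨q, _, hq, ?_, hzr, hd⟩
    rintro rfl
    exact hno 2 h2 p hp z hz ⟨hd.trans (cs_coe_dvd _), hpz⟩


/-- Let G be a finite group; call an element real when it is conjugate to its inverse, and say that the real-class-size graph of a group is disconnected when the primes dividing its real class sizes split into two non-empty disjoint parts with no real class size divisible by a prime from each part. If the real-class-size graph of G is disconnected, then some real class size of G is even, and either the Sylow 2-subgroups of G are normal, or the subgroup K generated by the 2-elements of G (the smallest normal subgroup of odd index) again has a disconnected real-class-size graph and every real class size of K is odd or a power of 2.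 -/
theorem result {G : Type*} [Group G] [Finite G] (h : (∃ π₁ π₂ : Set ℕ, π₁.Nonempty ∧ π₂.Nonempty ∧ Disjoint π₁ π₂ ∧ (∀ q ∈ π₁ ∪ π₂, q.Prime ∧ ∃ n ∈ {n : ℕ | ∃ x : G, IsConj x x⁻¹ ∧ (Subgroup.centralizer ({x} : Set G)).index = n}, q ∣ n) ∧ (∀ q : ℕ, q.Prime → (∃ n ∈ {n : ℕ | ∃ x : G, IsConj x x⁻¹ ∧ (Subgroup.centralizer ({x} : Set G)).index = n}, q ∣ n) → q ∈ π₁ ∨ q ∈ π₂) ∧ ∀ a ∈ π₁, ∀ b ∈ π₂, ∀ n ∈ {n : ℕ | ∃ x : G, IsConj x x⁻¹ ∧ (Subgroup.centralizer ({x} : Set G)).index = n}, ¬ (a ∣ n ∧ b ∣ n))) : (∃ n ∈ {n : ℕ | ∃ x : G, IsConj x x⁻¹ ∧ (Subgroup.centralizer ({x} : Set G)).index = n}, 2 ∣ n) ∧ ((∀ P : Sylow 2 G, (P : Subgroup G).Normal) ∨ ((∃ π₁ π₂ : Set ℕ, π₁.Nonempty ∧ π₂.Nonempty ∧ Disjoint π₁ π₂ ∧ (∀ q ∈ π₁ ∪ π₂, q.Prime ∧ ∃ n ∈ {n : ℕ | ∃ x : ↥(Subgroup.closure {g : G | ∃ k : ℕ, orderOf g = 2 ^ k}), IsConj x x⁻¹ ∧ (Subgroup.centralizer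 ({x} : Set ↥(Subgroup.closure {g : G | ∃ k : ℕ, orderOf g = 2 ^ k}))).index = n}, q ∣ n) ∧ (∀ q : ℕ, q.Prime → (∃ n ∈ {n : ℕ | ∃ x : ↥(Subgroup.closure {g : G | ∃ k : ℕ, orderOf g = 2 ^ k}), IsConj x x⁻¹ ∧ (Subgroup.centralizer ({x} : Set ↥(Subgroup.closure {g : G | ∃ k : ℕ, orderOf g = 2 ^ k}))).index = n}, q ∣ n) → q ∈ π₁ ∨ q ∈ π₂) ∧ ∀ a ∈ π₁, ∀ b ∈ π₂, ∀ n ∈ {n : ℕ | ∃ x : ↥(Subgroup.closure {g : G | ∃ k : ℕ, orderOf g = 2 ^ k}), IsConj x x⁻¹ ∧ (Subgroup.centralizer ({x} : Set ↥(Subgroup.closure {g : G | ∃ k : ℕ, orderOf g = 2 ^ k}))).index = n}, ¬ (a ∣ n ∧ b ∣ n)) ∧ ∀ n ∈ {n : ℕ | ∃ x : ↥(Subgroup.closure {g : G | ∃ k : ℕ, orderOf g = 2 ^ k}), IsConj x x⁻¹ ∧ (Subgroup.centralizer ({x} : Set ↥(Subgroup.closure {g : G | ∃ k : ℕ, orderOf g = 2 ^ k}))).index = n}, Odd n ∨ ∃ j : ℕ, n = 2 ^ j)) := by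
  obtain ⟨π₁, π₂, ⟨p₁, hp₁⟩, ⟨p₂, hp₂⟩, -, hsub, hcover, hnoedge⟩ := h
  have hc : ∀ (q : ℕ) (x : G), q.Prime → IsConj x x⁻¹ → q ∣ cs(x) → q ∈ π₁ ∨ q ∈ π₂ :=
    fun q x hq hx hd => hcover q hq ⟨_, ⟨x, hx, rfl⟩, hd⟩
  have hno : ∀ a ∈ π₁, ∀ b ∈ π₂, ∀ x : G, IsConj x x⁻¹ → ¬ (a ∣ cs(x) ∧ b ∣ cs(x)) :=
    fun a ha b hb x hx => hnoedge a ha b hb _ ⟨x, hx, rfl⟩
  obtain ⟨pp₁, _, ⟨v, hv, rfl⟩, hpv⟩ := hsub p₁ (Or.inl hp₁)
  obtain ⟨pp₂, _, ⟨w, hw, rfl⟩, hpw⟩ := hsub p₂ (Or.inr hp₂)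
  obtain ⟨x, hx, hx2⟩ := exists_even hp₁ hp₂ pp₁ pp₂ hv hw hpv hpw hc hno
  refine ⟨⟨_, ⟨x, hx, rfl⟩, hx2⟩, ?_⟩
  by_cases hS : ∀ P : Sylow 2 G, (P : Subgroup G).Normal
  · exact Or.inl hS
  right
  obtain ⟨h1, q, z, hq, hq2, hz, hqz⟩ :
      (∀ x : CL.Char.rppGen 2 G, IsConj x x⁻¹ → ∀ q : ℕ, q.Prime → q ∣ cs(x) → 2 ∣ cs(x) → q = 2) ∧
      ∃ (q : ℕ) (x : CL.Char.rppGen 2 G), q.Prime ∧ q ≠ 2 ∧ IsConj x x⁻¹ ∧ q ∣ cs(x) := by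
    rcases hc 2 x Nat.prime_two hx hx2 with h2 | h2
    · exact core2 h2 hp₂ hw hpw hc hno hS
    · exact core2 h2 hp₁ hv hpv (fun q x hq hx hd => (hc q x hq hx hd).symm)
        (fun a ha b hb x hx h => hno b hb a ha x hx h.symm) hS
  obtain ⟨y, y1, ho, hr⟩ : ∃ y : G, y ≠ 1 ∧ Odd (orderOf y) ∧ IsConj y y⁻¹ := by
    by_contra hc
    exact hS fun S => (Cfsg.Agent.S3861.result S).1 fun x h1 h2 h3 => hc ⟨x, h1, h2, h3⟩
  obtain ⟨hyK, hyr⟩ := (Cfsg.Agent.S3863.result y hr).2.2 _ (CL.Char.rpp_odd_index (G := G))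
  have hy2 := even_cs (fun h => y1 (congrArg Subtype.val h)) (by rwa [orderOf_mk]) hyr
  refine ⟨⟨{2}, {r | r.Prime ∧ r ≠ 2 ∧ ∃ x : CL.Char.rppGen 2 G, IsConj x x⁻¹ ∧ r ∣ cs(x)},
    ⟨2, rfl⟩, ⟨q, hq, hq2, z, hz, hqz⟩, by simp, ?_, ?_, ?_⟩, ?_⟩
  · rintro r (rfl | ⟨h2, -, t, ht, h3⟩)
    · exact ⟨Nat.prime_two, _, ⟨_, hyr, rfl⟩, hy2⟩
    · exact ⟨h2, _, ⟨t, ht, rfl⟩, h3⟩
  · rintro r hr ⟨_, ⟨t, ht, rfl⟩, h3⟩
    by_cases h2 : r = 2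
    · exact Or.inl h2
    · exact Or.inr ⟨hr, h2, t, ht, h3⟩
  · rintro _ rfl r ⟨h2, h3, -⟩ _ ⟨t, ht, rfl⟩ ⟨h4, h5⟩
    exact h3 (h1 t ht r h2 h5 h4)
  · rintro _ ⟨t, ht, rfl⟩
    by_cases h2 : 2 ∣ cs(t)
    · exact Or.inr ((isPiNum_singleton_iff Nat.prime_two (cs_ne_zero t)).1
        fun r hr hd => h1 t ht r hr hd h2)
    · exact Or.inl (Nat.odd_iff.2 (by omega))

end Cfsg.Agent.S4192
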