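import Cfsg.Statements.S4193
import Cfsg.Agent.S3861
import Cfsg.Agent.S3862
import Cfsg.Agent.S3863
import Cfsg.Agent.Cit.FrobSys
import Cfsg.Agent.Even.Amb2

set_option autoImplicit false
open Cfsg

namespace Cfsg.Agent.S4193

/-- Let G be a finite group in which the conjugacy classes of all non-central real elements (elements conjugate to their inverses) have sizes with the same 2-part, and suppose G has a Sylow 2-subgroup S such that every element of S that is conjugate in S to its inverse lies in the centre of S. Then G is solvable and the subgroup generated by the 2-elements of G (the smallest normal subgroup of odd index) has a normal 2-complement. -/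
theorem result {G : Type*} [Group G] [Finite G] (a : ℕ) (h : ∀ x : G, IsConj x x⁻¹ → x ∉ Subgroup.center G → ((Subgroup.centralizer ({x} : Set G)).index).factorization 2 = a) (S : Sylow 2 G) (hS : ∀ s : ↥(S : Subgroup G), IsConj s s⁻¹ → s ∈ Subgroup.center ↥(S : Subgroup G)) : Group.IsSolvable G ∧ Cfsg.HasNormalPComplement 2 ↥(Subgroup.closure {g : G | ∃ k : ℕ, orderOf g = 2 ^ k}) := by
  have hodd : ∀ {x : G} (Q : Sylow 2 G), (Q : Subgroup G) ≤ Subgroup.centralizer {x} →
      (Subgroup.centralizer ({x} : Set G)).index.factorization 2 = 0 := fun Q hQ =>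
    Nat.factorization_eq_zero_of_not_dvd fun e => Q.not_dvd_index (e.trans (Subgroup.index_dvd_of_le hQ))
  by_cases ha : a = 0
  · have hn : (S : Subgroup G).Normal := (Cfsg.Agent.S3861.result S).1 fun x x1 hx hr => by
      have h2 : x ^ 2 ≠ 1 := fun e => x1 (orderOf_eq_one_iff.1 (Nat.eq_one_of_dvd_coprimes (Nat.coprime_two_right.2 hx) dvd_rfl
        (orderOf_dvd_of_pow_eq_one e)))
      refine h2 ((Cfsg.Agent.S3863.result x hr).2.1 ?_)
      by_cases hc : x ∈ Subgroup.center G
      · rw [Subgroup.centralizer_eq_top_iff_subset.2 (by simpa using hc), Subgroup.index_top]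
        exact odd_one
      · have h3 := h x hr hc
        rw [ha, Nat.factorization_eq_zero_iff] at h3
        exact Nat.not_even_iff_odd.1 fun e => by
          rcases h3 with h3 | h3 | h3
          · exact h3 Nat.prime_two
          · exact h3 (even_iff_two_dvd.1 e)
          · exact Subgroup.index_ne_zero_of_finite h3
    have h1 := CL.Odd.feit_thompson (G := G ⧸ (S : Subgroup G))
      (Nat.not_even_iff_odd.1 fun e => S.not_dvd_index (even_iff_two_dvd.1 e))
    have h2 := S.isPGroup'.isNilpotent
    refine ⟨Group.isSolvable_of_ker_le_range (S : Subgroup G).subtype (QuotientGroup.mk' (S : Subgroup G)) (by simp),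
      CL.Grp.hasNormalPComplement_of_isPGroup (S.isPGroup'.to_le ((Subgroup.closure_le _).2 ?_))⟩
    rintro g ⟨k, hk⟩
    obtain ⟨Q, hQ⟩ := (IsPGroup.of_card (p := 2) (G := Subgroup.zpowers g) (by rw [Nat.card_zpowers, hk])).exists_le_sylow
    have := Sylow.unique_of_normal S hn
    exact Subsingleton.elim Q S ▸ hQ (Subgroup.mem_zpowers g)
  have key := Cfsg.Agent.S3862.result (G := G) fun x ⟨j, hj⟩ hr => by
    obtain ⟨t, ⟨k, hk⟩, ht⟩ := (Cfsg.Agent.S3863.result x hr).1
    have hx' : (Subgroup.zpowers x).map (MulAut.conj t).toMonoidHom ≤ Subgroup.zpowers x := by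
      rw [MonoidHom.map_zpowers, Subgroup.zpowers_le]
      exact (show t * x * t⁻¹ ∈ _ from ht.symm ▸ inv_mem (Subgroup.mem_zpowers x))
    obtain ⟨Q, hQ⟩ := (IsPGroup.to_sup_of_normal_left' (H := Subgroup.zpowers x) (K := Subgroup.zpowers t)
      (IsPGroup.of_card (by rw [Nat.card_zpowers, hj])) (IsPGroup.of_card (by rw [Nat.card_zpowers, hk]))
      (Subgroup.zpowers_le.2 (CL.Even.mem_norm_of_cj_le hx'))).exists_le_sylow
    · by_contra hc
      refine ha ((h x hr hc).symm.trans (hodd Q fun y hy => ?_))
      have hx := hQ (Subgroup.mem_sup_left (Subgroup.mem_zpowers x))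
      have e := Sylow.equiv Q S
      have h3 := hS (e ⟨x, hx⟩) (by
        rw [← map_inv]
        exact e.toMonoidHom.map_isConj (isConj_iff.2 ⟨⟨t, hQ (Subgroup.mem_sup_right (Subgroup.mem_zpowers t))⟩,
          Subtype.ext ht⟩))
      have h4 := Subgroup.mem_center_iff.1 h3 (e ⟨y, hy⟩)
      rw [← map_mul, ← map_mul, e.apply_eq_iff_eq] at h4
      exact Subgroup.mem_centralizer_singleton_iff.2 (congrArg Subtype.val h4)
  exact ⟨CL.Cit.isSolvable_of_npc key, CL.Grp.HasNormalPComplement.subgroup key _⟩

end Cfsg.Agent.S4193
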