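import Cfsg.Statements.S4241
import Cfsg.Agent.Fgs.OddZJ
import Cfsg.Agent.Odd.FT

set_option autoImplicit false
open Cfsg

namespace Cfsg.Agent.S4241

/-- Let a finite group A act by automorphisms on a finite group G of order coprime to that of A, and let p be a prime dividing the order of G. If every maximal A-invariant proper subgroup of G whose order is divisible by p is nilpotent, then G is solvable. -/
theorem result {A G : Type*} [Group A] [Group G] [Finite A] [Finite G] [MulDistribMulAction A G]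
    (hcop : (Nat.card A).Coprime (Nat.card G)) (p : ℕ) (hp : p.Prime) (hpG : p ∣ Nat.card G)
    (hmax : ∀ H : Subgroup G, H ≠ ⊤ → (∀ a : A, ∀ x ∈ H, a • x ∈ H) →
      (∀ K : Subgroup G, H < K → (∀ a : A, ∀ x ∈ K, a • x ∈ K) → K = ⊤) → p ∣ Nat.card H → Group.IsNilpotent H) :
    Group.IsSolvable G := by
  haveI := Fact.mk hp
  rcases Nat.even_or_odd (Nat.card G) with h | h
  swap
  · exact CL.Odd.feit_thompson h
  refine CL.OddZJ.isSolvable_of_inv_nilpotent (CL.Odd.feit_thompson (Nat.coprime_two_right.1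
    (hcop.coprime_dvd_right (even_iff_two_dvd.1 h)))) G hcop hpG fun H h1 h2 h3 => ?_
  obtain ⟨M, ⟨hM1, hM2, hM3⟩, hM⟩ := (Set.toFinite {M : Subgroup G | H ≤ M ∧ M ≠ ⊤ ∧ ∀ a : A, ∀ x ∈ M, a • x ∈ M}).exists_maximal
    ⟨H, le_rfl, h1, h2⟩
  exact CL.Grp.isNilpotent_of_le (hmax M hM2 hM3 (fun K h4 h5 => by_contra fun h6 =>
    h4.not_ge (hM ⟨hM1.trans h4.le, h6, h5⟩ h4.le)) (h3.trans (Subgroup.card_dvd_of_le hM1))) hM1

end Cfsg.Agent.S4241
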