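import Cfsg.Statements.S4284
import Cfsg.Agent.Fgs.ClassThree2

set_option autoImplicit false
open Cfsg

namespace Cfsg.Agent.S4284

open Subgroup CL.Grp CL.Fgs


/-- Let G be a finite group with no nontrivial abelian direct factor whose conjugacy class sizes are exactly 1, m and m·n with m, n > 1 coprime. Then m is a prime p dividing n − 1; the elements whose class has size 1 or p form an abelian normal subgroup of index p; G has a normal p-complement; and the commutator subgroup of a Sylow p-subgroup of G has order p. -/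
theorem result {G : Type*} [Group G] [Finite G] (hnodf : ∀ A B : Subgroup G, A.Normal → B.Normal → A ⊓ B = ⊥ → A ⊔ B = ⊤ → IsMulCommutative A → A = ⊥) (m n : ℕ) (hm : 1 < m) (hn : 1 < n) (hcop : m.Coprime n) (h : Set.range (fun x : G => (Subgroup.centralizer ({x} : Set G)).index) = ({1, m, m * n} : Set ℕ)) : m.Prime ∧ m ∣ n - 1 ∧ (∃ M : Subgroup G, M.Normal ∧ (M : Set G) = {x : G | (Subgroup.centralizer ({x} : Set G)).index = 1 ∨ (Subgroup.centralizer ({x} : Set G)).index = m} ∧ M.index = m ∧ IsMulCommutative M) ∧ (∃ N : Subgroup G, N.Normal ∧ (Nat.card N).Coprime m ∧ ∃ a : ℕ, N.index = m ^ a) ∧ ∀ P : Sylow m G, Nat.card (commutator (P : Subgroup G)) = m := by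
  have h3 : Three G m n := ⟨hm, hn, hcop, fun x => by
      have : cs(x) ∈ ({1, m, m * n} : Set ℕ) := h ▸ ⟨x, rfl⟩
      simpa using this,
    (h ▸ (by simp : m ∈ ({1, m, m * n} : Set ℕ)) : m ∈ Set.range _),
    (h ▸ (by simp : m * n ∈ ({1, m, m * n} : Set ℕ)) : m * n ∈ Set.range _)⟩
  obtain ⟨r, x, hr, hd, hx, hxm⟩ := h3.exists_m
  haveI := Fact.mk hr
  obtain ⟨rfl, h1, h2, h4, h5, h6, h7⟩ := h3.main hd hx hxm
  refine ⟨hr, h1, ⟨cent(x), h2, Set.ext h4, hxm,
    isMulCommutative_of_forall fun a ha b hb => mem_cent.1 (h5 b hb ha)⟩,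
    hasNormalPComplement_iff_exists_normal.1 h6, fun P => ?_⟩
  have h8 : (center (P : Subgroup G)).index ∣ m ^ 2 := by
    refine (index_dvd_of_le (H := (center G).subgroupOf P)
      fun z hz => mem_center_iff.2 fun g => Subtype.ext (mem_center_iff.1 hz g)).trans ?_
    obtain ⟨c, hc⟩ := P.isPGroup'.exists_card_eq
    obtain ⟨j, -, hj⟩ := (Nat.dvd_prime_pow hr).1 (hc ▸ relIndex_dvd_card (center G) (P : Subgroup G))
    refine Nat.Coprime.dvd_of_dvd_mul_right (n := n) ?_
      (h7 ▸ Subgroup.relIndex_dvd_index_of_normal (center G) (P : Subgroup G))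
    change ((center G).relIndex P).Coprime n
    exact hj ▸ hcop.pow_left j
  refine ((Nat.dvd_prime hr).1 (card_commutator_dvd_of_le_center P.isPGroup' h8)).resolve_left
    fun e => ?_
  obtain ⟨w, hw, hwZ⟩ := SetLike.not_le_iff_exists.1 fun e =>
    not_dvd_index_of_sylow_le P e ((dvd_mul_right m n).trans h3.dvd_index)
  refine not_dvd_index_of_sylow_le P (fun g hg => mem_cent.2 ?_) (h3.dvd_cs hwZ)
  have := commutator_mem_commutator (mem_top (⟨g, hg⟩ : (P : Subgroup G)))
    (mem_top (⟨w, hw⟩ : (P : Subgroup G)))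
  rw [← commutator_def, card_eq_one.1 e, mem_bot, commutatorElement_eq_one_iff_mul_comm] at this
  exact congrArg Subtype.val this

end Cfsg.Agent.S4284
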