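import Cfsg.Statements.S4314
import Cfsg.Agent.Fgs.ClassBHM
import Cfsg.Agent.S4134

set_option autoImplicit false
open Cfsg

namespace Cfsg.Agent.S4314

open CL.Fgs CL.Grp Subgroup
open scoped commutatorElement


/-- Let `G` be a finite group every conjugacy class of which has size 1 or a prime. Then either `G` is nilpotent of class at most 2, or `G/Z(G)` is a non-abelian group of order `pq` for distinct primes `p, q` (a Frobenius group of order `pq`). -/
theorem result {G : Type*} [Group G] [Finite G]
    (h : ∀ x : G, (Subgroup.centralizer ({x} : Set G)).index = 1 ∨ ((Subgroup.centralizer ({x} : Set G)).index).Prime) :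
    Subgroup.upperCentralSeries G 2 = ⊤ ∨
      ∃ p q : ℕ, p.Prime ∧ q.Prime ∧ p ≠ q ∧ Nat.card (G ⧸ Subgroup.center G) = p * q ∧ ¬ IsMulCommutative (G ⧸ Subgroup.center G) := by
  obtain ⟨y, -, hy⟩ := exists_max_cs (fun _ : G => True) ⟨1, trivial⟩
  have hy := fun z => hy z trivial
  by_cases h2 : ∃ x : G, x ∉ center G ∧ cs(x) < cs(y)
  · right
    obtain ⟨x, ⟨hx, hxy⟩, hm⟩ := exists_max_cs _ h2
    have hp : (cs(x)).Prime := (h x).resolve_left fun e => hx (cs_eq_one_iff.1 e)
    have hq : (cs(y)).Prime := (h y).resolve_left fun e => by have := hp.one_lt; omega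
    have hcop := (Nat.coprime_primes hq hp).2 hxy.ne'
    have hB := bhm_of_two_largest hx hcop hy fun z hz => by
      by_cases hzZ : z ∈ center G
      · rw [cs_eq_one_iff.2 hzZ]; exact cs_pos x
      · exact hm z ⟨hzZ, hz⟩
    refine ⟨_, _, hp, hq, hxy.ne, ?_, fun hc => hx (hB.mem_center_of_comm hB.not_mem
      (self_mem_cent x) ?_)⟩
    · rw [← CL.Fgs.index_inf_of_coprime hcop.symm, hB.inf_eq_center]; rfl
    · rw [← QuotientGroup.eq_one_iff]
      have := hc.is_comm.comm (x : G ⧸ center G) y
      simp only [QuotientGroup.mk_mul, QuotientGroup.mk_inv, this, mul_inv_cancel_right,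
        mul_inv_cancel]
  · left
    push Not at h2
    have h3 : ∀ x : G, cs(x) = 1 ∨ cs(x) = cs(y) := fun x => by
      by_cases hx : x ∈ center G
      · exact Or.inl (cs_eq_one_iff.2 hx)
      · exact Or.inr (le_antisymm (hy x) (h2 x hx))
    rw [eq_top_iff]
    intro x _
    rw [Subgroup.mem_upperCentralSeries_succ_iff]
    intro g
    rw [Subgroup.upperCentralSeries_one, commutatorElement_def, ← mem_centMod]
    by_cases hx : x ∈ center G
    · rw [mem_centMod, ← mem_center_iff.1 hx g]; simp
    have hp : (cs(x)).Prime := (h x).resolve_left fun e => hx (cs_eq_one_iff.1 e)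
    have hxy := (h3 x).resolve_left hp.ne_one
    obtain ⟨p, hp', a, -, hP⟩ := Cfsg.Agent.S4134.result _ (hxy ▸ hp.one_lt) h3 ⟨y, rfl⟩
    haveI : Group.IsNilpotent G := by
      obtain ⟨P⟩ : Nonempty (Sylow p G) := inferInstance
      obtain ⟨hPn, ⟨N, hN, hc, hab, -⟩, -⟩ := hP P
      rw [← fittingSubgroup_eq_top_iff, eq_top_iff, ← hc.sup_eq_top]
      exact sup_le (le_fittingSubgroup (isNilpotent_of_isMulCommutative hab))
        (le_fittingSubgroup P.isPGroup'.isNilpotent)
    haveI : (cent(x)).Normal := isNilpotent_iff_coatom_normal.1 inferInstance _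
      (isCoatom_of_index_prime hp)
    refine mem_centMod_of_min (U := cent(x) ⊓ centralizer (cent(x) : Set G))
      (isMulCommutative_of_forall fun a ha b hb => hb.2 a ha.1)
      ⟨self_mem_cent x, le_cent_iff.1 le_rfl⟩ fun u _ hu => ?_
    have := hy g
    rcases h3 u with e | e <;> omega

end Cfsg.Agent.S4314
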