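import Cfsg.Statements.S4347
import Cfsg.Agent.Grp.SylowIn

set_option autoImplicit false
open Cfsg

namespace Cfsg.Agent.S4347

/-- Let G be a finite group and p a prime. Say a Sylow p-subgroup Q is redundant when every element of p-power order lies in some Sylow p-subgroup other than Q. Then G has no redundant Sylow p-subgroup if and only if some element of p-power order lies in exactly one Sylow p-subgroup. -/
theorem result {G : Type*} [Group G] [Finite G]
    (p : ℕ) [Fact p.Prime] :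
    (¬ ∃ Q : Sylow p G, ∀ x : G, (∃ k : ℕ, orderOf x = p ^ k) → ∃ P : Sylow p G, P ≠ Q ∧ x ∈ P) ↔
      ∃ x : G, (∃ k : ℕ, orderOf x = p ^ k) ∧ ∃! P : Sylow p G, x ∈ P := by
  constructor
  · intro h
    push Not at h
    obtain ⟨Q⟩ : Nonempty (Sylow p G) := inferInstance
    obtain ⟨x, ⟨k, hk⟩, hx⟩ := h Q
    refine ⟨x, ⟨k, hk⟩, ?_⟩
    have hP : IsPGroup p (Subgroup.zpowers x) := IsPGroup.of_card (by rw [Nat.card_zpowers, hk])
    obtain ⟨R, hR⟩ := hP.exists_le_sylow
    have hxR : x ∈ R := hR (Subgroup.mem_zpowers x)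
    have key : ∀ P : Sylow p G, x ∈ P → P = Q := by
      intro P hP
      by_contra hne
      exact hx P hne hP
    exact ⟨Q, key R hxR ▸ hxR, key⟩
  · rintro ⟨x, ⟨k, hk⟩, P, hP, huniq⟩ ⟨Q, hQ⟩
    obtain ⟨g, rfl⟩ := MulAction.exists_smul_eq G P Q
    obtain ⟨R, hR, hxR⟩ := hQ (g * x * g⁻¹) ⟨k, by
      rw [← hk]; exact (MulAut.conj g).orderOf_eq x⟩
    apply hR
    have : g⁻¹ • R = P := by
      apply huniq
      rw [CL.Grp.mem_sylow_smul_iff]
      simpa using hxR
    rw [← this, smul_inv_smul]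

end Cfsg.Agent.S4347
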