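import Cfsg.Statements.S4349
import Cfsg.Agent.Known.AltSelfNorm

set_option autoImplicit false
set_option linter.unusedSectionVars false
open Cfsg

namespace Cfsg.Agent.S4349

open Equiv Equiv.Perm MulAction CL.Known CL.Grp

theorem pow_eq_iff {Ω : Type} (x : Perm Ω) (a : Ω) (i : ℕ) : (x ^ i) a = a ↔ period x a ∣ i :=
  pow_smul_eq_iff_period_dvd (m := x) (a := a)

theorem fix_iff {Ω : Type} (x : Perm Ω) (a : Ω) : x a = a ↔ period x a = 1 := (period_eq_one_iff (m := x) (a := a)).symm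

/-- Non-trivial cycles have different lengths and there are at most two fixed points. -/
def Good {Ω : Type} (x : Perm Ω) : Prop :=
  (∀ a b, period x a = period x b → x.SameCycle a b ∨ x a = a) ∧
    ∀ a b c, x a = a → x b = b → x c = c → a = b ∨ a = c ∨ b = c

section

variable {Ω Λ : Type} [Finite Ω] [Finite Λ] (ι : ZMod 2 × Λ ↪ Ω) (f : Λ → ZMod 2) (σ : Perm Λ)

theorem pow_apply (i : ℕ) (l : Λ) : ∃ d, ∀ c, (wE ι f σ ^ i) (ι (c, l)) = ι (c + d, (σ ^ i) l) :=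
  ⟨_, fun c => by rw [wE_pow, wE_apply]⟩

theorem period_pair (c : ZMod 2) (l : Λ) : period (wE ι f σ) (ι (c, l)) = period (wE ι f σ) (ι (c + 1, l)) := by
  have key : ∀ c c' i, (wE ι f σ ^ i) (ι (c, l)) = ι (c, l) → (wE ι f σ ^ i) (ι (c', l)) = ι (c', l) := fun c c' i h => by
    obtain ⟨d, hd⟩ := pow_apply ι f σ i l
    rw [hd] at h ⊢
    simpa using h
  exact Nat.dvd_antisymm ((pow_eq_iff _ _ _).1 (key _ _ _ ((pow_eq_iff _ _ _).2 dvd_rfl)))
    ((pow_eq_iff _ _ _).1 (key _ _ _ ((pow_eq_iff _ _ _).2 dvd_rfl)))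

variable {ι f σ}

theorem exists_half (h : Good (wE ι f σ)) {c : ZMod 2} {l : Λ} (h1 : wE ι f σ (ι (c, l)) ≠ ι (c, l)) :
    ∃ i : ℕ, (wE ι f σ ^ i) (ι (c, l)) = ι (c + 1, l) ∧ (wE ι f σ ^ i) (ι (c + 1, l)) = ι (c, l) ∧ (σ ^ i) l = l := by
  obtain ⟨i, hi⟩ := ((h.1 _ _ (period_pair ι f σ c l)).resolve_right h1).exists_nat_pow_eq
  obtain ⟨d, hd⟩ := pow_apply ι f σ i l
  refine ⟨i, hi, ?_⟩
  rw [hd] at hi ⊢
  simp only [EmbeddingLike.apply_eq_iff_eq, Prod.mk.injEq, add_right_inj] at hi ⊢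
  exact ⟨⟨by rw [hi.1, add_assoc, show (1 + 1 : ZMod 2) = 0 from rfl, add_zero], hi.2⟩, hi.2⟩

theorem period_eq (h : Good (wE ι f σ)) {c : ZMod 2} {l : Λ} (h1 : wE ι f σ (ι (c, l)) ≠ ι (c, l)) :
    period (wE ι f σ) (ι (c, l)) = 2 * period σ l := by
  obtain ⟨i, hi, -, hi'⟩ := exists_half h h1
  have h2 : period σ l ∣ period (wE ι f σ) (ι (c, l)) := by
    obtain ⟨d, hd⟩ := pow_apply ι f σ (period (wE ι f σ) (ι (c, l))) l
    have := (hd c).symm.trans ((pow_eq_iff _ _ _).2 dvd_rfl)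
    exact (pow_eq_iff _ _ _).1 (by simpa using congrArg Prod.snd (ι.injective this))
  have h3 : period (wE ι f σ) (ι (c, l)) ∣ 2 * period σ l := by
    obtain ⟨d, hd⟩ := pow_apply ι f σ (period σ l) l
    rw [(pow_eq_iff _ _ _).2 dvd_rfl] at hd
    rw [← pow_eq_iff, two_mul, pow_add, Perm.mul_apply, hd, hd, add_assoc, CharTwo.add_self_eq_zero, add_zero]
  obtain ⟨k, hk⟩ := h2
  have h4 : period σ l ≠ 0 := (period_pos_of_orderOf_pos (orderOf_pos σ) l).ne'
  rw [hk, mul_comm 2, Nat.mul_dvd_mul_iff_left (Nat.pos_of_ne_zero h4)] at h3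
  rcases (Nat.dvd_prime Nat.prime_two).1 h3 with rfl | rfl
  · rw [(pow_eq_iff _ _ i).2 (by rw [hk, mul_one]; exact (pow_eq_iff _ _ _).1 hi')] at hi
    simp at hi
  · rw [hk, mul_comm]

theorem good_top (h : Good (wE ι f σ)) : Good σ := by
  have h1 : ∀ l m, (wE ι f σ).SameCycle (ι (0, l)) (ι (0, m)) → σ.SameCycle l m := fun l m e => by
    obtain ⟨i, hi⟩ := e.exists_nat_pow_eq
    obtain ⟨d, hd⟩ := pow_apply ι f σ i l
    exact ⟨i, by simpa using congrArg Prod.snd (ι.injective ((hd 0).symm.trans hi))⟩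
  have h2 : ∀ l m, wE ι f σ (ι (0, l)) ≠ ι (0, l) → wE ι f σ (ι (0, m)) ≠ ι (0, m) → period σ l = period σ m →
      σ.SameCycle l m := fun l m hl hm e =>
    h1 l m ((h.1 _ _ (by rw [period_eq h hl, period_eq h hm, e])).resolve_right hl)
  have h3 : ∀ l, σ l ≠ l → wE ι f σ (ι (0, l)) ≠ ι (0, l) := fun l hl e =>
    hl (by simpa [wE_apply] using congrArg Prod.snd (ι.injective ((wE_apply ι f σ 0 l).symm.trans e)))
  refine ⟨fun l m e => or_iff_not_imp_right.2 fun hl =>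
    h2 l m (h3 l hl) (h3 m fun hm => hl ((fix_iff _ _).2 (e.trans ((fix_iff _ _).1 hm)))) e, fun a b c ha hb hc => ?_⟩
  have h4 : ∀ l m, σ l = l → σ m = m → (wE ι f σ (ι (0, l)) = ι (0, l) ↔ wE ι f σ (ι (0, m)) = ι (0, m)) → l = m :=
    fun l m hl hm e => by
      by_cases e' : wE ι f σ (ι (0, l)) = ι (0, l)
      · have := h.2 _ _ _ e' ((fix_iff _ _).2 ((period_pair ι f σ 0 l).symm.trans ((fix_iff _ _).1 e'))) (e.1 e')
        simpa using this
      · exact (h2 l m e' (fun e'' => e' (e.2 e'')) (by rw [(fix_iff _ _).1 hl, (fix_iff _ _).1 hm])).eq_of_left hl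
  have := h4 a b ha hb
  have := h4 a c ha hc
  have := h4 b c hb hc
  tauto

theorem pair_eq (h : Good (wE ι f σ)) {ι' : ZMod 2 × Λ ↪ Ω} {f' : Λ → ZMod 2} {σ' : Perm Λ}
    (e : wE ι f σ = wE ι' f' σ') (hc : Subsingleton {x // x ∉ Set.range ι'}) (c : ZMod 2) (l : Λ) :
    ∃ c' l', ι (c, l) = ι' (c', l') ∧ ι (c + 1, l) = ι' (c' + 1, l') := by
  have h' := e ▸ h
  by_cases h1 : wE ι f σ (ι (c, l)) = ι (c, l)
  · have h2 := (fix_iff _ _).2 ((period_pair ι f σ c l).symm.trans ((fix_iff _ _).1 h1))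
    have h3 : ∀ c' l', wE ι f σ (ι' (c', l')) = ι' (c', l') → wE ι f σ (ι' (c' + 1, l')) = ι' (c' + 1, l') :=
      fun c' l' h3 => e ▸ (fix_iff _ _).2 ((period_pair ι' f' σ' c' l').symm.trans ((fix_iff _ _).1 (e ▸ h3)))
    by_cases h4 : ι (c, l) ∈ Set.range ι'
    · obtain ⟨⟨c', l'⟩, h4⟩ := h4
      refine ⟨c', l', h4.symm, ?_⟩
      rcases h.2 _ _ _ h1 h2 (h3 c' l' (h4 ▸ h1)) with e | e | e
      · simp at e
      · simp [← h4] at e
      · exact e
    · by_cases h5 : ι (c + 1, l) ∈ Set.range ι'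
      · obtain ⟨⟨c', l'⟩, h5⟩ := h5
        rcases h.2 _ _ _ h1 h2 (h3 c' l' (h5 ▸ h2)) with e | e | e
        · simp at e
        · exact (h4 ⟨_, e.symm⟩).elim
        · simp [← h5] at e
      · simpa using congrArg Subtype.val (hc.elim ⟨_, h4⟩ ⟨_, h5⟩)
  obtain ⟨⟨c', l'⟩, h4⟩ : ι (c, l) ∈ Set.range ι' := by_contra fun h4 => h1 (e ▸ wE_apply_of_notMem _ _ _ h4)
  refine ⟨c', l', h4.symm, ?_⟩
  obtain ⟨i, hi, hi', -⟩ := exists_half h h1
  obtain ⟨j, hj, hj', -⟩ := exists_half h' (c := c') (l := l') (by rwa [h4, ← e])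
  rw [← e] at hj hj'
  rw [h4] at hj hj'
  have key : ∀ i b, (wE ι f σ ^ i) (ι (c, l)) = b → (wE ι f σ ^ i) b = ι (c, l) → b ≠ ι (c, l) →
      ∃ s, 2 * i = period (wE ι f σ) (ι (c, l)) * (2 * s + 1) := fun i b e1 e2 e3 => by
    obtain ⟨s, hs⟩ := (pow_eq_iff (wE ι f σ) (ι (c, l)) (2 * i)).1 (by rw [two_mul, pow_add, Perm.mul_apply, e1, e2])
    rcases Nat.even_or_odd' s with ⟨s, rfl | rfl⟩
    · exact (e3 (e1.symm.trans ((pow_eq_iff _ _ _).2 ⟨s, by linarith⟩))).elim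
    · exact ⟨s, hs⟩
  obtain ⟨s, hs⟩ := key i _ hi hi' (by simp)
  obtain ⟨t, ht⟩ := key j _ hj hj' (by simp [← h4])
  have := (pow_eq_iff (wE ι f σ) (ι (c, l)) (i + j)).2 ⟨s + t + 1, by linarith⟩
  rw [pow_add, Perm.mul_apply, hj] at this
  exact (wE ι f σ ^ i).injective (hi'.trans this.symm)

end

theorem unique (n : ℕ) : ∀ (Ω : Type) [Finite Ω], Nat.card Ω = n → ∀ x : Perm Ω, Good x →
    ∀ P P' : Subgroup (Perm Ω), IsSylowIn 2 P ⊤ → IsSylowIn 2 P' ⊤ → x ∈ P → x ∈ P' → P = P' := by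
  induction n using Nat.strong_induction_on with | _ n ih => ?_
  intro Ω _ hn x hx P P' hP hP' h h'
  rcases n.eq_zero_or_pos with rfl | h0
  · have : IsEmpty Ω := (Nat.card_eq_zero.1 hn).resolve_right (not_infinite_iff_finite.2 ‹_›)
    exact Subsingleton.elim _ _
  have hΛ : Nat.card (Fin (n / 2)) = Nat.card Ω / 2 := by simp [hn]
  obtain ⟨Q, hQ⟩ := exists_isSylowIn 2 (⊤ : Subgroup (Perm (Fin (n / 2))))
  obtain ⟨ι, rfl⟩ := exists_WR_eq hP _ hΛ hQ
  obtain ⟨ι', e⟩ := exists_WR_eq hP' _ hΛ hQ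
  obtain ⟨f, σ, hσ, rfl⟩ := h
  obtain ⟨f', σ', -, e'⟩ := e.le h'
  have h1 : P' ≤ WR ι ⊤ := fun g hg => by
    obtain ⟨k, τ, -, rfl⟩ := e.le hg
    obtain ⟨k', τ', h2⟩ := exists_wE_of_pairs ι (subsingleton_compl_range ι hΛ) (wE ι' k τ) fun l => by
      obtain ⟨c, m, e1, e2⟩ := pair_eq hx e' (subsingleton_compl_range ι' hΛ) 0 l
      rw [zero_add] at e2
      rw [e1, e2, wE_apply, wE_apply, add_right_comm]
      exact pair_eq (e' ▸ hx) e'.symm (subsingleton_compl_range ι hΛ) _ _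
    exact ⟨k', τ', trivial, h2⟩
  obtain ⟨R, hR, hR'⟩ := exists_isSylowIn_ge (((hP'.isPGroup.comap_subtype (K := WR ι ⊤)).map (WRtop ι ⊤)).map
    (Subgroup.subtype _)) le_top
  have h2 : ∀ k τ, wE ι k τ ∈ P' → τ ∈ R := fun k τ h =>
    hR' ⟨_, ⟨⟨_, h1 h⟩, h, WRtop_wE ι ⊤ k τ _⟩, rfl⟩
  obtain rfl := ih (n / 2) (by omega) _ (by simp) σ (good_top hx) Q R hQ hR hσ (h2 _ _ h')
  refine hP'.eq_of_le hP.isPGroup (fun g hg => ?_) le_top
  obtain ⟨k, τ, -, rfl⟩ := h1 hg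
  exact wE_mem_WR.2 (h2 k τ hg)

theorem exists_sylow {Ω : Type} [Fintype Ω] [DecidableEq Ω] {x : Perm Ω} (hx : ∃ k : ℕ, orderOf x = 2 ^ k) {a b : Ω}
    (h : period x a = period x b) (h' : ¬ x.SameCycle a b) : ∃ P : Sylow 2 (Perm Ω), x ∈ P ∧ swap a b ∈ P := by
  let S : Set (Perm Ω) := Set.range fun i : ℤ => swap ((x ^ i) a) ((x ^ i) b)
  have h1 : ∀ i j : ℤ, (x ^ i) a ≠ (x ^ j) b := fun i j e => h' ⟨-j + i, by simp [zpow_add, e]⟩
  have h2 : ∀ (i j : ℤ) (c : Ω), (x ^ i) c = (x ^ j) c ↔ (period x c : ℤ) ∣ -j + i := fun i j c => by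
    rw [← zpow_smul_eq_iff_period_dvd, Perm.smul_def, zpow_add, zpow_neg, Perm.mul_apply, Perm.inv_eq_iff_eq]
  have h3 : ∀ s ∈ S, ∀ t ∈ S, s * t = t * s := by
    rintro _ ⟨i, rfl⟩ _ ⟨j, rfl⟩
    by_cases e : (x ^ i) a = (x ^ j) a
    · simp only [e, (h2 i j b).2 (h ▸ (h2 i j a).1 e)]
    · exact (Perm.disjoint_swap_swap (by
        simp [h1 i i, h1 i j, h1 j j, e, (h1 j i).symm, mt (fun e => (h2 i j a).2 (h ▸ (h2 i j b).1 e)) e])).commute
  have h4 : IsPGroup 2 (Subgroup.closure S) := by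
    rintro ⟨g, hg⟩
    refine ⟨1, Subtype.ext ?_⟩
    change g ^ 2 ^ 1 = 1
    refine Subgroup.closure_induction (by rintro _ ⟨i, rfl⟩; simp [sq]) (one_pow _) (fun u v hu hv e e' => ?_)
      (fun u _ e => by rw [inv_pow, e, inv_one]) hg
    have := Subgroup.isMulCommutative_closure h3
    rw [Commute.mul_pow (setLike_mul_comm (s := Subgroup.closure S) hu hv), e, e', mul_one]
  obtain ⟨k, hk⟩ := hx
  obtain ⟨P, hP⟩ := (IsPGroup.to_sup_of_normal_right' (IsPGroup.of_card ((Nat.card_zpowers x).trans hk)) h4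
    ((Subgroup.zpowers_le).2 (Subgroup.mem_normalizer_fintype fun g hg => Subgroup.closure_induction (by
      rintro _ ⟨i, rfl⟩
      exact Subgroup.subset_closure ⟨1 + i, by simp [zpow_add, ← swap_apply_apply]⟩) (by simp)
      (fun u v _ _ e e' => by simpa using mul_mem e e') (fun u _ e => by simpa [mul_assoc] using inv_mem e)
      hg))).exists_le_sylow
  exact ⟨P, hP (Subgroup.mem_sup_left (Subgroup.mem_zpowers x)),
    hP (Subgroup.mem_sup_right (Subgroup.subset_closure ⟨0, by simp⟩))⟩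

theorem good_iff {Ω : Type} [Fintype Ω] [DecidableEq Ω] {x : Perm Ω} :
    Good x ↔ Fintype.card Ω ≤ x.support.card + 2 ∧ x.cycleType.Nodup := by
  have h1 : ∀ a, x a ≠ a → period x a = (x.cycleOf a).support.card := fun a ha => by
    have := fun i => (pow_eq_iff x a i).symm.trans ((isCycleOn_support_cycleOf x a).pow_apply_eq
      ((mem_support_cycleOf_iff' ha).2 (SameCycle.refl _ _)))
    exact Nat.dvd_antisymm ((this _).2 dvd_rfl) ((this _).1 dvd_rfl)
  rw [and_comm, cycleType_def, Multiset.nodup_map_iff_inj_on x.cycleFactorsFinset.nodup,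
    ← Finset.card_add_card_compl x.support, add_le_add_iff_left, ← not_lt, Finset.two_lt_card]
  refine and_congr ⟨fun h c hc d hd e => ?_, fun h a b e => or_iff_not_imp_right.2 fun ha => ?_⟩ ?_
  · obtain ⟨a, ha⟩ := (mem_cycleFactorsFinset_iff.1 hc).1.nonempty_support
    obtain ⟨b, hb⟩ := (mem_cycleFactorsFinset_iff.1 hd).1.nonempty_support
    have h2 := mem_support.1 (mem_cycleFactorsFinset_support_le hc ha)
    have h3 := mem_support.1 (mem_cycleFactorsFinset_support_le hd hb)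
    rw [cycle_is_cycleOf ha hc, cycle_is_cycleOf hb hd] at e ⊢
    exact ((h a b (by rw [h1 a h2, h1 b h3]; exact e)).resolve_right h2).cycleOf_eq
  · have hb : x b ≠ b := fun hb => ha ((fix_iff _ _).2 (e.trans ((fix_iff _ _).1 hb)))
    exact (sameCycle_iff_cycleOf_eq_of_mem_support (mem_support.2 ha) (mem_support.2 hb)).2
      (h _ (cycleOf_mem_cycleFactorsFinset_iff.2 (mem_support.2 ha)) _
        (cycleOf_mem_cycleFactorsFinset_iff.2 (mem_support.2 hb)) ((h1 a ha).symm.trans (e.trans (h1 b hb))))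
  · simp only [Finset.mem_compl, notMem_support]
    push Not
    exact ⟨fun h a ha b hb c hc e1 e2 => by have := h a b c ha hb hc; tauto,
      fun h a b c ha hb hc => by have := h a ha b hb c hc; tauto⟩


/-- Let n ≥ 2 and let x be an element of 2-power order of the symmetric group of degree n. Then x lies in exactly one Sylow 2-subgroup if and only if x has at most two fixed points and the nontrivial cycles of x have pairwise different lengths. -/
theorem result (n : ℕ) (hn : 2 ≤ n)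
    (x : Equiv.Perm (Fin n)) (hx : ∃ k : ℕ, orderOf x = 2 ^ k) :
    (∃! P : Sylow 2 (Equiv.Perm (Fin n)), x ∈ P) ↔ (n ≤ x.support.card + 2 ∧ x.cycleType.Nodup) := by
  conv_rhs => enter [1, 1]; rw [← Fintype.card_fin n]
  rw [← good_iff]
  constructor
  · rintro ⟨P, -, hP⟩
    have key : ∀ a b c, period x a = period x b → period x a = period x c → ¬ x.SameCycle a b → ¬ x.SameCycle a c →
        b = c := fun a b c h1 h2 h3 h4 => by_contra fun h5 => by
      obtain ⟨Q, e1, e2⟩ := exists_sylow hx h1 h3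
      obtain ⟨R, e3, e4⟩ := exists_sylow hx h2 h4
      rw [hP Q e1] at e2
      rw [hP R e3] at e4
      obtain ⟨k, hk⟩ := P.isPGroup' ⟨_, mul_mem e2 e4⟩
      have := orderOf_dvd_of_pow_eq_one (congrArg Subtype.val hk : (swap a b * swap a c) ^ 2 ^ k = 1)
      rw [(isThreeCycle_swap_mul_swap_same (by rintro rfl; exact h3 (SameCycle.refl _ _))
        (by rintro rfl; exact h4 (SameCycle.refl _ _)) h5).orderOf] at this
      exact absurd (Nat.prime_three.dvd_of_dvd_pow this) (by decide)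
    refine ⟨fun a b e => by_contra fun h => ?_, fun a b c ha hb hc => by_contra fun h => ?_⟩ <;> push Not at h
    · refine h.2 ((fix_iff _ _).2 (e.trans ((fix_iff _ _).1 (key a b (x b) e (e.trans ?_) h.1 (by simpa using h.1)).symm)))
      have : ∀ i : ℕ, period x b ∣ i ↔ period x (x b) ∣ i := fun i => by
        rw [← pow_eq_iff, ← pow_eq_iff, ← Perm.mul_apply, ← pow_succ, pow_succ', Perm.mul_apply, x.apply_eq_iff_eq]
      exact Nat.dvd_antisymm ((this _).2 dvd_rfl) ((this _).1 dvd_rfl)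
    · rw [fix_iff] at hb hc
      exact h.2.2 (key a b c (((fix_iff _ _).1 ha).trans hb.symm) (((fix_iff _ _).1 ha).trans hc.symm)
        (fun e => h.1 (e.eq_of_left ha)) fun e => h.2.1 (e.eq_of_left ha))
  · intro h
    obtain ⟨k, hk⟩ := hx
    obtain ⟨P, hP⟩ := (IsPGroup.of_card ((Nat.card_zpowers x).trans hk)).exists_le_sylow
    exact ⟨P, hP (Subgroup.mem_zpowers x), fun Q hQ => Sylow.ext (unique _ _ rfl x h _ _ (isSylowIn_top Q)
      (isSylowIn_top P) hQ (hP (Subgroup.mem_zpowers x)))⟩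

end Cfsg.Agent.S4349
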