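import Cfsg.Statements.S4394
import Cfsg.Agent.Grp.Schmidt2
import Cfsg.Agent.Grp.Primitive
import Cfsg.Agent.Grp.QuadStable
import Cfsg.Agent.Grp.Coprime2
import Cfsg.Agent.Grp.PGroupFrattini
import Cfsg.Agent.Loc.FFHol
import Cfsg.Agent.Loc.PLength
import Cfsg.Agent.Loc.QuadDickson
import Cfsg.Agent.Transfer.Basic

set_option autoImplicit false
open Cfsg

namespace Cfsg.Agent.S4394

section Aux

open Subgroup CL.Grp
open scoped commutatorElement Pointwise IsMulCommutative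

variable {p : ℕ} [hp : Fact p.Prime]

/-- the properties of the normal Sylow subgroup of a minimal non-nilpotent group that are used -/
structure SE {G : Type*} [Group G] (p : ℕ) (P : Subgroup G) : Prop where
  c1 : ∀ a ∈ P, ∀ b ∈ P, ⁅a, b⁆ ∈ centralizer (P : Set G)
  c2 : ∀ a ∈ P, a ^ p ∈ centralizer (P : Set G)
  c3 : ∀ x ∈ P, x ∉ centralizer (P : Set G) → ∀ z ∈ P, z ∈ centralizer (P : Set G) → ∃ y ∈ P, ⁅x, y⁆ = z
  c4 : p ≤ 3 → Nat.card P ∣ p ^ 3 → ∀ x ∈ P, x ^ p = 1 → x ∈ centralizer (P : Set G)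

omit hp in
theorem SE.of_equiv {G X : Type*} [Group G] [Group X] {P : Subgroup X} {Q : Subgroup G} (h : SE p P) (e : Q ≃* P) :
    SE p Q := by
  have key : ∀ a : Q, (a : G) ∈ centralizer (Q : Set G) ↔ (e a : X) ∈ centralizer (P : Set X) := fun a =>
    ⟨fun ha b hb => by
      obtain ⟨c, hc⟩ := e.surjective ⟨b, hb⟩
      have := congrArg (fun t => (e t : X)) (show c * a = a * c from Subtype.ext (ha c c.2))
      simpa [hc] using this,
    fun ha b hb => congrArg Subtype.val (e.injective (show e (⟨b, hb⟩ * a) = e (a * ⟨b, hb⟩) from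
      Subtype.ext (by simpa using ha _ (e ⟨b, hb⟩).2)))⟩
  refine ⟨fun a ha b hb => (key ⁅(⟨a, ha⟩ : Q), (⟨b, hb⟩ : Q)⁆).2 ?_, fun a ha => (key ((⟨a, ha⟩ : Q) ^ p)).2 ?_,
    fun x hx h1 z hz h2 => ?_, fun h1 h2 x hx h3 => (key ⟨x, hx⟩).2 (h.c4 h1 (Nat.card_congr e.toEquiv ▸ h2) _ (e _).2 ?_)⟩
  · rw [map_commutatorElement]
    exact h.c1 _ (e _).2 _ (e _).2
  · rw [map_pow]
    exact h.c2 _ (e _).2
  · obtain ⟨y, hy, h3⟩ := h.c3 _ (e ⟨x, hx⟩).2 (mt (key ⟨x, hx⟩).2 h1) _ (e ⟨z, hz⟩).2 ((key ⟨z, hz⟩).1 h2)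
    obtain ⟨c, hc⟩ := e.surjective ⟨y, hy⟩
    exact ⟨c, c.2, congrArg Subtype.val (e.injective (show e ⁅(⟨x, hx⟩ : Q), c⁆ = e ⟨z, hz⟩ from
      Subtype.ext (by rw [map_commutatorElement, hc]; exact h3)))⟩
  · rw [← SubgroupClass.coe_pow, ← map_pow, show (⟨x, hx⟩ : Q) ^ p = 1 from Subtype.ext h3, map_one, coe_one]

theorem se_of {X : Type*} [Group X] [Finite X] (hX : IsMinimalNonNilpotent X) (P : Sylow p X)
    [hn : (P : Subgroup X).Normal] (h1 : (P : Subgroup X) ≠ ⊥) : SE p (P : Subgroup X) := by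
  have hd : p ∣ Nat.card X := ((IsPGroup.card_eq_or_dvd P.2).resolve_left (mt (eq_bot_of_card_eq _) h1)).trans
    (card_subgroup_dvd_card _)
  obtain ⟨r, k, g, hr, hrp, hg, -, hgC⟩ := IsMinimalNonNilpotent.exists_of_normal_sylow hX hd P
  have hQ := P.2
  have hi := P.not_dvd_index
  replace hgC : g ∉ centralizer ((P : Subgroup X) : Set X) := hgC
  generalize (P : Subgroup X) = Q at *
  obtain ⟨j, hh, hhr⟩ := exists_pow_notMem_pow_prime_mem (p := r) (k := k) (by rw [← hg, pow_orderOf_eq_one]; exact one_mem _) hgC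
  have hho : orderOf (g ^ r ^ j) ∣ r ^ k := hg ▸ orderOf_pow_dvd _
  generalize g ^ r ^ j = h at *
  have hco : (orderOf h).Coprime p := (((Nat.coprime_primes hr hp.out).2 hrp).pow_left k).coprime_dvd_left hho
  have htop : Q ⊔ zpowers h = ⊤ := by
    by_contra e
    have := hX.2 _ e
    exact hh (mem_centralizer_of_normalizer_hasNormalPComplement hQ (le_sup_left : Q ≤ Q ⊔ zpowers h)
      hasNormalPComplement_of_isNilpotent (mem_sup_right (mem_zpowers h)) (by rw [normalizer_eq_top]; trivial) hco)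
  have hB : ∀ N : Subgroup X, N.Normal → (∀ x ∈ Q, ⁅x, h⁆ ∈ N) → Q ≤ N := fun N _ hN => by
    by_contra e
    exact IsMinimalNonNilpotent.not_forall_commutator_mem hX hQ (inf_lt_left.2 e) hco hh
      fun x hx => ⟨commutatorElement_mem_of_normal_left hx h, hN x hx⟩
  have hA : ∀ N : Subgroup X, N.Normal → N ≤ Q → ¬ Q ≤ N → N ≤ centralizer (Q : Set X) ∧ h ∈ centralizer (N : Set X) :=
    fun N _ h1 h2 => by
      have h3 := IsMinimalNonNilpotent.mem_centralizer_of_lt hX hQ (lt_of_le_not_ge h1 h2) hco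
      exact ⟨le_centralizer_iff.1 (hB _ inferInstance fun x _ => commutatorElement_mem_of_normal_right x h3), h3⟩
  by_cases hab : Q ≤ centralizer (Q : Set X)
  · exact ⟨fun a ha b _ => hab (commutatorElement_mem_of_normal_left ha b), fun a ha => hab (pow_mem ha p),
      fun x hx h1 => absurd (hab hx) h1, fun _ _ x hx _ => hab hx⟩
  have := (nontrivial_iff_ne_bot Q).2 h1
  obtain ⟨c1, c2⟩ := (map_subtype_frattini_le_iff hQ).1 (hA ((frattini Q).map Q.subtype) inferInstance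
    (map_subtype_le _) fun e => frattini_ne_top Q (eq_top_iff.2 fun x _ => by
      obtain ⟨y, hy, e'⟩ := e x.2
      exact Subtype.ext e' ▸ hy)).1
  replace c1 : ∀ a ∈ Q, ∀ b ∈ Q, ⁅a, b⁆ ∈ Q ⊓ centralizer (Q : Set X) := fun a ha b hb =>
    ⟨commutatorElement_mem_of_normal_left ha b, c1 (commutator_mem_commutator ha hb)⟩
  have hZ : Q ⊓ centralizer (Q : Set X) ≤ center X := fun z hz => by
    have h2 : (⊤ : Subgroup X) ≤ centralizer {z} := htop.ge.trans (sup_le
      (fun x hx => mem_centralizer_singleton_iff.2 (hz.2 x hx)) (zpowers_le.2 (mem_centralizer_singleton_iff.2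
        ((hA _ inferInstance inf_le_left fun e => hab (e.trans inf_le_right)).2 z hz).symm)))
    exact mem_center_iff.2 fun x => mem_centralizer_singleton_iff.1 (h2 (mem_top x))
  have hN : ∀ N : Subgroup X, N ≤ Q → Q ⊓ centralizer (Q : Set X) ≤ N → (∀ n ∈ N, h * n * h⁻¹ ∈ N) → N.Normal :=
    fun N h1 h2 h3 => normal_of_sup_le_normalizer htop (fun x hx => mem_normalizer_fintype fun n hn => by
      simpa [commutatorElement_def] using mul_mem (h2 (c1 x hx n (h1 hn))) hn)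
      (zpowers_le.2 (mem_normalizer_fintype h3))
  have c3 : ∀ x ∈ Q, x ∉ centralizer (Q : Set X) → ∀ z ∈ Q, z ∈ centralizer (Q : Set X) → ∃ y ∈ Q, ⁅x, y⁆ = z := by
    intro x hx h2 z hz h3
    let f : Q →* X := MonoidHom.mk' (fun y => ⁅x, (y : X)⁆) fun a b => comm_mul_right_of_central (hZ (c1 x hx b b.2))
    have := normal_of_le_center' (K := f.range) (by rintro _ ⟨y, rfl⟩; exact hZ (c1 x hx y y.2))
    have h4 : ∀ u, u ∈ sectionKernel Q f.range ↔ ∀ y ∈ Q, ⁅u, y⁆ ∈ f.range := fun u => by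
      simp only [sectionKernel, mem_comap, mem_centralizer_iff, SetLike.mem_coe, mem_map, forall_exists_index, and_imp,
        forall_apply_eq_imp_iff₂]
      refine forall₂_congr fun y _ => ?_
      rw [eq_comm, ← commutatorElement_eq_one_iff_mul_comm, ← map_commutatorElement, QuotientGroup.mk'_apply,
        QuotientGroup.eq_one_iff]
    have := CL.Loc.sectionKernel_normal Q f.range
    have h5 : Q ≤ Q ⊓ sectionKernel Q f.range := by
      by_contra e
      exact h2 ((hA _ inferInstance inf_le_left e).1 ⟨hx, (h4 x).2 fun y hy => ⟨⟨y, hy⟩, rfl⟩⟩)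
    have h6 := hB (MonoidHom.transfer (Abelianization.of (G := Q))).ker inferInstance
      (fun y _ => Abelianization.commutator_subset_ker _ (comm_mem_commutator y h)) hz
    rw [MonoidHom.mem_ker, CL.Transfer.transfer_eq_pow_of_conj _ z (Abelianization.of ⟨z, hz⟩) fun k g h7 => by
      rw [← map_pow]
      congr 1
      exact Subtype.ext (by simp [mul_assoc, ← mem_center_iff.1 (pow_mem (hZ ⟨hz, h3⟩) k) g])] at h6
    obtain ⟨l, hl⟩ := hQ ⟨z, hz⟩
    have h7 : Abelianization.of (⟨z, hz⟩ : Q) = 1 := orderOf_eq_one_iff.1 (Nat.eq_one_of_dvd_coprimes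
      ((hp.out.coprime_iff_not_dvd.2 hi).pow_left l) (orderOf_dvd_of_pow_eq_one (by rw [← map_pow, hl, map_one]))
      (orderOf_dvd_of_pow_eq_one h6))
    have h8 : z ∈ ⁅Q, Q⁆ := map_subtype_commutator Q ▸ ⟨_, (QuotientGroup.eq_one_iff _).1 h7, rfl⟩
    obtain ⟨y, hy⟩ := (commutator_le.2 fun a ha => (h4 a).1 (h5 ha).2 : ⁅Q, Q⁆ ≤ f.range) h8
    exact ⟨y, y.2, hy⟩
  refine ⟨fun a ha b hb => (c1 a ha b hb).2, c2, c3, fun h3 hc x hx hxp => by_contra fun hxC => ?_⟩
  have hF : ∀ u ∈ Q, h * u * h⁻¹ ∈ (Q ⊓ centralizer (Q : Set X)) ⊔ zpowers u → u ∈ centralizer (Q : Set X) := by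
    intro u hu h2
    have h4 : Q ⊓ centralizer (Q : Set X) ⊔ zpowers u ≤ centralizer {u} :=
      sup_le (fun z hz => mem_centralizer_singleton_iff.2 (hz.2 u hu).symm)
        (zpowers_le.2 (mem_centralizer_singleton_iff.2 rfl))
    by_cases e : Q ≤ Q ⊓ centralizer (Q : Set X) ⊔ zpowers u
    · exact fun y hy => mem_centralizer_singleton_iff.1 (h4 (e hy))
    · refine (hA _ (hN _ (sup_le inf_le_left (zpowers_le.2 hu)) le_sup_left fun n hn => ?_)
        (sup_le inf_le_left (zpowers_le.2 hu)) e).1 (mem_sup_right (mem_zpowers u))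
      exact (show Q ⊓ centralizer (Q : Set X) ⊔ zpowers u ≤ comap (MulAut.conj h).toMonoidHom
        (Q ⊓ centralizer (Q : Set X) ⊔ zpowers u) from sup_le (fun z hz => mem_sup_left (T := zpowers u)
        ((inferInstance : (Q ⊓ centralizer (Q : Set X)).Normal).conj_mem z hz h)) (zpowers_le.2 h2)) hn
  have hC : Q ⊓ centralizer (zpowers h : Set X) = Q ⊓ centralizer (Q : Set X) := by
    have h2 : Q ⊓ centralizer (Q : Set X) ≤ Q ⊓ centralizer (zpowers h : Set X) :=
      le_inf inf_le_left (hZ.trans (center_le_centralizer _))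
    refine le_antisymm (le_inf inf_le_left (hA _ (hN _ inf_le_left h2 fun n hn => ?_) inf_le_left fun e => hh ?_).1) h2
    · rwa [hn.2 h (mem_zpowers h), mul_inv_cancel_right]
    · exact zpowers_le.1 (le_centralizer_iff.1 (e.trans inf_le_right))
  have := Fact.mk hr
  have hm := card_modEq_card_inf_centralizer (q := r) (Q := zpowers h) (K := Q)
    (IsPGroup.of_card_dvd_pow (by rwa [Nat.card_zpowers])) le_normalizer_of_normal
  obtain ⟨a, ha, ea⟩ := (Nat.dvd_prime_pow hp.out).1 hc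
  obtain ⟨b, eb⟩ := IsPGroup.iff_card.1 (hQ.to_le (inf_le_left : Q ⊓ centralizer (Q : Set X) ≤ Q))
  have hb : b ≠ 0 := fun e => hab fun u hu v hv => by
    have := c1 v hv u hu
    rwa [eq_bot_of_card_eq (Q ⊓ centralizer (Q : Set X)) (by rw [eb, e, pow_zero]), mem_bot, commutatorElement_eq_one_iff_mul_comm] at this
  have hba : b < a := (Nat.pow_lt_pow_iff_right hp.out.one_lt).1 (by
    rw [← ea, ← eb]
    exact card_lt_card_of_lt (inf_lt_left.2 hab))
  rw [hC, ea, eb] at hm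
  have hm' := (Nat.modEq_iff_dvd' (Nat.pow_le_pow_right hp.out.pos hba.le)).1 hm.symm
  have hr2 := hr.two_le
  have hx1 := hn.conj_mem x hx h
  have hx2 := hn.conj_mem _ hx1 h
  have hs : ∀ u ∈ Q, ∀ v ∈ Q, u * v ∈ (Q ⊓ centralizer (Q : Set X)) ⊔ zpowers (v * u) := fun u hu v hv => by
    have := mul_mem (mem_sup_left (c1 u hu v hv)) (mem_sup_right (S := Q ⊓ centralizer (Q : Set X)) (mem_zpowers (v * u)))
    simpa [commutatorElement_def, mul_assoc] using this
  have hp2 := hp.out.two_le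
  obtain rfl | rfl : p = 2 ∨ p = 3 := by omega
  · obtain rfl : r = 3 := by
      have : r ∣ 12 := hm'.trans ((by decide : ∀ a ≤ 3, ∀ b < a, b ≠ 0 → 2 ^ a - 2 ^ b ∣ 12) a ha b hba hb)
      rw [show 12 = 2 ^ 2 * 3 from rfl, hr.dvd_mul] at this
      exact this.elim (fun e => absurd ((Nat.prime_dvd_prime_iff_eq hr Nat.prime_two).1 (hr.dvd_of_dvd_pow e)) hrp)
        (Nat.prime_dvd_prime_iff_eq hr Nat.prime_three).1
    have h4 : h * (h * (h * x * h⁻¹) * h⁻¹) * h⁻¹ = x := by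
      rw [show h * (h * (h * x * h⁻¹) * h⁻¹) * h⁻¹ = h ^ 3 * x * (h ^ 3)⁻¹ by simp [pow_succ, mul_assoc], ← hhr x hx, mul_inv_cancel_right]
    have sq : ∀ u : X, u * u = 1 → h * u * h⁻¹ * (h * u * h⁻¹) = 1 := fun u e => by
      rw [conj_mul, e, mul_one, mul_inv_cancel]
    have s0 : x * x = 1 := by rwa [← pow_two]
    have s1 := sq _ s0
    have s2 := sq _ s1
    generalize e1 : h * x * h⁻¹ = x₁ at *
    generalize e2 : h * x₁ * h⁻¹ = x₂ at *
    have h5 := hF (x * (x₁ * x₂)) (mul_mem hx (mul_mem hx1 hx2)) (by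
      rw [← conj_mul, ← conj_mul, e1, e2, h4, ← mul_assoc x₁ x₂ x]
      exact hs _ (mul_mem hx1 hx2) x hx)
    obtain ⟨y, hy, h6⟩ := c3 x hx hxC _ (mul_mem hx (mul_mem hx1 hx2)) h5
    have h7 : (x * (x₁ * x₂)) ^ 2 = 1 := by
      rw [← h6, ← comm_pow_left ((c1 x hx y hy).2 x hx), hxp, commutatorElement_one_left]
    have h8 : x * x₁ * (x * x₁) = 1 := by
      calc x * x₁ * (x * x₁) = x * (x₁ * x₂) * (x₂ * (x * (x₁ * x₂))) * x₂ := by
            simp only [mul_assoc, ← mul_assoc x₂ x₂, s2, one_mul, mul_one]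
        _ = (x * (x₁ * x₂)) ^ 2 * (x₂ * x₂) := by rw [h5 x₂ hx2, pow_two]; simp only [mul_assoc]
        _ = 1 := by rw [h7, s2, mul_one]
    have h9 : x₁ * x = x * x₁ := by
      rw [← inv_eq_of_mul_eq_one_right h8, mul_inv_rev, inv_eq_of_mul_eq_one_right s0, inv_eq_of_mul_eq_one_right s1]
    have h10 : x₂ * x = x * x₂ := by
      have := h5 x hx
      rw [mul_assoc, mul_right_inj, ← mul_assoc, ← h9, mul_assoc, mul_assoc, mul_right_inj] at this
      exact this.symm
    have h11 : ∀ n u v : X, h * u * h⁻¹ = v → u * n = n * u → v * (h * n * h⁻¹) = h * n * h⁻¹ * v := fun n u v e e' => by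
      rw [← e, conj_mul, conj_mul, e']
    by_cases e : Q ≤ Q ⊓ centralizer {x, x₁, x₂}
    · exact hxC fun y hy => ((e hy).2 x (by simp)).symm
    · refine hxC ((hA _ (hN _ inf_le_left (le_inf inf_le_left (hZ.trans (center_le_centralizer _))) fun n hn' =>
        ⟨hn.conj_mem n hn'.1 h, ?_⟩) inf_le_left e).1 ⟨hx, ?_⟩)
      · rintro _ (rfl | rfl | rfl)
        exacts [h11 n _ _ h4 (hn'.2 _ (by simp)), h11 n _ _ e1 (hn'.2 _ (by simp)), h11 n _ _ e2 (hn'.2 _ (by simp))]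
      · rintro _ (rfl | rfl | rfl)
        exacts [rfl, h9, h10]
  · obtain rfl : r = 2 := by
      have : r ∣ 72 := hm'.trans ((by decide : ∀ a ≤ 3, ∀ b < a, b ≠ 0 → 3 ^ a - 3 ^ b ∣ 72) a ha b hba hb)
      rw [show 72 = 2 ^ 3 * 3 ^ 2 from rfl, hr.dvd_mul] at this
      exact this.elim (fun e => (Nat.prime_dvd_prime_iff_eq hr Nat.prime_two).1 (hr.dvd_of_dvd_pow e))
        fun e => absurd ((Nat.prime_dvd_prime_iff_eq hr Nat.prime_three).1 (hr.dvd_of_dvd_pow e)) hrp
    have h4 : h * (h * x * h⁻¹) * h⁻¹ = x := by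
      rw [show h * (h * x * h⁻¹) * h⁻¹ = h ^ 2 * x * (h ^ 2)⁻¹ by simp [pow_succ, mul_assoc], ← hhr x hx, mul_inv_cancel_right]
    have h5 := hF (x * (h * x * h⁻¹)) (mul_mem hx hx1) (by
      rw [← conj_mul, h4]
      exact hs _ hx1 x hx)
    refine hxC (hF x hx ?_)
    simpa using mul_mem (inv_mem (mem_sup_right (mem_zpowers x))) (mem_sup_left (S := Q ⊓ centralizer (Q : Set X))
      (T := zpowers x) ⟨mul_mem hx hx1, h5⟩)

variable {G : Type*} [Group G] [Finite G]

theorem mem_of_quad (hE : centralizer (pCore p G : Set G) ≤ pCore p G) {g : G}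
    (hq : ∀ v ∈ pCore p G, Commute ⁅v, g⁆ g) (hK : (g : G ⧸ pCore p G) ∈ pPrimeCore p (G ⧸ pCore p G)) :
    g ∈ pCore p G := by
  obtain ⟨m, n, k, h1, h2, h3⟩ := exists_pow_mul_pow_eq (p := p) g
  have h4 := hE (mem_centralizer_of_quad_of_coprime (pCore_isPGroup p G) (le_normalizer_of_normal (mem_top _))
    (quad_elt_pow hq n) h3)
  have h5 : (g : G ⧸ pCore p G) ^ p ^ k = 1 := by
    rw [← h1, QuotientGroup.mk_mul, (QuotientGroup.eq_one_iff _).2 h4, mul_one, ← QuotientGroup.mk_pow, h2,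
      QuotientGroup.mk_one]
  exact (QuotientGroup.eq_one_iff _).1 (mem_bot.1 ((inf_pPrimeCore_eq_bot (P := zpowers (g : G ⧸ pCore p G))
    (IsPGroup.of_card_dvd_pow (by rw [Nat.card_zpowers]; exact orderOf_dvd_of_pow_eq_one h5))).le ⟨mem_zpowers _, hK⟩))

theorem le_pCore_of_se (hG : IsPSolvable p G) (hO : pPrimeCore p G = ⊥) (Q : Sylow p G) (h : SE p (Q : Subgroup G)) :
    (Q : Subgroup G) ≤ pCore p G := by
  have hE := CL.Loc.centralizer_pCore_le_of_isPSolvable hG hO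
  have hEP := pCore_le_sylow Q
  generalize (Q : Subgroup G) = P, Q.2 = hP at *
  have hC : centralizer (P : Set G) ≤ pCore p G := (centralizer_le hEP).trans hE
  by_cases h3 : ¬ p ≤ 3
  · have h5 : 5 ≤ p := by
      by_contra h4
      obtain rfl : p = 4 := by omega
      exact absurd hp.out (by decide)
    rw [← stabCore_eq_pCore (B := pCore p G) (isPGroup_of_le_pCore hE)]
    exact fun a ha => isPStableOn_iff.1 (CL.Loc.isPStableOn_of_not_involves_qd (CL.Loc.dicksonSL2 (by omega)) (by omega)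
      (CL.Loc.not_involves_qd_of_isPSolvable h5 hG) _ (pCore_isPGroup p G)) a fun v hv => (h.c1 v (hEP hv) a ha a ha).symm
  rw [not_not] at h3
  set E := pCore p G
  set Z := P ⊓ centralizer (P : Set G)
  have hn : E.Normal := inferInstance
  have c1 : ∀ a ∈ P, ∀ b ∈ P, ⁅a, b⁆ ∈ Z := fun a ha b hb =>
    ⟨P.mul_mem (P.mul_mem (P.mul_mem ha hb) (P.inv_mem ha)) (P.inv_mem hb), h.c1 a ha b hb⟩
  have hA : IsMulCommutative (P.map (QuotientGroup.mk' E)) := ⟨⟨by
    rintro ⟨_, a, ha, rfl⟩ ⟨_, b, hb, rfl⟩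
    refine Subtype.ext (commutatorElement_eq_one_iff_mul_comm.1 ?_)
    exact (map_commutatorElement (QuotientGroup.mk' E) a b).symm.trans ((QuotientGroup.eq_one_iff _).2 (hC (h.c1 a ha b hb)))⟩⟩
  by_cases hM : ∀ B : Subgroup (G ⧸ E), B ≤ P.map (QuotientGroup.mk' E) →
      (∃ a ∈ P.map (QuotientGroup.mk' E), B ⊔ zpowers a = P.map (QuotientGroup.mk' E)) →
      pPrimeCore p (G ⧸ E) ⊓ centralizer (B : Set (G ⧸ E)) ≤ (normalizer (Z : Set G)).map (QuotientGroup.mk' E)
  · have h1 := le_of_forall_cocyclic_centralizer_le le_normalizer_of_normal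
      (CL.Transfer.coprime_card_of_isPGroup (hP.map _) (pPrimeCore_coprime p _).symm) hM
    intro a ha
    refine mem_of_quad hE (fun v hv => (h.c1 v (hEP hv) a ha a ha).symm)
      (CL.Loc.centralizer_pPrimeCore_le_of_isPSolvable (CL.Loc.isPSolvable_quotient hG _) (pCore_quotient_pCore p G)
        fun k hk => ?_)
    obtain ⟨y, hy, rfl⟩ := h1 hk
    have h2 : ∀ z ∈ Z, z * (y * a * y⁻¹) = y * a * y⁻¹ * z := fun z hz => by
      have := ((mem_normalizer_iff''.1 hy z).1 hz).2 a ha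
      calc z * (y * a * y⁻¹) = y * (y⁻¹ * z * y * a) * y⁻¹ := by group
        _ = _ := by rw [← this]; group
    refine commutatorElement_eq_one_iff_mul_comm.1 ((map_commutatorElement (QuotientGroup.mk' E) y a).symm.trans
      ((QuotientGroup.eq_one_iff _).2 (mem_of_quad hE (fun v hv => ?_)
        (commutatorElement_mem_of_normal_left (N := pPrimeCore p (G ⧸ E)) hk (a : G ⧸ E)))))
    have h4 : ⁅v, ⁅y, a⁆⁆ ∈ Z := by
      rw [commutatorElement_def y a, commutatorElement_mul_right_eq_mul_conj, mul_assoc _ (y * a * y⁻¹),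
        ← h2 _ (c1 v (hEP hv) _ (inv_mem ha)), ← mul_assoc, mul_inv_cancel_right]
      refine mul_mem ?_ (c1 v (hEP hv) _ (inv_mem ha))
      convert (mem_normalizer_iff.1 hy _).1 (c1 _ (hEP (hn.conj_mem' v hv y)) a ha) using 1
      simp [commutatorElement_def, mul_assoc]
    exact (show Commute _ _ from h2 _ h4).mul_right (show Commute _ a from (h4.2 a ha).symm).inv_right
  exfalso
  simp only [not_forall, SetLike.not_le_iff_exists] at hM
  obtain ⟨B, hB, ⟨_, ⟨a, ha, rfl⟩, hBa⟩, k, hk, hk'⟩ := hM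
  obtain ⟨y, rfl⟩ := QuotientGroup.mk'_surjective E k
  have hy : ∀ w : G, Z ≤ zpowers w → y * w * y⁻¹ ∈ Z → False := fun w h1 h2 => hk' ⟨y, mem_normalizer_fintype
    fun n hn => (show _ ≤ comap (MulAut.conj y).toMonoidHom Z from h1.trans (zpowers_le.2 h2)) hn, rfl⟩
  have hPE : (P.map (QuotientGroup.mk' E)).comap (QuotientGroup.mk' E) = P := by
    rw [comap_map_eq, QuotientGroup.ker_mk', sup_eq_left.2 hEP]
  set D := B.comap (QuotientGroup.mk' E)
  have hDP : D ≤ P := hPE ▸ comap_mono hB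
  have hED : E ≤ D := fun e he => by
    rw [mem_comap, QuotientGroup.mk'_apply, (QuotientGroup.eq_one_iff _).2 he]
    exact one_mem _
  have hD : ∀ d ∈ D, y⁻¹ * d * y ∈ P := fun d hd => hDP (by
    rw [mem_comap, map_mul, map_mul, mul_assoc, hk.2 _ hd, map_inv, inv_mul_cancel_left]
    exact hd)
  have hP2 : P = D ⊔ zpowers a := by
    rw [← hPE, ← hBa, ← comap_sup_eq _ _ _ (QuotientGroup.mk'_surjective E), ← MonoidHom.map_zpowers, comap_map_eq,
      QuotientGroup.ker_mk', sup_comm (zpowers a), ← sup_assoc, sup_eq_left.2 hED]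
  have hP3 : ∀ u ∈ P, ∃ d ∈ D, ∃ i : ℤ, d * a ^ i = u := fun u hu => by
    obtain ⟨d, hd, _, ⟨i, rfl⟩, e⟩ := (mem_sup_of_le_normalizer' (H := zpowers a) (K := D)
      (zpowers_le.2 (mem_normalizer_fintype fun n hn => by
        simpa [commutatorElement_def] using mul_mem (hED (hC (h.c1 a ha n (hDP hn)))) hn))).1 (hP2 ▸ hu)
    exact ⟨d, hd, i, e⟩
  obtain ⟨z, hz, hx⟩ : ∃ z ∈ Z, y * z * y⁻¹ ∉ Z := by
    by_contra! e
    exact hk' ⟨y, mem_normalizer_fintype e, rfl⟩
  have hxE := hn.conj_mem z (hC hz.2) y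
  have hxD : ∀ d ∈ D, Commute (y * z * y⁻¹) d := fun d hd => by
    have := hz.2 _ (hD d hd)
    calc y * z * y⁻¹ * d = y * (z * (y⁻¹ * d * y)) * y⁻¹ := by group
      _ = _ := by rw [← this]; group
  have hzx : ∀ n : ℕ, z ^ n = 1 → (y * z * y⁻¹) ^ n = 1 := fun n e => by rw [conj_pow, e, mul_one, mul_inv_cancel]
  generalize y * z * y⁻¹ = x at *
  have hxP := hEP hxE
  have hc := c1 x hxP a ha
  have hZ : Z ≤ zpowers ⁅x, a⁆ := fun w hw => by
    obtain ⟨u, hu, rfl⟩ := h.c3 x hxP (fun e => hx ⟨hxP, e⟩) w hw.1 hw.2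
    obtain ⟨d, hd, i, rfl⟩ := hP3 u hu
    rw [comm_mul_right_of_commute ((c1 x hxP _ (zpow_mem ha i)).2 d (hDP hd)),
      commutatorElement_eq_one_iff_commute.2 (hxD d hd), one_mul, comm_zpow_right (hc.2 a ha)]
    exact zpow_mem_zpowers _ _
  have hcp : ⁅x, a⁆ ^ p = 1 := by
    rw [← comm_pow_right (hc.2 a ha), commutatorElement_eq_one_iff_mul_comm]
    exact h.c2 a ha x hxP
  have hZc : Nat.card Z ∣ p := (card_dvd_of_le hZ).trans (by rw [Nat.card_zpowers]; exact orderOf_dvd_of_pow_eq_one hcp)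
  have hxp : x ^ p = 1 := hzx p (orderOf_dvd_iff_pow_eq_one.1 ((orderOf_dvd_natCard Z hz).trans hZc))
  have hDE : D ≤ centralizer (E : Set G) := fun d hd e he => by
    by_contra h1
    have h2 := c1 _ (hEP (hn.conj_mem' e he y)) _ (hD d hd)
    refine hy _ (eq_of_le_of_card_ge (zpowers_le.2 h2) ?_).ge (by
      convert c1 e (hEP he) d (hDP hd) using 1
      simp [commutatorElement_def, mul_assoc])
    rw [Nat.card_zpowers, orderOf_eq_prime (orderOf_dvd_iff_pow_eq_one.1 ((orderOf_dvd_natCard Z h2).trans hZc))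
      fun e' => h1 ?_]
    · exact Nat.le_of_dvd hp.out.pos hZc
    · have := commutatorElement_eq_one_iff_mul_comm.1 e'
      exact mul_right_cancel (b := y) (by simpa [mul_assoc] using this)
  have h4 : E ≤ zpowers x ⊔ Z := fun e he => by
    obtain ⟨i, hi⟩ := hZ (c1 e (hEP he) a ha)
    have h5 : (x ^ i)⁻¹ * e ∈ E := mul_mem (inv_mem (zpow_mem hxE i)) he
    have h6 : ⁅(x ^ i)⁻¹ * e, a⁆ = 1 := by
      rw [comm_mul_left_of_commute ((c1 e (hEP he) a ha).2 _ (inv_mem (zpow_mem hxP i))), ← zpow_neg,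
        comm_zpow_left (hc.2 x hxP), ← hi, ← zpow_add, add_neg_cancel, zpow_zero]
    have h7 : (x ^ i)⁻¹ * e ∈ Z := ⟨hEP h5, fun u hu => by
      obtain ⟨d, hd, j, rfl⟩ := hP3 u hu
      exact ((show Commute _ d from hDE hd _ h5).mul_right
        ((commutatorElement_eq_one_iff_commute.1 h6).zpow_right j)).symm⟩
    simpa using mul_mem (mem_sup_left (zpow_mem_zpowers x i)) (mem_sup_right (S := zpowers x) h7)
  have h5 : Nat.card E ∣ p * p := (card_dvd_of_le h4).trans ((card_sup_dvd (le_normalizer_of_le_centralizer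
    (zpowers_le.2 fun w hw => (hw.2 x hxP).symm))).trans (Nat.mul_dvd_mul
      (by rw [Nat.card_zpowers]; exact orderOf_dvd_of_pow_eq_one hxp) hZc))
  refine hx ⟨hxP, h.c4 h3 ?_ x hxP hxp⟩
  rw [← card_mul_relIndex hEP, pow_succ, pow_two]
  refine Nat.mul_dvd_mul h5 ?_
  rw [hP2, le_antisymm (hDE.trans hE) hED, relIndex_sup_zpowers, orderOf_dvd_iff_pow_eq_one, ← QuotientGroup.mk_pow,
    QuotientGroup.eq_one_iff]
  exact hC (h.c2 a ha)

end Aux


/-- Let X be a finite minimal non-nilpotent group (not nilpotent, every proper subgroup nilpotent) with a nontrivial normal Sylow p-subgroup P. If G is a finite p-solvable group whose Sylow p-subgroups are isomorphic to P, then G has p-length at most 1. -/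
theorem result {G X : Type*} [Group G] [Finite G] [Group X] [Finite X] (p : ℕ) [Fact p.Prime]
    (hX : Cfsg.IsMinimalNonNilpotent X) (P : Sylow p X) (hPn : (P : Subgroup X).Normal) (hP1 : (P : Subgroup X) ≠ ⊥)
    (hG : Cfsg.IsPSolvable p G) (Q : Sylow p G) (hQ : Nonempty (↥(Q : Subgroup G) ≃* ↥(P : Subgroup X))) : Cfsg.PLengthLE p 1 G := by
  obtain ⟨e⟩ := hQ
  have hs := QuotientGroup.mk'_surjective (pPrimeCore p G)
  have hk : (Nat.card (QuotientGroup.mk' (pPrimeCore p G)).ker).Coprime p := by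
    rw [QuotientGroup.ker_mk']
    exact CL.Grp.pPrimeCore_coprime p G
  have e' : (Q : Subgroup G) ≃* (Q.mapSurjective hs : Subgroup _) := MulEquiv.ofBijective
    ((QuotientGroup.mk' _).subgroupMap (Q : Subgroup G)) ⟨(injective_iff_map_eq_one _).2 fun a ha =>
      Subtype.ext (Subgroup.mem_bot.1 ((CL.Grp.inf_pPrimeCore_eq_bot Q.2).le
        ⟨a.2, (QuotientGroup.eq_one_iff _).1 (congrArg Subtype.val ha)⟩)), MonoidHom.subgroupMap_surjective _ _⟩
  have h := le_pCore_of_se (CL.Loc.isPSolvable_quotient hG _) (CL.Grp.pPrimeCore_quotient_pPrimeCore p G) _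
    ((se_of hX P hP1).of_equiv (e'.symm.trans e))
  rw [CL.Loc.pLengthLE_iff_of_coprime_ker hs hk, CL.Loc.pLengthLE_one_iff]
  exact ((Fact.out : p.Prime).coprime_iff_not_dvd.2 fun hd => (Q.mapSurjective hs).not_dvd_index
    (hd.trans (Subgroup.index_dvd_of_le (h.trans CL.Grp.pCore_le_pPrimePCore)))).symm

end Cfsg.Agent.S4394
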