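import Cfsg.Statements.S4395
import Cfsg.Agent.Fgs.Golf3

set_option autoImplicit false
universe u
open Cfsg

namespace Cfsg.Agent.S4395

/-- Let p ≠ q be primes, r ≥ 1, a the multiplicative order of p modulo q, and a₀ = a when a is odd, a₀ = 3a/2 when a is even. Call a finite group minimal non-p-nilpotent when it has no normal p-complement but every proper subgroup has one. Then there is a minimal non-p-nilpotent group G₀ of order p^a₀ · q^r such that every minimal non-p-nilpotent group of order p^t · q^r (any t) is a quotient of G₀ by a central subgroup. -/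
theorem result (p q r : ℕ) [Fact p.Prime] [Fact q.Prime] (hpq : p ≠ q) (hr : 1 ≤ r) (a a₀ : ℕ)
    (ha : a = orderOf (p : ZMod q)) (ha₀ : a₀ = if a % 2 = 1 then a else 3 * a / 2) :
    ∃ (G₀ : Type u) (_ : Group G₀) (_ : Finite G₀),
      (¬ Cfsg.HasNormalPComplement p G₀ ∧ ∀ K : Subgroup G₀, K ≠ ⊤ → Cfsg.HasNormalPComplement p ↥K) ∧ Nat.card G₀ = p ^ a₀ * q ^ r ∧
      ∀ (X : Type u) [Group X] [Finite X], (¬ Cfsg.HasNormalPComplement p X ∧ ∀ K : Subgroup X, K ≠ ⊤ → Cfsg.HasNormalPComplement p ↥K) →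
        (∃ t : ℕ, Nat.card X = p ^ t * q ^ r) → ∃ φ : G₀ →* X, Function.Surjective φ ∧ φ.ker ≤ Subgroup.center G₀ := by
  have hp : p.Prime := Fact.out
  have hq : q.Prime := Fact.out
  have hp0 : (p : ZMod q) ≠ 0 := fun e =>
    hpq ((Nat.prime_dvd_prime_iff_eq hq hp).1 ((ZMod.natCast_eq_zero_iff _ _).1 e)).symm
  have ha0 : 0 < a := ha ▸ (isOfFinOrder_iff_pow_eq_one.2 ⟨q - 1, Nat.sub_pos_of_lt hq.one_lt,
    ZMod.pow_card_sub_one_eq_one hp0⟩).orderOf_pos
  have hF : Nat.card (GaloisField p a) = p ^ a := GaloisField.card p a ha0.ne'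
  obtain ⟨ξ, hξ⟩ := exists_prime_orderOf_dvd_card' (G := (GaloisField p a)ˣ) q (by
    rw [Nat.card_units, hF, ← ZMod.natCast_eq_zero_iff, Nat.cast_sub (Nat.one_le_pow _ _ hp.pos), Nat.cast_pow, ha,
      pow_orderOf_eq_one, Nat.cast_one, sub_self])
  have hζ : IsPrimitiveRoot (ξ : GaloisField p a) q :=
    IsPrimitiveRoot.coe_units_iff.2 (hξ ▸ IsPrimitiveRoot.orderOf ξ)
  generalize (ξ : GaloisField p a) = ζ at hζ
  have hR := fun R h => CL.Golf.subring_eq_top (p := p) hζ (hF.trans (congrArg _ ha)) R h (hζ.ne_zero hq.ne_zero)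
  obtain ⟨G, _, _, P, y, π, h, top, hc⟩ : ∃ (G : Type u) (_ : Group G) (_ : Finite G) (P : Subgroup G) (y : G)
      (π : G → GaloisField p a), CL.Golf.Co p q r ζ P y π ∧ P ⊔ Subgroup.zpowers y = ⊤ ∧ p ^ a₀ ≤ Nat.card P := by
    by_cases h2 : a % 2 = 1
    · refine CL.Golf.exists_model hζ hF hr 0 (by simp) _ ?_
      rw [ha₀, if_pos h2, hF]
      exact Nat.le_mul_of_pos_right _ Nat.card_pos
    obtain ⟨b, hb⟩ : ∃ b, a = b + b := ⟨a / 2, by omega⟩
    have h3 : (p : ZMod q) ^ b = -1 := by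
      refine (mul_self_eq_one_iff.1 (by rw [← pow_add, ← hb, ha, pow_orderOf_eq_one])).resolve_left fun e => ?_
      have := Nat.le_of_dvd (by omega) (ha ▸ orderOf_dvd_of_pow_eq_one e)
      omega
    have h4 : ζ * ζ ^ p ^ b = 1 := by
      rw [← pow_succ', hζ.pow_eq_one_iff_dvd, ← ZMod.natCast_eq_zero_iff, Nat.cast_add, Nat.cast_pow, h3,
        Nat.cast_one, neg_add_cancel]
    refine CL.Golf.exists_model hζ hF hr (iterateFrobenius _ p b).toAddMonoidHom (fun t => by
      change ζ * (ζ * t) ^ p ^ b = t ^ p ^ b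
      rw [mul_pow, ← mul_assoc, h4, one_mul]) _ ?_
    let τ : GaloisField p a →+ GaloisField p a := (iterateFrobenius _ p b).toAddMonoidHom - AddMonoidHom.id _
    have h5 : Nat.card τ.ker * Nat.card τ.range = p ^ b * p ^ b := by
      rw [← AddSubgroup.index_ker, AddSubgroup.card_mul_index, hF, hb, pow_add]
    have h6 : Nat.card τ.ker ≤ p ^ b := by
      classical
      have h7 := FiniteField.X_pow_card_pow_sub_X_ne_zero (GaloisField p a) (p := p) (n := b) (by omega) hp.one_lt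
      rw [← FiniteField.X_pow_card_pow_sub_X_natDegree_eq (GaloisField p a) (p := p) (n := b) (by omega) hp.one_lt]
      refine le_trans ?_ ((Multiset.toFinset_card_le _).trans (Polynomial.card_roots' _))
      rw [← Nat.card_eq_finsetCard]
      refine Nat.card_le_card_of_injective (fun t => ⟨t.1, Multiset.mem_toFinset.2
        ((Polynomial.mem_roots h7).2 ?_)⟩) fun s t e => Subtype.ext (congrArg (·.1) e)
      have : t.1 ^ p ^ b - t.1 = 0 := t.2
      simpa using this
    have h8 : p ^ b ≤ Nat.card τ.range :=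
      Nat.le_of_mul_le_mul_left (h5 ▸ Nat.mul_le_mul_right _ h6) (pow_pos hp.pos b)
    rw [ha₀, if_neg h2, show 3 * a / 2 = a + b by omega, pow_add, hF]
    refine Nat.mul_le_mul_left _ (h8.trans (le_of_eq (Nat.card_congr (Equiv.setCongr ?_))))
    ext t
    simp [τ]
  refine ⟨G, inferInstance, inferInstance, h.minimal hpq hζ hR top, ?_, fun X _ _ hX ⟨t, ht⟩ => ?_⟩
  · rw [← Subgroup.card_top, ← top, h.card_sup hpq,
      le_antisymm (ha₀ ▸ h.card_le hR (hζ.ne_zero hq.ne_zero) hF) hc]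
  · obtain ⟨P', y', π', h', top', gen⟩ := CL.Golf.exists_co hpq hζ hR hX.1 hX.2 ht
    exact h.universal hpq hζ hR hF top (ha₀ ▸ hc) h' top' gen

end Cfsg.Agent.S4395
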