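import Cfsg.Statements.S4418
import Cfsg.Agent.Fus.Meta2Aut
import Cfsg.Agent.Fus.NilpStable
import Cfsg.Agent.S0949
import Cfsg.Agent.Cit.FrobSys

set_option autoImplicit false
open Cfsg

namespace Cfsg.Agent.S4418

theorem card_le_two {C : Type*} [Group C] (hC : IsCyclic C) (h : ∀ c : C, c ^ 2 = 1) [Finite C] :
    Nat.card C ≤ 2 := by
  obtain ⟨g, hg⟩ := IsCyclic.exists_generator (α := C)
  rw [← orderOf_eq_card_of_forall_mem_zpowers hg]
  exact Nat.le_of_dvd two_pos (orderOf_dvd_of_pow_eq_one (h g))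

theorem sq_four : ∀ g : Multiplicative (ZMod 2) × Multiplicative (ZMod 2), g ^ 2 = 1 := by decide

theorem solv_of_normal {G : Type*} [Group G] (N : Subgroup G) [N.Normal] (h1 : Group.IsSolvable N)
    (h2 : Group.IsSolvable (G ⧸ N)) : Group.IsSolvable G :=
  Group.isSolvable_of_ker_le_range N.subtype (QuotientGroup.mk' N) (by simp)

/-- Let G be a finite group whose Sylow 2-subgroup S is metacyclic via a cyclic normal subgroup N of S with S/N cyclic of order greater than 2. Then G is soluble. -/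
theorem result {G : Type*} [Group G] [Finite G] (S : Sylow 2 G) (N : Subgroup ↥(S : Subgroup G)) [hN : N.Normal] (hNc : IsCyclic N) (hQc : IsCyclic (↥(S : Subgroup G) ⧸ N)) (hQ : 2 < Nat.card (↥(S : Subgroup G) ⧸ N)) : Group.IsSolvable G := by
  haveI : Fact (Nat.Prime 2) := ⟨Nat.prime_two⟩
  have hS := S.isPGroup'
  have hm : IsMetacyclic (S : Subgroup G) := ⟨N, hN, hNc, hQc⟩
  set f := QuotientGroup.mk' N with hf
  have hc : ∀ x y : ↥(S : Subgroup G) ⧸ N, x * y = y * x := fun x y =>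
    (IsCyclic.isMulCommutative (α := ↥(S : Subgroup G) ⧸ N)).is_comm.comm x y
  have hne : ¬ ∀ x : (S : Subgroup G), f x ^ 2 = 1 := fun h => by
    have := card_le_two hQc fun c => by
      obtain ⟨x, rfl⟩ := QuotientGroup.mk'_surjective N c
      exact h x
    omega
  have hF := CL.Fus.GS.isSaturated_group (CL.Fus.sylIn_top_iff.2 ⟨S, rfl⟩)
  have hn := CL.Fus.isNormal_of_metacyclic_two hS hF (CL.Fus.stronglyClosed_self _) hm fun n a b h => hne (by
    have key : ∀ x : (S : Subgroup G), f (b * x * b⁻¹) = f x := fun x => by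
      rw [map_mul, map_mul, hc (f b), map_inv, mul_inv_cancel_right]
    have h4 : f a ^ (4 : ℤ) = 1 := by
      have := key (a ^ (2 * 1 : ℤ))
      rw [h.conj_sq, map_zpow, map_zpow] at this
      rw [show (4 : ℤ) = 2 * 1 - -(2 * 1) by norm_num, zpow_sub, this, mul_inv_cancel]
    obtain ⟨r, hr, ⟨c, hc'⟩, -⟩ := h.exists_conj
    have h2 : f a ^ 2 = 1 := by
      have := key a
      rw [hr, map_zpow, show r = 4 * c - 1 by omega, zpow_sub, zpow_mul, h4, one_zpow, one_mul, zpow_one,
        inv_eq_iff_mul_eq_one] at this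
      rw [pow_two, this]
    have hb : f b ^ 2 = 1 := by
      rcases h.sq_eq with e | e
      · rw [← map_pow, e, map_one]
      · obtain ⟨m, rfl⟩ : ∃ m, n = m + 2 := ⟨n - 2, by have := h.two_le; omega⟩
        rw [← map_pow, e, map_pow, show m + 2 - 1 = m + 1 from rfl, pow_succ', pow_mul, h2, one_pow]
    have h3 : ∀ i : ℤ, (f a ^ i) ^ 2 = 1 := fun i => by
      rw [← zpow_natCast, ← zpow_mul, mul_comm, zpow_mul, zpow_natCast, h2, one_zpow]
    intro x
    obtain ⟨i, rfl | rfl⟩ := h.elt x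
    · rw [map_zpow, h3]
    · rw [map_mul, Commute.mul_pow (hc _ _), map_zpow, h3, hb, one_mul])
  by_cases h2 : IsPGroup 2 (MulAut (S : Subgroup G))
  · exact CL.Cit.isSolvable_of_npc ((CL.Fus.IsRealizedBy.eq_inner_iff (CL.Fus.isRealizedBy_subtype _)
      (CL.Fus.sylIn_top_iff.2 ⟨S, by simp⟩)).1 (CL.Fus.eq_inner_of_isNormal hS hF hn (h2.to_subgroup _)))
  obtain ⟨α, hα, h1⟩ : ∃ α : MulAut (S : Subgroup G), (orderOf α).Coprime 2 ∧ α ≠ 1 := by
    by_contra! h
    exact h2 (CL.Fus.isPGroup_of_forall_coprime h)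
  rcases CL.Fus.quaternion_or_homocyclic_of_mc hS hm hα h1 with ⟨⟨e⟩⟩ | ⟨n, hn0, ⟨e⟩⟩
  · refine absurd (fun x => ?_) hne
    have key : ∀ g : QuaternionGroup 2, ∃ u v : QuaternionGroup 2, g ^ 2 = u * v * u⁻¹ * v⁻¹ := by decide
    obtain ⟨u, v, e1⟩ := key (e x)
    have : x ^ 2 = e.symm u * e.symm v * (e.symm u)⁻¹ * (e.symm v)⁻¹ := e.injective (by simpa using e1)
    rw [← map_pow, this, map_mul, map_mul, map_mul, hc (f (e.symm u)), map_inv, map_inv]
    group
  have hn2 : 2 ≤ n := by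
    by_contra! h
    obtain rfl : n = 1 := by omega
    refine hne fun x => ?_
    have : x ^ 2 = 1 := e.injective (by rw [map_pow, map_one]; exact sq_four _)
    rw [← map_pow, this, map_one]
  set O := pPrimeCore 2 G with hO
  have hOo : Odd (Nat.card O) := Nat.coprime_two_right.1 (CL.Grp.pPrimeCore_coprime 2 G)
  set π := QuotientGroup.mk' O with hπ
  have hinj : Function.Injective (π.subgroupMap (S : Subgroup G)) := by
    rw [injective_iff_map_eq_one]
    intro x hx
    have h3 : (x : G) ∈ (S : Subgroup G) ⊓ O := ⟨x.2, (QuotientGroup.eq_one_iff _).1 (congrArg Subtype.val hx)⟩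
    rw [CL.Grp.inf_pPrimeCore_eq_bot hS] at h3
    exact Subtype.ext h3
  have e1 := (MulEquiv.ofBijective _ ⟨hinj, π.subgroupMap_surjective _⟩).symm.trans
    (e.trans (MulEquiv.prodMultiplicative _ _).symm)
  obtain ⟨h3, -, h4⟩ := Cfsg.Agent.S0949.result (S.mapSurjective (QuotientGroup.mk'_surjective O)) n hn2 e1
    fun M hM ho => CL.Grp.pPrimeCore_eq_bot_iff.1 (CL.Grp.pPrimeCore_quotient_pPrimeCore 2 G) M hM
      (Nat.coprime_two_right.2 ho)
  refine solv_of_normal O (CL.Odd.feit_thompson hOo) (solv_of_normal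
    (S.mapSurjective (QuotientGroup.mk'_surjective O) : Subgroup (G ⧸ O)) ?_ (CL.Odd.feit_thompson ?_))
  · haveI := (S.mapSurjective (QuotientGroup.mk'_surjective O)).isPGroup'.isNilpotent
    infer_instance
  · rw [← Subgroup.index_eq_card]
    rcases h4 with e | e <;> rw [e] <;> decide

end Cfsg.Agent.S4418
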