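import Cfsg.Statements.S4419
import Cfsg.Agent.Fgs.NCompl
import Cfsg.Agent.Fgs.Metacyclic

set_option autoImplicit false
open Cfsg

namespace Cfsg.Agent.S4419

/-- Let p be a prime and G a finite group whose Sylow p-subgroups are metacyclic (a cyclic normal subgroup with cyclic quotient). Then G has a normal p-complement if and only if the order of G/O_{p′,p}(G) is coprime to p² − 1. -/
theorem result {G : Type*} [Group G] [Finite G] (p : ℕ) [Fact p.Prime] (S : Sylow p G) (hS : Cfsg.IsMetacyclic ↥(S : Subgroup G)) : Cfsg.HasNormalPComplement p G ↔ Nat.Coprime (Nat.card (G ⧸ Cfsg.pPrimePCore p G)) (p ^ 2 - 1) := by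
  have hp : p.Prime := Fact.out
  constructor
  · intro h
    have h1 : IsPGroup p (G ⧸ pPrimeCore p G) := CL.Grp.isPGroup_quotient_of_pResidual_le
      (CL.Grp.le_pPrimeCore (CL.Grp.hasNormalPComplement_iff_coprime_pResidual.1 h))
    have h2 : pPrimePCore p G = ⊤ := by
      rw [pPrimePCore, eq_top_iff.2 (CL.Grp.le_pCore (N := ⊤) (h1.to_subgroup ⊤)), Subgroup.comap_top]
    rw [← Subgroup.index_eq_card, h2, Subgroup.index_top]
    exact Nat.coprime_one_left _
  · intro h
    by_contra hn
    obtain ⟨Q, hQ, q, k, g, hq, hne, ho, hg, hc⟩ := CL.Grp.exists_primePow_not_mem_centralizer S hn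
    have hQp : IsPGroup p Q := S.isPGroup'.to_le hQ
    have hm : IsMetacyclic Q := CL.Fgs.mc_of_injective hS _ (Subgroup.inclusion_injective hQ)
    obtain ⟨j, h1, h2, h3⟩ := CL.Fgs.nc_dvd_of_not_cent (d := 2) hp hq hne hQp
      (CL.Fgs.mc_index_dvd hm _ (CL.Grp.pow_mem_frattini hQp)) ho hg hc
    have h4 : q ∣ p ^ 2 - 1 :=
      h3.trans (Nat.pow_sub_one_dvd_pow_sub_one p (by obtain rfl | rfl : j = 1 ∨ j = 2 := by omega
                                                      all_goals norm_num))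
    have hgq : CL.Fgs.IsPiElt {q} g := (CL.Fgs.isPiElt_singleton_iff hq).2 ⟨k, ho⟩
    have h5 : g ∈ pPrimePCore p G := CL.Fgs.nc_mem_of_relIndex (H := ⊤) trivial hgq fun r _ hr e => by
      rw [Subgroup.relIndex_top_right, Set.mem_singleton_iff.1 e] at hr
      exact hq.one_lt.ne' (Nat.eq_one_of_dvd_coprimes h hr h4)
    have h6 : g ∈ pPrimeCore p G := by
      rw [← QuotientGroup.eq_one_iff]
      refine CL.Grp.eq_one_of_coprime_of_mem (CL.Grp.pCore_isPGroup p _) h5 ?_
      refine Nat.Coprime.coprime_dvd_left (orderOf_map_dvd (QuotientGroup.mk' _) g) ?_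
      rw [ho]
      exact ((Nat.coprime_primes hq hp).2 hne).pow_left k
    refine hc (Subgroup.zpowers_le.1 ?_)
    rw [← CL.Odd.comm_eq_bot_iff, eq_bot_iff, ← CL.Grp.inf_pPrimeCore_eq_bot hQp]
    exact le_inf (CL.Odd.comm_le_right (Subgroup.zpowers_le.2 hg))
      ((Subgroup.commutator_mono (Subgroup.zpowers_le.2 h6) le_rfl).trans (Subgroup.commutator_le_left _ _))

end Cfsg.Agent.S4419
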