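import Cfsg.Statements.S4528
import Cfsg.Agent.Blk.MCMain
-- import your own Cfsg.Agent.* helpers here

set_option autoImplicit false
open Cfsg

namespace Cfsg.Agent.S4528

/-- Let B be a 2-block of the finite group G (relative to a maximal ideal M of the algebraic integers containing 2) whose defect group D is dihedral of order 2 ^ n with n ≥ 3. Then B contains exactly 2 ^ (n - 2) + 3 irreducible characters, its 2-regular rank (the number of irreducible Brauer characters) is between 1 and 3, exactly four of its members have height zero, and every member has height at most one. -/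
theorem result {G : Type*} [Group G] [Finite G] (M : Ideal Cfsg.AlgInt) (hM : Cfsg.IsPModular 2 M) (B : Set (Cfsg.IrrCharacter G)) (hB : Cfsg.IsPBlock M B) (D : Subgroup G) (hD : Cfsg.IsDefectGroup 2 M B D) (n : ℕ) (hn : 3 ≤ n) (hdih : Nonempty (D ≃* DihedralGroup (2 ^ (n - 1)))) : Nat.card B = 2 ^ (n - 2) + 3 ∧ 1 ≤ Cfsg.blockRank 2 B ∧ Cfsg.blockRank 2 B ≤ 3 ∧ Nat.card {χ : Cfsg.IrrCharacter G // χ ∈ B ∧ Cfsg.blockHeight 2 B (χ : G → ℂ) = 0} = 4 ∧ ∀ χ ∈ B, Cfsg.blockHeight 2 B (χ : G → ℂ) ≤ 1 := by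
  have := Fintype.ofFinite G
  obtain ⟨m, rfl⟩ : ∃ m, n = m + 1 := ⟨n - 1, by omega⟩
  obtain ⟨φ⟩ := hdih
  obtain ⟨D'⟩ := CL.Inv.nonempty_MC_of_dihedral (n := m) (by omega) φ
  obtain ⟨η₀, η₁, η₀', η₁', h1, h2, -, -, -, -, h3, h4, -⟩ := CL.Blk.MCB.exists_counts hM hB hD D'
  obtain rfl := h3 rfl
  obtain rfl := h4 rfl rfl
  have h5 := h1.card
  have h6 := CL.Blk.Rk.blockRank_pos Nat.prime_two (CL.Blk.tr_nonempty hM hB)
  rw [show m + 1 - 2 = m - 1 by omega]
  exact ⟨by omega, h6, by omega, h1.zero, h1.le_one rfl⟩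


end Cfsg.Agent.S4528
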