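import Cfsg.Statements.S4581
import Cfsg.Agent.Char.RealOdd2
import Cfsg.Agent.S4807

set_option autoImplicit false
open Cfsg

namespace Cfsg.Agent.S4581

/-- Let G be a finite solvable group, P a Sylow 2-subgroup and N its normalizer. Then G and N have the same number of real-valued irreducible characters of odd degree; and every odd-degree irreducible character of G is real-valued exactly when the derived subgroup of P equals the Frattini subgroup of P and P is its own normalizer in G. -/
theorem result {G : Type*} [Group G] [Finite G] [Group.IsSolvable G] (P : Sylow 2 G) :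
    Nat.card {χ : Cfsg.IrrCharacter G // (∀ g : G, ((χ : G → ℂ) g).im = 0) ∧ Odd (Cfsg.charDegree (χ : G → ℂ))} =
      Nat.card {ψ : Cfsg.IrrCharacter (Subgroup.normalizer ((P : Subgroup G) : Set G)) // (∀ g, ((ψ : Subgroup.normalizer ((P : Subgroup G) : Set G) → ℂ) g).im = 0) ∧ Odd (Cfsg.charDegree (ψ : Subgroup.normalizer ((P : Subgroup G) : Set G) → ℂ))} ∧
    ((∀ χ : Cfsg.IrrCharacter G, Odd (Cfsg.charDegree (χ : G → ℂ)) → ∀ g : G, ((χ : G → ℂ) g).im = 0) ↔
      (commutator (P : Subgroup G) = frattini (P : Subgroup G) ∧ Subgroup.normalizer ((P : Subgroup G) : Set G) = (P : Subgroup G))) := by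
  haveI : Fact (Nat.Prime 2) := ⟨Nat.prime_two⟩
  have h1 := CL.Char.RO.card_realOdd_normalizer P
  refine ⟨h1, Iff.trans ?_ (CL.Char.RO.all_real_iff P)⟩
  have h2 := Cfsg.Agent.S4807.result 2 (CL.Loc.isPSolvable_of_isSolvable inferInstance) ⊥ P P (bot_sup_eq _).symm
    bot_le (CL.Char.irrOne _) fun _ _ _ _ _ => rfl
  have key : ∀ {X : Type _} [Group X] [Finite X] (f : (⊥ : Subgroup G) →* X),
      Nat.card {χ : IrrCharacter X // ¬ 2 ∣ charDegree χ.1 ∧
        ∑ᶠ l, χ.1 (f l) * (starRingEnd ℂ) ((CL.Char.irrOne (⊥ : Subgroup G)).1 l) ≠ 0} =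
      Nat.card {χ : IrrCharacter X // Odd (charDegree χ.1)} := fun f =>
    Nat.card_congr (Equiv.subtypeEquivRight fun χ => by
      rw [finsum_unique, ← even_iff_two_dvd, Nat.not_even_iff_odd, Subsingleton.elim default 1, map_one]
      simpa using fun _ => χ.2.one_ne_zero)
  have key2 : ∀ {X : Type _} [Group X] [Finite X], (∀ χ : IrrCharacter X, Odd (charDegree χ.1) → ∀ g, (χ.1 g).im = 0) ↔
      Nat.card (CL.Char.RO.RealOdd X) = Nat.card {χ : IrrCharacter X // Odd (charDegree χ.1)} := by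
    intro X _ _
    refine ⟨fun h => Nat.card_congr (Equiv.subtypeEquivRight fun χ => and_iff_right_of_imp (h χ)), fun h χ ho => ?_⟩
    obtain ⟨a, e⟩ := ((Nat.bijective_iff_injective_and_card
      (fun a : CL.Char.RO.RealOdd X => (⟨a.1, a.2.2⟩ : {χ : IrrCharacter X // Odd (charDegree χ.1)}))).2
      ⟨fun a b e => Subtype.ext (Subtype.mk.inj e), h⟩).2 ⟨χ, ho⟩
    exact Subtype.mk.inj e ▸ a.2.1
  rw [key2, key2, h1, ← key (⊥ : Subgroup G).subtype, ← key (Subgroup.inclusion bot_le)]
  exact h2 ▸ Iff.rfl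

end Cfsg.Agent.S4581
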