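import Cfsg.Statements.S4609
import Cfsg.Agent.Blk.KThree3
import Cfsg.Agent.Grp.PGroupFrattini

set_option autoImplicit false
open Cfsg

namespace Cfsg.Agent.S4609

open CL.Blk CL.Grp Subgroup

theorem card_le_three {G : Type*} [Group G] [Finite G] {p : ℕ} [hp : Fact p.Prime] {M : Ideal AlgInt} (hM : IsPModular p M)
    {B : Set (IrrCharacter G)} (hB : IsPBlock M B) {P : Subgroup G} [P.Normal] (hP : IsDefectGroup p M B P)
    (h : Nat.card {χ : IrrCharacter G // χ ∈ B ∧ blockHeight p B (χ : G → ℂ) = 0} ≤ 3) : Nat.card P ≤ 3 := by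
  cases nonempty_fintype G
  have hPp := ((isDefectGroup_iff_maximal hM hB).1 hP).1
  have hC : ⁅P, P⁆ ≤ P := commutator_le_left P P
  obtain ⟨b, hb, hbB, hV⟩ := exists_dominated_isDefectGroup hM (hPp.to_le hC) hB hP
  have := ‹P.Normal›.map _ (QuotientGroup.mk'_surjective ⁅P, P⁆)
  have hc : ∀ a ∈ P.map (QuotientGroup.mk' ⁅P, P⁆), ∀ c ∈ P.map (QuotientGroup.mk' ⁅P, P⁆), a * c = c * a := by
    rintro _ ⟨a, ha, rfl⟩ _ ⟨c, hc, rfl⟩
    rw [← commutatorElement_eq_one_iff_mul_comm, ← map_commutatorElement]
    exact (QuotientGroup.eq_one_iff _).2 (commutator_mem_commutator ha hc)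
  have h1 : Nat.card (P.map (QuotientGroup.mk' ⁅P, P⁆)) = (commutator P).index := by
    rw [← relIndex_ker, QuotientGroup.ker_mk', relIndex, ← map_subtype_commutator, subgroupOf,
      comap_map_eq_self_of_injective P.subtype_injective]
  have h2 : Nat.card (⁅P, P⁆ : Subgroup G) * p ^ blockDefect p b = p ^ blockDefect p B := by
    rw [← card_defectGroup hM hb hV, ← card_defectGroup hM hB hP, ← relIndex_ker, QuotientGroup.ker_mk', card_mul_relIndex hC]
  have h3 : Nat.card b ≤ 3 := le_trans (Nat.card_le_card_of_injective (fun χ => ⟨inflIrr _ χ.1, hbB χ.2, by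
    have h4 := factorization_charDegree_add_blockDefect (p := p) χ.2
    have h5 := factorization_charDegree_add_blockDefect (p := p) (B := B) (hbB χ.2)
    have h6 := congrArg (Nat.factorization · p) h2
    rw [(comm_iff_height_zero_of_normal hM hb hV).1 hc _ χ.2] at h4
    rw [charDegree_inflIrr, card_eq_card_quotient_mul_card_subgroup ⁅P, P⁆,
      Nat.factorization_mul Nat.card_pos.ne' Nat.card_pos.ne', Finsupp.add_apply] at h5
    simp only [Nat.factorization_mul Nat.card_pos.ne' (pow_pos hp.1.pos _).ne', Finsupp.add_apply,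
      Nat.factorization_pow_self hp.1] at h6
    omega⟩) fun _ _ e => Subtype.ext (inflIrr_injective (congrArg Subtype.val e))) h
  have h4 : (commutator P).index ≤ 3 := by
    have := (pblock_nonempty hM hb).to_subtype
    have := Nat.card_pos (α := b)
    rw [← h1]
    obtain e | e | e : Nat.card b = 1 ∨ Nat.card b = 2 ∨ Nat.card b = 3 := by omega
    · rw [card_defectGroup hM hb hV, (blockDefect_eq_zero_iff_card hM hb).2 e]; norm_num
    · rw [(S4607.result p M hM b hb _ hV).1 e]; norm_num
    · exact (K3.card_eq_three_of_normal hM _ _ rfl b hb _ hV ⟨⟨fun a c => Subtype.ext (hc a a.2 c c.2)⟩⟩ e).le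
  have h5 : IsCyclic P := isCyclic_of_isCyclic_quotient_le_frattini _ (commutator_le_frattini hPp) (by
    have := Nat.card_pos (α := P ⧸ commutator P)
    obtain e | e | e : Nat.card (P ⧸ commutator P) = 1 ∨ Nat.card (P ⧸ commutator P) = 2 ∨
      Nat.card (P ⧸ commutator P) = 3 := by rw [index] at h4; omega
    · exact @isCyclic_of_subsingleton _ _ (Nat.card_eq_one_iff_unique.1 e).1
    · exact isCyclic_of_prime_card e
    · exact isCyclic_of_prime_card e)
  rwa [(commutator_eq_bot_iff P).2 inferInstance, index_bot] at h4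

/-- Let G be a finite group, p a prime, M a maximal ideal of the algebraic integers containing p, and B a p-block of G with defect group D containing exactly three irreducible characters. Suppose the number of height-zero characters of B equals the number of height-zero characters of its Brauer correspondent b, the block of N_G(D) with defect group D inducing B (as the Alperin–McKay conjecture predicts). Then D has order 3. -/
theorem result {G : Type*} [Group G] [Finite G] (p : ℕ) [Fact p.Prime] (M : Ideal Cfsg.AlgInt) (hM : Cfsg.IsPModular p M) (B : Set (Cfsg.IrrCharacter G)) (hB : Cfsg.IsPBlock M B) (D : Subgroup G) (hD : Cfsg.IsDefectGroup p M B D) (hk : Nat.card B = 3)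
    (b : Set (Cfsg.IrrCharacter (Subgroup.normalizer (D : Set G)))) (hbB : Cfsg.IsInducedBlock M (Subgroup.normalizer (D : Set G)) b B)
    (hbD : Cfsg.IsDefectGroup p M b (D.subgroupOf (Subgroup.normalizer (D : Set G))))
    (hAM : Nat.card {χ : Cfsg.IrrCharacter G // χ ∈ B ∧ Cfsg.blockHeight p B (χ : G → ℂ) = 0} =
           Nat.card {ψ : Cfsg.IrrCharacter (Subgroup.normalizer (D : Set G)) // ψ ∈ b ∧ Cfsg.blockHeight p b (ψ : Subgroup.normalizer (D : Set G) → ℂ) = 0}) :
    Nat.card D = 3 := by
  have h1 := card_le_three hM hbB.1 hbD (hAM ▸ hk ▸ Nat.card_le_card_of_injective (fun χ => (⟨χ.1, χ.2.1⟩ : B))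
    fun _ _ e => Subtype.ext (congrArg (fun x : B => x.1) e))
  rw [Nat.card_congr (subgroupOfEquivOfLe le_normalizer).toEquiv] at h1
  have h2 : Nat.card D ≠ 1 := fun e => by
    rw [card_defectGroup hM hB hD, Nat.pow_eq_one, or_iff_right (Fact.out : p.Prime).ne_one,
      blockDefect_eq_zero_iff_card hM hB] at e
    omega
  have h3 : Nat.card D ≠ 2 := fun e => by
    have := (S4607.result p M hM B hB D hD).2 e
    omega
  have := Nat.card_pos (α := D)
  omega

end Cfsg.Agent.S4609
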