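import Cfsg.Statements.S4776
import Cfsg.Agent.Char.RelDeg

set_option autoImplicit false
open Cfsg

namespace Cfsg.Agent.S4776

/-- Let N be a normal subgroup of the finite group G that is not perfect and is contained in the derived subgroup of G. Consider the common-divisor graph on the relative degree set cd(G|N) (the degrees of the irreducible complex characters of G whose kernel does not contain N; two distinct degrees adjacent when they have a common divisor greater than one). Then this graph has at most two connected components; and if a, b ∈ cd(G|N) lie in different components, then one of a, b is coprime to the index m of the derived subgroup of N in N while the other is divisible by every prime divisor of m. -/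
theorem result {G : Type*} [Group G] [Finite G] (N : Subgroup G) [N.Normal] (hN : ⁅N, N⁆ < N) (hNG : N ≤ commutator G) : Nat.card (Cfsg.commonDivisorGraph.induce (Cfsg.relCharDegrees N)).ConnectedComponent ≤ 2 ∧ ∀ (a b : ℕ) (ha : a ∈ Cfsg.relCharDegrees N) (hb : b ∈ Cfsg.relCharDegrees N), ¬ (Cfsg.commonDivisorGraph.induce (Cfsg.relCharDegrees N)).Reachable ⟨a, ha⟩ ⟨b, hb⟩ → (Nat.Coprime a (⁅N, N⁆.relIndex N) ∧ ∀ r : ℕ, r.Prime → r ∣ ⁅N, N⁆.relIndex N → r ∣ b) ∨ (Nat.Coprime b (⁅N, N⁆.relIndex N) ∧ ∀ r : ℕ, r.Prime → r ∣ ⁅N, N⁆.relIndex N → r ∣ a) := by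
  have := Fintype.ofFinite G
  have := Fintype.ofFinite N
  obtain ⟨p, hp, hd⟩ := Nat.exists_prime_and_dvd (n := ⁅N, N⁆.relIndex N) fun e =>
    hN.not_ge (Subgroup.relIndex_eq_one.1 e)
  constructor
  · refine CL.Char.card_components_le_two _ (fun v => p ∣ v) (fun v => ¬ p ∣ v) (fun v => em _)
      (fun v w => CL.Char.RelDeg.reach_dvd hp.ne_one) fun v w hv hw => ?_
    by_contra e
    exact (CL.Char.RelDeg.dvd_or hNG hp hd e).elim hv hw
  · have key : ∀ u v : relCharDegrees N, ¬ (CL.Char.RelDeg.Gr N).Reachable u v → p ∣ u →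
        Nat.Coprime v (⁅N, N⁆.relIndex N) ∧ ∀ r : ℕ, r.Prime → r ∣ ⁅N, N⁆.relIndex N → r ∣ u := fun u v h hu =>
      ⟨Nat.coprime_of_dvd fun r hr h1 h2 => CL.Char.RelDeg.dvd_all hNG hp hr hd h2 h hu h1, fun r hr h1 =>
        (CL.Char.RelDeg.dvd_or hNG hr h1 h).resolve_right (CL.Char.RelDeg.dvd_all hNG hp hr hd h1 h hu)⟩
    intro a b ha hb h
    exact (CL.Char.RelDeg.dvd_or hNG hp hd h).symm.imp (key _ _ fun e => h e.symm) (key _ _ h)

end Cfsg.Agent.S4776
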