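import Cfsg.Statements.S4779
import Cfsg.Agent.Char.RelDeg

set_option autoImplicit false
open Cfsg

namespace Cfsg.Agent.S4779

/-- Let N be a solvable normal subgroup of the finite group G contained in the derived subgroup of G, and consider the common-divisor graph on the relative degree set cd(G|N) (degrees of irreducible complex characters of G whose kernel does not contain N, two distinct degrees adjacent when not coprime). If this graph has two vertices that are not joined by any path, then there is a vertex a₀ such that any two distinct vertices in the component of a₀ are adjacent, and any two distinct vertices outside that component are adjacent or have a common neighbour (one component is complete, the other has diameter at most 2). -/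
theorem result {G : Type*} [Group G] [Finite G] (N : Subgroup G) [N.Normal] [Group.IsSolvable N] (hNG : N ≤ commutator G) (hdisc : ¬ (Cfsg.commonDivisorGraph.induce (Cfsg.relCharDegrees N)).Preconnected) : ∃ a₀ : ↥(Cfsg.relCharDegrees N), (∀ b c : ↥(Cfsg.relCharDegrees N), (Cfsg.commonDivisorGraph.induce (Cfsg.relCharDegrees N)).Reachable a₀ b → (Cfsg.commonDivisorGraph.induce (Cfsg.relCharDegrees N)).Reachable a₀ c → b ≠ c → (Cfsg.commonDivisorGraph.induce (Cfsg.relCharDegrees N)).Adj b c) ∧ (∀ b c : ↥(Cfsg.relCharDegrees N), ¬ (Cfsg.commonDivisorGraph.induce (Cfsg.relCharDegrees N)).Reachable a₀ b → ¬ (Cfsg.commonDivisorGraph.induce (Cfsg.relCharDegrees N)).Reachable a₀ c → b ≠ c → (Cfsg.commonDivisorGraph.induce (Cfsg.relCharDegrees N)).Adj b c ∨ ∃ d : ↥(Cfsg.relCharDegrees N), (Cfsg.commonDivisorGraph.induce (Cfsg.relCharDegrees N)).Adj b d ∧ (Cfsg.commonDivisorGraph.induce (Cfsg.relCharDegrees N)).Adj d c) := by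
  have := Fintype.ofFinite G
  have := Fintype.ofFinite N
  obtain ⟨u, v, h⟩ : ∃ u v, ¬ (CL.Char.RelDeg.Gr N).Reachable u v := by
    by_contra! e
    exact hdisc e
  obtain ⟨p, hp, hd⟩ := CL.Char.RelDeg.exists_prime u.2 ‹_›
  obtain ⟨a, b, h, ha⟩ : ∃ a b : relCharDegrees N, ¬ (CL.Char.RelDeg.Gr N).Reachable a b ∧ p ∣ a :=
    (CL.Char.RelDeg.dvd_or hNG hp hd h).elim (fun e => ⟨u, v, h, e⟩) fun e => ⟨v, u, fun e => h e.symm, e⟩
  have h1 : ∀ c, (CL.Char.RelDeg.Gr N).Reachable a c → p ∣ c := fun c hc =>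
    (CL.Char.RelDeg.dvd_or hNG hp hd fun e => h (hc.trans e)).resolve_right fun e =>
      h (CL.Char.RelDeg.reach_dvd hp.ne_one ha e)
  refine ⟨a, fun c d hc hd e => (CL.Char.RelDeg.eq_or_adj fun e1 => hp.ne_one
    (Nat.eq_one_of_dvd_coprimes e1 (h1 c hc) (h1 d hd))).resolve_left e, fun c d hc hd e => ?_⟩
  obtain ⟨w, hw, h2, h3⟩ := CL.Char.RelDeg.common N ‹_› ‹_› hNG c d a (fun e => hc e.symm) fun e => hd e.symm
  rcases CL.Char.RelDeg.eq_or_adj (b := ⟨w, hw⟩) h2 with rfl | h4
  · exact .inl ((CL.Char.RelDeg.eq_or_adj h3).resolve_left e.symm).symm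
  rcases CL.Char.RelDeg.eq_or_adj (b := ⟨w, hw⟩) h3 with rfl | h5
  · exact .inl h4
  · exact .inr ⟨_, h4, h5.symm⟩

end Cfsg.Agent.S4779
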