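import Cfsg.Statements.S4780
import Cfsg.Agent.ND4.Top
import Cfsg.Agent.ND4.GEN
import Cfsg.Agent.ND4.NRM
import Cfsg.Agent.ND4.PL
import Cfsg.Agent.ND4.TW
import Cfsg.Agent.ND4.CZ
import Cfsg.Agent.ND4.FR
import Cfsg.Agent.ND4.DEG
import Cfsg.Agent.ND4.J1
import Cfsg.Agent.ND4.J1p
import Cfsg.Agent.ND4.J2
import Cfsg.Agent.ND4.J2p
import Cfsg.Agent.ND4.J3
import Cfsg.Agent.ND4.J3p
import Cfsg.Agent.ND4.J4
import Cfsg.Agent.ND4.J4p
import Cfsg.Agent.ND4.J5
import Cfsg.Agent.ND4.J5p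
import Cfsg.Agent.ND4.PF
import Cfsg.Agent.ND4.JB
import Cfsg.Agent.ND4.PUA
import Cfsg.Agent.ND4.PUB
import Cfsg.Agent.ND4.PUC
import Cfsg.Agent.ND4.FIN
import Cfsg.Agent.ND4.CYC
import Cfsg.Agent.ND4.SPL
import Cfsg.Agent.ND4.RED1
import Cfsg.Agent.ND4.RED2
import Cfsg.Agent.ND4.RED3
import Cfsg.Agent.ND4.M1A
import Cfsg.Agent.ND4.M1B
import Cfsg.Agent.ND4.FREE
import Cfsg.Agent.ND4.M2A
import Cfsg.Agent.ND4.M2B
import Cfsg.Agent.ND4.FLD2
import Cfsg.Agent.ND4.M2C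
import Cfsg.Agent.ND4.TP3

set_option autoImplicit false
open Cfsg

namespace Cfsg.Agent.S4780

/-- Let G be a finite solvable group in which no irreducible complex character degree a with 1 < a divides a larger irreducible character degree. Then G has at most four distinct irreducible character degrees and the third derived subgroup of G is trivial. -/
theorem result {G : Type*} [Group G] [Finite G] [Group.IsSolvable G] (hnd : ∀ a ∈ Cfsg.charDegrees G, ∀ b ∈ Cfsg.charDegrees G, 1 < a → a < b → ¬ a ∣ b) : Nat.card ↥(Cfsg.charDegrees G) ≤ 4 ∧ derivedSeries G 3 = ⊥ := by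
  rw [CL.Char.card_charDegrees]
  refine (open CL.ND4 in top_of (fin deg (lay_of gen nrm pl tw cz fr (nc4_of pua (jb pf) pub puc) j1 j1p j2 j2p j3 j3p
    j4 j4p j5 j5p)) cyc spl red1 red2 red3 deg m1a m1b free m2a m2b fld2 m2c tp3) G inferInstance
    fun a ha b hb a1 hab => ?_
  have h1 := CL.Char.pos_of_mem_cdSet ha
  by_contra e
  exact hnd a (CL.Char.mem_charDegrees_iff.2 ha) b (CL.Char.mem_charDegrees_iff.2 hb) (by omega)
    (lt_of_le_of_ne (Nat.le_of_dvd (CL.Char.pos_of_mem_cdSet hb) hab) e) hab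

end Cfsg.Agent.S4780
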