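import Cfsg.Statements.S4841
import Cfsg.Agent.Ggn.Main
import Cfsg.Agent.Ggn.B2
import Cfsg.Agent.Ggn.BP
import Cfsg.Agent.Ggn.CPI
import Cfsg.Agent.Ggn.QS
import Cfsg.Agent.Ggn.TR
import Cfsg.Agent.Ggn.DESC
import Cfsg.Agent.Ggn.KILL
import Cfsg.Agent.Ggn.FRM
import Cfsg.Agent.Ggn.FB
import Cfsg.Agent.Ggn.WA
import Cfsg.Agent.Ggn.WB
import Cfsg.Agent.Ggn.WK
import Cfsg.Agent.Ggn.WL
import Cfsg.Agent.Ggn.LAST
import Cfsg.Agent.Ggn.E1
import Cfsg.Agent.Ggn.E2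
import Cfsg.Agent.Ggn.E3
import Cfsg.Agent.Ggn.SZ
import Cfsg.Agent.Ggn.SIMP
import Cfsg.Agent.Ggn.FIN
import Cfsg.Agent.Ggn.OUT
import Cfsg.Agent.Ggn.PERF
import Cfsg.Agent.Ggn.XC
import Cfsg.Agent.Ggn.CNT
import Cfsg.Agent.Ggn.MIN
import Cfsg.Agent.Ggn.NUM
import Cfsg.Agent.Ggn.A7
import Cfsg.Agent.Ggn.EX
import Cfsg.Agent.Ggn.COP
-- import your own Cfsg.Agent.* helpers here

set_option autoImplicit false
open Cfsg

namespace Cfsg.Agent.S4841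

/-- Let G be a finite non-solvable group with an irreducible character nonzero on exactly two conjugacy classes. Then O_p(G) ≠ 1 for exactly one prime p, and H = G/O_p(G) has one of the following shapes: (i) H has a normal subgroup S isomorphic to SL₂(F) for a finite field F of characteristic p with more than 2 elements, with H/S a cyclic p-group and C_H(S) = Z(S); (ii) p = 3 and H has a normal subgroup S of index 2 isomorphic to SL₂(5) with C_H(S) = Z(S) and no complement in H; (iii) p = 3 and H ≅ SL₂(13); (iv) p = 11 and H ≅ SL₂(5); (v) p = 29 and H ≅ SL₂(5) × C₇; (vi) p = 59 and H ≅ SL₂(5) × C₂₉. -/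
theorem result {G : Type*} [Group G] [Finite G] (hns : ¬ Group.IsSolvable G) (χ : Cfsg.IrrCharacter G) (hχ : Nat.card {C : ConjClasses G // ∃ g ∈ C.carrier, (χ : G → ℂ) g ≠ 0} = 2) :
    ∃ p : ℕ, p.Prime ∧ (∀ q : ℕ, q.Prime → (Cfsg.pCore q G ≠ ⊥ ↔ q = p)) ∧
      ((∃ (F : Type) (_ : Field F) (_ : Fintype F), (∃ a : ℕ, Fintype.card F = p ^ a) ∧ 2 < Fintype.card F ∧
          ∃ S : Subgroup (G ⧸ Cfsg.pCore p G), S.Normal ∧ Nonempty (S ≃* Matrix.SpecialLinearGroup (Fin 2) F) ∧ (∃ k : ℕ, S.index = p ^ k) ∧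
            (∃ h : (G ⧸ Cfsg.pCore p G), S ⊔ Subgroup.zpowers h = ⊤) ∧ Subgroup.centralizer (S : Set (G ⧸ Cfsg.pCore p G)) = (Subgroup.center S).map S.subtype) ∨
       (p = 3 ∧ ∃ S : Subgroup (G ⧸ Cfsg.pCore p G), S.Normal ∧ S.index = 2 ∧ Nonempty (S ≃* Matrix.SpecialLinearGroup (Fin 2) (ZMod 5)) ∧
            Subgroup.centralizer (S : Set (G ⧸ Cfsg.pCore p G)) = (Subgroup.center S).map S.subtype ∧ ∀ K : Subgroup (G ⧸ Cfsg.pCore p G), ¬ Subgroup.IsComplement' S K) ∨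
       (p = 3 ∧ Nonempty ((G ⧸ Cfsg.pCore p G) ≃* Matrix.SpecialLinearGroup (Fin 2) (ZMod 13))) ∨
       (p = 11 ∧ Nonempty ((G ⧸ Cfsg.pCore p G) ≃* Matrix.SpecialLinearGroup (Fin 2) (ZMod 5))) ∨
       (p = 29 ∧ Nonempty ((G ⧸ Cfsg.pCore p G) ≃* Matrix.SpecialLinearGroup (Fin 2) (ZMod 5) × Multiplicative (ZMod 7))) ∨
       (p = 59 ∧ Nonempty ((G ⧸ Cfsg.pCore p G) ≃* Matrix.SpecialLinearGroup (Fin 2) (ZMod 5) × Multiplicative (ZMod 29)))) :=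
  open CL.Ggn in
  main b2 (cpi bp) qs tr desc lift kill frm fb wa wb wk wl last e1 e2 (e3 cnt0) sz (simpThm perf) (finThm outThm) perf
    (xc cnt0 cnt minThm numThm) (a7 cnt0 cnt) (ex5 outThm) (ex13 outThm) (cop cnt0 outThm) reg hns χ hχ

end Cfsg.Agent.S4841
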