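import Cfsg.Statements.S4848
import Cfsg.Agent.S4456
import Cfsg.Agent.S4558
import Cfsg.Agent.Char.VanOrd
import Cfsg.Agent.Char.DegIto
import Cfsg.Agent.Grp.Frob

set_option autoImplicit false
open Cfsg

namespace Cfsg.Agent.S4848

open CL.Char CL.Char.VanOrd
open scoped commutatorElement

/-- Noncentral elements of a finite nilpotent group are vanishing elements. -/
theorem van_of_notMem_center {G : Type*} [Group G] [Finite G] [Group.IsNilpotent G] (y : G)
    (hy : y ∉ Subgroup.center G) : Van y := by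
  refine Group.nilpotent_center_quotient_ind
    (P := fun G _ _ => Finite G → ∀ y : G, y ∉ Subgroup.center G → Van y) G ?_ ?_ ‹_› y hy
  · intro G _ _ _ y hy
    exact absurd (Subgroup.mem_center_iff.2 fun g => Subsingleton.elim _ _) hy
  · intro G _ _ ih _ y hy
    by_cases h : (QuotientGroup.mk' (Subgroup.center G) y) ∈ Subgroup.center _
    · obtain ⟨g, hg⟩ : ∃ g, g * y ≠ y * g := by
        by_contra! h
        exact hy (Subgroup.mem_center_iff.2 h)
      have hz : g * y * g⁻¹ * y⁻¹ ∈ Subgroup.center G := by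
        rw [← QuotientGroup.eq_one_iff]
        have h2 := Subgroup.mem_center_iff.1 h (g : G ⧸ Subgroup.center G)
        simp only [QuotientGroup.mk'_apply] at h2
        simp only [QuotientGroup.mk_mul, QuotientGroup.mk_inv, h2]
        group
      obtain ⟨χ, hχ⟩ : ∃ χ : IrrCharacter G, (χ : G → ℂ) (g * y * g⁻¹ * y⁻¹) ≠ (χ : G → ℂ) 1 := by
        by_contra! h1
        have := isConj_one_left.1 ((isConj_iff_forall_irr _ _).2 h1)
        rw [mul_inv_eq_one, mul_inv_eq_iff_eq_mul] at this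
        exact hg this
      refine ⟨χ, χ.2, ?_⟩
      have h1 := apply_mul_of_mem_charCenter χ.2.one_ne_zero (χ.2.center_le_charCenter hz) y
      rw [inv_mul_cancel_right, χ.2.isClassFunction y g] at h1
      by_contra h2
      rw [eq_comm, mul_eq_right₀ h2, div_eq_one_iff_eq χ.2.one_ne_zero] at h1
      exact hχ h1
    · exact Van.of_map _ (QuotientGroup.mk'_surjective _) (ih inferInstance _ h)

/-- Let p be a prime and G a finite non-commutative group in which every vanishing element (an element at which some irreducible character is zero) has order a positive power of p. Then either G is a p-group, or the centre of G equals O_p(G) and G/Z(G) is a Frobenius group with a Frobenius complement of p-power order. -/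
theorem result {G : Type*} [Group G] [Finite G] (hna : ¬ IsMulCommutative G) (p : ℕ) [Fact p.Prime] (hvan : ∀ g : G, (∃ χ : Cfsg.IrrCharacter G, (χ : G → ℂ) g = 0) → ∃ m : ℕ, 1 ≤ m ∧ orderOf g = p ^ m) :
    IsPGroup p G ∨ (Subgroup.center G = Cfsg.pCore p G ∧ ∃ H : Subgroup (G ⧸ Subgroup.center G), Cfsg.IsFrobeniusComplement H ∧ IsPGroup p H) := by
  classical
  have hp : p.Prime := Fact.out
  have hv : ∀ g : G, Van g → ∃ m, orderOf g = p ^ m := fun g ⟨χ, h1, h2⟩ =>
    let ⟨m, _, h⟩ := hvan g ⟨⟨χ, h1⟩, h2⟩; ⟨m, h⟩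
  have hz : ∀ χ : G → ℂ, IsIrrCharacter G χ → charDegree χ ≠ 1 → ∃ x, χ x = 0 := fun χ hχ h1 =>
    irr_exists_eq_zero hχ fun h => h1 (hχ.isCharacter.charDegree_eq_one_iff.2 h)
  obtain ⟨K, hKn, hKc, k, hKi⟩ := Cfsg.Agent.S4456.result (G := G) p hp fun χ h1 => by
    obtain ⟨x, hx⟩ := hz χ χ.2 h1
    exact Cfsg.Agent.S4558.result p χ χ.2.isCharacter x (hv x ⟨χ, χ.2, hx⟩) hx
  by_cases hK : K = ⊥
  · left
    rw [hK, Subgroup.index_bot] at hKi
    exact IsPGroup.of_card hKi
  right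
  have hK' : ¬ p ∣ Nat.card K := (Nat.Prime.coprime_iff_not_dvd hp).1 hKc.symm
  obtain ⟨x, hxv, hxz⟩ : ∃ x : G, Van x ∧ x ∉ Subgroup.center G := by
    by_contra! h
    refine hna ⟨⟨comm_of_forall_charDegree_eq_one fun χ hχ => ?_⟩⟩
    by_contra h1
    obtain ⟨x, hx⟩ := hz χ hχ h1
    have := norm_apply_of_mem_charCenter (hχ.center_le_charCenter (h x ⟨χ, hχ, hx⟩))
    rw [hx, norm_zero, eq_comm, norm_eq_zero] at this
    exact hχ.one_ne_zero this
  obtain ⟨m, hm⟩ := hv x hxv
  have hxp : IsPGroup p (Subgroup.zpowers x) := IsPGroup.of_card (by rw [Nat.card_zpowers, hm])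
  obtain ⟨P, hP⟩ := hxp.exists_le_sylow
  have hxP : x ∈ (P : Subgroup G) := hP (Subgroup.mem_zpowers x)
  have hKP : ∀ g, g ∈ K → g ∈ (P : Subgroup G) → g = 1 := fun g h1 h2 =>
    let ⟨_, h⟩ := pow_eq_one_of_mem P.2 h2; eq_one_of_mem hK' h1 h
  have hpow : ∀ g : G, g ^ p ^ k ∈ K := fun g => hKi ▸ K.pow_index_mem g
  have hdec : ∀ g : G, ∃ c ∈ K, ∃ s ∈ (P : Subgroup G), g = c * s := fun g =>
    le_sup_of_pow (L := ⊤) (CL.Grp.isSylowIn_top P) (fun g _ => ⟨k, hpow g⟩) (Subgroup.mem_top g)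
  have hQ : IsPGroup p (G ⧸ K) := IsPGroup.of_card (n := k) hKi
  have F1 : ∀ y ∈ (P : Subgroup G), ∀ c ∈ K, c ≠ 1 → c * y = y * c → y ∈ Subgroup.center G := by
    intro y hy c hc hc1 hcy
    have hnv : ¬ Van (c * y) := fun h => by
      obtain ⟨n, hn⟩ := hv _ h
      have h1 : c ^ p ^ n * y ^ p ^ n = 1 := by
        rw [← Commute.mul_pow hcy, ← hn, pow_orderOf_eq_one]
      have h2 : c ^ p ^ n = 1 := hKP _ (pow_mem hc _) (by
        rw [eq_inv_of_mul_eq_one_left h1]; exact inv_mem (pow_mem hy _))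
      exact hc1 (eq_one_of_mem hK' hc h2)
    have hA : ∀ g : G, g⁻¹ * (c * y) * g * y⁻¹ ∈ K := by
      have h1 : (QuotientGroup.mk' K (c * y)) ∈ Subgroup.center (G ⧸ K) := by
        by_contra h
        haveI := hQ.isNilpotent
        exact hnv (Van.of_map _ (QuotientGroup.mk'_surjective K) (van_of_notMem_center _ h))
      intro g
      rw [← QuotientGroup.eq_one_iff]
      have h2 := Subgroup.mem_center_iff.1 h1 (g : G ⧸ K)
      have h3 : (c : G ⧸ K) = 1 := (QuotientGroup.eq_one_iff c).2 hc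
      simp only [QuotientGroup.mk'_apply, QuotientGroup.mk_mul, h3, one_mul] at h2
      simp only [QuotientGroup.mk_mul, QuotientGroup.mk_inv, h3, one_mul]
      rw [mul_assoc (g : G ⧸ K)⁻¹, ← h2, inv_mul_cancel_left, mul_inv_cancel]
    have hB : ∀ θ : K → ℂ, IsIrrCharacter K θ → y ∈ inertia K θ := by
      intro θ hθ
      by_contra h
      have := Fintype.ofFinite G
      have := Fintype.ofFinite K
      obtain ⟨χ, h1, h2⟩ := exists_irr_over K hθ
      obtain ⟨ψ, -, rfl, -⟩ := clifford_corr_inertia_surj hθ rfl (le_inertia hθ.isClassFunction) h1 h2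
      refine hnv ⟨_, h1, indFun_eq_zero_of_conj _ fun g hg => (h ?_).elim⟩
      have h3 := mul_mem (inv_mem (le_inertia hθ.isClassFunction (hA g))) hg
      rwa [show (g⁻¹ * (c * y) * g * y⁻¹)⁻¹ * (g⁻¹ * (c * y) * g) = y by group] at h3
    have hC : Subgroup.zpowers y ≤ Subgroup.centralizer (K : Set G) := by
      obtain ⟨n, hn⟩ := IsPGroup.iff_card.1 (P.2.to_le (Subgroup.zpowers_le.2 hy))
      refine le_centralizer_of_forall_le_inertia (hn ▸ (hKc.symm.pow_left n)) (Or.inl ?_)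
        fun θ hθ => Subgroup.zpowers_le.2 (hB θ hθ)
      exact Group.isSolvable_of_comm fun a b => mul_comm' a b
    rw [Subgroup.mem_center_iff]
    intro g
    obtain ⟨d, hd, s, hs, rfl⟩ := hdec g
    have h1 : d * y = y * d := hC (Subgroup.mem_zpowers y) d hd
    have h2 : s⁻¹ * y * s * y⁻¹ = 1 := by
      refine hKP _ ?_ (mul_mem (mul_mem (mul_mem (inv_mem hs) hy) hs) (inv_mem hy))
      have h3 := mul_mem (hKn.conj_mem _ (inv_mem hc) s⁻¹) (hA s)
      simpa [mul_assoc] using h3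
    have h3 : y * s = s * y := by
      rw [mul_inv_eq_one, mul_assoc, inv_mul_eq_iff_eq_mul] at h2
      exact h2
    rw [mul_assoc, ← h3, ← mul_assoc, h1, mul_assoc]
  have F2 : Subgroup.center G ≤ (P : Subgroup G) ∧ IsPGroup p (Subgroup.center G) := by
    have h1 : IsPGroup p (Subgroup.center G) := fun z => ⟨k, Subtype.ext (by
      by_contra h
      exact hxz (F1 x hxP _ (hpow z) h (Subgroup.mem_center_iff.1 (pow_mem z.2 _) x).symm))⟩
    exact ⟨h1.le_sylow_of_normal P, h1⟩
  obtain ⟨c, hc, hc1⟩ : ∃ c ∈ K, c ≠ 1 := by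
    by_contra! h
    exact hK (eq_bot_iff.2 h)
  have hmem : ∀ g : G, (g : G ⧸ Subgroup.center G) ∈
      (P : Subgroup G).map (QuotientGroup.mk' (Subgroup.center G)) → g ∈ (P : Subgroup G) := by
    rintro g ⟨s, hs, h⟩
    have := mul_mem hs (F2.1 (QuotientGroup.eq.1 h))
    simpa using this
  refine ⟨le_antisymm (le_sSup ⟨inferInstance, F2.2⟩) fun u hu => ?_,
    (P : Subgroup G).map (QuotientGroup.mk' _), ?_, P.2.map _⟩
  · have hO := CL.Grp.pCore_isPGroup p G
    refine F1 u (hO.le_sylow_of_normal P hu) c hc hc1 ?_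
    have h1 : c * u * c⁻¹ * u⁻¹ = 1 := by
      refine hKP _ ?_ (hO.le_sylow_of_normal P (mul_mem
        ((inferInstance : (pCore p G).Normal).conj_mem u hu c) (inv_mem hu)))
      have := mul_mem hc (hKn.conj_mem _ (inv_mem hc) u)
      simpa [mul_assoc] using this
    rw [mul_inv_eq_one, mul_inv_eq_iff_eq_mul] at h1
    exact h1
  · refine CL.Grp.frob_of_isMalnormal ?_ (fun h => hxz ?_) fun h => hc1 (hKP c hc (hmem c ?_))
    · rintro _ ⟨y, hy, rfl⟩ hy1 g hg
      obtain ⟨g, rfl⟩ := QuotientGroup.mk_surjective g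
      obtain ⟨d, hd, s, hs, rfl⟩ := hdec g
      have h1 := hmem (d * s * y * (d * s)⁻¹) hg
      have h2 : s * y * s⁻¹ ∈ (P : Subgroup G) := mul_mem (mul_mem hs hy) (inv_mem hs)
      have h3 : d * (s * y * s⁻¹) * d⁻¹ * (s * y * s⁻¹)⁻¹ = 1 := by
        refine hKP _ ?_ (mul_mem (by simpa [mul_assoc] using h1) (inv_mem h2))
        have := mul_mem hd (hKn.conj_mem _ (inv_mem hd) (s * y * s⁻¹))
        simpa [mul_assoc] using this
      rw [mul_inv_eq_one, mul_inv_eq_iff_eq_mul] at h3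
      by_cases hd1 : d = 1
      · exact ⟨s, hs, by rw [hd1, one_mul]; rfl⟩
      · have h4 := (inferInstance : (Subgroup.center G).Normal).conj_mem _ (F1 _ h2 d hd hd1 h3) s⁻¹
        exact absurd ((QuotientGroup.eq_one_iff y).2 (by simpa [mul_assoc] using h4)) hy1
    · have : (x : G ⧸ Subgroup.center G) ∈ (⊥ : Subgroup _) := h ▸ ⟨x, hxP, rfl⟩
      exact (QuotientGroup.eq_one_iff x).1 this
    · rw [h]; trivial

end Cfsg.Agent.S4848
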