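import Cfsg.Statements.S4862
import Cfsg.Agent.Char.RealPPrime

set_option autoImplicit false
open Cfsg

namespace Cfsg.Agent.S4862

open CL.Char

/-- Let p be an odd prime and G a finite group such that the subgroup generated by the p-elements of G is solvable and every real-valued irreducible complex character of G has degree prime to p. Let K be the subgroup generated by the 2-elements of G and P a Sylow p-subgroup of G. Then every normal subgroup M of G contained in K and in the derived subgroup of P is centralized by K. -/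
theorem result {G : Type*} [Group G] [Finite G] (p : ℕ) [Fact p.Prime] (hp : p ≠ 2) (hsolv : Group.IsSolvable ↥(Subgroup.closure {g : G | ∃ k : ℕ, orderOf g = p ^ k})) (hreal : ∀ χ : Cfsg.IrrCharacter G, (∀ g : G, ((χ : G → ℂ) g).im = 0) → ¬ p ∣ Cfsg.charDegree (χ : G → ℂ)) (P : Sylow p G) (M : Subgroup G) (hM : M.Normal) (hMK : M ≤ (Subgroup.closure {g : G | ∃ k : ℕ, orderOf g = 2 ^ k})) (hMP : M ≤ ⁅(P : Subgroup G), (P : Subgroup G)⁆) : (Subgroup.closure {g : G | ∃ k : ℕ, orderOf g = 2 ^ k}) ≤ Subgroup.centralizer (M : Set G) := by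
  classical
  have := Fintype.ofFinite G
  refine (Subgroup.closure_le _).2 fun t ⟨k, hk⟩ => ?_
  by_contra ht
  have hle : M ≤ P := hMP.trans (Subgroup.commutator_le.2 fun a ha b hb =>
    P.1.mul_mem (P.1.mul_mem (P.1.mul_mem ha hb) (P.1.inv_mem ha)) (P.1.inv_mem hb))
  obtain ⟨y, hy, hy1, hyr⟩ := rpp_exists_real_mem (k := k) (hk ▸ pow_orderOf_eq_one t) ht
  obtain ⟨n, hn⟩ := (P.isPGroup'.to_le hle).exists_card_eq
  obtain ⟨χ, hχ, hχr, h1⟩ := rpp_exists_real_not_le
    (hn ▸ ((Fact.out : p.Prime).odd_of_ne_two hp).pow) hy hy1 hyr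
  obtain ⟨μ, hμ, hμ1, h2⟩ := exists_linear_constituent P.isPGroup'
    (hχ.isCharacter.comp (P : Subgroup G).subtype) (hreal ⟨χ, hχ⟩ hχr)
  have h3 : (fun m : M => μ (Subgroup.inclusion hle m)) = fun _ => 1 := funext fun m => by
    rw [← hμ1]
    refine apply_eq_one_of_mem_charKer (commutator_le_charKer_of_one_eq_one hμ.isCharacter hμ1 ?_)
    have h4 := hMP m.2
    rw [← Subgroup.map_subtype_commutator] at h4
    obtain ⟨z, hz, hzm⟩ := h4
    rwa [← (Subtype.ext hzm : z = Subgroup.inclusion hle m)]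
  have h4 := classInner_comp_ne_zero_of_constituent (Subgroup.inclusion hle)
    (hχ.isCharacter.comp (P : Subgroup G).subtype) hμ isIrrCharacter_one.isCharacter h2
    (by rw [h3, isIrrCharacter_one.classInner_self]; exact one_ne_zero)
  exact h1 fun m hm => hχ.mem_charKer.2 (apply_eq_one_of_classInner_res_one_ne_zero hχ h4 hm)

end Cfsg.Agent.S4862
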