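import Cfsg.Statements.S4881
import Cfsg.Agent.R3.Main
import Cfsg.Agent.R3.Ue
import Cfsg.Agent.R3.Srg
import Cfsg.Agent.R3.Cnt
import Cfsg.Agent.R3.Cc
import Cfsg.Agent.R3.Dich
import Cfsg.Agent.R3.Imp
import Cfsg.Agent.R3.Core
import Cfsg.Agent.R3.Fin
import Cfsg.Agent.R3.Two
import Cfsg.Agent.R3.Num

set_option autoImplicit false
open Cfsg

namespace Cfsg.Agent.S4881

/-- Let p be a prime and G a finite p-solvable group with exactly three conjugacy classes of p-elements (counting the identity). Then twice the number of conjugacy classes of p-regular elements of G is at least p − 1, with equality if and only if p is odd, G has order p(p − 1)/2 and G embeds in the one-dimensional affine group over the field with p elements (so G is that group's subgroup of index 2: cyclic of order p extended by cyclic of order (p − 1)/2). -/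
theorem result {G : Type*} [Group G] [Finite G] (p : ℕ) [Fact p.Prime] (hsolv : Cfsg.IsPSolvable p G) (h3 : Nat.card {c : ConjClasses G // ∃ g : G, ConjClasses.mk g = c ∧ ∃ k : ℕ, orderOf g = p ^ k} = 3) : p - 1 ≤ 2 * Nat.card {c : ConjClasses G // ∃ g : G, ConjClasses.mk g = c ∧ ¬ p ∣ orderOf g} ∧ (2 * Nat.card {c : ConjClasses G // ∃ g : G, ConjClasses.mk g = c ∧ ¬ p ∣ orderOf g} = p - 1 ↔ (p ≠ 2 ∧ 2 * Nat.card G = p * (p - 1) ∧ ∃ f : G →* ↥(Cfsg.affineGroup (ZMod p)), Function.Injective f)) := by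
  have hp : p.Prime := Fact.out
  rw [← CL.Fgs.kPi_eq_card ({p}ᶜ : Set ℕ) _ fun x => ⟨fun ⟨g, hg, h⟩ =>
    ((CL.Fgs.isPiElt_compl_singleton_iff hp).2 h).of_isConj (ConjClasses.mk_eq_mk_iff_isConj.1 hg),
    fun h => ⟨x, rfl, (CL.Fgs.isPiElt_compl_singleton_iff hp).1 h⟩⟩]
  rw [← CL.Fgs.kPi_eq_card ({p} : Set ℕ) _ fun x => ⟨fun ⟨g, hg, h⟩ =>
    ((CL.Fgs.isPiElt_singleton_iff hp).2 h).of_isConj (ConjClasses.mk_eq_mk_iff_isConj.1 hg),
    fun h => ⟨x, rfl, (CL.Fgs.isPiElt_singleton_iff hp).1 h⟩⟩] at h3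
  open CL.Rk3L in
  exact fin (core (main dich imp ft ue srg cnt cc sm num two)) G p hsolv h3

end Cfsg.Agent.S4881
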