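import Cfsg.Statements.S4903
import Cfsg.Agent.Char.LgMain
import Cfsg.Agent.Char.LgKL
import Cfsg.Agent.Char.LgFIN
import Cfsg.Agent.Char.LgST
import Cfsg.Agent.Char.LgRED
import Cfsg.Agent.Char.LgBR
import Cfsg.Agent.Char.LgN19
import Cfsg.Agent.Char.LgC33
import Cfsg.Agent.Char.LgMU

set_option autoImplicit false
open Cfsg

namespace Cfsg.Agent.S4903

/-- Let G be a finite group with a faithful irreducible complex character of degree 16, p a prime with p ≥ 19, and P a Sylow p-subgroup of G. Then P is normal in G, or p = 31 and the quotient of G by its centre is isomorphic to PSL(2,31). -/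
theorem result {G : Type*} [Group G] [Finite G] (χ : Cfsg.IrrCharacter G) (hdeg : Cfsg.charDegree (χ : G → ℂ) = 16) (hfaith : ∀ g : G, (χ : G → ℂ) g = (χ : G → ℂ) 1 → g = 1) (p : ℕ) [Fact p.Prime] (hp : 19 ≤ p) (P : Sylow p G) : (P : Subgroup G).Normal ∨ (p = 31 ∧ Nonempty (G ⧸ Subgroup.center G ≃* Matrix.ProjectiveSpecialLinearGroup (Fin 2) (ZMod 31))) := by
  refine (CL.LG.main_big χ.2 (CL.Char.charKer_eq_bot_of_faithful hfaith) (by omega) (by omega) (by omega)
    CL.LG.red (CL.LG.kl1 (CL.LG.st CL.LG.dl CL.LG.bt)) (CL.LG.fin (CL.LG.st CL.LG.dl CL.LG.bt)) CL.LG.br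
    (CL.LG.n19 CL.LG.mu CL.LG.i3) CL.LG.c33 P).imp_right ?_
  rintro (⟨h1, h2⟩ | ⟨h, -⟩ | ⟨h, -⟩ | ⟨h, -⟩)
  · have h3 : p ≠ 33 := fun e => absurd (e ▸ (Fact.out : p.Prime)) (by decide)
    obtain rfl : p = 31 := by omega
    exact ⟨rfl, h1⟩
  all_goals omega

end Cfsg.Agent.S4903
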