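import Cfsg.Statements.S4997
import Cfsg.Agent.Char.VanOrd
-- import your own Cfsg.Agent.* helpers here

set_option autoImplicit false
open Cfsg

namespace Cfsg.Agent.S4997

/-- Let p be an odd prime and G a finite solvable group with exactly one conjugacy class consisting of vanishing elements (elements at which some irreducible complex character is zero) of order divisible by p. Let P be a Sylow p-subgroup of G. Then the order of P is at most p times the order of the largest normal p-subgroup of G. -/
theorem result {G : Type*} [Group G] [Finite G] (hsolv : Group.IsSolvable G) (p : ℕ) [Fact p.Prime] (hp : p ≠ 2) (h1 : Set.ncard {C : ConjClasses G | (∀ g ∈ C.carrier, ∃ χ : Cfsg.IrrCharacter G, (χ : G → ℂ) g = 0) ∧ ∃ g ∈ C.carrier, p ∣ orderOf g} = 1) (P : Sylow p G) : Nat.card ↥(P : Subgroup G) ≤ p * Nat.card ↥(Cfsg.pCore p G) := by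
  open CL.Char.VanOrd CL.Grp in
  obtain ⟨C, hC⟩ := Set.ncard_eq_one.1 h1
  have key : ∀ x : G, Van x → p ∣ orderOf x → ConjClasses.mk x = C := fun x ⟨χ, h2, h3⟩ h4 =>
    hC.le (show ConjClasses.mk x ∈ _ from ⟨fun g hg => ⟨⟨χ, h2⟩, by
      obtain ⟨c, rfl⟩ := isConj_iff.1 (ConjClasses.mk_eq_mk_iff_isConj.1
        (ConjClasses.mem_carrier_iff_mk_eq.1 hg).symm)
      exact (h2.isClassFunction _ _).trans h3⟩, x, ConjClasses.mem_carrier_mk, h4⟩)
  have h := card_map_le hsolv (fun x y hx hy h1 h2 => by
    obtain ⟨c, rfl⟩ := isConj_iff.1 (ConjClasses.mk_eq_mk_iff_isConj.1 ((key x hx h1).trans (key y hy h2).symm))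
    exact ((MulAut.conj c).orderOf_eq x).symm) P
  have hle : pCore p G ≤ P := (pCore_isPGroup p G).le_sylow_of_normal P
  rw [← Nat.card_congr (quotientSubgroupOfEquivMap (P : Subgroup G) (pCore p G)).toEquiv] at h
  rw [card_eq_relIndex_mul_card hle]
  exact Nat.mul_le_mul_right _ h


end Cfsg.Agent.S4997
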