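import Cfsg.Statements.S5215
import Cfsg.Agent.Fus.WRGroups

set_option autoImplicit false
open Cfsg

namespace Cfsg.Agent.S5215

open CL.Fus CL.Inv

theorem aux {Ω G : Type*} [Group Ω] [Group G] {S : Subgroup Ω} {F : Cfsg.FusionSystem S} {T : Sylow 2 G}
    (h : ∃ θ η, FIso F (groupFusionSystem (T : Subgroup G)) θ η) :
    ∃ ι : S →* G, F.IsRealizedBy ι ∧ ∃ T : Sylow 2 G, (T : Subgroup G) = ι.range := by
  obtain ⟨θ, η, h⟩ := h
  exact ⟨_, h.isRealizedBy_toHom, T, h.toGIso.range_toHom.symm⟩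

/-- Let S be a finite 2-group of 2-rank 2 (an elementary abelian subgroup of order 4, none of order 8) and F a simple saturated fusion system over S. Then S is dihedral, semidihedral or wreathed, and F is the fusion system of the projective special linear group PSL₂(q) for some odd prime power q ≡ ±1 (mod 8) or of PSL₃(q) for some odd prime power q: it is realized by an injective homomorphism of S into that group whose image is a Sylow 2-subgroup. -/
theorem result {Ω : Type*} [Group Ω] {S : Subgroup Ω} [Finite S] (hS : IsPGroup 2 S) (F : Cfsg.FusionSystem S) (hF : F.IsSaturated 2) (hr : Cfsg.PRankAtLeast 2 2 ↥S ∧ ¬ Cfsg.PRankAtLeast 2 3 ↥S) (hsimple : F.IsSimple 2) : ((∃ m : ℕ, Nonempty (↥S ≃* DihedralGroup m)) ∨ Cfsg.IsQuasiDihedral ↥S ∨ Cfsg.IsWreathed ↥S) ∧ ∃ (K : Type) (_ : Field K) (_ : Fintype K) (q : ℕ), Fintype.card K = q ∧ Odd q ∧ (((q % 8 = 1 ∨ q % 8 = 7) ∧ ∃ ι : ↥S →* Matrix.ProjectiveSpecialLinearGroup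 (Fin 2) K, F.IsRealizedBy ι ∧ ∃ T : Sylow 2 (Matrix.ProjectiveSpecialLinearGroup (Fin 2) K), (T : Subgroup (Matrix.ProjectiveSpecialLinearGroup (Fin 2) K)) = ι.range) ∨ (∃ ι : ↥S →* Matrix.ProjectiveSpecialLinearGroup (Fin 3) K, F.IsRealizedBy ι ∧ ∃ T : Sylow 2 (Matrix.ProjectiveSpecialLinearGroup (Fin 3) K), (T : Subgroup (Matrix.ProjectiveSpecialLinearGroup (Fin 3) K)) = ι.range)) := by
  have hr2 := CL.Rk2.r2_of_pRankLE (CL.Rk2.pRankLE_of_not_atLeast hS hr.2)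
  have hnc := not_isCyclic_of_pRankAtLeast hr.1
  have hN := fun Q (hQ : F.IsNormal Q) => IsSimple.normal_eq_bot hS hsimple hnc hQ
  have hH := IsSimple.hyperfocal_eq hS hsimple hnc
  obtain ⟨z, hz, hz1, hz2, hc⟩ := CL.Rk2.exists_central_involution hS hsimple.2.1
  rcases CL.Rk2.fusion_cases hS hF hr2 hz hz1 hz2 hc (by
    rwa [hN _ (IsCentral.isNormal (isCentral_center F)), Subgroup.mem_bot]) with ⟨ξ, -, S₀⟩ | ⟨n, hn, ⟨⟨e⟩⟩ | h⟩ | h
  · exact absurd (hN _ (isNormal_of_setup hS hF S₀)) hsimple.2.1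
  · obtain ⟨D⟩ := nonempty_MC_of_dihedral hn e
    obtain ⟨p, m, hp, -, hm, h⟩ := exists_prime_two_part_add (k := n + 1) (by omega)
    have := Fact.mk hp
    have h1 : Fintype.card (ZMod p) = 2 ^ (n + 1) * m + 1 := by rw [ZMod.card, ← h]
    obtain ⟨ω, hω⟩ := exists_unit_orderOf h1
    have := isPerfect_SL2_of_unit (sq_ne_one_of_orderOf (by omega) hω)
    obtain ⟨T, ⟨D'⟩⟩ := exists_MC_PSL2 hn hm h1
    obtain ⟨a, b⟩ := onAut_sp_of_hyperfocal D (Or.inl rfl) hH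
    obtain ⟨a', b'⟩ := D'.sp_of_pResidual_eq_top (Or.inl rfl) pResidual_eq_top_of_isPerfect
    have h8 : p % 8 = 1 := by
      obtain ⟨k, rfl⟩ : ∃ k, n = k + 2 := ⟨n - 2, by omega⟩
      rw [show 2 ^ (k + 2 + 1) * m = 8 * (2 ^ k * m) by ring] at h
      omega
    exact ⟨Or.inl ⟨_, ⟨e⟩⟩, ZMod p, inferInstance, inferInstance, p, ZMod.card p, Nat.odd_iff.2 (by omega),
      Or.inl ⟨Or.inl h8, aux (D.exists_fIso (Or.inl rfl) hF T D' (iff_of_true a a') (iff_of_true b b'))⟩⟩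
  · obtain ⟨n, hn, ⟨D⟩⟩ := exists_MC_of_isQuasiDihedral_subgroup h
    obtain ⟨k, rfl⟩ : ∃ k, n = k + 3 := ⟨n - 3, by omega⟩
    obtain ⟨p, m, hp, -, hm, h0⟩ := exists_prime_two_part_sub (k := k + 2) (by omega)
    have := Fact.mk hp
    have h1 : Fintype.card (ZMod p) + 1 = 2 ^ (k + 2) * m := by rw [ZMod.card, h0]
    obtain ⟨T, ⟨D'⟩⟩ := exists_MC_PSL3 hm h1
    obtain ⟨a, b⟩ := onAut_sp_of_hyperfocal D (Or.inl rfl) hH
    obtain ⟨a', b'⟩ := D'.sp_of_pResidual_eq_top (Or.inl rfl) pResidual_eq_top_of_isPerfect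
    have h4 := mod_four_of_sub h1
    exact ⟨Or.inr (Or.inl h), ZMod p, inferInstance, inferInstance, _, rfl, Nat.odd_iff.2 (by omega),
      Or.inr (aux (D.exists_fIso (Or.inl rfl) hF T D' (iff_of_true a a') (iff_of_true b b')))⟩
  · obtain ⟨n, ⟨D⟩⟩ := exists_WR_of_isWreathed_subgroup h
    obtain ⟨p, m, hp, -, hm, h0⟩ := exists_prime_two_part_add (k := n) (by have := D.two_le; omega)
    have := Fact.mk hp
    have h1 : Fintype.card (ZMod p) = 2 ^ n * m + 1 := by rw [ZMod.card, ← h0]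
    obtain ⟨T, D', a', b'⟩ := exists_WR_PSL3 D.two_le hm h1
    obtain ⟨a, b⟩ := onAut_of_normal_eq_bot D hF hN
    have h4 := mod_four_of_add D.two_le h1
    exact ⟨Or.inr (Or.inr h), ZMod p, inferInstance, inferInstance, _, rfl, Nat.odd_iff.2 (by omega),
      Or.inr (aux (exists_fIso_of_WR D hF T D' (iff_of_true a a') (iff_of_true b b')))⟩

end Cfsg.Agent.S5215
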