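import Cfsg.Statements.S5176
import Cfsg.Agent.WQ.Glue
import Cfsg.Agent.WQ.G2
import Cfsg.Agent.S5215

set_option autoImplicit false
universe u
open Cfsg

namespace Cfsg.Agent.S5176

/-- The fusion-system form of the standard form problem for SL(2, q), q odd. Let F be a simple saturated fusion system over a finite 2-group S and let R ≤ S be generalized quaternion of order at least 16. Suppose R is weakly closed in S with respect to F, and R is strongly closed in the centralizer system C_F(⟨y⟩) for every involution y of C_S(R). Then either F is the 2-fusion system of PSL(3, q) or of G₂(q) for some odd q (realized by an injective homomorphism of S onto a Sylow 2-subgroup), or S contains a quasi-dihedral subgroup that is strongly closed in F. -/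
theorem result {Ω : Type u} [Group Ω] {S : Subgroup Ω} [Finite S] (hS : IsPGroup 2 S)
    (F : Cfsg.FusionSystem S) (hF : F.IsSimple 2)
    (R : Subgroup Ω) (hRS : R ≤ S) (k : ℕ) (hk : 2 ≤ k) (eR : ↥R ≃* QuaternionGroup (2 ^ k))
    (hW : F.WeaklyClosed R)
    (hC : ∀ y ∈ Cfsg.FusionSystem.centralizerIn S R, orderOf y = 2 →
      ∀ C : Cfsg.FusionSystem (Cfsg.FusionSystem.centralizerIn S (Subgroup.zpowers y)),
        F.IsCentralizerSystem (Subgroup.zpowers y) C → C.StronglyClosed R) :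
    (∃ (K : Type) (_ : Field K) (_ : Fintype K), Odd (Fintype.card K) ∧
        ((∃ ι : ↥S →* Matrix.ProjectiveSpecialLinearGroup (Fin 3) K, F.IsRealizedBy ι ∧
            ∃ T : Sylow 2 (Matrix.ProjectiveSpecialLinearGroup (Fin 3) K),
              (T : Subgroup (Matrix.ProjectiveSpecialLinearGroup (Fin 3) K)) = ι.range) ∨
         (∃ ι : ↥S →* ↥(Cfsg.Lie.G2 K), F.IsRealizedBy ι ∧
            ∃ T : Sylow 2 ↥(Cfsg.Lie.G2 K), (T : Subgroup ↥(Cfsg.Lie.G2 K)) = ι.range))) ∨
      ∃ P : Subgroup Ω, P ≤ S ∧ Cfsg.IsQuasiDihedral ↥P ∧ F.StronglyClosed P := by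
  obtain ⟨D⟩ := CL.Inv.nonempty_MC_of_quaternion (m := k) (by omega) eR
  obtain ⟨hnc, H⟩ := CL.WQ.hyp_of_simple hS hF D (by omega) hW hC
  obtain ⟨p, m, hp, -, hm, h0⟩ := CL.Fus.exists_prime_two_part_add (k := k + 1) (by omega)
  have := Fact.mk hp
  have h1 : Fintype.card (ZMod p) = 2 ^ (k + 1) * m + 1 := by rw [ZMod.card, ← h0]
  have h4 := CL.Fus.mod_four_of_add (by omega) h1
  rcases H.main with ⟨⟨W⟩⟩ | ⟨G, hG⟩ | h
  · obtain ⟨T, D', a', b'⟩ := CL.Fus.exists_WR_PSL3 W.two_le hm h1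
    obtain ⟨a, b⟩ := CL.Fus.onAut_of_normal_eq_bot W hF.1 fun Q hQ => CL.Fus.IsSimple.normal_eq_bot hS hF hnc hQ
    exact Or.inl ⟨ZMod p, inferInstance, inferInstance, Nat.odd_iff.2 (by omega),
      Or.inl (S5215.aux (CL.Fus.exists_fIso_of_WR W hF.1 T D' (iff_of_true a a') (iff_of_true b b')))⟩
  · obtain ⟨T, G', hG'⟩ := CL.WQ.exists_GT_G2 G.three hm h1
    exact Or.inl ⟨ZMod p, inferInstance, inferInstance, Nat.odd_iff.2 (by omega),
      Or.inr (S5215.aux (G.exists_fIso G' hG hG' G.pk_le))⟩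
  · exact Or.inr h

end Cfsg.Agent.S5176
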