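import Cfsg.Statements.S5177
import Cfsg.Agent.Fus.XsF
import Cfsg.Agent.Fus.XsRel6
import Cfsg.Agent.Fus.XsRel7
import Cfsg.Agent.Fus.XsG2

set_option autoImplicit false
universe u
open Cfsg

namespace Cfsg.Agent.S5177

open CL.Fus CL.Fus.Xs CL.Fus.Rk

/-- Let p be an odd prime, S a finite p-group of order at least p⁶ containing an extraspecial subgroup Q of index p, and F a saturated fusion system over S whose largest subgroup normal in F is trivial. Then S is isomorphic to a Sylow p-subgroup of SL(4,p), to a Sylow p-subgroup of SU(4,p), to a Sylow p-subgroup of G₂(p) with p ≥ 5, or p ≥ 11 and S has order p^(p−1), exponent p and maximal nilpotency class. -/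
theorem result {Ω : Type u} [Group Ω] {S : Subgroup Ω} [Finite S] (p : ℕ) [Fact p.Prime] (hp : Odd p) (hS : IsPGroup p S)
    (Q : Subgroup Ω) (hQS : Q ≤ S) (hQ : Cfsg.IsExtraspecial p ↥Q) (hQi : (Q.subgroupOf S).index = p)
    (h6 : p ^ 6 ≤ Nat.card S)
    (F : Cfsg.FusionSystem S) (hF : F.IsSaturated p) (hO : F.core = ⊥) [Group.IsNilpotent ↥S] :
    (∃ P : Sylow p (Matrix.SpecialLinearGroup (Fin 4) (ZMod p)),
        Nonempty (↥S ≃* ↥(P : Subgroup (Matrix.SpecialLinearGroup (Fin 4) (ZMod p))))) ∨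
      (∃ (K : Type) (_ : Field K) (_ : Fintype K), Fintype.card K = p ^ 2 ∧
        ∃ P : Sylow p ↥(Cfsg.SU 4 K p), Nonempty (↥S ≃* ↥(P : Subgroup ↥(Cfsg.SU 4 K p)))) ∨
      (5 ≤ p ∧ ∃ P : Sylow p ↥(Cfsg.Lie.G2 (ZMod p)), Nonempty (↥S ≃* ↥(P : Subgroup ↥(Cfsg.Lie.G2 (ZMod p))))) ∨
      (11 ≤ p ∧ Nat.card S = p ^ (p - 1) ∧ (∀ x : ↥S, x ^ p = 1) ∧ Group.nilpotencyClass ↥S = p - 2) := by
  obtain ⟨D⟩ := nonempty_wreath F
  obtain ⟨η, h⟩ := IsRealizedBy.exists_fIso D.isRealizedBy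
  have e := h.toGIso.equiv le_rfl h.toGIso.img_top
  have hp2 : p ≠ 2 := fun k => by rw [k] at hp; exact absurd hp (by decide)
  have : Finite Q := Finite.of_injective _ (Subgroup.inclusion_injective hQS)
  have cS := Nat.card_congr e.toEquiv
  obtain ⟨z, t⟩ := exists_XQ hp2 (h.toGIso.isPGroup hS) (h.toGIso.img_le hQS) (CL.Grp.extra_of_mulEquiv hQ (h.toGIso.equiv hQS rfl))
    (idx_of_card (h.toGIso.img_le hQS) (by
      rw [← cS, h.toGIso.card_img hQS, CL.Grp.card_eq_relIndex_mul_card hQS, Subgroup.relIndex, hQi])) (cS ▸ h6)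
  obtain ⟨c, a, ha, x, hx, y, b, d, w, hw, k⟩ | ⟨h1, h2, h3, h4⟩ := t.main (h.isSaturated hF) (by rw [← h.img_core, hO, h.toGIso.img_bot])
  · obtain ⟨hy, r⟩ | ⟨hy, δ, hδ, r⟩ | ⟨h5, s, u, hu, r⟩ := k
    · obtain ⟨P, ⟨f⟩⟩ := r.sylow_SL hp2 hw hx hy ha c
      exact Or.inl ⟨P, ⟨e.trans f⟩⟩
    · obtain ⟨K, i1, i2, hK, P, ⟨f⟩⟩ := r.sylow_SU hp2 hδ hw hx hy ha c
      exact Or.inr (Or.inl ⟨K, i1, i2, hK, P, ⟨e.trans f⟩⟩)
    · obtain ⟨P, ⟨f⟩⟩ := r.sylow_G2 (not_pow_seven_dvd_G2 p) h5 hu hw hx ha c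
      exact Or.inr (Or.inr (Or.inl ⟨h5, P, ⟨e.trans f⟩⟩))
  · have := (h.toGIso.isPGroup hS).isNilpotent
    exact Or.inr (Or.inr (Or.inr ⟨h1, cS.trans h2, fun x => e.injective (by rw [map_pow, h3, map_one]), h4 ▸ le_antisymm
      (Group.nilpotencyClass_le_of_surjective e.symm.toMonoidHom e.symm.surjective)
      (Group.nilpotencyClass_le_of_surjective e.toMonoidHom e.surjective)⟩))

end Cfsg.Agent.S5177
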