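import Cfsg.Statements.S5233
import Cfsg.Agent.Fus.SubGrp

set_option autoImplicit false
open Cfsg

namespace Cfsg.Agent.S5233

open Cfsg Cfsg.FusionSystem Subgroup CL.Fus
open scoped commutatorElement

section
variable {Ω : Type*} [Group Ω] {S P Q A : Subgroup Ω} [Finite S] {p : ℕ} [hp : Fact p.Prime] {F : FusionSystem S}
  {z : Ω}

/-- The local data: `Q` is an abelian normal self-centralizing subgroup of `P`, and `[P, P] ≤ ⟨z⟩`. -/
structure Data (p : ℕ) (P Q : Subgroup Ω) (z : Ω) : Prop where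
  le : Q ≤ P
  mem : z ∈ Q
  pow : z ^ p = 1
  ne : z ≠ 1
  cen : ∀ x ∈ P, x * z * x⁻¹ = z
  comm : ∀ x ∈ P, ∀ y ∈ P, ⁅x, y⁆ ∈ zpowers z
  cent : ∀ x ∈ P, (∀ y ∈ Q, x * y * x⁻¹ = y) → x ∈ Q
  ab : ∀ x ∈ Q, ∀ y ∈ Q, x * y = y * x

omit hp [Finite S] in
theorem Data.norm (h : Data p P Q z) : P ≤ normalizer (Q : Set Ω) := by
  have k : ∀ a ∈ P, ∀ x ∈ Q, a * x * a⁻¹ ∈ Q := fun a ha x hx => by
    rw [show a * x * a⁻¹ = ⁅a, x⁆ * x by rw [commutatorElement_def]; group]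
    exact mul_mem (zpowers_le.2 h.mem (h.comm a ha x (h.le hx))) hx
  intro a ha
  rw [mem_normalizer_iff]
  refine fun x => ⟨k a ha x, fun hx => ?_⟩
  simpa [mul_assoc] using k a⁻¹ (Subgroup.inv_mem _ ha) _ hx

omit hp [Finite S] in
theorem Data.isTv (h : Data p P Q z) {x : Ω} (hx : x ∈ P) : IsTv p (conjAut Q (h.norm hx)) ⟨z, h.mem⟩ where
  pow := Subtype.ext h.pow
  ne_one := fun e => h.ne (congrArg Subtype.val e)
  fix := Subtype.ext (h.cen x hx)
  comm := fun y => coe_mem_zpowers_iff.1 (by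
    rw [Subgroup.coe_mul, Subgroup.coe_inv, coe_conjAut_apply, inv_mul_conj_eq_commutator]
    exact h.comm _ (Subgroup.inv_mem _ (h.le y.2)) x hx)

omit [Finite S] in
theorem Data.map_mem (hP : F.StronglyClosed P) (h : Data p P Q z) {x : Ω} (hx : x ∈ P) (hxQ : x ∉ Q) {f : Ω → Ω}
    (hf : Mor F Q f) (hr : F.IsReceptive (img f Q)) (he : x ∈ extenderF S Q f) : f z ∈ zpowers z := by
  obtain ⟨g, hg, e⟩ := hf.extend' (R := zpowers x) hr rfl (zpowers_le.2 he)
  obtain ⟨y, hy, hxy⟩ : ∃ y ∈ Q, ⁅x, y⁆ ≠ 1 := by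
    by_contra! k
    exact hxQ (h.cent x hx fun y hy => by
      rw [show x * y * x⁻¹ = ⁅x, y⁆ * y by rw [commutatorElement_def]; group, k y hy, one_mul])
  obtain ⟨i, hi⟩ := mem_zpowers_iff.1 (mem_zpowers_symm_of_prime h.pow (h.comm x hx y (h.le hy)) hxy)
  have hx' : x ∈ Q ⊔ zpowers x := mem_sup_right (mem_zpowers x)
  have hy' : y ∈ Q ⊔ zpowers x := mem_sup_left hy
  rw [← e z h.mem, ← hi, hg.homOn.map_zpow (commutatorElement_def x y ▸ mul_mem (mul_mem (mul_mem hx' hy')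
    (Subgroup.inv_mem _ hx')) (Subgroup.inv_mem _ hy')), hg.homOn.map_commutator hx' hy', hi]
  exact zpow_mem (h.comm _ (hg.mem_of_stronglyClosed hP hx' hx) _ (hg.mem_of_stronglyClosed hP hy' (h.le hy))) i

theorem Data.moves (hS : IsPGroup p S) (hF : F.IsSaturated p) (hP : F.StronglyClosed P) (h : Data p P Q z)
    {β : MulAut Q} (hβ : β ∈ F.autGroup Q) (hz : β ⟨z, h.mem⟩ ∉ zpowers (⟨z, h.mem⟩ : Q)) {x : Ω} (hx : x ∈ P)
    (hxQ : x ∉ Q) : conjAut Q (h.norm hx) (β ⟨z, h.mem⟩) ≠ β ⟨z, h.mem⟩ := fun e => by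
  have hQS : Q ≤ S := h.le.trans hP.1
  have := finite_of_le hQS
  have ht := conjAut_mem_autGroup F hQS (h.norm hx) (hP.1 hx)
  have hZ := IsTv.isPGroup_closure (hS.to_le hQS) (fun a b => Subtype.ext (h.ab a a.2 b b.2)) (h.isTv hx)
    ((h.isTv hx).conj β) e
  obtain ⟨φ, hφ, hn⟩ := exists_mor_normalizerIn_fullyNormalized hS hF hQS
  have hφQ : Mor F Q φ := hφ.mono (le_normalizerIn hQS)
  obtain ⟨α, hα, k⟩ := hφQ.exists_aut_conj_le rfl (fullyAutomized_of_fullyNormalized hS hF hn) hZ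
    ((closure_le _).2 (by
      rintro _ (rfl | rfl)
      exacts [ht, mul_mem (mul_mem hβ ht) (Subgroup.inv_mem _ hβ)]))
  have h1 : Mor F Q (fun y => autFun α (φ y)) := hφQ.comp_img (mor_autFun hφQ.img_le hα) le_rfl
  have e1 : img (fun y => autFun α (φ y)) Q = img φ Q := by rw [hφQ.img_comp, img_autFun]
  have h2 : Mor F Q (fun y => autFun α (φ (autFun β y))) :=
    (mor_autFun hQS hβ).comp h1 fun y hy => autFun_mem β hy
  have e2 : img (fun y => autFun α (φ (autFun β y))) Q = img φ Q := by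
    rw [(mor_autFun hQS hβ).img_comp (fun y => autFun α (φ y)), img_autFun, e1]
  have hr := receptive_of_fullyNormalized hS hF hn
  have k1 := h.map_mem hP hx hxQ h1 (by rw [e1]; exact hr) (by
    obtain ⟨b, hb, hb'⟩ := k _ (subset_closure (Set.mem_insert _ _))
    exact ⟨hP.1 hx, h.norm hx, b, hb.1, fun y hy => by rw [← hb' y hy, autFun_conjAut _ hy]⟩)
  have k2 := h.map_mem hP hx hxQ h2 (by rw [e2]; exact hr) (by
    obtain ⟨b, hb, hb'⟩ := k _ (subset_closure (Set.mem_insert_of_mem _ rfl))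
    refine ⟨hP.1 hx, h.norm hx, b, hb.1, fun y hy => ?_⟩
    rw [← hb' _ (autFun_mem β hy), autFun_mul _ _ (autFun_mem β hy), autFun_inv_apply _ hy, autFun_mul _ _ hy,
      autFun_conjAut _ hy])
  have k3 : autFun α (φ z) ≠ 1 := fun e => h.ne (h1.injOn h.mem (one_mem Q) (e.trans h1.homOn.map_one.symm))
  rw [← zpowers_eq_of_mem_prime h.pow k1 k3, ← h1.homOn.img_zpowers h.mem] at k2
  refine hz (coe_mem_zpowers_iff.1 ?_)
  rw [← autFun_apply β h.mem]
  exact h1.mem_of_mem_img (zpowers_le.2 h.mem) (autFun_mem β h.mem) k2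

theorem Data.structure (hS : IsPGroup p S) (hF : F.IsSaturated p) (hP : F.StronglyClosed P) (h : Data p P Q z)
    (hel : ∀ x ∈ Q, x ^ p = 1) (hpow : ∀ x ∈ P, x ^ p ∈ zpowers z) {β : MulAut Q} (hβ : β ∈ F.autGroup Q)
    (hz : β ⟨z, h.mem⟩ ∉ zpowers (⟨z, h.mem⟩ : Q)) {a : Ω} (ha : a ∈ P) (haQ : a ∉ Q) :
    ∃ E C : Subgroup Ω, E ≤ P ∧ C ≤ Q ∧ Nonempty (P ≃* E × C) ∧ Nat.card E = p ^ 3 ∧
      (∃ x ∈ E, ∃ y ∈ E, x ^ p = 1 ∧ x * y ≠ y * x) ∧ (p ≠ 2 → ∀ x ∈ P, x ^ p = 1) := by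
  have hQS : Q ≤ S := h.le.trans hP.1
  have := finite_of_le hQS
  have hc : ∀ a b : Q, Commute a b := fun a b => Subtype.ext (h.ab a a.2 b b.2)
  set zq : Q := ⟨z, h.mem⟩ with hzq
  have hT := h.isTv ha
  set t := conjAut Q (h.norm ha) with ht
  have hT' := hT.conj β
  have e : t (β zq) ≠ β zq := h.moves hS hF hP hβ hz ha haQ
  have e' : (β * t * β⁻¹) zq ≠ zq := fun k => by
    refine h.moves hS hF hP (Subgroup.inv_mem _ hβ) (fun hm => hz ?_) ha haQ ?_
    · obtain ⟨i, hi⟩ := mem_zpowers_iff.1 hm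
      refine mem_zpowers_symm_of_prime hT'.pow ⟨i, ?_⟩ hT.ne_one
      show β zq ^ i = zq
      rw [← map_zpow, hi]
      exact β.apply_symm_apply zq
    · exact β.injective (k.trans (β.apply_symm_apply zq).symm)
  set w : Ω := ((β zq : Q) : Ω) with hw
  have hwQ : w ∈ Q := (β zq).2
  have hwz : w ∉ zpowers z := fun k => hz (coe_mem_zpowers_iff.1 k)
  obtain ⟨i, hi⟩ := hT.exists_apply (β zq)
  have hpi : ¬ (p : ℤ) ∣ i := fun k => e (by rw [hi, (zpow_eq_one_iff_dvd hT.pow hT.ne_one).2 k, mul_one])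
  have hgen : ∀ y ∈ P, y ∈ Q ⊔ zpowers a := fun y hy => by
    obtain ⟨j, hj⟩ := (h.isTv hy).exists_apply (β zq)
    obtain ⟨m, -, hm⟩ := exists_pow_apply_of_transv hT.pow hpi hT.fix hi (j : ZMod p)
    rw [pow_val_intCast hT.pow, ← hj] at hm
    have hy' : (a ^ m)⁻¹ * y ∈ P := mul_mem (Subgroup.inv_mem _ (pow_mem ha m)) hy
    refine (mem_sup_zpowers_iff (h.norm ha)).2 ⟨m, ?_⟩
    rw [zpow_natCast]
    by_contra k
    refine h.moves hS hF hP hβ hz hy' k (Subtype.ext ?_)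
    have hm' := congrArg Subtype.val hm
    rw [← autFun_apply _ hwQ, show t = (cAut F hQS (hP.1 ha) (h.norm ha) : MulAut Q) from rfl,
      autFun_cAut_pow _ _ _ _ hwQ, coe_conjAut_apply] at hm'
    rw [coe_conjAut_apply]
    calc (a ^ m)⁻¹ * y * w * ((a ^ m)⁻¹ * y)⁻¹ = (a ^ m)⁻¹ * (y * w * y⁻¹) * a ^ m := by group
      _ = w := by rw [← hm']; group
  let C : Subgroup Ω := autFixSub t ⊓ autFixSub (β * t * β⁻¹)
  have hCQ : C ≤ Q := fun x hx => hx.1.1
  let V : Subgroup Ω := zpowers z ⊔ zpowers w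
  have hVQ : V ≤ Q := sup_le (zpowers_le.2 h.mem) (zpowers_le.2 hwQ)
  have hzn : P ≤ normalizer (zpowers z : Set Ω) := fun x hx => centralizer_le_normalizer _
    (mem_centralizer_of_conj_eq fun y hy => by
      obtain ⟨k, rfl⟩ := mem_zpowers_iff.1 hy
      rw [← conj_zpow, h.cen x hx])
  have hVc : Nat.card V = p * p := by
    rw [card_sup_zpowers_of_normalizer (p := p) (hzn (h.le hwQ)) hwz (hel w hwQ ▸ one_mem _),
      card_zpowers_of_pow_eq_one h.pow h.ne]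
  have haV : a ∈ normalizer (V : Set Ω) := by
    have := finite_of_le (hVQ.trans hQS)
    refine mem_normalizer_of_finite fun x hx => ?_
    rw [show a * x * a⁻¹ = ⁅a, x⁆ * x by rw [commutatorElement_def]; group]
    exact mul_mem (mem_sup_left (h.comm a ha x (h.le (hVQ hx)))) hx
  have hmemV : ∀ x ∈ V, ∃ k l : ℤ, x = z ^ k * w ^ l := fun x hx => by
    obtain ⟨l, hl⟩ := (mem_sup_zpowers_iff (hzn (h.le hwQ))).1 hx
    obtain ⟨k, hk⟩ := mem_zpowers_iff.1 hl
    refine ⟨k, l, ?_⟩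
    rw [h.ab _ (zpow_mem h.mem k) _ (zpow_mem hwQ l), hk]
    group
  refine ⟨V ⊔ zpowers a, C, sup_le (hVQ.trans h.le) (zpowers_le.2 ha), hCQ, nonempty_mulEquiv_prod_of_sup ?_ ?_ ?_,
    ?_, ⟨w, mem_sup_left (mem_sup_right (mem_zpowers w)), a, mem_sup_right (mem_zpowers a), hel w hwQ, fun k => e ?_⟩,
    fun hp2 => ?_⟩
  · intro x hx y hy
    have : V ⊔ zpowers a ≤ centralizer ({y} : Set Ω) := sup_le
      (fun v hv => mem_centralizer_singleton_iff.2 (h.ab v (hVQ hv) y (hCQ hy)))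
      (zpowers_le.2 (mem_centralizer_singleton_iff.2 (by
        have k := hy.1.2
        rw [autFun_conjAut _ (hCQ hy)] at k
        exact mul_inv_eq_iff_eq_mul.1 k)))
    exact mem_centralizer_singleton_iff.1 (this hx)
  · rw [disjoint_def]
    intro x hx hxC
    have hxV : x ∈ V := by
      obtain ⟨m, hm⟩ := (mem_sup_zpowers_iff haV).1 hx
      have h1 : a ^ m ∈ Q := by
        simpa using mul_mem (hCQ hxC) (Subgroup.inv_mem _ (hVQ hm))
      by_cases hd : (p : ℤ) ∣ m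
      · obtain ⟨k, rfl⟩ := hd
        have h2 : a ^ ((p : ℤ) * k) ∈ V := by
          rw [zpow_mul, zpow_natCast]
          exact zpow_mem (mem_sup_left (hpow a ha)) k
        simpa using mul_mem h2 hm
      · obtain ⟨u, v, huv⟩ := (Int.prime_iff_natAbs_prime.2 (by simpa using hp.out)).coprime_iff_not_dvd.2 hd
        refine absurd ?_ haQ
        rw [← zpow_one a, ← huv, zpow_add, mul_comm u, mul_comm v, zpow_mul, zpow_mul, zpow_natCast]
        exact mul_mem (zpow_mem (zpowers_le.2 h.mem (hpow a ha)) u) (zpow_mem h1 v)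
    obtain ⟨k, l, rfl⟩ := hmemV x hxV
    have hxq : (⟨z ^ k * w ^ l, hCQ hxC⟩ : Q) = zq ^ k * β zq ^ l := Subtype.ext rfl
    have h1 : t (zq ^ k * β zq ^ l) = zq ^ k * β zq ^ l := by
      rw [← hxq]; exact Subtype.ext (by rw [← autFun_apply]; exact hxC.1.2)
    have h2 : (β * t * β⁻¹) (zq ^ k * β zq ^ l) = zq ^ k * β zq ^ l := by
      rw [← hxq]; exact Subtype.ext (by rw [← autFun_apply]; exact hxC.2.2)
    obtain ⟨j, hj⟩ := hT'.exists_apply zq
    have hpj : ¬ (p : ℤ) ∣ j := fun k => e' (by rw [hj, (zpow_eq_one_iff_dvd hT'.pow hT'.ne_one).2 k, mul_one])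
    have hpp : Prime (p : ℤ) := Int.prime_iff_natAbs_prime.2 (by simpa using hp.out)
    rw [map_mul, map_zpow, map_zpow, hT.fix, hi, (hc _ _).mul_zpow, mul_right_inj, mul_eq_left, ← zpow_mul,
      zpow_eq_one_iff_dvd hT.pow hT.ne_one] at h1
    rw [map_mul, map_zpow, map_zpow, hT'.fix, hj, (hc _ _).mul_zpow, mul_left_inj, mul_eq_left, ← zpow_mul,
      zpow_eq_one_iff_dvd hT'.pow hT'.ne_one] at h2
    rw [(zpow_eq_one_iff_dvd h.pow h.ne).2 ((hpp.dvd_or_dvd h2).resolve_left hpj),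
      (zpow_eq_one_iff_dvd (hel w hwQ) fun k => hwz (k ▸ one_mem _)).2 ((hpp.dvd_or_dvd h1).resolve_left hpi), one_mul]
  · refine le_antisymm (sup_le (sup_le (hVQ.trans h.le) (zpowers_le.2 ha)) (hCQ.trans h.le)) fun y hy => ?_
    refine (sup_le (fun x hx => ?_) (le_sup_right.trans le_sup_left) : Q ⊔ zpowers a ≤ _) (hgen y hy)
    obtain ⟨k, l, c, h1, h2, h3⟩ := hT.exists_decomp hc hT' e e' ⟨x, hx⟩
    rw [show x = z ^ k * w ^ l * c from congrArg Subtype.val h3]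
    refine mul_mem (mem_sup_left (mem_sup_left (mul_mem (mem_sup_left (zpow_mem (mem_zpowers z) k))
      (mem_sup_right (zpow_mem (mem_zpowers w) l))))) (mem_sup_right ⟨⟨c.2, ?_⟩, c.2, ?_⟩)
    · rw [autFun_apply _ c.2]; exact congrArg Subtype.val h1
    · rw [autFun_apply _ c.2]; exact congrArg Subtype.val h2
  · rw [card_sup_zpowers_of_normalizer (p := p) haV (fun k => haQ (hVQ k)) (mem_sup_left (hpow a ha)), hVc]
    ring
  · refine Subtype.ext ?_
    rw [coe_conjAut_apply, ← hw, ← k, mul_inv_cancel_right]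
  · have hmul : ∀ x ∈ P, ∀ y ∈ P, (x * y) ^ p = x ^ p * y ^ p := fun x hx y hy => by
      obtain ⟨k, hk⟩ := mem_zpowers_iff.1 (h.comm y hy x hx)
      have hz : ∀ u ∈ P, Commute u ⁅y, x⁆ := fun u hu =>
        hk ▸ Commute.zpow_right (mul_inv_eq_iff_eq_mul.1 (h.cen u hu)) k
      refine CL.Grp.mul_pow_prime_of_commute_comm hp.out hp2 (hz x hx) (hz y hy) ?_
      rw [← hk, ← zpow_natCast, ← zpow_mul, mul_comm, zpow_mul, zpow_natCast, h.pow, one_zpow]
    obtain ⟨g, hg, g1, -, g2⟩ := hT.exists_neg hc hT' e e'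
    have htF := conjAut_mem_autGroup F hQS (h.norm ha) (hP.1 ha)
    have hgF : g ∈ F.autGroup Q := (closure_le _).2 (by
      rintro _ (rfl | rfl)
      exacts [htF, mul_mem (mul_mem hβ htF) (Subgroup.inv_mem _ hβ)]) hg
    have g3 : ∀ x ∈ Q, autFun g (a * x * a⁻¹) = a * autFun g x * a⁻¹ := fun x hx => by
      rw [← autFun_conjAut (h.norm ha) hx, ← autFun_mul _ _ hx, g2, autFun_mul _ _ hx,
        autFun_conjAut _ (autFun_mem g hx)]
    obtain ⟨σ, hσ, hσg⟩ := exists_extend_of_stronglyClosed (R := zpowers a) hS hF hP (mor_autFun hQS hgF)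
      (img_autFun g) h.le h.norm (sup_le h.le (zpowers_le.2 ha)) (zpowers_le.2 (h.norm ha)) fun b hb => by
        refine ⟨b, zpowers_le.2 ha hb, ?_⟩
        obtain ⟨k, rfl⟩ := mem_zpowers_iff.1 hb
        intro x hx
        have k1 : g * t ^ k = t ^ k * g := (Commute.zpow_right g2 k)
        have k2 : t ^ k = conjAut Q (zpow_mem (h.norm ha) k) := (map_zpow Q.normalizerMonoidHom ⟨a, _⟩ k).symm
        rw [← autFun_conjAut (zpow_mem (h.norm ha) k) hx, ← autFun_mul _ _ hx, ← k2, k1, k2, autFun_mul _ _ hx,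
          autFun_conjAut _ (autFun_mem g hx)]
    have ha' : a ∈ Q ⊔ zpowers a := mem_sup_right (mem_zpowers a)
    have hσa : σ a ∈ P := hσ.mem_of_stronglyClosed hP ha' ha
    have h1 : a⁻¹ * σ a ∈ Q := h.cent _ (mul_mem (Subgroup.inv_mem _ ha) hσa) fun y hy => by
      have hy' := autFun_mem g⁻¹ hy
      have k := hσ.homOn.map_conj ha' (mem_sup_left hy')
      rw [hσg _ (conj_mem_of_mem_normalizer (h.norm ha) hy'), g3 _ hy', hσg _ hy', autFun_apply_inv _ hy] at k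
      calc _ = a⁻¹ * (σ a * y * (σ a)⁻¹) * a := by group
        _ = y := by rw [← k]; group
    have hap : a ^ p = 1 := by
      obtain ⟨k, hk⟩ := mem_zpowers_iff.1 (hpow a ha)
      refine eq_one_of_eq_inv hp2 (p := p) ?_ ?_
      · rw [← hk, ← zpow_natCast, ← zpow_mul, mul_comm, zpow_mul, zpow_natCast, h.pow, one_zpow]
      · have k1 : σ (a ^ p) = a ^ p := by
          rw [hσ.homOn.map_pow ha', ← mul_inv_cancel_left a (σ a), hmul _ ha _ (h.le h1), hel _ h1, mul_one]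
        have k2 : σ z = z⁻¹ := by
          rw [hσg z h.mem, autFun_apply _ h.mem]; exact congrArg Subtype.val g1
        rw [← hk, hσ.homOn.map_zpow (mem_sup_left h.mem), k2, inv_zpow] at k1
        rw [← hk]; exact k1.symm
    intro x hx
    obtain ⟨m, hm⟩ := (mem_sup_zpowers_iff (h.norm ha)).1 (hgen x hx)
    rw [← mul_inv_cancel_left (a ^ m) x, hmul _ (zpow_mem ha m) _ (h.le hm), hel _ hm, mul_one, ← zpow_natCast,
      ← zpow_mul, mul_comm, zpow_mul, zpow_natCast, hap, one_zpow]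

theorem exists_data (hS : IsPGroup p S) (hP : F.StronglyClosed P) (hA : F.IsEssential p A) (hPA : ¬ P ≤ A)
    (hz : z ^ p = 1) (hz1 : z ≠ 1) (hzP : z ∈ P) (hcen : ∀ x ∈ P, x * z * x⁻¹ = z) (hfr : frat P ≤ zpowers z) :
    ∃ h : Data p P (A ⊓ P) z, (∀ x ∈ A ⊓ P, x ^ p = 1) ∧ ∃ β ∈ F.autGroup (A ⊓ P),
      β ⟨z, h.mem⟩ ∉ zpowers (⟨z, h.mem⟩ : ↥(A ⊓ P)) := by
  have := finite_of_le hP.1
  have := finite_of_le (inf_le_right.trans hP.1 : A ⊓ P ≤ S)
  have hPp := hS.to_le hP.1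
  have hQp := hS.to_le (inf_le_right.trans hP.1 : A ⊓ P ≤ S)
  have hC := StronglyClosed.centralizer_inf_le hS hP hA.1 (IsEssential.isRadical hS hA)
  have hzQ : z ∈ A ⊓ P := ⟨hC ⟨hzP, fun y hy => mul_inv_eq_iff_eq_mul.1 (hcen y hy.2)⟩, hzP⟩
  have hcomm : ∀ x ∈ P, ∀ y ∈ P, ⁅x, y⁆ ∈ zpowers z := fun x hx y hy =>
    hfr (commutator_le_frat hPp (commutator_mem_commutator hx hy))
  obtain ⟨a, haP, ha, haA, -⟩ := exists_mem_normalizer_pow_mem hS hA.1.1 hP.1
    (hA.1.1.trans (StronglyClosed.le_normalizer hP)) hPA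
  obtain ⟨γ, hγ, hγz⟩ : ∃ γ ∈ F.autGroup A, autFun γ z ∉ zpowers z := by
    by_contra! k
    refine haA (mem_of_comm_comm_frat hS hA.1 (IsEssential.isRadical hS hA) (Q := A ⊓ P) inf_le_left
      (fun γ hγ x hx => StronglyClosed.autFun_mem_inf hP hA.1.1 hγ hx) (C := zpowers z) (fun γ hγ x _ hx => ?_)
      (hP.1 haP) ha (fun x hx => StronglyClosed.comm_mem_inf hP hA.1.1 haP ha hx) (fun x hx => ?_) fun x _ hx => ?_)
    · obtain ⟨i, rfl⟩ := mem_zpowers_iff.1 hx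
      rw [(homOn_autFun γ).map_zpow hzQ.1]
      exact zpow_mem (k γ hγ) i
    · rw [inv_mul_conj_eq_commutator]
      exact hcomm _ (Subgroup.inv_mem _ hx.2) a haP
    · obtain ⟨i, rfl⟩ := mem_zpowers_iff.1 hx
      rw [← conj_zpow, hcen a haP, inv_mul_cancel]
      exact one_mem _
  have hinv : ∀ x ∈ A ⊓ P, autFun γ x ∈ A ⊓ P := fun x hx => StronglyClosed.autFun_mem_inf hP hA.1.1 hγ hx
  have hfr' : frat (A ⊓ P) ≤ zpowers z := (frat_mono hPp inf_le_right).trans hfr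
  have hbot : frat (A ⊓ P) = ⊥ := by
    rw [eq_bot_iff_forall]
    intro w hw
    by_contra k
    exact hγz (hfr' (((homOn_autFun γ).mono inf_le_left).map_mem_frat hQp hinv
      (zpowers_le.2 hw (mem_zpowers_symm_of_prime hz (hfr' hw) k))))
  obtain ⟨hab, hel⟩ := (frat_eq_bot_iff hQp).1 hbot
  obtain ⟨β, hβ, e⟩ := (mor_autFun hA.1.1 hγ).exists_aut' inf_le_left hinv
  refine ⟨⟨inf_le_right, hzQ, hz, hz1, hcen, hcomm, fun x hx k => ⟨hC ⟨hx, mem_centralizer_of_conj_eq k⟩, hx⟩, hab⟩,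
    hel, β, hβ, fun k => hγz ?_⟩
  rw [← e z hzQ, autFun_apply β hzQ]
  exact coe_mem_zpowers_iff.2 k

end

/-- Let F be a saturated fusion system over a finite p-group S and P a subgroup of S strongly closed in F that is generalized extraspecial (its Frattini subgroup equals its commutator subgroup and has order p) and not isomorphic to E × A with A elementary abelian and E dihedral of order 8 (p = 2) or extraspecial of order p³ and exponent p (p odd). Then P is normal in F. -/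
theorem result {Ω : Type*} [Group Ω] {S : Subgroup Ω} [Finite S] (p : ℕ) [Fact p.Prime] (hS : IsPGroup p S) (F : Cfsg.FusionSystem S) (hF : F.IsSaturated p) (P : Subgroup Ω) (hP : F.StronglyClosed P) (hge : frattini ↥P = commutator ↥P ∧ Nat.card ↥(commutator ↥P) = p) (h2 : p = 2 → ¬ ∃ (A : Type) (_ : CommGroup A), (∀ a : A, a ^ 2 = 1) ∧ Nonempty (↥P ≃* DihedralGroup 4 × A)) (hodd : p ≠ 2 → ¬ ∃ (E : Type) (_ : Group E) (A : Type) (_ : CommGroup A), Cfsg.IsExtraspecial p E ∧ Nat.card E = p ^ 3 ∧ Monoid.exponent E = p ∧ (∀ a : A, a ^ p = 1) ∧ Nonempty (↥P ≃* E × A)) : F.IsNormal P := by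
  refine isNormal_of_stronglyClosed hS hF hP fun A hA => ?_
  by_contra hPA
  have := finite_of_le hP.1
  have hPp := hS.to_le hP.1
  have hp : p.Prime := Fact.out
  obtain ⟨z, hz, hz1⟩ : ∃ z ∈ commutator P, z ≠ 1 := by
    by_contra! k
    rw [(eq_bot_iff_forall _).2 k, card_bot] at hge
    exact hp.ne_one hge.2.symm
  have hzp : z ^ p = 1 := by
    have := pow_card_eq_one' (G := commutator P) (x := ⟨z, hz⟩)
    rw [hge.2] at this
    exact congrArg Subtype.val this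
  have hzz : zpowers z = commutator P := eq_of_le_of_card_ge (zpowers_le.2 hz)
    (by rw [hge.2, card_zpowers_of_pow_eq_one hzp hz1])
  have hfr : frat P ≤ zpowers (z : Ω) := by
    rw [frat, hge.1, ← hzz, MonoidHom.map_zpowers]
    rfl
  obtain ⟨h, hel, β, hβ, hβz⟩ := exists_data hS hP hA hPA (z := (z : Ω)) (congrArg Subtype.val hzp)
    (fun k => hz1 (Subtype.ext k)) z.2 (fun x hx => mul_inv_eq_iff_eq_mul.2 (congrArg Subtype.val
      (Subgroup.mem_center_iff.1 (CL.Grp.le_center_of_normal_card_prime hPp _ hge.2 hz) ⟨x, hx⟩))) hfr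
  obtain ⟨a, ha, haA⟩ := SetLike.not_le_iff_exists.1 hPA
  obtain ⟨E, C, hE, hC, ⟨e⟩, hc, ⟨x, hx, y, hy, hxp, hxy⟩, hodd'⟩ := h.structure hS hF hP hel
    (fun x hx => hfr (pow_mem_frat hPp hx)) hβ hβz ha fun k => haA k.1
  have := finite_of_le hE
  have := finite_of_le (hC.trans inf_le_right)
  obtain ⟨B, _, ⟨eB⟩⟩ := exists_type_zero_comm C fun a b => Subtype.ext (h.ab a (hC a.2) b (hC b.2))
  have hB : ∀ b : B, b ^ p = 1 := fun b => eB.symm.injective (by
    rw [map_pow, map_one]; exact Subtype.ext (hel _ (hC (eB.symm b).2)))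
  have hxy' : (⟨x, hx⟩ : E) * ⟨y, hy⟩ ≠ ⟨y, hy⟩ * ⟨x, hx⟩ := fun k => hxy (congrArg Subtype.val k)
  by_cases hp2 : p = 2
  · subst hp2
    obtain ⟨d⟩ := nonempty_dihedral_of_card_eight (E := E) hc (Subtype.ext hxp) hxy'
    exact h2 rfl ⟨B, inferInstance, hB, ⟨e.trans (d.prodCongr eB)⟩⟩
  · obtain ⟨E', _, _, ⟨d⟩⟩ := exists_type_zero E
    have hna : ¬ IsMulCommutative E := fun k => hxy' (k.1.1 _ _)
    refine hodd hp2 ⟨E', inferInstance, B, inferInstance,
      CL.Grp.extra_of_mulEquiv (isExtraspecial_of_card_eq_cube hc hna) d, by rw [← hc, Nat.card_congr d.toEquiv], ?_,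
      hB, ⟨e.trans (d.prodCongr eB)⟩⟩
    rw [← Monoid.exponent_eq_of_mulEquiv d]
    refine ((Nat.dvd_prime hp).1 (Monoid.exponent_dvd_of_forall_pow_eq_one fun g =>
      Subtype.ext (hodd' hp2 _ (hE g.2)))).resolve_left fun k => ?_
    have := Monoid.exp_eq_one_iff.1 k
    exact hxy' (Subsingleton.elim _ _)

end Cfsg.Agent.S5233
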