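import Cfsg.Statements.S5265
import Cfsg.Agent.Fus.AbelIdx
import Cfsg.Agent.Fus.Hyperfocal

set_option autoImplicit false
open Cfsg

namespace Cfsg.Agent.S5265

open Cfsg Cfsg.FusionSystem Subgroup CL.Fus
open scoped commutatorElement

section
variable {Ω : Type*} [Group Ω] {S E : Subgroup Ω} [Finite S] {p : ℕ} [hp : Fact p.Prime] {F : FusionSystem S}

theorem focal_le_of_aut (hS : IsPGroup p S) (hF : F.IsSaturated p) {X : Subgroup Ω}
    (h : ∀ A, (A = S ∨ F.IsEssential p A) → ∀ γ ∈ F.autGroup A, ∀ x ∈ A, x⁻¹ * autFun γ x ∈ X) :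
    F.focalSubgroup ≤ X :=
  focal_le_iff.2 fun P f hf => alperin_induction hS hF (fun f => ∀ x ∈ P, x⁻¹ * f x ∈ X)
    (fun f e x hx => by rw [e x hx, inv_mul_cancel]; exact one_mem _) (fun f g a A _ h1 hA ha e h2 h3 x hx => by
      obtain ⟨γ, hγ, e'⟩ := ha.exists_aut e
      rw [h3 x hx, ← e' _ (h2 x hx)]
      simpa [mul_assoc] using mul_mem (h1 x hx) (h A hA γ hγ _ (h2 x hx))) hf

theorem axisEss (hS : IsPGroup p S) (hF : F.IsSaturated p) (hi : (zen S).relIndex S = p ^ 2) (hc : ⁅S, S⁆ ≤ zen S)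
    (hE : F.IsEssential p E) : AxisEss F p E (zen S) ∧ E.relIndex S = p := by
  have hES := hE.1.1
  have hlt := IsEssential.lt hE (fullyAutomized_of_fullyNormalized hS hF (isFullyNormalized_top F))
  have hZE := zen_le_of_centric hE.1
  have h1 := relIndex_mul_relIndex _ _ _ hZE hES
  rw [hi] at h1
  have h2 : ¬ E ≤ zen S := fun k => hlt.not_ge fun a ha =>
    IsCentric.centralizerIn_le hE.1 ⟨ha, fun y hy => ((k hy).2 a ha).symm⟩
  obtain ⟨k, hk, e⟩ := (Nat.dvd_prime_pow hp.out).1 (Dvd.intro _ h1)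
  have h3 : (zen S).relIndex E = p ∧ E.relIndex S = p := by
    rcases k with _ | _ | _ | k
    · exact absurd (relIndex_eq_one.1 e) h2
    · rw [e] at h1 ⊢
      exact ⟨by simp, Nat.eq_of_mul_eq_mul_left hp.out.pos (by rw [← sq, ← h1]; simp)⟩
    · rw [e] at h1
      exact absurd (relIndex_eq_one.1 (Nat.eq_of_mul_eq_mul_left (pow_pos hp.out.pos 2) (by rw [mul_one]; exact h1)))
        hlt.not_ge
    · omega
  obtain ⟨x, hx, hxZ⟩ := SetLike.not_le_iff_exists.1 h2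
  have hxn : x ∈ normalizer (zen S : Set Ω) := centralizer_le_normalizer _ fun z hz => (hz.2 x (hES hx)).symm
  refine ⟨⟨hE, fun a ha b hb => ?_, hZE, h3.1, fun a ha _ y hy => zen_conj ha hy, fun a ha _ y hy =>
    hc (inv_mul_conj_mem_commutator (hES hy) ha)⟩, h3.2⟩
  obtain ⟨m, hm⟩ := exists_zpow_inv_mul_mem_of_relIndex hZE h3.1 hx hxn hxZ ha
  obtain ⟨n, hn⟩ := exists_zpow_inv_mul_mem_of_relIndex hZE h3.1 hx hxn hxZ hb
  have k1 : Commute (x ^ m) b := by
    rw [← mul_inv_cancel_left (x ^ n) b]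
    exact ((Commute.refl x).zpow_zpow m n).mul_right (hn.2 _ (zpow_mem (hES hx) m))
  rw [← mul_inv_cancel_left (x ^ m) a]
  exact k1.mul_left (hm.2 b (hES hb)).symm

omit [Finite S] in
theorem eq_of_mem {E' Z : Subgroup Ω} (h : AxisEss F p E Z) (h' : AxisEss F p E' Z) {w : Ω} (hw : w ∈ E) (hw' : w ∈ E')
    (hZ : w ∉ Z) : E = E' := by
  have k : ∀ {E E' : Subgroup Ω}, AxisEss F p E Z → AxisEss F p E' Z → w ∈ E → w ∈ E' → E ≤ E' :=
    fun h h' hw hw' y hy => by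
      obtain ⟨m, hm⟩ := h.gen hw hZ hy
      simpa using mul_mem (zpow_mem hw' m) (h'.le hm)
  exact le_antisymm (k h h' hw hw') (k h' h hw' hw)

omit hp [Finite S] in
theorem inv_mul_mem {K L : Subgroup Ω} (h : K.relIndex L = 2) {u v : Ω} (hu : u ∈ L) (hv : v ∈ L) (k : u ∈ K ↔ v ∈ K) :
    u⁻¹ * v ∈ K :=
  (mul_mem_iff_of_index_two (H := K.subgroupOf L) h (a := (⟨u, hu⟩ : L)⁻¹) (b := ⟨v, hv⟩)).2
    ((Subgroup.inv_mem_iff _).trans k)

theorem two_case (hS : IsPGroup 2 S) (hF : F.IsSaturated 2) (hcore : F.core = ⊥) (hfoc : S ≤ F.focalSubgroup)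
    (hi : (zen S).relIndex S = 2 ^ 2) (hc : ⁅S, S⁆ ≤ zen S) (hcc : Nat.card (⁅S, S⁆ : Subgroup Ω) = 2)
    (hE : F.IsEssential 2 E) : Nat.card S = 8 ∧ ∃ x ∈ S, ∃ y ∈ S, x ^ 2 = 1 ∧ x * y ≠ y * x := by
  have hZS : zen S ≤ S := inf_le_left
  have := finite_of_le hZS
  have := finite_of_le (hc.trans hZS)
  have := finite_autGroup F S
  have hax := fun E (hE : F.IsEssential 2 E) => axisEss hS hF hi hc hE
  obtain ⟨z, hz, hz1⟩ : ∃ z ∈ ⁅S, S⁆, z ≠ 1 := by
    by_contra! k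
    rw [(eq_bot_iff_forall _).2 k, card_bot] at hcc
    omega
  have hz2 : z ^ 2 = 1 := by
    have := pow_card_eq_one' (G := (⁅S, S⁆ : Subgroup Ω)) (x := ⟨z, hz⟩)
    rw [hcc] at this
    exact congrArg Subtype.val this
  have hzz : zpowers z = ⁅S, S⁆ := eq_of_le_of_card_ge (zpowers_le.2 hz)
    (by rw [hcc, card_zpowers_of_pow_eq_one hz2 hz1])
  have huz : ∀ y ∈ ⁅S, S⁆, y ≠ 1 → y = z := fun y hy h1 => by
    obtain ⟨i, rfl⟩ := mem_zpowers_iff.1 (hzz ▸ hy : y ∈ zpowers z)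
    obtain ⟨j, rfl | rfl⟩ := Int.even_or_odd' i
    · exact absurd (by rw [zpow_mul, zpow_ofNat, hz2, one_zpow]) h1
    · rw [zpow_add, zpow_mul, zpow_ofNat, hz2, one_zpow, one_mul, zpow_one]
  have hdec : ∀ E, F.IsEssential 2 E → ∃ w ∈ E, w ∉ zen S ∧ w ^ 2 = 1 ∧
      (∀ y ∈ E, ∃ u ∈ zpowers z ⊔ zpowers w, ∃ c ∈ invCore (F.autGroup E) (zen S), u ^ 2 = 1 ∧ y = u * c) ∧
      (∀ y ∈ zen S, ∃ i : ℤ, ∃ c ∈ invCore (F.autGroup E) (zen S), y = z ^ i * c) ∧
      ∀ γ ∈ F.autGroup E, ∀ y ∈ zpowers z ⊔ zpowers w, autFun γ y ∈ zpowers z ⊔ zpowers w := fun E hE => by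
    obtain ⟨z', hz', w, hw, h1, -, h2, h3, h4, -, h5, h6, h7, -⟩ := (hax E hE).1.exists_decomp hS hF
    obtain rfl := huz z' (commutator_mono hE.1.1 le_rfl h4) h1
    refine ⟨w, hw, h2, h3, fun y hy => ?_, h6, h7⟩
    obtain ⟨i, j, c, hc, rfl⟩ := h5 y hy
    refine ⟨_, mul_mem (mem_sup_left (zpow_mem (mem_zpowers _) i)) (mem_sup_right (zpow_mem (mem_zpowers _) j)), c, hc,
      ?_, rfl⟩
    have k : Commute (z' ^ i) (w ^ j) := (hax E hE).1.ab _ (zpow_mem ((hax E hE).1.le hz') i) _ (zpow_mem hw j)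
    rw [k.mul_pow, ← zpow_natCast, ← zpow_natCast, ← zpow_mul, ← zpow_mul, mul_comm i, mul_comm j, zpow_mul, zpow_mul,
      zpow_natCast, zpow_natCast, hz2, h3, one_zpow, one_zpow, one_mul]
  have hsq : ∀ E, F.IsEssential 2 E → ∀ y ∈ E, ∃ c ∈ zen S, y ^ 2 = c ^ 2 := fun E hE y hy => by
    obtain ⟨w, hw, -, -, h1, -⟩ := hdec E hE
    obtain ⟨u, hu, c, hc, hu2, rfl⟩ := h1 y hy
    have k : Commute u c := (invCore_le hc).2 u (by simpa using mul_mem (hE.1.1 hy) (Subgroup.inv_mem _ (hE.1.1 hc.1)))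
    exact ⟨c, invCore_le hc, by rw [k.mul_pow, hu2, one_mul]⟩
  have hfr : frat (zen S) = ⊥ := by
    rw [← le_bot_iff, ← hcore]
    refine IsNormal.le_core (isNormal_of_essential hS hF ((frat_le _).trans hZS)
      (fun A hA => (frat_le _).trans (zen_le_of_centric hA.1)) fun A a hA ha e => ?_)
    rcases hA with rfl | hA
    · obtain ⟨γ, -, e'⟩ := ha.exists_aut e
      exact ha.img_eq_self ((frat_le _).trans hZS) fun x hx => (ha.homOn.mono hZS).map_mem_frat (hS.to_le hZS)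
        (fun y hy => e' y (hZS hy) ▸ autFun_mem_zen γ hy) hx
    · have := finite_of_le hA.1.1
      have hAp := hS.to_le hA.1.1
      have e' : frat (zen S) = frat A := le_antisymm (frat_mono hAp (zen_le_of_centric hA.1))
        ((frat_le_iff hAp).2 ⟨commutator_le.2 fun x hx y hy => by
          rw [commutatorElement_eq_one_iff_mul_comm.2 ((hax A hA).1.ab x hx y hy)]; exact one_mem _, fun y hy => by
          obtain ⟨c, hc, k⟩ := hsq A hA y hy
          exact k ▸ pow_mem_frat (hS.to_le hZS) hc⟩)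
      rw [e']
      exact ha.img_eq_self (frat_le _) fun x hx => ha.homOn.map_mem_frat hAp (fun y hy => e ▸ mem_img_of_mem a hy) hx
  have hel : ∀ E, F.IsEssential 2 E → ∀ y ∈ E, y ^ 2 = 1 := fun E hE y hy => by
    obtain ⟨c, hc, k⟩ := hsq E hE y hy
    exact k ▸ ((frat_eq_bot_iff (hS.to_le hZS)).1 hfr).2 c hc
  have hnorm : ∀ E, F.IsEssential 2 E → S ≤ normalizer (E : Set Ω) := fun E hE =>
    le_normalizer_of_commutator_le (hc.trans (zen_le_of_centric hE.1)) hE.1.1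
  have hinv : ∀ E, F.IsEssential 2 E → ∀ u ∈ S, u ∉ E → u ^ 2 = 1 → ∀ y ∈ S, y ∉ E → y ^ 2 = 1 →
      u⁻¹ * y ∈ zen S := fun E hE u hu huE hu2 y hy hyE hy2 => by
    have k := inv_mul_mem (hax E hE).2 hu hy (iff_of_false huE hyE)
    refine (hax E hE).1.mem_of_fix hu (hnorm E hE hu) huE k ?_
    have k2 := hel E hE _ k
    rw [sq] at hu2 hy2 k2
    rw [← eq_inv_of_mul_eq_one_left hu2] at k2 ⊢
    calc u * (u * y) * u = y * u := by rw [← mul_assoc, hu2, one_mul]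
      _ = u * (u * y * (u * y)) * y := by simp only [← mul_assoc, hu2, one_mul]; rw [mul_assoc _ y y, hy2, mul_one]
      _ = u * y := by rw [k2, mul_one]
  have hodd : ∀ α : MulAut S, (orderOf α).Coprime 2 → ∀ E, F.IsEssential 2 E → α ∈ stabAut S E :=
    fun α hα E hE => by
    have := finite_of_le hE.1.1
    obtain ⟨w, hw, hwZ, hw2, -⟩ := hdec E hE
    have hwS := hE.1.1 hw
    have key : ∀ β : MulAut S, autFun β w ∈ E → β ∈ stabAut S E := fun β hβ =>
      mem_stabAut_of_finite hE.1.1 fun y hy => by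
        obtain ⟨m, hm⟩ := (hax E hE).1.gen hw hwZ hy
        rw [← mul_inv_cancel_left (w ^ m) y, (homOn_autFun β).map_mul (zpow_mem hwS m) (hZS hm),
          (homOn_autFun β).map_zpow hwS]
        exact mul_mem (zpow_mem hβ m) ((hax E hE).1.le (autFun_mem_zen β hm))
    have hsq' : ∀ β : MulAut S, autFun β w ^ 2 = 1 := fun β => by
      rw [← (homOn_autFun β).map_pow hwS, hw2, (homOn_autFun β).map_one]
    by_contra k
    have h1 : autFun α w ∉ E := fun h => k (key α h)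
    have h2 : autFun (α * α) w ∈ E := by
      by_contra h2
      have h3 := hinv E hE _ (autFun_mem α hwS) h1 (hsq' α) _ (autFun_mem _ hwS) h2 (hsq' _)
      rw [autFun_mul _ _ hwS, ← (homOn_autFun α).map_inv hwS,
        ← (homOn_autFun α).map_mul (Subgroup.inv_mem _ hwS) (autFun_mem α hwS)] at h3
      have h4 := autFun_mem_zen α⁻¹ h3
      rw [autFun_inv_apply _ (mul_mem (Subgroup.inv_mem _ hwS) (autFun_mem α hwS))] at h4
      exact h1 (by simpa using mul_mem hw ((hax E hE).1.le h4))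
    obtain ⟨n, hn⟩ := exists_pow_eq_self_of_coprime (x := α) (n := 2) hα.symm
    exact k (hn ▸ Subgroup.pow_mem _ (sq α ▸ key _ h2) n)
  have hres : ∀ α ∈ F.autGroup S, (orderOf α).Coprime 2 → ∀ E, F.IsEssential 2 E →
      ∀ c ∈ invCore (F.autGroup E) (zen S), autFun α c ∈ invCore (F.autGroup E) (zen S) := fun α hα hα' E hE c hc => by
    obtain ⟨β, hβ, e⟩ := (mor_autFun le_rfl hα).exists_aut' hE.1.1 fun y hy => (hodd α hα' E hE y (hE.1.1 hy)).2 hy
    exact e c hc.1 ▸ autFun_mem_invCore hβ hc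
  have hext : ∀ E, F.IsEssential 2 E → ∀ γ ∈ F.autGroup E, ∃ α ∈ F.autGroup S,
      ∀ c ∈ invCore (F.autGroup E) (zen S), autFun α c = autFun γ c := fun E hE γ hγ => by
    obtain ⟨g, hg, e⟩ := ((mor_autFun hE.1.1 hγ).mono (invCore_le' (Γ := F.autGroup E) (L := zen S))).extend_of_le_zen
      hS hF invCore_le (img_le_iff.2 fun c hc => hc.2 γ hγ)
    obtain ⟨α, hα, e'⟩ := hg.exists_aut' le_rfl fun x hx => hg.mem hx
    exact ⟨α, hα, fun c hc => by rw [e' c (hE.1.1 hc.1), e c hc]⟩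
  have hInn : ∀ α ∈ Inn S, ∀ c ∈ zen S, autFun α c = c := fun α hα c hc => by
    obtain ⟨a, ha, e⟩ := mem_Inn_iff.1 hα
    rw [e c hc.1, zen_conj ha hc]
  let B : Subgroup Ω := ⨅ E : {E // F.IsEssential 2 E}, invCore (F.autGroup E.1) (zen S)
  have hBZ : B ≤ zen S := (iInf_le _ ⟨E, hE⟩).trans invCore_le
  have hBS : ∀ α ∈ F.autGroup S, ∀ c ∈ B, autFun α c ∈ B :=
    (sylIn_Inn_top hS hF).induction _ (fun α hα c hc => by rwa [hInn α hα c (hBZ hc)]) fun γ hγ hγ' δ _ ih c hc => by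
      rw [autFun_mul _ _ (hZS (hBZ hc))]
      exact mem_iInf.2 fun E => hres γ hγ hγ' E.1 E.2 _ (mem_iInf.1 (ih c hc) E)
  have hB : B = ⊥ := by
    rw [← le_bot_iff, ← hcore]
    refine IsNormal.le_core (isNormal_of_essential hS hF (hBZ.trans hZS)
      (fun A hA => hBZ.trans (zen_le_of_centric hA.1)) fun A a hA ha e => ?_)
    obtain ⟨γ, hγ, e'⟩ := ha.exists_aut e
    rcases hA with rfl | hA
    · exact ha.img_eq_self (hBZ.trans hZS) fun c hc => e' c (hZS (hBZ hc)) ▸ hBS γ hγ c hc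
    · obtain ⟨α, hα, e2⟩ := hext A hA γ hγ
      refine ha.img_eq_self (hBZ.trans (zen_le_of_centric hA.1)) fun c hc => ?_
      rw [← e' c (zen_le_of_centric hA.1 (hBZ hc)), ← e2 c (mem_iInf.1 hc ⟨A, hA⟩)]
      exact hBS α hα c hc
  have hAut : F.autGroup S = Inn S := autGroup_top_eq_Inn hS hF (isPGroup_of_forall_coprime fun α hα => by
    rw [← Subgroup.orderOf_coe] at hα
    refine Subtype.ext (aut_ext fun x hx => ?_)
    rw [Subgroup.coe_one, autFun_one hx]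
    refine fix_of_chain hS hα 2 (fun i => if i = 0 then zen S else if i = 1 then E else S) (fun y hy hyZ => ?_)
      (fun i hi y hy hy' => ?_) x hx hx
    · have : y⁻¹ * autFun α.1 y ∈ B := mem_iInf.2 fun E => by
        obtain ⟨-, -, -, -, -, h1, -⟩ := hdec E.1 E.2
        obtain ⟨i, c, hc', rfl⟩ := h1 y hyZ
        have hzS := hZS (hc hz)
        rw [(homOn_autFun α.1).map_mul (zpow_mem hzS i) (E.2.1.1 hc'.1), (homOn_autFun α.1).map_zpow hzS,
          huz _ (autFun_mem_commutator α.1 hz) fun k => hz1 (autFun_injOn α.1 hzS (one_mem _)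
            (k.trans (homOn_autFun α.1).map_one.symm))]
        simpa [mul_assoc] using mul_mem (Subgroup.inv_mem _ hc') (hres α.1 α.2 hα E.1 E.2 c hc')
      rw [hB, mem_bot] at this
      exact (inv_mul_eq_one.1 this).symm
    · interval_cases i
      · refine inv_mul_mem (hax E hE).1.idx hy' ((hodd α.1 hα E hE y hy).2 hy') ⟨autFun_mem_zen α.1, fun k => ?_⟩
        exact autFun_inv_apply α.1 hy ▸ autFun_mem_zen α.1⁻¹ k
      · exact inv_mul_mem (hax E hE).2 hy (autFun_mem _ hy) (hodd α.1 hα E hE y hy).symm)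
  have hpack : ∀ E, F.IsEssential 2 E → ∃ w ∈ E, w ∉ zen S ∧
      ∀ γ ∈ F.autGroup E, ∀ y ∈ E, y⁻¹ * autFun γ y ∈ zpowers z ⊔ zpowers w := fun E hE => by
    obtain ⟨w, hw, hwZ, -, h1, -, h2⟩ := hdec E hE
    refine ⟨w, hw, hwZ, fun γ hγ y hy => ?_⟩
    obtain ⟨u, hu, c, hc', -, rfl⟩ := h1 y hy
    obtain ⟨α, hα, e⟩ := hext E hE γ hγ
    have huE : u ∈ E := by simpa using mul_mem hy (Subgroup.inv_mem _ hc'.1)
    have k := mul_mem (Subgroup.inv_mem _ hu) (h2 γ hγ u hu)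
    rw [(homOn_autFun γ).map_mul huE hc'.1, ← e c hc', hInn α (hAut ▸ hα) c (invCore_le hc'),
      show (u * c)⁻¹ * (autFun γ u * c) = c⁻¹ * (u⁻¹ * autFun γ u * c) by group,
      (invCore_le hc').2 _ (hE.1.1 (mul_mem (Subgroup.inv_mem _ huE) (autFun_mem γ huE))), inv_mul_cancel_left]
    exact k
  have hfoc' : ∀ X : Subgroup Ω, z ∈ X → (∀ E, F.IsEssential 2 E → ∀ γ ∈ F.autGroup E, ∀ y ∈ E,
      y⁻¹ * autFun γ y ∈ X) → S ≤ X := fun X hzX k => hfoc.trans (focal_le_of_aut hS hF fun A hA γ hγ x hx => by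
    rcases hA with rfl | hA
    · obtain ⟨a, ha, e⟩ := mem_Inn_iff.1 (hAut ▸ hγ)
      rw [e x hx]
      exact zpowers_le.2 hzX (hzz ▸ inv_mul_conj_mem_commutator hx ha)
    · exact k A hA γ hγ x hx)
  obtain ⟨E', hE', hne⟩ : ∃ E', F.IsEssential 2 E' ∧ E' ≠ E := by
    by_contra! k
    exact (IsEssential.lt hE (fullyAutomized_of_fullyNormalized hS hF (isFullyNormalized_top F))).not_ge
      (hfoc' E (zen_le_of_centric hE.1 (hc hz)) fun A hA γ _ y hy => by
        obtain rfl := k A hA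
        exact mul_mem (Subgroup.inv_mem _ hy) (autFun_mem γ hy))
  obtain ⟨w, hw, hwZ, h1⟩ := hpack E hE
  obtain ⟨w', hw', hwZ', h1'⟩ := hpack E' hE'
  have hwE : w' ∉ E := fun k => hne (eq_of_mem (hax E' hE').1 (hax E hE).1 hw' k hwZ')
  have hle : zpowers z ⊔ zpowers w ≤ E := sup_le (zpowers_le.2 (zen_le_of_centric hE.1 (hc hz))) (zpowers_le.2 hw)
  have e : S = zpowers z ⊔ zpowers w ⊔ zpowers w' := by
    refine le_antisymm (hfoc' _ (mem_sup_left (mem_sup_left (mem_zpowers z))) fun A hA γ hγ y hy => ?_)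
      (sup_le (hle.trans hE.1.1) (zpowers_le.2 (hE'.1.1 hw')))
    obtain ⟨v, hv, hvZ, -⟩ := hpack A hA
    by_cases hvE : v ∈ E
    · obtain rfl := eq_of_mem (hax A hA).1 (hax E hE).1 hv hvE hvZ
      exact mem_sup_left (h1 γ hγ y hy)
    · have k := hinv E hE w' (hE'.1.1 hw') hwE (hel _ hE' _ hw') v (hA.1.1 hv) hvE (hel _ hA _ hv)
      obtain rfl := eq_of_mem (hax A hA).1 (hax E' hE').1 hv
        (by simpa using mul_mem hw' (zen_le_of_centric hE'.1 k)) hvZ
      exact SetLike.le_def.1 (sup_le_sup_right le_sup_left _) (h1' γ hγ y hy)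
  have := finite_of_le (hle.trans hE.1.1)
  refine ⟨?_, w, hE.1.1 hw, w', hE'.1.1 hw', hel E hE w hw, fun k => hwZ ((hax E hE).1.mem_of_fix (hE'.1.1 hw')
    (hnorm E hE (hE'.1.1 hw')) hwE hw (by rw [← k, mul_inv_cancel_right]))⟩
  have h2 := card_sup_zpowers_of_normalizer (p := 2) (le_normalizer_of_commutator_le (hzz.ge.trans le_sup_left)
    (hle.trans hE.1.1) (hE'.1.1 hw')) (fun k => hwE (hle k)) (hel _ hE' _ hw' ▸ one_mem _)
  rw [← e, card_sup_zpowers_of_normalizer (p := 2) (le_normalizer_of_commutator_le hzz.ge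
    (zpowers_le.2 (hZS (hc hz))) (hE.1.1 hw)) (fun k => hwZ (hc (hzz ▸ k))) (hel _ hE _ hw ▸ one_mem _),
    card_zpowers_of_pow_eq_one hz2 hz1] at h2
  exact h2

end

/-- Let p be a prime, S a nontrivial finite p-group whose centre has index at most p², and F a saturated fusion system over S with no nontrivial normal subgroup and with hyperfocal subgroup equal to S. Then S is extraspecial of order p³; for odd p it has exponent p, and for p = 2 it is dihedral of order 8. -/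
theorem result {Ω : Type*} [Group Ω] {S : Subgroup Ω} [Finite S] (p : ℕ) [Fact p.Prime] (hS : IsPGroup p ↥S) (F : Cfsg.FusionSystem S) (hF : F.IsSaturated p) (hS1 : S ≠ ⊥) (hcore : F.core = ⊥) (hhyp : F.hyperfocalSubgroup p = S) (hZ : (Subgroup.center ↥S).index ≤ p ^ 2) : Cfsg.IsExtraspecial p ↥S ∧ Nat.card S = p ^ 3 ∧ (p ≠ 2 → Monoid.exponent ↥S = p) ∧ (p = 2 → Nonempty (↥S ≃* DihedralGroup 4)) := by
  have hp : p.Prime := Fact.out
  have hsc : F.StronglyClosed S := stronglyClosed_iff.2 ⟨le_rfl, fun _ _ hf _ hx _ => hf.mem hx⟩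
  have hnn : ¬ F.IsNormal S := fun k => hS1 (le_bot_iff.1 (hcore ▸ IsNormal.le_core k))
  have hna : ¬ IsMulCommutative S := fun k => hnn (isNormal_of_stronglyClosed_comm hS hF hsc fun x hx y hy =>
    congrArg Subtype.val (k.1.1 ⟨x, hx⟩ ⟨y, hy⟩))
  obtain ⟨E, hE⟩ : ∃ E, F.IsEssential p E := by
    by_contra! k
    exact hnn ((isNormal_top_iff hS hF).2 k)
  have hi0 : (center S).index = p ^ 2 := by
    obtain ⟨k, hk⟩ := hS.index (center S)
    rw [hk] at hZ ⊢
    have h1 := (Nat.pow_le_pow_iff_right hp.one_lt).1 hZ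
    have hnc : ¬ IsCyclic (S ⧸ center S) := fun hc =>
      hna ((QuotientGroup.mk' (center S)).isMulCommutative_of_isCyclic_of_ker_le_center (by simp))
    interval_cases k
    · have : Subsingleton (S ⧸ center S) := (Nat.card_eq_one_iff_unique.1 hk).1
      exact absurd isCyclic_of_subsingleton hnc
    · exact absurd (isCyclic_of_prime_card (p := p) (by rw [← index_eq_card, hk, pow_one])) hnc
    · rfl
  have hi : (zen S).relIndex S = p ^ 2 := by
    rw [zen_eq_map, relIndex, subgroupOf, comap_map_eq_self_of_injective S.subtype_injective, hi0]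
  have hc : ⁅S, S⁆ ≤ zen S := by
    rw [zen_eq_map, ← commutator_self_eq_map]
    exact map_mono (commutator_le_center_of_index hi0.dvd)
  have hcc : Nat.card (⁅S, S⁆ : Subgroup Ω) = p := by
    rw [← commutator_self_eq_map, card_map_of_injective S.subtype_injective]
    refine ((Nat.dvd_prime hp).1 (CL.Grp.card_commutator_dvd_of_le_center hS hi0.dvd)).resolve_left fun k => hna ?_
    exact (commutator_eq_bot_iff S).1 (card_eq_one.1 k)
  by_cases hp2 : p = 2
  · subst hp2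
    obtain ⟨h1, x, hx, y, hy, h2, h3⟩ := two_case hS hF hcore (hhyp.ge.trans (hyperfocal_le_focal F 2)) hi hc hcc hE
    exact ⟨isExtraspecial_of_card_eq_cube h1 hna, h1, fun k => absurd rfl k, fun _ =>
      nonempty_dihedral_of_card_eight (x := (⟨x, hx⟩ : S)) (y := ⟨y, hy⟩) h1 (Subtype.ext h2)
        fun k => h3 (congrArg Subtype.val k)⟩
  · obtain ⟨hax, hES⟩ := axisEss hS hF hi hc hE
    have h1 : zen S = ⁅S, S⁆ := le_antisymm (zen_le_commutator hp2 hS hF hcore (by rw [inf_eq_right.2 hc, hcc])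
      (fun E hE => Or.inl (axisEss hS hF hi hc hE).1) hax) hc
    have h2 : Nat.card E = p ^ 2 := by rw [CL.Grp.card_eq_relIndex_mul_card hax.le, hax.idx, h1, hcc, sq]
    have h3 : Nat.card S = p ^ 3 := by rw [CL.Grp.card_eq_relIndex_mul_card hE.1.1, hES, h2]; ring
    have hZp : ∀ c ∈ zen S, c ^ p = 1 := fun c hc => by
      have := pow_card_eq_one' (G := (⁅S, S⁆ : Subgroup Ω)) (x := ⟨c, h1.le hc⟩)
      rw [hcc] at this
      exact congrArg Subtype.val this
    have hmul : ∀ x ∈ S, ∀ y ∈ S, (x * y) ^ p = x ^ p * y ^ p := fun x hx y hy =>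
      have k := hc (commutator_mem_commutator hy hx)
      CL.Grp.mul_pow_prime_of_commute_comm hp hp2 (k.2 x hx) (k.2 y hy) (hZp _ k)
    have hzp : ∀ (x : Ω) (i : ℤ), x ^ p = 1 → (x ^ i) ^ p = 1 := fun x i k => by
      rw [← zpow_natCast, ← zpow_mul, mul_comm, zpow_mul, zpow_natCast, k, one_zpow]
    have hel : ∀ y ∈ E, y ^ p = 1 := fun y hy => by
      obtain ⟨-, -, w, hw, -, -, hwZ, hwp, -⟩ := hax.exists_decomp hS hF
      obtain ⟨m, hm⟩ := hax.gen hw hwZ hy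
      rw [← mul_inv_cancel_left (w ^ m) y, hmul _ (zpow_mem (hE.1.1 hw) m) _ hm.1, hZp _ hm, hzp _ _ hwp, mul_one]
    obtain ⟨c, hcS, hcn, hcE, hcp⟩ := exists_order_p_notMem hp2 hS hF hE.1 (IsEssential.isRadical hS hE) hsc
      (IsEssential.lt hE (fullyAutomized_of_fullyNormalized hS hF (isFullyNormalized_top F))).not_ge (V := E)
      (fun x => ⟨fun k => ⟨⟨k, hE.1.1 k⟩, hel x k⟩, fun k => k.1.1⟩) h2
    refine ⟨isExtraspecial_of_card_eq_cube h3 hna, h3, fun _ => ?_, fun k => absurd k hp2⟩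
    refine ((Nat.dvd_prime hp).1 (Monoid.exponent_dvd_of_forall_pow_eq_one fun g => Subtype.ext ?_)).resolve_left
      fun k => ?_
    · obtain ⟨m, hm⟩ := exists_zpow_inv_mul_mem_of_relIndex hE.1.1 hES hcS hcn hcE g.2
      show (g : Ω) ^ p = 1
      rw [← mul_inv_cancel_left (c ^ m) (g : Ω), hmul _ (zpow_mem hcS m) _ (hE.1.1 hm), hel _ hm, hzp _ _ hcp, mul_one]
    · have := Monoid.exp_eq_one_iff.1 k
      exact hna ⟨⟨fun a b => Subsingleton.elim _ _⟩⟩

end Cfsg.Agent.S5265
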