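import Cfsg.Statements.S5178
import Cfsg.Agent.Fus.EssExt
import Cfsg.Agent.S5233
import Cfsg.Agent.S5265

set_option autoImplicit false
universe u
open Cfsg

namespace Cfsg.Agent.S5178

open Cfsg.FusionSystem CL.Fus Subgroup
open scoped commutatorElement

/-- Let p be an odd prime, S a finite p-group containing an extraspecial subgroup Q of index p, and F a saturated fusion system over S whose largest subgroup normal in F is trivial. Then the centre of S equals the centre of Q. -/
theorem result {Ω : Type u} [Group Ω] {S : Subgroup Ω} [Finite S] (p : ℕ) [Fact p.Prime] (hp : Odd p) (hS : IsPGroup p S)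
    (Q : Subgroup Ω) (hQS : Q ≤ S) (hQ : Cfsg.IsExtraspecial p ↥Q) (hQi : (Q.subgroupOf S).index = p)
    (F : Cfsg.FusionSystem S) (hF : F.IsSaturated p) (hO : F.core = ⊥) :
    S ⊓ Subgroup.centralizer (S : Set Ω) = Q ⊓ Subgroup.centralizer (Q : Set Ω) := by
  have hp' : p.Prime := Fact.out
  have hp2 : p ≠ 2 := by rintro rfl; exact absurd hp (by decide)
  have := finite_of_le hQS
  have hQp := hS.to_le hQS
  have hZ : Nat.card (zen Q) = p := by
    rw [zen_eq_map, card_map_of_injective Q.subtype_injective, CL.Grp.extra_card_center hQ]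
  have hfr : frat Q = zen Q := by rw [zen_eq_map, frat, CL.Grp.extra_frattini_eq hQ]
  have hcm : ⁅Q, Q⁆ = zen Q := by rw [zen_eq_map, ← commutator_self_eq_map, CL.Grp.extra_commutator_eq hQ]
  have hn : S ≤ normalizer (Q : Set Ω) :=
    (normal_subgroupOf_iff_le_normalizer hQS).1 (CL.Grp.normal_of_index_eq_pGroup hS hQi)
  have hnn : ¬ F.IsNormal S := fun k => by
    have h1 : zen Q ≤ ⊥ := inf_le_left.trans (hQS.trans (hO ▸ IsNormal.le_core k))
    rw [le_bot_iff.1 h1, card_bot] at hZ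
    exact hp'.ne_one hZ.symm
  have hle : zen S ≤ Q := by
    intro y hy
    by_contra hyQ
    have hgen : ∀ x ∈ S, ∃ m : ℤ, (y ^ m)⁻¹ * x ∈ Q := fun x hx =>
      exists_zpow_inv_mul_mem_of_relIndex hQS hQi hy.1 (hn hy.1) hyQ hx
    have hc : ⁅S, S⁆ = zen Q := le_antisymm (commutator_le.2 fun a ha b hb => by
      obtain ⟨i, hi⟩ := hgen a ha
      obtain ⟨j, hj⟩ := hgen b hb
      have k := hcm ▸ commutator_mem_commutator hi hj
      have e1 : ∀ (m : ℤ), ∀ u ∈ S, ⁅(y ^ m)⁻¹ * u, b⁆ = ⁅u, b⁆ := fun m u hu => by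
        have hz := Subgroup.inv_mem _ (zpow_mem hy m)
        rw [show ⁅(y ^ m)⁻¹ * u, b⁆ = (y ^ m)⁻¹ * (u * b * u⁻¹) * (y ^ m)⁻¹⁻¹ * b⁻¹ by
          simp only [commutatorElement_def]; group, ← hz.2 _ (mul_mem (mul_mem hu hb) (Subgroup.inv_mem _ hu)),
          mul_inv_cancel_right, commutatorElement_def]
      have e2 : ⁅(y ^ i)⁻¹ * a, (y ^ j)⁻¹ * b⁆ = ⁅(y ^ i)⁻¹ * a, b⁆ := by
        have hz := Subgroup.inv_mem _ (zpow_mem hy j)
        rw [show ⁅(y ^ i)⁻¹ * a, (y ^ j)⁻¹ * b⁆ = ((y ^ i)⁻¹ * a) * (y ^ j)⁻¹ * (b * ((y ^ i)⁻¹ * a)⁻¹ * b⁻¹) *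
          (y ^ j)⁻¹⁻¹ by simp only [commutatorElement_def]; group, mul_assoc _ (y ^ j)⁻¹,
          ← hz.2 _ (mul_mem (mul_mem hb (Subgroup.inv_mem _ (hQS hi))) (Subgroup.inv_mem _ hb)), commutatorElement_def]
        group
      rwa [e2, e1 i a ha] at k) (hcm ▸ commutator_mono hQS hQS)
    have hf : frat S = ⁅S, S⁆ := le_antisymm ((frat_le_iff hS).2 ⟨le_rfl, fun x hx => by
      obtain ⟨m, hm⟩ := hgen x hx
      have k : Commute (y ^ m) ((y ^ m)⁻¹ * x) := ((zpow_mem hy m).2 _ (hQS hm)).symm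
      have k2 : y ^ p ∈ zen Q := ⟨hQi ▸ pow_mem_of_relIndex hQS hn hy.1, fun u hu => (pow_mem hy p).2 u (hQS hu)⟩
      rw [← mul_inv_cancel_left (y ^ m) x, k.mul_pow, hc, ← zpow_natCast, ← zpow_mul, mul_comm, zpow_mul, zpow_natCast]
      exact mul_mem (zpow_mem k2 m) (hfr ▸ pow_mem_frat hQp hm)⟩) (commutator_le_frat hS)
    have hcc : Nat.card (commutator S) = p := by
      rw [← card_map_of_injective S.subtype_injective, commutator_self_eq_map, hc, hZ]
    refine hnn (Cfsg.Agent.S5233.result p hS F hF S (stronglyClosed_self F) ⟨map_injective S.subtype_injective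
      (hf.trans (commutator_self_eq_map S).symm), hcc⟩ (fun k => absurd k hp2) fun _ => ?_)
    rintro ⟨E, _, A, _, hE, hE3, -, -, ⟨e⟩⟩
    have hi0 : (center S).index = p ^ 2 := by
      rw [← index_center_of_card_eq_cube hE3 (CL.Grp.extra_not_isMulCommutative hE), ← index_map_equiv _ e,
        ← mul_one (center E).index, ← index_top (G := A), ← index_prod]
      congr 1
      ext x
      obtain ⟨x, rfl⟩ := e.surjective x
      rw [← CommGroup.center_eq_top, ← Subgroup.center_prod]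
      refine (mem_map_iff_mem e.injective).trans ⟨fun k => Subgroup.mem_center_iff.2 fun u => ?_,
        fun k => Subgroup.mem_center_iff.2 fun u => e.injective ?_⟩
      · obtain ⟨u, rfl⟩ := e.surjective u
        rw [← map_mul, ← map_mul, Subgroup.mem_center_iff.1 k]
      · rw [map_mul, map_mul, Subgroup.mem_center_iff.1 k]
    have hi : (zen S).relIndex S = p ^ 2 := by
      rw [zen_eq_map, relIndex, subgroupOf, comap_map_eq_self_of_injective S.subtype_injective, hi0]
    have hc' : ⁅S, S⁆ ≤ zen S := by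
      rw [zen_eq_map, ← commutator_self_eq_map]
      exact map_mono (commutator_le_center_of_index hi0.dvd)
    obtain ⟨B, hB⟩ : ∃ E, F.IsEssential p E := by
      by_contra! k
      exact hnn ((isNormal_top_iff hS hF).2 k)
    exact hyQ (hc ▸ zen_le_commutator hp2 hS hF hO (by rw [inf_eq_right.2 hc', hc, hZ])
      (fun E hE => Or.inl (Cfsg.Agent.S5265.axisEss hS hF hi hc' hE).1) (Cfsg.Agent.S5265.axisEss hS hF hi hc' hB).1
        hy : y ∈ zen Q).1
  have h1 : zen S ≤ zen Q := fun y hy => ⟨hle hy, fun x hx => hy.2 x (hQS hx)⟩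
  refine (CL.Grp.eq_or_eq_of_relIndex_prime bot_le h1 (by rwa [relIndex_bot_left, hZ])).resolve_left fun k => ?_
  have : Nontrivial S := by
    by_contra k
    have := not_nontrivial_iff_subsingleton.1 k
    exact hnn (isNormal_of_stronglyClosed_comm hS hF (stronglyClosed_self F) fun x hx y hy =>
      congrArg Subtype.val (Subsingleton.elim ((⟨x, hx⟩ : S) * ⟨y, hy⟩) (⟨y, hy⟩ * ⟨x, hx⟩)))
  have h2 := CL.Grp.dvd_card_center hS
  rw [← card_map_of_injective S.subtype_injective, ← zen_eq_map, k, card_bot] at h2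
  exact hp'.ne_one (Nat.dvd_one.1 h2)

end Cfsg.Agent.S5178
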