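import Cfsg.Statements.S5179
import Cfsg.Agent.Fus.AbelIdx

set_option autoImplicit false
universe u
open Cfsg

namespace Cfsg.Agent.S5179

open CL.Fus Subgroup
open scoped commutatorElement

/-- Let p be an odd prime, S a finite p-group of order at least p⁶ containing an extraspecial subgroup Q of index p, and F a saturated fusion system over S whose largest subgroup normal in F is trivial. Then no proper subgroup of Q is essential in F: an essential subgroup of F contained in Q equals Q. -/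
theorem result {Ω : Type u} [Group Ω] {S : Subgroup Ω} [Finite S] (p : ℕ) [Fact p.Prime] (hp : Odd p) (hS : IsPGroup p S)
    (Q : Subgroup Ω) (hQS : Q ≤ S) (hQ : Cfsg.IsExtraspecial p ↥Q) (hQi : (Q.subgroupOf S).index = p)
    (h6 : p ^ 6 ≤ Nat.card S)
    (F : Cfsg.FusionSystem S) (hF : F.IsSaturated p) (hO : F.core = ⊥)
    (E : Subgroup Ω) (hEQ : E ≤ Q) (hE : F.IsEssential p E) : E = Q := by
  by_contra hne
  have hp' : p.Prime := Fact.out
  have hES := hE.1.1
  have := finite_of_le hES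
  have := finite_of_le hQS
  have := finite_autGroup F E
  have hQp := hS.to_le hQS
  have hr := IsEssential.isRadical hS hE
  have hZ : Nat.card (zen Q) = p := by
    rw [zen_eq_map, card_map_of_injective Q.subtype_injective, CL.Grp.extra_card_center hQ]
  have hfr : frat Q = zen Q := by rw [zen_eq_map, frat, CL.Grp.extra_frattini_eq hQ]
  have hc : ∀ x ∈ Q, ∀ y ∈ Q, ⁅x, y⁆ ∈ zen Q := fun x hx y hy =>
    hfr ▸ commutator_le_frat hQp (commutator_mem_commutator hx hy)
  have hZE : zen Q ≤ E := fun z hz => IsCentric.centralizerIn_le hE.1 ⟨hQS hz.1, fun y hy => hz.2 y (hEQ hy)⟩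
  have hn : Q ≤ normalizer (E : Set Ω) := fun a ha => mem_normalizer_of_comm_mem fun y hy => hZE (hc a ha y (hEQ hy))
  obtain ⟨z, hz, hz1⟩ : ∃ z ∈ zen Q, z ≠ 1 := by
    by_contra! k
    rw [(eq_bot_iff_forall _).2 k, card_bot] at hZ
    exact hp'.ne_one hZ.symm
  have hzp : z ^ p = 1 := by
    have := pow_card_eq_one' (G := zen Q) (x := ⟨z, hz⟩)
    rw [hZ] at this
    exact congrArg Subtype.val this
  have hzz : zpowers z = zen Q := by
    have := finite_of_le (inf_le_left : zen Q ≤ Q)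
    exact eq_of_le_of_card_ge (zpowers_le.2 hz) (by rw [hZ, card_zpowers_of_pow_eq_one hzp hz1])
  obtain ⟨a, ha, haE⟩ := SetLike.exists_of_lt (lt_of_le_of_ne hEQ hne)
  have hmove : ∃ γ ∈ F.autGroup E, γ ∉ stabAut E (zen Q) := by
    by_contra! k
    exact haE (mem_of_comm_frat hS hE.1 hr hZE (fun γ hγ x hx => (k γ hγ x (hZE hx)).2 hx) (hQS ha) (hn ha)
      (fun x hx => inv_mul_conj_eq_commutator x a ▸ hc _ (Subgroup.inv_mem _ (hEQ hx)) a ha) fun x hx => by
        rw [zen_conj ha hx, inv_mul_cancel]; exact one_mem _)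
  have hstab : ∀ γ : MulAut E, autFun γ z ∈ zen Q → γ ∈ stabAut E (zen Q) := fun γ hγ => by
    have := finite_of_le (inf_le_left : zen Q ≤ Q)
    refine mem_stabAut_of_finite hZE fun y hy => ?_
    obtain ⟨i, rfl⟩ := mem_zpowers_iff.1 (hzz ▸ hy : y ∈ zpowers z)
    rw [(homOn_autFun γ).map_zpow (hZE hz)]
    exact zpow_mem hγ i
  have hbot : frat E = ⊥ := by
    obtain ⟨γ, -, hγ⟩ := hmove
    rw [eq_bot_iff_forall]
    intro w hw
    by_contra k
    have hle : frat E ≤ zen Q := hfr ▸ frat_mono hQp hEQ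
    exact hγ (hstab γ (hle ((homOn_autFun γ).map_mem_frat (hS.to_le hES) (fun x hx => autFun_mem γ hx)
      (zpowers_le.2 hw (mem_zpowers_symm_of_prime hzp (hzz ▸ hle hw) k)))))
  obtain ⟨hab, -⟩ := (frat_eq_bot_iff (hS.to_le hES)).1 hbot
  have htv : ∀ b (hb : b ∈ Q), IsTv p (conjAut E (hn hb)) ⟨z, hZE hz⟩ := fun b hb =>
    ⟨Subtype.ext hzp, fun k => hz1 (congrArg Subtype.val k), Subtype.ext (zen_conj hb hz), fun y =>
      coe_mem_zpowers_iff.1 (by
        rw [Subgroup.coe_mul, Subgroup.coe_inv, coe_conjAut_apply, inv_mul_conj_eq_commutator]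
        exact hzz ▸ hc _ (Subgroup.inv_mem _ (hEQ y.2)) b hb)⟩
  -- some element of `Q` outside `E` centralizes a given element of `E`
  have hfix : ∀ w ∈ E, ∃ b ∈ Q, b ∉ E ∧ b * w * b⁻¹ = w := fun w hw => by
    by_contra! k
    have h1 : centralizer ({⟨w, hEQ hw⟩} : Set Q) ≤ E.subgroupOf Q := fun b hb => by
      by_contra k'
      exact k b b.2 k' (mul_inv_eq_iff_eq_mul.2 (congrArg Subtype.val (mem_centralizer_singleton_iff.1 hb)))
    obtain ⟨n, -, hcard⟩ := CL.Grp.extra_card hQ
    have h2 := CL.Grp.extra_card_le_of_isMulCommutative hQ hcard (E.subgroupOf Q)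
      ⟨⟨fun a b => Subtype.ext (Subtype.ext (hab _ a.2 _ b.2))⟩⟩
    have h3 : Nat.card Q ≤ p * Nat.card (centralizer ({⟨w, hEQ hw⟩} : Set Q)) := by
      by_cases hwZ : (⟨w, hEQ hw⟩ : Q) ∈ center Q
      · rw [(centralizer_eq_top_iff_subset.2 (Set.singleton_subset_iff.2 hwZ)), card_top]
        exact Nat.le_mul_of_pos_left _ hp'.pos
      · rw [← CL.Grp.extra_index_centralizer hQ hwZ, index_mul_card]
    have h4 := h3.trans (Nat.mul_le_mul_left p ((card_le_of_le h1).trans h2))
    have h5 : Nat.card S = p * Nat.card Q := by rw [CL.Grp.card_eq_relIndex_mul_card hQS]; exact congrArg (· * _) hQi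
    rw [h5, hcard, ← pow_succ', Nat.pow_le_pow_iff_right hp'.one_lt] at h6
    rw [hcard, ← pow_succ', Nat.pow_le_pow_iff_right hp'.one_lt] at h4
    omega
  have hlt := IsEssential.lt hE (fullyAutomized_of_fullyNormalized hS hF (isFullyNormalized_top F))
  obtain ⟨-, hY⟩ := (extAut_dichotomy hS hF hlt hE.2.1).resolve_left fun k => k.1 hE
  have hne' := extAut_ne_of_essential hS hF hE
  have key : ∀ γ ∈ F.autGroup E, γ ∉ stabAut E (zen Q) → γ ∈ extAut F E := fun γ hγ hγZ => by
    obtain ⟨b, hb, hbE, e⟩ := hfix _ (autFun_mem γ (hZE hz))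
    have ht := conjAut_mem_autGroup F hES (hn hb) (hQS hb)
    have hX := IsTv.isPGroup_closure (hS.to_le hES) (fun a b => Subtype.ext (hab a a.2 b b.2)) (htv b hb)
      ((htv b hb).conj γ) (Subtype.ext (by rw [coe_conjAut_apply, ← autFun_apply]; exact e))
    have hle : closure ({conjAut E (hn hb), γ * conjAut E (hn hb) * γ⁻¹} : Set (MulAut E)) ≤ F.autGroup E :=
      (closure_le _).2 (by
        rintro _ (rfl | rfl)
        exacts [ht, mul_mem (mul_mem hγ ht) (Subgroup.inv_mem _ hγ)])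
    obtain ⟨δ, hδ, hδ'⟩ := (sylIn_of_fullyNormalized hS hF hE.2.1).exists_conj_le hX hle
    have h1 := autInducedBy_le_extAut (F := F) hlt (hδ' _ (subset_closure (Set.mem_insert _ _)))
    have h2 := autInducedBy_le_extAut (F := F) hlt (hδ' _ (subset_closure (Set.mem_insert_of_mem _ rfl)))
    have h3 := autInducedBy_le_extAut (F := F) hlt (conjAut_mem_autInducedBy (hn hb) (hQS hb))
    have key2 : ∀ β (hβ : β ∈ F.autGroup E), β * conjAut E (hn hb) * β⁻¹ ∈ extAut F E → β ∈ extAut F E :=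
      fun β hβ k => by
      have h4 := IsStronglyPEmbedded.mem_of_conj_mem hY (x := outMk F E ⟨_, ht⟩) (g := outMk F E ⟨β, hβ⟩)
        (fun k => hbE (mem_of_conjAut_mem_Inn (IsCentric.centralizerIn_le hE.1) hES (hQS hb) (hn hb)
          (outMk_eq_one_iff.1 k))) ⟨1, by
            rw [pow_one, ← map_pow, show (⟨_, ht⟩ : F.autGroup E) ^ p = 1 from Subtype.ext (htv b hb).pow_eq_one,
              map_one]⟩ (mem_map_of_mem _ h3) (by
          rw [← map_inv, ← map_mul, ← map_mul]; exact mem_map_of_mem _ k)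
      obtain ⟨β', hβ', e'⟩ := h4
      have h5 : (β' : MulAut E)⁻¹ * β ∈ Inn E := outMk_eq_one_iff.1 (show outMk F E (β'⁻¹ * ⟨β, hβ⟩) = 1 by
        rw [map_mul, map_inv, e', inv_mul_cancel])
      simpa using mul_mem (mem_subgroupOf.1 hβ') (autInducedBy_le_extAut (F := F) hlt (Inn_le_autInducedBy hES h5))
    have h4 := key2 δ hδ h1
    have h5 := key2 (δ * γ) (mul_mem hδ hγ) (by simpa [mul_assoc] using h2)
    simpa using mul_mem (Subgroup.inv_mem _ h4) h5
  obtain ⟨γ, hγ, hγZ⟩ := hmove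
  refine hne' (le_antisymm (extAut_le F E) fun β hβ => ?_)
  by_contra k
  have h1 : β ∈ stabAut E (zen Q) := by
    by_contra k'
    exact k (key β hβ k')
  exact k (by simpa using mul_mem (key (β * γ) (mul_mem hβ hγ) fun k' =>
    hγZ (by simpa using mul_mem (Subgroup.inv_mem _ h1) k')) (Subgroup.inv_mem _ (key γ hγ hγZ)))

end Cfsg.Agent.S5179
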