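import Cfsg.Statements.S5182
import Cfsg.Agent.Fus.Rk3F

set_option autoImplicit false
universe u
open Cfsg

namespace Cfsg.Agent.S5182

open CL.Fus CL.Fus.Rk

/-- Let p ≥ 5 be a prime, S a finite p-group of sectional p-rank exactly 3, and F a saturated fusion system over S whose largest subgroup normal in F is trivial. Then F has an essential subgroup that is either elementary abelian of order p² or extraspecial of order p³ and exponent p. -/
theorem result {Ω : Type u} [Group Ω] {S : Subgroup Ω} [Finite S] (p : ℕ) [Fact p.Prime] (hp : 5 ≤ p) (hS : IsPGroup p S) (hsr : Cfsg.SectionalPRankLE p 3 ↥S ∧ ¬ Cfsg.SectionalPRankLE p 2 ↥S)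
    (F : Cfsg.FusionSystem S) (hF : F.IsSaturated p) (hO : F.core = ⊥) :
    ∃ E : Subgroup Ω, (F.IsEssential p E ∧ ((Cfsg.IsElementaryAbelian p E ∧ Nat.card E = p ^ 2) ∨
        (Cfsg.IsExtraspecial p ↥E ∧ Nat.card E = p ^ 3 ∧ ∀ x ∈ E, x ^ p = 1))) := by
  obtain ⟨G, _, _, T, θ, η, h, hT, sat, rk, big, co, -⟩ := exists_model F hS hF hsr
  by_cases k : ∀ E, (groupFusionSystem T).IsEssential p E → T ≤ Subgroup.normalizer (E : Set G)
  · obtain ⟨E₁, E₂, -, h₂, t⟩ := exists_III hT sat rk (by omega) big (co hO) k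
    obtain ⟨E, hE, rfl⟩ := h.toGIso.exists_eq_img h₂.1.1
    exact ⟨E, (h.isEssential_iff hE).1 h₂, Or.inr (pull_ex h.toGIso hE t)⟩
  push Not at k
  obtain ⟨E', h₂, hn⟩ := k
  obtain ⟨E, hE, rfl⟩ := h.toGIso.exists_eq_img h₂.1.1
  obtain ⟨k1, k2⟩ := ess_nonnormal hp hT sat rk h₂ hn
  exact ⟨E, (h.isEssential_iff hE).1 h₂, Or.inl ⟨pull_el h.toGIso hE k1, (h.toGIso.card_img hE).symm.trans k2⟩⟩

end Cfsg.Agent.S5182
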