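import Cfsg.Statements.S5185
import Cfsg.Agent.Fus.RankTwo

set_option autoImplicit false
universe u
open Cfsg

namespace Cfsg.Agent.S5185

open CL.Fus Cfsg.FusionSystem Matrix
open scoped MatrixGroups

/-- Let F be a saturated fusion system over a finite p-group S and H an essential subgroup of order p². Then H is elementary abelian (isomorphic to C_p × C_p) and its F-automorphism group contains a subgroup isomorphic to SL(2,p). -/
theorem result {Ω : Type u} [Group Ω] {S : Subgroup Ω} [Finite S] (p : ℕ) [Fact p.Prime] (hS : IsPGroup p S)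
    (F : Cfsg.FusionSystem S) (hF : F.IsSaturated p) (H : Subgroup Ω) (hH : F.IsEssential p H) (hcard : Nat.card H = p ^ 2) :
    Cfsg.IsElementaryAbelian p H ∧
      ∃ K : Subgroup ↥(F.autGroup H), Nonempty (↥K ≃* Matrix.SpecialLinearGroup (Fin 2) (ZMod p)) := by
  have hlt := IsEssential.lt hH (fullyAutomized_of_fullyNormalized hS hF (isFullyNormalized_top F))
  have hAr := IsEssential.isRadical hS hH
  have := finite_of_le hlt.le
  have hc := IsPGroup.isMulCommutative_of_card_eq_prime_sq hcard
  have hel : ∀ v : H, v ^ p = 1 := by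
    by_contra h
    have h1 : IsCyclic H := by
      by_contra h2
      exact h fun v => by
        rw [← (not_isCyclic_iff_exponent_eq_prime Fact.out hcard).1 h2]; exact Monoid.pow_exponent_eq_one v
    exact hlt.not_ge (le_of_isCyclic_inf hS hH.1 hAr (stronglyClosed_self F) (by rwa [inf_eq_left.2 hlt.le]))
  refine ⟨⟨hc, fun x hx => congrArg Subtype.val (hel ⟨x, hx⟩)⟩, ?_⟩
  obtain ⟨a, haS, ha, haH⟩ := exists_mem_normalizer_not_mem hS hlt
  obtain ⟨z, g, hz, h1, hg⟩ := exists_isTv_moved hS hH.1 hAr hcard hel (F.autGroup H).subtype ⊤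
    (fun γ _ h _ => Subtype.ext h) haS ha haH trivial
  set z' := (F.autGroup H).subtype g z
  let φ : Multiplicative (Fin 2 → ZMod p) →* H := MonoidHom.mk' (fun v => tvPhi z z' v.toAdd)
    fun v w => tvPhi_add (hc.is_comm.comm _ _) (hel _) (hel _) _ _
  have hφ : Function.Bijective φ := by
    refine (Nat.bijective_iff_surjective_and_card _).2 ⟨fun x => ?_, ?_⟩
    · obtain ⟨i, j, rfl⟩ := exists_eq_of_card_sq hcard hel hz.ne_one hg x
      exact ⟨Multiplicative.ofAdd ![(i : ZMod p), (j : ZMod p)], tvPhi_int (hel _) (hel _) i j⟩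
    · rw [hcard, Nat.card_congr Multiplicative.toAdd, Nat.card_fun, Nat.card_zmod, Nat.card_eq_fintype_card,
        Fintype.card_fin]
  choose k _ hk using exists_closure_act_of_card_sq hcard hel (F.autGroup H).subtype hz h1 hg
  let ψ : SL(2, ZMod p) →* F.autGroup H := MonoidHom.mk' k fun M N => Subtype.ext (MulEquiv.ext fun x => by
    obtain ⟨v, rfl⟩ := hφ.2 x
    have h2 := hk (M * N) v.toAdd
    have h3 := hk M (N.1 *ᵥ v.toAdd)
    rw [← hk N v.toAdd, mulVec_mulVec] at h3
    exact h2.trans h3.symm)
  have hψ : Function.Injective ψ := (injective_iff_map_eq_one ψ).2 fun M hM => by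
    have h2 : ∀ v, M.1 *ᵥ v = v := fun v => by
      have h3 := hk M v
      rw [show k M = 1 from hM] at h3
      exact (Multiplicative.ofAdd.injective (hφ.1 (a₁ := Multiplicative.ofAdd v)
        (a₂ := Multiplicative.ofAdd (M.1 *ᵥ v)) h3)).symm
    ext i j
    have := congrFun (h2 (Pi.single j 1)) i
    rw [mulVec_single_one] at this
    exact this.trans (by simp [Pi.single_apply, one_apply])
  exact ⟨ψ.range, ⟨(MonoidHom.ofInjective hψ).symm⟩⟩

end Cfsg.Agent.S5185
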