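import Cfsg.Statements.S5186
import Cfsg.Agent.Fus.SmallEss3

set_option autoImplicit false
universe u
open Cfsg

namespace Cfsg.Agent.S5186

open CL.Fus Cfsg Cfsg.FusionSystem Subgroup

/-- Let F be a saturated fusion system over a finite p-group S and H an essential subgroup of order p³. Then H is elementary abelian, or p is odd and H is extraspecial of exponent p, or p = 2 and H is the quaternion group of order 8. -/
theorem result {Ω : Type u} [Group Ω] {S : Subgroup Ω} [Finite S] (p : ℕ) [Fact p.Prime] (hS : IsPGroup p S)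
    (F : Cfsg.FusionSystem S) (hF : F.IsSaturated p) (H : Subgroup Ω) (hH : F.IsEssential p H) (hcard : Nat.card H = p ^ 3) :
    Cfsg.IsElementaryAbelian p H ∨ (Odd p ∧ Cfsg.IsExtraspecial p ↥H ∧ ∀ x ∈ H, x ^ p = 1) ∨
      (p = 2 ∧ Nonempty (↥H ≃* QuaternionGroup 2)) := by
  have := finite_of_le hH.1.1
  have hHp := hS.to_le hH.1.1
  obtain ⟨k, hk, hΦ⟩ := IsEssential.exists_card_frat (n := 1) hS hF hH hcard
  interval_cases k
  · obtain ⟨h1, h2⟩ := (frat_eq_bot_iff hHp).1 (card_eq_one.1 hΦ)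
    exact Or.inl ⟨⟨⟨fun x y => Subtype.ext (h1 x x.2 y y.2)⟩⟩, h2⟩
  rw [pow_one] at hΦ
  have hc : Nat.card H ≤ p ^ 2 * Nat.card (frat H) := by rw [hcard, hΦ, ← pow_succ]
  have hna : ¬ ∀ x ∈ H, ∀ y ∈ H, x * y = y * x := fun hab => by
    obtain ⟨k, -, -, ⟨e⟩⟩ := IsEssential.homocyclic hS hF hH hab hc
    rw [Nat.card_congr e.toEquiv, Nat.card_congr Multiplicative.toAdd, Nat.card_prod, Nat.card_zmod, ← pow_add] at hcard
    have := Nat.pow_right_injective (Fact.out : p.Prime).two_le hcard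
    omega
  have hna' : ¬ IsMulCommutative H := fun h => hna fun x hx y hy =>
    congrArg Subtype.val (h.is_comm.comm ⟨x, hx⟩ ⟨y, hy⟩)
  have hirr : ∀ C, AInv F H C → frat H ≤ C → C = frat H ∨ C = H := fun C => IsEssential.eq_or_eq hS hF hH hc
  have hz := frat_le_zen hHp hΦ.le
  have hΦp : ∀ x ∈ frat H, x ^ p = 1 := fun x => pow_eq_one_of_card hΦ
  by_cases hp2 : p = 2
  · subst hp2
    rcases dihedral_or_quaternion_of_card_eight hcard hna' with ⟨⟨e⟩⟩ | h
    · refine absurd (fun x hx y hy h1 h2 => ?_)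
        (not_forall_comm_of_irred (aInv_self.frat hS hH.1.1) hz hΦp hirr hna)
      have key : ∀ a b : DihedralGroup 4, a ^ 2 ≠ 1 → b ^ 2 ≠ 1 → a * b = b * a := by decide
      have h3 : ∀ a : H, (a : Ω) ^ 2 ≠ 1 → e a ^ 2 ≠ 1 := fun a ha k =>
        ha (congrArg Subtype.val (e.injective ((map_pow e a 2).trans (k.trans (map_one e).symm))))
      exact congrArg Subtype.val (e.injective ((map_mul e ⟨x, hx⟩ ⟨y, hy⟩).trans
        ((key _ _ (h3 ⟨x, hx⟩ h1) (h3 ⟨y, hy⟩ h2)).trans (map_mul e ⟨y, hy⟩ ⟨x, hx⟩).symm)))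
    · exact Or.inr (Or.inr ⟨rfl, h.1⟩)
  · exact Or.inr (Or.inl ⟨(Fact.out : p.Prime).odd_of_ne_two hp2, isExtraspecial_of_card_eq_cube hcard hna',
      pow_eq_one_of_irred hp2 hHp hΦ hz hΦp hirr hna⟩)

end Cfsg.Agent.S5186
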