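import Cfsg.Statements.S5187
import Cfsg.Agent.Fus.SmallEss2

set_option autoImplicit false
universe u
open Cfsg

namespace Cfsg.Agent.S5187

open CL.Fus Cfsg Cfsg.FusionSystem Subgroup

/-- Let F be a saturated fusion system over a finite p-group S and H an abelian essential subgroup that can be generated by two elements (its Frattini quotient has order at most p²). Then H is elementary abelian of order p², or p ≤ 3 and H is homocyclic of rank two, that is isomorphic to C_{pᵏ} × C_{pᵏ} for some k. -/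
theorem result {Ω : Type u} [Group Ω] {S : Subgroup Ω} [Finite S] (p : ℕ) [Fact p.Prime] (hS : IsPGroup p S)
    (F : Cfsg.FusionSystem S) (hF : F.IsSaturated p) (H : Subgroup Ω) (hH : F.IsEssential p H) (hab : IsMulCommutative ↥H) (hrk : (frattini ↥H).index ≤ p ^ 2) :
    (Cfsg.IsElementaryAbelian p H ∧ Nat.card H = p ^ 2) ∨
      (p ≤ 3 ∧ ∃ k : ℕ, Nonempty (↥H ≃* Multiplicative (ZMod (p ^ k) × ZMod (p ^ k)))) := by
  have := finite_of_le hH.1.1
  have hab' : ∀ x ∈ H, ∀ y ∈ H, x * y = y * x := fun x hx y hy => congrArg Subtype.val (hab.is_comm.comm ⟨x, hx⟩ ⟨y, hy⟩)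
  obtain ⟨k, hk, h1, ⟨e⟩⟩ := IsEssential.homocyclic hS hF hH hab' (by
    rw [card_frat, ← (frattini H).index_mul_card]; exact Nat.mul_le_mul_right _ hrk)
  rcases hk with rfl | hk
  · refine Or.inl ⟨⟨hab, fun x hx => by simpa using h1 x hx⟩, ?_⟩
    rw [Nat.card_congr e.toEquiv]
    simp [sq]
  · exact Or.inr ⟨hk, k + 1, ⟨e⟩⟩

end Cfsg.Agent.S5187
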