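import Cfsg.Statements.S5188
import Cfsg.Agent.Fus.SmallEss3

set_option autoImplicit false
universe u
open Cfsg

namespace Cfsg.Agent.S5188

open CL.Fus Cfsg Cfsg.FusionSystem Subgroup

theorem key : ∀ a b : DihedralGroup 4 × Multiplicative (ZMod 2), a ^ 2 ≠ 1 → b ^ 2 ≠ 1 → a * b = b * a := by decide

/-- Let F be a saturated fusion system over a finite p-group S and H an essential subgroup of order p⁴. Then H is isomorphic to one of: C_p⁴ or C_{p²} × C_p × C_p (any p); C_{p²} × C_{p²} with p ∈ {2, 3}; p^{1+2}_+ × C_p with p odd (the direct product of an extraspecial group of order p³ and exponent p with a group of order p); Q₈ × C₂ (p = 2); or the non-abelian group of order p⁴ of exponent p² whose centre is cyclic of order p² (the central product of an extraspecial group of order p³ with a cyclic group of order p²; for p = 2 this is D₈ ∘ C₄). -/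
theorem result {Ω : Type u} [Group Ω] {S : Subgroup Ω} [Finite S] (p : ℕ) [Fact p.Prime] (hS : IsPGroup p S)
    (F : Cfsg.FusionSystem S) (hF : F.IsSaturated p) (H : Subgroup Ω) (hH : F.IsEssential p H) (hcard : Nat.card H = p ^ 4) :
    Cfsg.IsElementaryAbelian p H ∨
      Nonempty (↥H ≃* Multiplicative (ZMod (p ^ 2) × ZMod p × ZMod p)) ∨
      ((p = 2 ∨ p = 3) ∧ Nonempty (↥H ≃* Multiplicative (ZMod (p ^ 2) × ZMod (p ^ 2)))) ∨
      (Odd p ∧ ∃ (E : Type) (_ : Group E) (_ : Finite E), Cfsg.IsExtraspecial p E ∧ Nat.card E = p ^ 3 ∧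
        (∀ x : E, x ^ p = 1) ∧ Nonempty (↥H ≃* E × Multiplicative (ZMod p))) ∨
      (p = 2 ∧ Nonempty (↥H ≃* QuaternionGroup 2 × Multiplicative (ZMod 2))) ∨
      (¬ IsMulCommutative ↥H ∧ (∀ x ∈ H, x ^ (p ^ 2) = 1) ∧ IsCyclic ↥(Subgroup.center ↥H) ∧
        Nat.card (Subgroup.center ↥H) = p ^ 2) := by
  have := finite_of_le hH.1.1
  have hp : p.Prime := Fact.out
  have hHp := hS.to_le hH.1.1
  obtain ⟨k, hk, hΦ⟩ := IsEssential.exists_card_frat (n := 2) hS hF hH hcard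
  interval_cases k
  · obtain ⟨h1, h2⟩ := (frat_eq_bot_iff hHp).1 (card_eq_one.1 hΦ)
    exact Or.inl ⟨⟨⟨fun x y => Subtype.ext (h1 x x.2 y y.2)⟩⟩, h2⟩
  swap
  · obtain ⟨k, hk, -, ⟨e⟩⟩ := IsEssential.homocyclic hS hF hH (IsEssential.comm_of_card_frat hS hF hH hcard hΦ)
      (by rw [hcard, hΦ, ← pow_add])
    rw [Nat.card_congr e.toEquiv, Nat.card_congr Multiplicative.toAdd, Nat.card_prod, Nat.card_zmod, ← pow_add] at hcard
    have := Nat.pow_right_injective hp.two_le hcard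
    obtain rfl : k = 1 := by omega
    refine Or.inr (Or.inr (Or.inl ⟨?_, ⟨e⟩⟩))
    have := hp.two_le
    omega
  rw [pow_one] at hΦ
  by_cases hna : ∀ x ∈ H, ∀ y ∈ H, x * y = y * x
  · exact Or.inr (Or.inl (nonempty_mulEquiv_of_card_frat hHp hcard hΦ hna))
  have hna' : ¬ IsMulCommutative H := fun h => hna fun x hx y hy =>
    congrArg Subtype.val (h.is_comm.comm ⟨x, hx⟩ ⟨y, hy⟩)
  obtain ⟨D, c, cD, hD, hcD, hΦD, hsup, hZ, cZ⟩ := exists_central_of_card_frat hHp hcard hΦ hna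
  have hc : c ∈ zen H := hZ ▸ mem_sup_right (mem_zpowers c)
  have hz := frat_le_zen hHp hΦ.le
  have hΦp : ∀ x ∈ frat H, x ^ p = 1 := fun x => pow_eq_one_of_card hΦ
  have hp2' : ∀ x ∈ H, x ^ p ^ 2 = 1 := fun x hx => by rw [sq, pow_mul, hΦp _ (pow_mem_frat hHp hx)]
  refine Or.inr (Or.inr (Or.inr ?_))
  by_cases hcp : c ^ p = 1
  swap
  · rw [zen_eq_map, card_map_of_injective H.subtype_injective] at cZ
    refine Or.inr (Or.inr ⟨hna', hp2', isCyclic_of_orderOf_eq_card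
      (⟨⟨c, hc.1⟩, Subgroup.mem_center_iff.2 fun g => Subtype.ext (hc.2 g g.2)⟩ : center H) ?_, cZ⟩)
    rw [cZ, Subgroup.orderOf_mk, Subgroup.orderOf_mk]
    exact orderOf_eq_prime_pow (by rwa [pow_one]) (hp2' c hc.1)
  have hDH : D ≤ H := hsup ▸ le_sup_left
  have := finite_of_le hDH
  have hirr := IsEssential.eq_or_eq_of_le hS hF hH aInv_zen hz (by rw [cZ, hΦ, sq]) (by rw [hcard, cZ, ← pow_add])
  have hZp : ∀ x ∈ zen H, x ^ p = 1 := fun x hx => by
    obtain ⟨m, hm⟩ := (mem_sup_zpowers_iff (le_normalizer_frat hHp (le_normalizer hc.1))).1 (hZ ▸ hx)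
    have h1 : Commute (c ^ m) ((c ^ m)⁻¹ * x) := (hz hm).2 _ (H.zpow_mem hc.1 m)
    rw [← mul_inv_cancel_left (c ^ m) x, h1.mul_pow, hΦp _ hm, ← zpow_natCast, ← zpow_mul, mul_comm m, zpow_mul,
      zpow_natCast, hcp, one_zpow, mul_one]
  obtain ⟨e1⟩ := nonempty_mulEquiv_prod_of_sup (H := D) (K := zpowers c)
    (fun a ha b hb => ((zpowers_le.2 hc : _ ≤ zen H) hb).2 a (hDH ha))
    (disjoint_def.2 fun {w} hw hw' => by_contra fun k => hcD (zpowers_le.2 hw (mem_zpowers_symm_of_prime hcp hw' k))) hsup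
  obtain ⟨e2⟩ := nonempty_zpowers_mulEquiv (orderOf_eq_prime hcp fun k => hcD (k ▸ one_mem _))
  by_cases hp2 : p = 2
  · subst hp2
    rcases dihedral_or_quaternion_of_card_eight cD hD with ⟨⟨e3⟩⟩ | ⟨⟨e3⟩, -⟩
    · refine absurd (fun x hx y hy h1 h2 => ?_) (not_forall_comm_of_irred aInv_zen le_rfl hZp hirr hna)
      let e := e1.trans (e3.prodCongr e2)
      have h3 : ∀ a : H, (a : Ω) ^ 2 ≠ 1 → e a ^ 2 ≠ 1 := fun a ha k =>
        ha (congrArg Subtype.val (e.injective ((map_pow e a 2).trans (k.trans (map_one e).symm))))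
      exact congrArg Subtype.val (e.injective ((map_mul e ⟨x, hx⟩ ⟨y, hy⟩).trans
        ((key _ _ (h3 ⟨x, hx⟩ h1) (h3 ⟨y, hy⟩ h2)).trans (map_mul e ⟨y, hy⟩ ⟨x, hx⟩).symm)))
    · exact Or.inr (Or.inl ⟨rfl, ⟨e1.trans (e3.prodCongr e2)⟩⟩)
  · obtain ⟨E, _, _, ⟨e3⟩⟩ := exists_type_zero D
    have hexp := pow_eq_one_of_irred hp2 hHp hΦ le_rfl hZp hirr hna
    refine Or.inl ⟨hp.odd_of_ne_two hp2, E, inferInstance, inferInstance,
      CL.Grp.extra_of_mulEquiv (isExtraspecial_of_card_eq_cube cD hD) e3, Nat.card_congr e3.toEquiv ▸ cD, fun x => ?_,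
      ⟨e1.trans (e3.prodCongr e2)⟩⟩
    obtain ⟨x, rfl⟩ := e3.surjective x
    rw [← map_pow, show x ^ p = 1 from Subtype.ext (hexp x (hDH x.2)), map_one]

end Cfsg.Agent.S5188
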