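import Cfsg.Statements.S5189
import Cfsg.Agent.Fus.Rk3G

set_option autoImplicit false
universe u
open Cfsg

namespace Cfsg.Agent.S5189

open CL.Fus CL.Fus.Rk

/-- Let p be an odd prime, S a finite p-group of sectional p-rank exactly 3, and F a saturated fusion system over S whose largest subgroup normal in F is trivial. Suppose S has two distinct essential subgroups E₁, E₂ each of which is invariant under every F-automorphism of S. Then S is isomorphic to a Sylow p-subgroup of Sp(4,p), and one of E₁, E₂ is extraspecial of order p³ and exponent p while the other is elementary abelian of order p³. -/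
theorem result {Ω : Type u} [Group Ω] {S : Subgroup Ω} [Finite S] (p : ℕ) [Fact p.Prime] (hp : Odd p) (hS : IsPGroup p S)
    (hsr : Cfsg.SectionalPRankLE p 3 ↥S ∧ ¬ Cfsg.SectionalPRankLE p 2 ↥S)
    (F : Cfsg.FusionSystem S) (hF : F.IsSaturated p) (hO : F.core = ⊥)
    (E₁ E₂ : Subgroup Ω) (hne : E₁ ≠ E₂) (hE₁ : F.IsEssential p E₁) (hE₂ : F.IsEssential p E₂)
    (hc₁ : (∀ φ : MulAut ↥S, φ ∈ F.autGroup S → (E₁.subgroupOf S).map φ.toMonoidHom = E₁.subgroupOf S))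
    (hc₂ : (∀ φ : MulAut ↥S, φ ∈ F.autGroup S → (E₂.subgroupOf S).map φ.toMonoidHom = E₂.subgroupOf S)) :
    (∃ P : Sylow p ↥(Matrix.symplecticGroup (Fin 2) (ZMod p)),
        Nonempty (↥S ≃* ↥(P : Subgroup ↥(Matrix.symplecticGroup (Fin 2) (ZMod p))))) ∧
      ((Cfsg.IsExtraspecial p ↥E₁ ∧ Nat.card E₁ = p ^ 3 ∧ (∀ x ∈ E₁, x ^ p = 1) ∧
          Cfsg.IsElementaryAbelian p E₂ ∧ Nat.card E₂ = p ^ 3) ∨
        (Cfsg.IsExtraspecial p ↥E₂ ∧ Nat.card E₂ = p ^ 3 ∧ (∀ x ∈ E₂, x ^ p = 1) ∧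
          Cfsg.IsElementaryAbelian p E₁ ∧ Nat.card E₁ = p ^ 3)) := by
  have hp2 : p ≠ 2 := by rintro rfl; exact absurd hp (by decide)
  obtain ⟨G, _, _, T, θ, η, h, hT, sat, rk, big, co, ⟨e⟩⟩ := exists_model F hS hF hsr
  have l₁ := hE₁.1.1
  have l₂ := hE₂.1.1
  obtain t | t := III_of_inv hT sat rk hp2 big (co hO) (h.isEssential hE₁) (h.isEssential hE₂)
    (fun k => hne ((h.toGIso.img_inj l₁ l₂).1 k)) (push_inv h l₁ hc₁) (push_inv h l₂ hc₂)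
  · obtain ⟨Q, ⟨e'⟩⟩ := t.exists_sylow hp2
    obtain ⟨k1, k2, k3⟩ := pull_ex h.toGIso l₂ t
    exact ⟨⟨Q, ⟨e.trans e'⟩⟩, Or.inr ⟨k1, k2, k3, pull_el h.toGIso l₁ t.el, (h.toGIso.card_img l₁).symm.trans t.c₁⟩⟩
  · obtain ⟨Q, ⟨e'⟩⟩ := t.exists_sylow hp2
    obtain ⟨k1, k2, k3⟩ := pull_ex h.toGIso l₁ t
    exact ⟨⟨Q, ⟨e.trans e'⟩⟩, Or.inl ⟨k1, k2, k3, pull_el h.toGIso l₂ t.el, (h.toGIso.card_img l₂).symm.trans t.c₁⟩⟩

end Cfsg.Agent.S5189
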