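import Cfsg.Statements.S5192
import Cfsg.Agent.Fus.Transfer

set_option autoImplicit false
open Cfsg

namespace Cfsg.Agent.S5192

/-- A Thompson-type transfer for saturated fusion systems. Let F be a saturated fusion system on a finite 2-group S, T a subgroup of S of index 2, and i an involution of S such that every fully normalized F-conjugate of i lies in S but outside T. Then i does not lie in the hyperfocal subgroup of F (the Sylow group of the 2-residual subsystem). -/
theorem result {Ω : Type*} [Group Ω] [Finite Ω] {S : Subgroup Ω}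
    (hS : IsPGroup 2 ↥S) (F : Cfsg.FusionSystem S) (hF : F.IsSaturated 2)
    (T : Subgroup Ω) (hTS : T ≤ S) (hT : T.relIndex S = 2)
    (i : Ω) (hi : i ∈ S) (hi2 : orderOf i = 2)
    (h : ∀ j : Ω, F.IsConjElt i j → F.IsFullyNormalized (Subgroup.zpowers j) → j ∉ T) :
    i ∉ F.hyperfocalSubgroup 2 := by
  refine fun hy => CL.Fus.Tr.thompson_transfer hS hF hT hi hi2 (fun j hj hc => h j hj ?_) (CL.Fus.Tr.hyp_le_focal F 2 hy)
  have key : ∀ x : Ω, orderOf x = 2 → FusionSystem.normalizerIn S (Subgroup.zpowers x) =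
      FusionSystem.centralizerIn S (Subgroup.zpowers x) := fun x hx => by
    refine le_antisymm (fun a ha => CL.Fus.mem_centralizerIn.2 ⟨ha.1, CL.Fus.mem_centralizer_of_conj_eq ?_⟩)
      (CL.Fus.centralizerIn_le_normalizerIn _ _)
    have h2 : x * x = 1 := by rw [← pow_two, ← hx, pow_orderOf_eq_one]
    have hz : ∀ y ∈ Subgroup.zpowers x, y = 1 ∨ y = x := by
      rintro _ ⟨k, rfl⟩
      obtain ⟨m, rfl | rfl⟩ := Int.even_or_odd' k
      · left; simp [zpow_mul, pow_two, h2]
      · right; simp [zpow_add, zpow_mul, pow_two, h2]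
    intro y hy
    rcases hz y hy with rfl | rfl
    · simp
    · rcases hz _ (CL.Fus.conj_mem_of_mem_normalizer ha.2 hy) with e | e
      · have : y = 1 := by simpa using e
        rw [this]; simp
      · exact e
  obtain ⟨f, hf, rfl⟩ := CL.Fus.isConjElt_iff.1 hj
  have hj2 : orderOf (f i) = 2 := by rw [hf.orderOf_eq (Subgroup.mem_zpowers i), hi2]
  refine ⟨hc.1, fun Q hQ => ?_⟩
  have h3 := hc.2 Q hQ
  obtain ⟨g, hg, rfl⟩ := CL.Fus.isConj_iff.1 hQ
  rw [hg.homOn.img_zpowers (Subgroup.mem_zpowers _)] at h3 ⊢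
  rw [key _ hj2, key _ (by rw [hg.orderOf_eq (Subgroup.mem_zpowers _), hj2])]
  exact h3

end Cfsg.Agent.S5192
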