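import Cfsg.Statements.S5213
import Cfsg.Agent.Inv.Rk2Fus

set_option autoImplicit false
open Cfsg

namespace Cfsg.Agent.S5213

/-- Let S be a finite 2-group of 2-rank 2 (it has an elementary abelian subgroup of order 4 and none of order 8) and F a saturated fusion system over S with trivial centre. Then S is dihedral, semidihedral, wreathed, homocyclic abelian (a direct product of cyclic groups of one common order), or isomorphic to a Sylow 2-subgroup of the projective special unitary group PSU₃(4) (realised over the field with 16 elements). -/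
theorem result {Ω : Type*} [Group Ω] {S : Subgroup Ω} [Finite S] (hS : IsPGroup 2 S) (F : Cfsg.FusionSystem S) (hF : F.IsSaturated 2) (hr : Cfsg.PRankAtLeast 2 2 ↥S ∧ ¬ Cfsg.PRankAtLeast 2 3 ↥S) (hZ : F.center = ⊥) {K : Type*} [Field K] [Fintype K] (hK : Fintype.card K = 16) : (∃ m : ℕ, Nonempty (↥S ≃* DihedralGroup m)) ∨ Cfsg.IsQuasiDihedral ↥S ∨ Cfsg.IsWreathed ↥S ∨ (∃ n k : ℕ, Nonempty (↥S ≃* Multiplicative (Fin k → ZMod (2 ^ n)))) ∨ ∃ T : Sylow 2 (Cfsg.PSU 3 K 4), Nonempty (↥S ≃* ↥(T : Subgroup (Cfsg.PSU 3 K 4))) := by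
  have hr2 := CL.Rk2.r2_of_pRankLE (CL.Rk2.pRankLE_of_not_atLeast hS hr.2)
  obtain ⟨z, hz, hz1, hz2, hc⟩ := CL.Rk2.exists_central_involution hS (by
    rintro rfl
    obtain ⟨A, -, -, h⟩ := hr.1
    have h1 := Subgroup.card_le_card_group A
    rw [Subgroup.card_bot] at h1
    omega)
  rcases CL.Rk2.fusion_cases hS hF hr2 hz hz1 hz2 hc (by rwa [hZ, Subgroup.mem_bot]) with
    ⟨ξ, -, S₀⟩ | ⟨n, -, h | h⟩ | h
  · by_cases ha : CL.Higman.IsAb (⊤ : Subgroup S)
    · obtain ⟨n, -, ⟨e⟩⟩ := CL.Rk2.homocyclic S₀ CL.Rk2.card_four ha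
      exact Or.inr (Or.inr (Or.inr (Or.inl ⟨n, 2, ⟨e.trans
        (AddEquiv.toMultiplicative (LinearEquiv.finTwoArrow ℤ (ZMod (2 ^ n))).symm.toAddEquiv)⟩⟩)))
    · exact Or.inr (Or.inr (Or.inr (Or.inr ⟨default, CL.Rk2.nonempty_equiv_psu S₀ ha hK _⟩)))
  · exact Or.inl ⟨_, h⟩
  · exact Or.inr (Or.inl h)
  · exact Or.inr (Or.inr (Or.inl h))

end Cfsg.Agent.S5213
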