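import Cfsg.Statements.S5234
import Cfsg.Agent.Fus.RankTwo
import Cfsg.Agent.S0638

set_option autoImplicit false
open Cfsg

namespace Cfsg.Agent.S5234

open CL.Fus Cfsg.FusionSystem

theorem exists_omega {Ω : Type*} [Group Ω] {Q : Subgroup Ω} [Finite Q] {p : ℕ} [Fact p.Prime] (hp : p ≠ 2)
    (hQ : IsPGroup p Q) (hm : Cfsg.IsMetacyclic Q) (hc : ¬ IsCyclic Q) :
    ∃ V : Subgroup Ω, (∀ x, x ∈ V ↔ x ∈ Q ∧ x ^ p = 1) ∧ Nat.card V = p ^ 2 := by
  obtain ⟨h1, h2⟩ := Cfsg.Agent.S0638.result hp hQ hm hc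
  refine ⟨(Cfsg.omegaOne p (⊤ : Subgroup Q)).map Q.subtype, fun x => ⟨?_, fun hx => ?_⟩, ?_⟩
  · rintro ⟨y, hy, rfl⟩
    exact ⟨y.2, congrArg Subtype.val (h1.2 y hy)⟩
  · exact ⟨⟨x, hx.1⟩, Subgroup.subset_closure ⟨trivial, Subtype.ext hx.2⟩, rfl⟩
  · rw [Subgroup.card_map_of_injective Q.subtype_injective, h2]

/-- Let p be an odd prime, F a saturated fusion system over a finite p-group S and P a metacyclic subgroup of S strongly closed in F. Then P is normal in F. -/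
theorem result {Ω : Type*} [Group Ω] {S : Subgroup Ω} [Finite S] (p : ℕ) [Fact p.Prime] (hS : IsPGroup p S) (F : Cfsg.FusionSystem S) (hF : F.IsSaturated p) (P : Subgroup Ω) (hP : F.StronglyClosed P) (hp : p ≠ 2) (hm : Cfsg.IsMetacyclic ↥P) : F.IsNormal P := by
  refine isNormal_of_stronglyClosed hS hF hP fun A hA => ?_
  by_contra hPA
  have hAr := IsEssential.isRadical hS hA
  have := finite_of_le hP.1
  have : Finite ↥(A ⊓ P) := finite_of_le inf_le_right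
  have hc : ¬ IsCyclic ↥(A ⊓ P) := fun h => hPA (le_of_isCyclic_inf hS hA.1 hAr hP h)
  obtain ⟨V, hV, h1⟩ := exists_omega hp (hS.to_le (inf_le_right.trans hP.1))
    (CL.Fgs.mc_of_injective hm (Subgroup.inclusion inf_le_right) (Subgroup.inclusion_injective _)) hc
  obtain ⟨W, hW, h2⟩ := exists_omega hp (hS.to_le hP.1) hm fun _ => hc (Subgroup.isCyclic_of_le inf_le_right)
  obtain ⟨c, h3, -, h4, h5⟩ := exists_order_p_notMem hp hS hF hA.1 hAr hP hPA hV h1
  have : Finite W := finite_of_le (S := P) fun x hx => ((hW x).1 hx).1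
  have h6 : V = W := Subgroup.eq_of_le_of_card_ge (fun x hx => (hW x).2 ⟨((hV x).1 hx).1.2, ((hV x).1 hx).2⟩)
    (h2.trans h1.symm).le
  exact h4 ((hV c).1 (h6 ▸ (hW c).2 ⟨h3, h5⟩)).1.1

end Cfsg.Agent.S5234
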