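import Cfsg.Statements.S5258
import Cfsg.Agent.U5.Top
import Cfsg.Agent.U5.TV0
import Cfsg.Agent.U5.TV
import Cfsg.Agent.U5.Cri
import Cfsg.Agent.U5.RK
import Cfsg.Agent.U5.ESA
import Cfsg.Agent.U5.ESB
import Cfsg.Agent.U5.ESC
import Cfsg.Agent.U5.ESC3
import Cfsg.Agent.U5.ESD1
import Cfsg.Agent.U5.ESD2
import Cfsg.Agent.U5.ESD3
import Cfsg.Agent.U5.AU
import Cfsg.Agent.U5.L1S
import Cfsg.Agent.U5.L1P
import Cfsg.Agent.U5.L1A
import Cfsg.Agent.U5.L1C
import Cfsg.Agent.U5.Lin1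
import Cfsg.Agent.U5.Lin2
import Cfsg.Agent.U5.Rho
import Cfsg.Agent.U5.Lift1
import Cfsg.Agent.U5.Lift2
import Cfsg.Agent.U5.Gen1
import Cfsg.Agent.U5.Gen2
import Cfsg.Agent.U5.MB
import Cfsg.Agent.U5.MC
import Cfsg.Agent.U5.MD

set_option autoImplicit false
open Cfsg

namespace Cfsg.Agent.S5258

/-- Let p be a prime, K a finite field with q² elements where q = pⁿ (n ≥ 1), and S a finite p-group isomorphic to a Sylow p-subgroup of the projective special unitary group PSU₅(q) realised over K. Then every saturated fusion system over S is realizable: it is the fusion system of a finite group on a Sylow p-subgroup. -/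
theorem result {Ω : Type*} [Group Ω] {S : Subgroup Ω} [Finite S] (p : ℕ) [Fact p.Prime] (hS : IsPGroup p S) (F : Cfsg.FusionSystem S) (hF : F.IsSaturated p) {K : Type*} [Field K] [Fintype K] [CharP K p] (n : ℕ) (hn : 1 ≤ n) (hK : Fintype.card K = (p ^ n) ^ 2) (T : Sylow p (Cfsg.PSU 5 K (p ^ n))) (e : ↥S ≃* ↥(T : Subgroup (Cfsg.PSU 5 K (p ^ n)))) : F.IsRealizable p := by
  open CL.U5 in
  have hb := CL.Uni.isBar_bar hK
  letI : StarRing K :=
    { star := CL.Uni.bar hK
      star_involutive := hb.bar_bar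
      star_mul := fun x y => (map_mul _ x y).trans (mul_comm _ _)
      star_add := map_add _ }
  letI : UF K := ⟨p ^ n, hb⟩
  have t := tv tv0
  exact top p F hF cri rk (esa t) (esb t) esc1 esc2 (esc3 t) esd1 esd2 esd3 (au2 au1)
    (gen1 ker (rho1 K) l1s (lin1 (l1a l1f (l1p l1f)) (l1b (l1p l1f)) l1c su3) lift1) (gen2 ker (rho2 K) lin2 lift2)
    (real mb mc md) (syl mc) T e

end Cfsg.Agent.S5258
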