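import Cfsg.Statements.S5260
import Cfsg.Agent.SpF.Top
import Cfsg.Agent.SpF.Syl
import Cfsg.Agent.SpF.Max
import Cfsg.Agent.SpF.SP
import Cfsg.Agent.SpF.Esso
import Cfsg.Agent.SpF.QT
import Cfsg.Agent.SpF.ZD
import Cfsg.Agent.SpF.Const
import Cfsg.Agent.SpF.LC2
import Cfsg.Agent.SpF.BSb
import Cfsg.Agent.SpF.Q9A
import Cfsg.Agent.SpF.Q9B
import Cfsg.Agent.SpF.VG
import Cfsg.Agent.SpF.Ess2
import Cfsg.Agent.SpF.WA
import Cfsg.Agent.SpF.WC
import Cfsg.Agent.SpF.Stdz
import Cfsg.Agent.SpF.Uniq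
import Cfsg.Agent.SpF.Ext
import Cfsg.Agent.SpF.Gex
import Cfsg.Agent.SpF.Real

set_option autoImplicit false
open Cfsg

namespace Cfsg.Agent.S5260

/-- Let p be a prime, K a finite field of characteristic p, and S a finite p-group isomorphic to a Sylow p-subgroup of the symplectic group Sp₄(K). Then every exotic fusion system F over S (saturated but not the fusion system of a finite group on a Sylow p-subgroup) has no nontrivial normal subgroup: O_p(F) = 1. -/
theorem result {Ω : Type*} [Group Ω] {S : Subgroup Ω} [Finite S] (p : ℕ) [Fact p.Prime] (hS : IsPGroup p S) (F : Cfsg.FusionSystem S) (hF : F.IsSaturated p) {K : Type*} [Field K] [Fintype K] [CharP K p] (T : Sylow p ↥(Matrix.symplecticGroup (Fin 2) K)) (e : ↥S ≃* ↥(T : Subgroup ↥(Matrix.symplecticGroup (Fin 2) K))) (hex : F.IsExotic p) : F.core = ⊥ := by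
  open CL.SpF in
  have m := sp max
  have m3 := sp3 m
  have z := zd m3
  have b := bsb bsa z
  have w := wa max
  exact top syl (main esso (qt m) (vg (vh (lc2 const bsa) (q9b nc b (q9a nc b) (lc1 const))) z) ess2 swap w (wb m3)
    (stdz w (wc m3) (s1 w)) (uniq w m3 ess2) (real (gex ext'))) p F T e hex

end Cfsg.Agent.S5260
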