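import Cfsg.Statements.S5261
import Cfsg.Agent.TD.All
import Cfsg.Agent.TD.EsX
import Cfsg.Agent.TD.Heis
import Cfsg.Agent.TD.Twl
import Cfsg.Agent.TD.Twg
import Cfsg.Agent.TD.XA1
import Cfsg.Agent.TD.XA2
import Cfsg.Agent.TD.XB1y
import Cfsg.Agent.TD.XB2
import Cfsg.Agent.TD.XB3

set_option autoImplicit false
open Cfsg

namespace Cfsg.Agent.S5261

/-- Let p be a prime, q = pⁿ (n ≥ 1), K a finite field with q³ elements, and S a finite p-group isomorphic to a Sylow p-subgroup of the twisted group ³D₄(q) realised over K. Then every saturated fusion system over S is realizable: it is the fusion system of a finite group on a Sylow p-subgroup. -/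
theorem result {Ω : Type*} [Group Ω] {S : Subgroup Ω} [Finite S] (p : ℕ) [Fact p.Prime] (hS : IsPGroup p S) (F : Cfsg.FusionSystem S) (hF : F.IsSaturated p) {K : Type*} [Field K] [Fintype K] [CharP K p] (n : ℕ) (hn : 1 ≤ n) (hK : Fintype.card K = (p ^ n) ^ 3) (T : Sylow p ↥(Cfsg.Lie.twistedD4 K (p ^ n))) (e : ↥S ≃* ↥(T : Subgroup ↥(Cfsg.Lie.twistedD4 K (p ^ n)))) : F.IsRealizable p := by
  open CL.TD in
  obtain ⟨t, ht⟩ := exists_tf (K := K) p hn hK
  revert T e
  rw [← ht]
  exact fun T e => mainOf K p F hF (fun E M B c => esx heis (twg twl) xa1 xa2 xb1' xb2 (xb3 K) E M B c) T e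

end Cfsg.Agent.S5261
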