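import Cfsg.Statements.S5264
import Cfsg.Agent.Fus.OrdFive3
import Cfsg.Agent.Fus.Iso2

set_option autoImplicit false
open Cfsg

namespace Cfsg.Agent.S5264

open CL.Fus Subgroup

/-- Let p be an odd prime other than 7, S a finite p-group of order p^5, and F a saturated fusion system over S with no nontrivial normal subgroup and with hyperfocal subgroup equal to S (so F is its own p-residual subsystem). Then S has an abelian subgroup of index p. -/
theorem result {Ω : Type*} [Group Ω] {S : Subgroup Ω} [Finite S] (p : ℕ) [Fact p.Prime] (hS : IsPGroup p ↥S) (F : Cfsg.FusionSystem S) (hF : F.IsSaturated p) (hp : p ≠ 2) (hp7 : p ≠ 7) (hcard : Nat.card S = p ^ 5) (hcore : F.core = ⊥) (hhyp : F.hyperfocalSubgroup p = S) : ∃ A : Subgroup Ω, A ≤ S ∧ IsMulCommutative ↥A ∧ (A.subgroupOf S).index = p := by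
  have hp' : p.Prime := Fact.out
  by_contra! hne
  obtain ⟨F', θ, h, -, e⟩ := exists_fIso_top F
  refine OrdFive.core_ne_bot (F := F') ⟨hcard, h.isSaturated hF, hp, fun B hB => ?_⟩ hp7 ?_ ?_
  · by_contra! k
    obtain ⟨n, hn⟩ := IsPGroup.iff_card.1 (hS.to_subgroup B)
    obtain ⟨A, hAB, hA⟩ := Sylow.exists_subgroup_le_card_pow_prime_of_le_card hp' hS (n := 4) (H := B) (by
      rw [hn] at k ⊢
      exact Nat.pow_le_pow_right hp'.pos ((Nat.pow_lt_pow_iff_right hp'.one_lt).1 k))
    refine hne (A.map S.subtype) (map_subtype_le A) ⟨⟨?_⟩⟩ ?_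
    · rintro ⟨_, x, hx, rfl⟩ ⟨_, y, hy, rfl⟩
      exact Subtype.ext (congrArg Subtype.val (hB x (hAB hx) y (hAB hy)) :)
    · have := A.index_mul_card
      rw [hA, hcard, pow_succ' p 4] at this
      rw [subgroupOf, comap_map_eq_self_of_injective S.subtype_injective,
        Nat.eq_of_mul_eq_mul_right (pow_pos hp'.pos 4) this]
  · refine le_trans ?_ (hyperfocal_le_focal F' p)
    rw [← h.img_hyperfocalSubgroup, hhyp, e S le_rfl, subgroupOf_self]
  · rw [← h.img_core, hcore, e ⊥ bot_le, bot_subgroupOf]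

end Cfsg.Agent.S5264
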