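import Cfsg.Statements.S5270
import Cfsg.Agent.Fus.EssExt

set_option autoImplicit false
open Cfsg

namespace Cfsg.Agent.S5270

open Cfsg.FusionSystem CL.Fus Subgroup

/-- Let p ≥ 5 be a prime, S a finite p-group of maximal class of order p^n with n ≥ 4, and F a saturated fusion system over S. If some map of F defined on the second centre Z₂(S) with image Z₂(S) does not carry Z(S) into itself, then the centralizer C_S(Z₂(S)) is an F-essential subgroup. -/
theorem result {Ω : Type*} [Group Ω] {S : Subgroup Ω} [Finite S] (p : ℕ) [Fact p.Prime] (hS : IsPGroup p ↥S) (n : ℕ) (hn : Nat.card S = p ^ n) (h4 : 4 ≤ n) (hmax : Subgroup.lowerCentralSeries S (n - 2) ≠ ⊥) (F : Cfsg.FusionSystem S) (hF : F.IsSaturated p) (hp : 5 ≤ p) (φ : ↥((Subgroup.upperCentralSeries ↥S 2).map S.subtype) →* Ω) (hφ : φ ∈ F.Hom ((Subgroup.upperCentralSeries ↥S 2).map S.subtype)) (hφZ : φ.range = ((Subgroup.upperCentralSeries ↥S 2).map S.subtype)) (hmove : ∃ (z : Ω) (hz : z ∈ ((Subgroup.upperCentralSeries ↥S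 2).map S.subtype)), z ∈ ((Subgroup.center ↥S).map S.subtype) ∧ φ ⟨z, hz⟩ ∉ ((Subgroup.center ↥S).map S.subtype)) : F.IsEssential p (S ⊓ Subgroup.centralizer (((Subgroup.upperCentralSeries ↥S 2).map S.subtype) : Set Ω)) := by
  have h := maxCl_of_ne_bot hn (by omega) hmax
  obtain ⟨z, hz, hzZ, hφz⟩ := hmove
  rw [← zen_eq_map] at hzZ hφz
  have hf : Mor F (zSer S 2) (ext φ) := mor_ext hφ
  have e : img (ext φ) (zSer S 2) = zSer S 2 := (img_ext φ).trans hφZ
  have hZn : S ≤ normalizer (zSer S 2 : Set Ω) := fun a ha => by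
    have := finite_of_le (zSer_le S 2)
    exact mem_normalizer_of_comm_mem fun y hy => zen_le_zSer_two S (by
      rw [← commutatorElement_inv]; exact Subgroup.inv_mem _ ((mem_zSer_two.1 hy).2 a ha))
  have hZC : zSer S 2 ≤ centralizerIn S (zSer S 2) := fun x hx => ⟨zSer_le S 2 hx, fun y hy => by
    have := IsPGroup.isMulCommutative_of_card_eq_prime_sq (p := p) (G := zSer S 2) (by
      rw [zSer, card_map_of_injective S.subtype_injective, card_upperCentralSeries_two h h4])
    exact congrArg Subtype.val (this.1.1 ⟨y, hy⟩ ⟨x, hx⟩)⟩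
  obtain ⟨g, hg, e'⟩ := hf.extend_centralizerIn (by
    rw [e]; exact receptive_of_fullyNormalized hS hF (isFullyNormalized_of_normalizerIn_eq F (zSer_le S 2) hZn))
  rw [sup_eq_right.2 hZC] at hg
  obtain ⟨α, hα, eα⟩ := hg.exists_aut' le_rfl fun x hx => by
    have := hg.map_mem_centralizerIn hZC hx hx.2
    rwa [img_congr e', e] at this
  refine isEssential_of_not_extend hS hF inf_le_left (relIndex_centralizer_zSer_two h h4) hα fun β _ k => hφz ?_
  rw [← ext_apply φ hz, ← e' z hz, ← eα z (hZC hz)]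
  exact (k z (hZC hz)) ▸ autFun_mem_zen β hzZ

end Cfsg.Agent.S5270
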