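import Cfsg.Statements.S5287
import Cfsg.Agent.Fus.WRGroups
import Cfsg.Agent.Fus.SuperS
import Cfsg.Agent.Fus.Meta2Aut
import Cfsg.Agent.Grp.Schmidt
import Cfsg.Agent.S5234

set_option autoImplicit false
open Cfsg

namespace Cfsg.Agent.S5287

open CL.Fus CL.Inv Subgroup
open scoped commutatorElement

theorem mem_of_zpow {X : Type*} [Group X] {p : ℕ} [hp : Fact p.Prime] (hX : IsPGroup p X) {K : Subgroup X} {a : X}
    {m : ℤ} (hm : a ^ m ∈ K) (hd : ¬ (p : ℤ) ∣ m) : a ∈ K := by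
  obtain ⟨k, hk⟩ := hX a
  obtain ⟨u, v, huv⟩ := (((Int.prime_iff_natAbs_prime.2 (by simpa using hp.out)).coprime_iff_not_dvd.2 hd).pow_left
    (m := k))
  rw [← zpow_one a, ← huv, zpow_add, mul_comm u, mul_comm v, zpow_mul, zpow_mul, ← Nat.cast_pow, zpow_natCast, hk,
    one_zpow, one_mul]
  exact zpow_mem hm v

theorem diagAut_odd {X : Type*} [Group X] [Finite X] {p : ℕ} [hp : Fact p.Prime] (hp2 : p ≠ 2) (hX : IsPGroup p X)
    (hm : IsMetacyclic X)
    (hh : ¬ ∃ n : ℕ, 0 < n ∧ Nonempty (X ≃* Multiplicative (ZMod (p ^ n)) × Multiplicative (ZMod (p ^ n)))) :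
    DiagAut p X := fun H hH => by
  obtain ⟨a, b, hn, hab⟩ := CL.Fgs.mc_exists_gen hm
  have hF : ∀ (g : X) (k : ℤ), g ^ (p * k) ∈ frattini X := fun g k => by
    rw [zpow_mul, zpow_natCast]; exact zpow_mem (CL.Grp.pow_mem_frattini hX g) k
  by_cases hinv : ∀ α ∈ H, α a ∈ zpowers a ⊔ frattini X
  · refine abelian_exp_of_chain hX hH 2 (fun i => if i = 0 then frattini X else if i = 1 then frattini X ⊔ zpowers a
      else ⊤) (fun i hi => ?_) (fun i hi α hα => ?_) le_rfl rfl fun i hi => ?_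
    · interval_cases i <;> simp only [if_true, if_false, one_ne_zero, OfNat.ofNat_ne_zero, OfNat.ofNat_ne_one] <;>
        infer_instance
    · interval_cases i
      · exact fun x => map_mem_frattini α
      · exact (sup_le (fun x hx => mem_sup_left (map_mem_frattini α hx)) ((zpowers_le (H := (frattini X ⊔
          zpowers a).comap α.toMonoidHom)).2 (by rw [sup_comm]; exact hinv α hα)) :
          _ ≤ (frattini X ⊔ zpowers a).comap α.toMonoidHom)
      · exact fun _ _ => mem_top _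
    · interval_cases i
      · exact ⟨a, CL.Grp.pow_mem_frattini hX a, rfl⟩
      · exact ⟨b, mem_sup_left (CL.Grp.pow_mem_frattini hX b), by
          change ⊤ = frattini X ⊔ zpowers a ⊔ zpowers b
          rw [sup_assoc, hab, sup_top_eq]⟩
  push Not at hinv
  obtain ⟨α, -, hx⟩ := hinv
  set x := α a with hxdef
  have hxn : (zpowers x).Normal := by
    have := hn.map α.toMonoidHom α.surjective
    rwa [MonoidHom.map_zpowers] at this
  have hax : zpowers a ⊔ zpowers x = ⊤ := by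
    obtain ⟨_, ⟨m, rfl⟩, c, hc, e⟩ := Subgroup.mem_sup_of_normal_right.1
      (show x ∈ zpowers b ⊔ zpowers a by rw [sup_comm, hab]; trivial)
    rw [eq_top_iff, ← hab]
    refine sup_le le_sup_left (zpowers_le.2 (mem_of_zpow hX (m := m) ?_ ?_))
    · have h3 := Subgroup.mul_mem _ (mem_sup_right (S := zpowers a) (mem_zpowers x)) (mem_sup_left (inv_mem hc))
      rwa [show x * c⁻¹ = b ^ m by rw [← e, mul_inv_cancel_right]] at h3
    · rintro ⟨k, rfl⟩
      exact hx (by rw [← e, sup_comm]; exact mul_mem_sup (hF b k) hc)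
  obtain ⟨n, ha⟩ := IsPGroup.iff_orderOf.1 hX a
  have hox : orderOf x = p ^ n := by rw [hxdef, MulEquiv.orderOf_eq, ha]
  obtain ⟨k, rfl⟩ : ∃ k, n = k + 1 := ⟨n - 1, by
    rcases n with _ | n
    · rw [pow_zero, orderOf_eq_one_iff] at hox
      exact absurd (hox ▸ one_mem _) hx
    · rfl⟩
  have hD : commutator X ≤ zpowers a ⊓ zpowers x := le_inf (CL.Grp.commutator_le_of_sup_zpowers hax)
    (CL.Grp.commutator_le_of_sup_zpowers (sup_comm (zpowers a) _ ▸ hax))
  have hc : ∀ g h : X, ⁅g, h⁆ ∈ zpowers a ⊓ zpowers x := fun g h =>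
    hD (commutator_mem_commutator (mem_top g) (mem_top h))
  have hcen : zpowers a ⊓ zpowers x ≤ center X := fun c hc => Subgroup.mem_center_iff.2 fun g => by
    obtain ⟨⟨i, hi⟩, j, hj⟩ := hc
    have : zpowers a ⊔ zpowers x ≤ centralizer {c} := sup_le
      ((zpowers_le).2 (mem_centralizer_singleton_iff.2 (hi ▸ (Commute.refl a).zpow_right _)))
      ((zpowers_le).2 (mem_centralizer_singleton_iff.2 (hj ▸ (Commute.refl x).zpow_right _)))
    exact mem_centralizer_singleton_iff.1 (this (hax ▸ mem_top g))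
  have hexp : ∀ c ∈ zpowers a ⊓ zpowers x, c ^ p ^ k = 1 := by
    rintro _ ⟨hc, m, rfl⟩
    by_cases hd : (p : ℤ) ∣ m
    · obtain ⟨j, rfl⟩ := hd
      simp only
      rw [← zpow_natCast, ← zpow_mul, mul_right_comm, ← Nat.cast_mul, zpow_mul, zpow_natCast, ← pow_succ', ← hox,
        pow_orderOf_eq_one, one_zpow]
    · exact absurd (mem_sup_left (mem_of_zpow hX hc hd)) hx
  by_cases hd1 : zpowers a ⊓ zpowers x = ⊥
  · refine absurd ⟨k + 1, k.succ_pos, nonempty_mulEquiv_zmod_prod ha hox ?_ (disjoint_iff.2 hd1) hax⟩ hh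
    exact commutatorElement_eq_one_iff_commute.1 (mem_bot.1 (hd1 ▸ hc a x))
  let ψ : X →* X := MonoidHom.mk' (fun g => g ^ p ^ k) fun g h => by
    obtain ⟨r, hr⟩ := (hp.out.odd_of_ne_two hp2).pow (n := k)
    rw [CL.Grp.mul_pow_of_central (hcen (hc h g)), Nat.choose_two_right, show p ^ k * (p ^ k - 1) / 2 = p ^ k * r by
      rw [hr, Nat.add_sub_cancel, mul_left_comm, Nat.mul_div_cancel_left _ two_pos], pow_mul, hexp _ (hc h g),
      one_pow, mul_one]
  obtain ⟨c, hcD, hc1⟩ : ∃ c ∈ zpowers a ⊓ zpowers x, orderOf c = p := by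
    obtain ⟨c, hc⟩ := exists_prime_orderOf_dvd_card' (G := ↥(zpowers a ⊓ zpowers x)) p
      (((hX.to_subgroup _).card_eq_or_dvd).resolve_left (by rwa [card_eq_one]))
    exact ⟨c, c.2, (Subgroup.orderOf_coe c).trans hc⟩
  have hop : ∀ g : X, orderOf g = p ^ (k + 1) → orderOf (g ^ p ^ k) = p := fun g hg => by
    rw [orderOf_pow_of_dvd (pow_pos hp.out.pos k).ne' (hg ▸ pow_dvd_pow p k.le_succ), hg, pow_succ,
      Nat.mul_div_cancel_left _ (pow_pos hp.out.pos k)]
  obtain ⟨u, hu⟩ : x ^ p ^ k ∈ zpowers (a ^ p ^ k) := by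
    obtain ⟨i, hi⟩ := mem_zpowers_of_orderOf_dvd_of_isCyclic (G := zpowers x)
      (x := ⟨x ^ p ^ k, pow_mem (mem_zpowers x) _⟩) (z := ⟨c, hcD.2⟩) (by
        rw [Subgroup.orderOf_mk, Subgroup.orderOf_mk, hc1, hop x hox])
    obtain ⟨j, hj⟩ := mem_zpowers_of_orderOf_dvd_of_isCyclic (G := zpowers a)
      (z := ⟨a ^ p ^ k, pow_mem (mem_zpowers a) _⟩) (x := ⟨c, hcD.1⟩) (by
        rw [Subgroup.orderOf_mk, Subgroup.orderOf_mk, hc1, hop a ha])
    rw [← show c ^ i = x ^ p ^ k from congrArg Subtype.val hi]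
    exact zpow_mem (show c ∈ zpowers (a ^ p ^ k) from ⟨j, congrArg Subtype.val hj⟩) i
  have hy : x * (a ^ u)⁻¹ ∈ ψ.ker := by
    rw [MonoidHom.mem_ker, map_mul, map_inv, map_zpow, mul_inv_eq_one]
    exact hu.symm
  have hk : ∀ (β : MulAut X) g, g ∈ ψ.ker → β g ∈ ψ.ker := fun β g hg => by
    change (β g) ^ p ^ k = 1
    rw [← map_pow, show g ^ p ^ k = 1 from hg, map_one]
  have hay : zpowers a ⊔ zpowers (x * (a ^ u)⁻¹) = ⊤ := by
    rw [eq_top_iff, ← hax]
    refine sup_le le_sup_left (zpowers_le.2 ?_)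
    have := mul_mem (mem_sup_right (S := zpowers a) (mem_zpowers (x * (a ^ u)⁻¹))) (mem_sup_left ⟨u, rfl⟩)
    rwa [inv_mul_cancel_right] at this
  refine abelian_exp_of_chain hX hH 2 (fun i => if i = 0 then frattini X ⊓ ψ.ker else if i = 1 then ψ.ker
    else ⊤) (fun i hi => ?_) (fun i hi β _ => ?_) inf_le_left rfl fun i hi => ?_
  · interval_cases i <;> simp only [if_true, if_false, one_ne_zero, OfNat.ofNat_ne_zero, OfNat.ofNat_ne_one] <;>
      infer_instance
  · interval_cases i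
    · exact fun g hg => ⟨map_mem_frattini β hg.1, hk β g hg.2⟩
    · exact hk β
    · exact fun _ _ => mem_top _
  · interval_cases i
    · refine ⟨_, ⟨CL.Grp.pow_mem_frattini hX _, pow_mem hy _⟩, le_antisymm (fun g hg => ?_)
        (sup_le inf_le_right (zpowers_le.2 hy))⟩
      obtain ⟨_, ⟨s, rfl⟩, c, hc, rfl⟩ := Subgroup.mem_sup_of_normal_left.1 (hay ▸ mem_top g)
      have h1 : a ^ s ∈ ψ.ker := (mul_mem_cancel_right (zpowers_le.2 hy hc)).1 hg
      refine mul_mem_sup ⟨?_, h1⟩ hc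
      by_cases hd : (p : ℤ) ∣ s
      · obtain ⟨j, rfl⟩ := hd
        exact hF a j
      · have h2 : a ^ p ^ k = 1 := mem_of_zpow hX h1 hd
        have := hop a ha
        rw [h2, orderOf_one] at this
        exact absurd this hp.out.one_lt.ne
    · refine ⟨a, ?_, ?_⟩
      · change (a ^ p) ^ p ^ k = 1
        rw [← pow_mul, ← pow_succ', ← ha, pow_orderOf_eq_one]
      · change ⊤ = ψ.ker ⊔ zpowers a
        rw [eq_comm, eq_top_iff, ← hay, sup_comm]
        exact sup_le_sup_right (zpowers_le.2 hy) _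

theorem not_resistant {Ω : Type*} [Group Ω] {S : Subgroup Ω} {n : ℕ} {e d : ZMod (2 ^ n)} (D : MC S n e d)
    (hn : d = 0 ∨ 3 ≤ n) (h : MCReal n e d True True) : ¬ ∀ F : FusionSystem S, F.IsSaturated 2 → F.IsNormal S :=
  fun hr => by
  have := D.finite
  obtain ⟨G, _, _, T, D', h0, -⟩ := h
  obtain ⟨θ, η, hθ, ha, hb⟩ := D.exists_gIso D'
  have hI := (hθ.symm.fIso_transport (groupFusionSystem (T : Subgroup G))).symm
  have hs := hI.isSaturated_iff.1 (GS.isSaturated_group (sylIn_top T))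
  have h1 := (hI.onAut_iff (D.sp_le 0)).1 (by
    rw [D.img_sp D' hθ ha hb, onAut_group_iff (D'.sp_le 0)]; exact h0.1 trivial)
  rw [eq_inner_of_isNormal D.isPGroup hs (hr _ hs) ((D.isPGroup_mulAut hn).to_subgroup _), OnAut,
    GS.innerFusionSystem_eq, GS.autGroup_eq (D.sp_le 0)] at h1
  exact h1 (isPGroup_autInducedBy D.isPGroup _)

/-- Let S be a finite metacyclic p-group (an extension of a cyclic group by a cyclic group). Every saturated fusion system over S is supersoluble (S has a chain of F-strongly closed subgroups from 1 to S with cyclic steps) if and only if S is not homocyclic of rank two (isomorphic to Z/p^n × Z/p^n with n ≥ 1) and, when p = 2, S is not dihedral of order at least 4, not quasi-dihedral (semidihedral) and not generalized quaternion of order at least 8. -/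
theorem result {Ω : Type*} [Group Ω] {S : Subgroup Ω} [Finite S] (p : ℕ) [Fact p.Prime] (hS : IsPGroup p ↥S) (hm : Cfsg.IsMetacyclic ↥S) : (∀ F : Cfsg.FusionSystem S, F.IsSaturated p → (∃ (m : ℕ) (c : Fin (m + 1) → Subgroup Ω), c 0 = ⊥ ∧ c (Fin.last m) = S ∧ (∀ i : Fin (m + 1), F.StronglyClosed (c i)) ∧ ∀ i : Fin m, c i.castSucc ≤ c i.succ ∧ ∃ x ∈ S, c i.succ = c i.castSucc ⊔ Subgroup.zpowers x)) ↔ ¬ ((∃ n : ℕ, 0 < n ∧ Nonempty (↥S ≃* Multiplicative (ZMod (p ^ n)) × Multiplicative (ZMod (p ^ n)))) ∨ (p = 2 ∧ ((∃ n : ℕ, 2 ≤ n ∧ Nonempty (↥S ≃* DihedralGroup n)) ∨ Cfsg.IsQuasiDihedral ↥S ∨ (∃ n : ℕ, 2 ≤ n ∧ Nonempty (↥S ≃* QuaternionGroup n))))) := by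
  simp only [← ssCh_iff hS]
  rw [forall_ssCh_iff hS]
  constructor
  · rintro ⟨hr, hd⟩ (⟨n, hn, ⟨e⟩⟩ | ⟨rfl, ⟨m, hm, ⟨e⟩⟩ | h | ⟨m, hm, ⟨e⟩⟩⟩)
    · exact not_diagAut_homocyclic hn (hd.of_equiv e)
    · obtain ⟨k, hk⟩ := IsPGroup.iff_card.1 hS
      rw [Nat.card_congr e.toEquiv, DihedralGroup.nat_card] at hk
      obtain ⟨n, -, rfl⟩ := (Nat.dvd_prime_pow Nat.prime_two).1 (Dvd.intro_left 2 hk)
      rcases (show 1 ≤ n from (Nat.pow_le_pow_iff_right one_lt_two).1 hm).eq_or_lt with rfl | hn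
      · have := isKleinFour_of_equiv e.symm (inferInstanceAs (IsKleinFour (DihedralGroup 2)))
        exact not_isPGroup_mulAut_kleinFour hd.isPGroup
      · obtain ⟨D⟩ := nonempty_MC_of_dihedral hn e
        exact not_resistant D (Or.inl rfl) (mcReal_dih hn).1 hr
    · obtain ⟨n, hn, ⟨D⟩⟩ := exists_MC_of_isQuasiDihedral_subgroup h
      obtain ⟨k, rfl⟩ : ∃ k, n = k + 3 := ⟨n - 3, by omega⟩
      exact not_resistant D (Or.inl rfl) (mcReal_qd k).1 hr
    · obtain ⟨n, hn, rfl⟩ := exists_pow_of_quaternion hS hm e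
      rcases hn.eq_or_lt with rfl | hn'
      · exact not_isPGroup_mulAut_quaternion e hd.isPGroup
      · obtain ⟨k, rfl⟩ : ∃ k, n = k + 2 := ⟨n - 2, by omega⟩
        obtain ⟨D⟩ := nonempty_MC_of_quaternion hn e
        exact not_resistant D (Or.inr (by omega)) (mcReal_quat k).1 hr
  · intro h
    rw [not_or] at h
    by_cases hp : p = 2
    · subst hp
      have h2 := fun h' => h.2 ⟨rfl, h'⟩
      refine ⟨fun F hF => isNormal_of_metacyclic_two hS hF (stronglyClosed_self F) hm fun n a b h' => h2 ?_,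
        fun H hH => ?_⟩
      · have := h'.two_le
        rcases h'.cases with h' | h' | h'
        · exact Or.inl ⟨_, (Nat.pow_le_pow_right two_pos (show 1 ≤ n by omega) :), h'⟩
        · exact Or.inr (Or.inr ⟨_, (Nat.pow_le_pow_right two_pos (show 1 ≤ n - 1 by omega) :), h'⟩)
        · exact Or.inr (Or.inl h'.2)
      · have h3 : ∀ α ∈ H, α = 1 := fun α hα => by_contra fun h1 =>
          (quaternion_or_homocyclic_of_mc hS hm (hH α hα) h1).elim (fun e => h2 (Or.inr (Or.inr ⟨2, le_rfl, e⟩))) h.1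
        exact ⟨fun a ha b hb => by rw [h3 a ha, h3 b hb], fun a ha => by rw [h3 a ha, one_pow]⟩
    · exact ⟨fun F hF => Cfsg.Agent.S5234.result p hS F hF S (stronglyClosed_self F) hp hm,
        diagAut_odd hp hS hm h.1⟩

end Cfsg.Agent.S5287
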