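import Cfsg.Statements.S5289
import Cfsg.Agent.Fus.RankTwoRes

set_option autoImplicit false
open Cfsg

namespace Cfsg.Agent.S5289

open CL.Fus Cfsg Cfsg.FusionSystem Subgroup

/-- Let p ≥ 5 be a prime and S a finite p-group of p-rank two (it has an elementary abelian subgroup of order p² and none of order p³) which is not the extraspecial group of order p³ and exponent p. Then S is resistant: for every saturated fusion system F over S, S is normal in F, that is, every map of F extends to an F-automorphism of S. -/
theorem result {Ω : Type*} [Group Ω] {S : Subgroup Ω} [Finite S] (p : ℕ) [Fact p.Prime] (hS : IsPGroup p S)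
    (F : Cfsg.FusionSystem S) (hF : F.IsSaturated p)
    (hp : 5 ≤ p)
    (hrank2 : ∃ E : Subgroup Ω, E ≤ S ∧ Cfsg.IsElementaryAbelian p E ∧ Nat.card E = p ^ 2)
    (hrank3 : ∀ E : Subgroup Ω, E ≤ S → Cfsg.IsElementaryAbelian p E → Nat.card E ≤ p ^ 2)
    (hnotE : ¬ (Nat.card S = p ^ 3 ∧ Monoid.exponent ↥S = p)) : F.IsNormal S := by
  obtain ⟨F', θ, h, -, -⟩ := exists_fIso_top F
  refine (isNormal_top_iff hS hF).2 fun A hA => not_essential_of_rank_two hp (hS.to_subgroup ⊤) (h.isSaturated hF)
    (pRankLE_of_equiv topEquiv.symm fun E hE hp => ?_) (fun k => hnotE ?_) (h.isEssential hA)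
  · have := hrank3 (E.map S.subtype) (map_subtype_le _) ⟨map_isMulCommutative E S.subtype, by
      rintro _ ⟨x, hx, rfl⟩
      exact congrArg Subtype.val (hp x hx)⟩
    rwa [card_map_of_injective S.subtype_injective] at this
  · rw [card_top] at k
    have : Nontrivial S := Finite.one_lt_card_iff_nontrivial.1 (k.1 ▸ Nat.one_lt_pow (by decide) (by omega))
    exact ⟨k.1, (Monoid.exponent_eq_prime_iff Fact.out).2 fun g hg => orderOf_eq_prime (k.2 g (mem_top g)) hg⟩

end Cfsg.Agent.S5289
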