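import Cfsg.Statements.S5299
import Cfsg.Agent.Fus.SecFree

set_option autoImplicit false
universe u
open Cfsg

namespace Cfsg.Agent.S5299

/-- Let F be a saturated fusion system over a finite p-group S, H a finite group and Q a p-subgroup of H. If Q is not involved in S (no section of S is isomorphic to Q), then F is H-free: H is involved in no model of the normalizer system of a fully normalized centric subgroup. -/
theorem result {Ω : Type u} [Group Ω] {S : Subgroup Ω} [Finite S] (p : ℕ) [Fact p.Prime] (hS : IsPGroup p S)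
    (F : Cfsg.FusionSystem S) (hF : F.IsSaturated p) (H : Type*) [Group H] [Finite H] (Q : Subgroup H) (hQ : IsPGroup p Q)
    (hfree : ¬ Cfsg.Involves (↥Q) (↥S)) : F.IsSectionFree p H := by
  intro R _ _ N _ L _ ι hL hH
  have := hL.1
  obtain ⟨K, φ, hφ⟩ := CL.Loc.involves_iff.1 (CL.Loc.involves_trans (CL.Loc.involves_subgroup Q) hH)
  obtain ⟨U, hU⟩ := CL.Fus.exists_sylIn p (⊤ : Subgroup K)
  have h1 := hU.map φ
  rw [Subgroup.map_top_of_surjective φ hφ] at h1
  have h2 := CL.Loc.involves_map φ U
  rw [← h1.eq_of_le (hQ.to_subgroup ⊤) le_top le_rfl, CL.Loc.involves_congr_left Subgroup.topEquiv] at h2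
  obtain ⟨g, -, hg⟩ := (CL.Fus.IsModel.sylIn hL).exists_map_conj_le (hU.isPGroup.map K.subtype) le_top
  have h3 := CL.Loc.involves_mono hg (CL.Loc.involves_of_equiv_right h2
    ((U.equivMapOfInjective _ K.subtype_injective).trans
      ((U.map K.subtype).equivMapOfInjective (MulAut.conj g).toMonoidHom (MulAut.conj g).injective)))
  exact hfree (CL.Loc.involves_mono (CL.Fus.normalizerIn_le S R)
    (CL.Loc.involves_of_equiv_right h3 (MonoidHom.ofInjective hL.2.1.1).symm))

end Cfsg.Agent.S5299
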