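import Cfsg.Statements.S5313
import Cfsg.Agent.Fus.PslAut6
import Cfsg.Agent.Fus.CompFit

set_option autoImplicit false
open Cfsg

namespace Cfsg.Agent.S5313

/-- Let q be odd, n ≥ 2, with q ≡ 1 or 7 (mod 8) if n = 2, and F a field with q elements. Let G be a finite nonabelian simple group with Sylow 2-subgroup S. If some generalized Fitting subsystem of the 2-fusion system of G on S, over U, is isomorphic to the 2-fusion system of PSL_n(q) (realized by an injective homomorphism of U onto a Sylow 2-subgroup of PSL_n(F)), then the 2-fusion system of G itself is isomorphic to that of PSL_n(q). -/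
theorem result {G : Type*} [Group G] [Finite G]
    [IsSimpleGroup G] (hG : ¬ IsMulCommutative G) (S : Sylow 2 G) (n : ℕ) (hn : 2 ≤ n) {F : Type*} [Field F] [Fintype F]
    (q : ℕ) (hFq : Fintype.card F = q) (hq : Odd q) (h2 : n = 2 → q % 8 = 1 ∨ q % 8 = 7)
    {U : Subgroup G} (D : Cfsg.FusionSystem U) (hD : D.IsGeneralizedFittingOf (Cfsg.groupFusionSystem (S : Subgroup G)) 2)
    (hiso : ∃ ι : ↥U →* Matrix.ProjectiveSpecialLinearGroup (Fin n) F, D.IsRealizedBy ι ∧
      ∃ T' : Sylow 2 (Matrix.ProjectiveSpecialLinearGroup (Fin n) F), (T' : Subgroup (Matrix.ProjectiveSpecialLinearGroup (Fin n) F)) = ι.range) :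
    ∃ ι : ↥(S : Subgroup G) →* Matrix.ProjectiveSpecialLinearGroup (Fin n) F,
      (Cfsg.groupFusionSystem (S : Subgroup G)).IsRealizedBy ι ∧
        ∃ T' : Sylow 2 (Matrix.ProjectiveSpecialLinearGroup (Fin n) F), (T' : Subgroup (Matrix.ProjectiveSpecialLinearGroup (Fin n) F)) = ι.range := by
  obtain ⟨ι, hι, T', hT'⟩ := hiso
  subst hFq
  have hs := CL.Fus.sylIn_top_iff.2 ⟨T', hT'⟩
  have hF := CL.Fus.GS.isSaturated_group (CL.Fus.sylIn_top S)
  obtain ⟨rfl, e⟩ := CL.PslAut.psl_eq hG S hn hq h2 (CL.Fus.IsGeneralizedFittingOf.isNormalIn S.isPGroup' hF hD) hι hs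
    (sSup_le fun Y hY => (CL.Fus.IsGeneralizedFittingOf.le_center_of_cenBy S.isPGroup' hF hD
      (CL.Fus.cenBy_iff.2 hY.2)).trans (CL.Fus.center_le D))
  exact ⟨ι, CL.Fus.fusionSystem_ext e ▸ hι, T', hT'⟩

end Cfsg.Agent.S5313
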