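import Cfsg.Statements.S5465
import Cfsg.Agent.Spor.T24I
import Cfsg.Agent.S2079

set_option autoImplicit false
open Cfsg

namespace Cfsg.Agent.S5465

open CL.PG CL.MT CL.T24 in
/-- Let G be a finite group with trivial centre generated by a conjugation-invariant set D of 3-transpositions on which it acts primitively, such that for some d in D the subgroup generated by the members of D other than d commuting with d has central largest normal 2- and 3-subgroups, and suppose G with D is of type M(24), and let L be the commutator subgroup of G. Let d₁, d₂ be distinct commuting members of D and j = d₁ d₂. Then K, the joint centralizer of d₁ and d₂ in L, is quasisimple, is the generalized Fitting subgroup of the centralizer of j in L, has index 2 in it and contains j, and the centralizer of j in L modulo the subgroup generated by j is isomorphic to the full automorphism group of the Fischer group Fi₂₂ (as presented). -/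
theorem result {G : Type*} [Group G] [Finite G] {D : Set G} (hD : Cfsg.IsThreeTranspositionGroup D) (hprim : Cfsg.IsPrimitiveUnderConj D) (d₀ : G) (hd₀ : d₀ ∈ D) (h3 : Cfsg.pCore 3 ↥(Subgroup.closure {y : G | y ∈ D ∧ y ≠ d₀ ∧ Commute d₀ y}) ≤ Subgroup.center ↥(Subgroup.closure {y : G | y ∈ D ∧ y ≠ d₀ ∧ Commute d₀ y})) (h2 : Cfsg.pCore 2 ↥(Subgroup.closure {y : G | y ∈ D ∧ y ≠ d₀ ∧ Commute d₀ y}) ≤ Subgroup.center ↥(Subgroup.closure {y : G | y ∈ D ∧ y ≠ d₀ ∧ Commute d₀ y})) (h24 : Cfsg.IsOfTypeM24 G D) (L : Subgroup G) (hL : L = commutator G) (d₁ d₂ : G) (h₁ : d₁ ∈ D) (h₂ : d₂ ∈ D) (hne : d₁ ≠ d₂) (hc : Commute d₁ d₂) (K CL : Subgroup G) (hK : K = L ⊓ Subgroup.centralizer ({d₁, d₂} : Set G)) (hCL : CL = L ⊓ Subgroup.centralizer ({d₁ * d₂} : Set G)) [hn : ((Subgroup.zpowers (d₁ * d₂)).subgroupOf CL).Normal] : Cfsg.IsQuasisimple ↥K ∧ K = (Cfsg.generalizedFittingSubgroup ↥CL).map CL.subtype ∧ K ≤ CL ∧ (K.subgroupOf CL).index = 2 ∧ d₁ * d₂ ∈ K ∧ Nonempty (↥CL ⧸ (Subgroup.zpowers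 (d₁ * d₂)).subgroupOf CL ≃* MulAut Cfsg.Spor.Fi22) := by
  have hc' := class_of_prim hD hprim
  obtain ⟨v, gs, h⟩ := exists_big hD hprim h24
  obtain ⟨s, hs, f⟩ := h.f23 hc'
  rw [hL, ← hs] at hK hCL
  obtain ⟨q1, q, hle, i2, hZ⟩ := two f (m24_local hc' h24).1 ⟨h₁, h₂, hne, hc⟩ hK hCL
  have hN : CL ≤ Subgroup.normalizer (K : Set G) :=
    (Subgroup.normal_subgroupOf_iff_le_normalizer hle).1 (Subgroup.normal_of_index_eq_two i2)
  have hs := _root_.CL.Fi22P.simple
  have hj := q.le (Subgroup.mem_zpowers _)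
  refine ⟨q1, (fstarOf_eq_of_quasisimple hle hN q1 rfl (hZ.trans q.le)).symm, hle, i2, hj,
    Quo.equiv_of_eq (q.aut_of_perfect hle hN (Subgroup.isPerfect_iff.1 q1.1).ge (Subgroup.zpowers_le.2 fun k hk => ?_)
      hZ ?_) rfl⟩
  · rw [hK] at hk
    exact ((mem_cent2.1 hk.2).1.mul_right (mem_cent2.1 hk.2).2).eq
  · rw [card_mulAut_eq (_root_.CL.PP.center_eq_bot_of_card (by rw [_root_.CL.Fi22P.card]; norm_num)), S2079.result,
      ← (K.subgroupOf CL).index_mul_card, i2, Nat.card_congr (Subgroup.subgroupOfEquivOfLe hle).toEquiv, q.card]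
    ring

end Cfsg.Agent.S5465
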