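import Cfsg.Statements.S5472
import Cfsg.Agent.Spor.Fi22A4

set_option autoImplicit false
open Cfsg

namespace Cfsg.Agent.S5472

/-- Let G be a finite group with trivial centre generated by a conjugation-invariant set D of 3-transpositions on which it acts primitively, such that for some d in D the subgroup generated by the members of D other than d commuting with d has central largest normal 2- and 3-subgroups, and suppose G with D is of type M(22). Then G has a non-inner automorphism s of order 2 whose fixed-point subgroup is isomorphic to the full automorphism group of Ω⁺(8, 2) (the commutator subgroup of the isometry group of the hyperbolic quadratic form in dimension 8 over the field with two elements), together with distinct commuting members a, b of D fixed by s such that: s, s composed with conjugation by a, and s composed with conjugation by a b represent the three classes (under the automorphism group) of non-inner automorphisms of order 2; the elements fixed by the automorphism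 s composed with conjugation by a are exactly those fixed by s and commuting with a, and they form a group isomorphic to the direct product of a group of order 2 and the symplectic group of dimension 6 over the field with two elements; and the elements fixed by the automorphism s composed with conjugation by a b form a group whose largest normal 2-subgroup is elementary abelian of order 64 with quotient isomorphic to the full isometry group of the elliptic quadratic form in dimension 6 over the field with two elements. -/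
theorem result {G : Type*} [Group G] [Finite G] {D : Set G} (hD : Cfsg.IsThreeTranspositionGroup D) (hprim : Cfsg.IsPrimitiveUnderConj D) (d₀ : G) (hd₀ : d₀ ∈ D) (h3 : Cfsg.pCore 3 ↥(Subgroup.closure {y : G | y ∈ D ∧ y ≠ d₀ ∧ Commute d₀ y}) ≤ Subgroup.center ↥(Subgroup.closure {y : G | y ∈ D ∧ y ≠ d₀ ∧ Commute d₀ y})) (h2 : Cfsg.pCore 2 ↥(Subgroup.closure {y : G | y ∈ D ∧ y ≠ d₀ ∧ Commute d₀ y}) ≤ Subgroup.center ↥(Subgroup.closure {y : G | y ∈ D ∧ y ≠ d₀ ∧ Commute d₀ y})) (h22 : Cfsg.IsOfTypeM22 G D) : ∃ (s : MulAut G) (a b : G) (Cs : Subgroup G), orderOf s = 2 ∧ s ∉ (MulAut.conj : G →* MulAut G).range ∧ (∀ g : G, g ∈ Cs ↔ s g = g) ∧ Nonempty (↥Cs ≃* MulAut (Cfsg.Omega (ZMod 2) (Cfsg.quadFormPlus 4 (ZMod 2)))) ∧ a ∈ D ∧ b ∈ D ∧ a ≠ b ∧ Commute a b ∧ s a = a ∧ s b = b ∧ (∀ t : MulAut G, orderOf t = 2 → t ∉ (MulAut.conj : G →* MulAut G).range → (IsConj t s ∨ IsConj t (s * MulAut.conj a) ∨ IsConj t (s * MulAut.conj (a * b)))) ∧ ¬ IsConj s (s * MulAut.conj a) ∧ ¬ IsConj s (s * MulAut.conj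 (a * b)) ∧ ¬ IsConj (s * MulAut.conj a) (s * MulAut.conj (a * b)) ∧ (∀ g : G, (s * MulAut.conj a) g = g ↔ g ∈ Cs ⊓ Subgroup.centralizer ({a} : Set G)) ∧ Nonempty (↥(Cs ⊓ Subgroup.centralizer ({a} : Set G)) ≃* Multiplicative (ZMod 2) × Cfsg.PSp 3 (ZMod 2)) ∧ ∃ Csab O : Subgroup G, (∀ g : G, g ∈ Csab ↔ (s * MulAut.conj (a * b)) g = g) ∧ O = (Cfsg.pCore 2 ↥Csab).map Csab.subtype ∧ Cfsg.IsElementaryAbelian 2 O ∧ Nat.card O = 64 ∧ ∃ _ : (O.subgroupOf Csab).Normal, Nonempty (↥Csab ⧸ O.subgroupOf Csab ≃* Cfsg.isometryGroup (ZMod 2) (Cfsg.quadFormMinus 2 (ZMod 2) 1 1)) := by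
  obtain ⟨e, gs, M⟩ := CL.F22.exists_mod hD h22
  obtain ⟨as, X⟩ := M.amod
  obtain ⟨xs, Y, hx⟩ := X.lf
  obtain ⟨ys, Z, hy⟩ := X.lg
  have hs := X.sq
  have hi := X.fix_i
  rw [← hy] at hs hi hx
  have hn := Z.not_inn hs
  have nc : ∀ {x y : MulAut G}, CL.PG.nfix (MulAut.conj '' D) x ≠ CL.PG.nfix (MulAut.conj '' D) y → ¬ IsConj x y :=
    fun h h' => h (CL.PG.nfix_of_isConj M.aut_hc h')
  have hO := CL.F22.elemAb_comap M.conj_inj (CL.F22.gea Z.f.ctx)
  have hP := Z.c3.pCoreOf (CL.PG.isPGroup_of_card Z.card_O 6 (by norm_num)) CL.Std.O6m2.core2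
  refine ⟨CL.PG.letG ys 42, _, _, _, orderOf_eq_prime hs fun h => hn (h ▸ one_mem _), hn,
    fun g => by simpa using Z.mem_comap (CL.F22.gc1 Z.f.ctx Z.ubG) g, Z.c1, M.pdi.hx, M.pdi.hy, M.pdi.ne, M.pdi.c,
    Z.fix_d, hi, fun t ht h => hx ▸ Y.cls_out (ht ▸ pow_orderOf_eq_one t) h, nc (by rw [Z.nf1, Z.nf2]; norm_num),
    nc (by rw [Z.nf1, Z.nf3]; norm_num), nc (by rw [Z.nf2, Z.nf3]; norm_num), fun g => ?_, Z.c12 ▸ Z.c2, _, _,
    fun g => Z.w3 ▸ Z.mem_comap (CL.F22.gc3 Z.f.ctx Z.ubG) g, hP.symm, hO, Z.card_O,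
    (Z.c3.congr (CL.Std.O6m2.iso (ZMod.card 2))).equiv⟩
  rw [Z.c12, Z.mem_comap (CL.F22.gc2 Z.f.ctx Z.ubG), Z.w2]


end Cfsg.Agent.S5472
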