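import Cfsg.Statements.S5522
import Cfsg.Agent.Spor.M24More

set_option autoImplicit false
open Cfsg

namespace Cfsg.Agent.S5522

open CL.Spor MulAction
open scoped Pointwise

/-- The Mathieu group M₁₁, realised as the stabiliser of one point of the dodecad of squares inside the stabiliser M₁₂ of that dodecad in M₂₄, acts on the twelve coordinate positions outside the dodecad of squares (its 3-transitive action of degree 12); in this action every element of prime order fixes a point, i.e. the action is elusive. -/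
theorem result (g : Equiv.Perm Cfsg.GolayPt) (hg : g ∈ Cfsg.Spor.M11) (hord : (orderOf g).Prime) :
    ∃ x : Cfsg.GolayPt, x ∉ Cfsg.Spor.squareDodecad ∧ g x = x := by
  rw [squareDodecad_eq]
  let x : M24 := ⟨g, hg.1.1⟩
  have hx : x ∈ stabilizer M24 dod0 ⊓ stabilizer M24 (gPt 0) := M11_subgroupOf ▸ hg
  have ho : orderOf x = orderOf g := (Subgroup.orderOf_coe x).symm
  by_contra hh
  have hsub : fixSet x ⊆ dod0 := fun p hp => by_contra fun h => hh ⟨p, h, mem_fixSet.1 hp⟩
  have h1 := card_inter_fixSet_modEq (g := x) hord (by rw [← ho, pow_orderOf_eq_one]) (A := dod0ᶜ)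
    (by rw [smul_finset_compl', mem_stabilizer_iff.1 hx.1])
  rw [(dodecad_compl dod0_mem).2, Finset.disjoint_iff_inter_eq_empty.1
    (Finset.disjoint_of_subset_right hsub disjoint_compl_left)] at h1
  have h2 : orderOf g ∣ 2 * 2 * 3 := (Nat.modEq_zero_iff_dvd.1 h1.symm)
  have h0 : (fixSet x).card ≠ 0 := Finset.card_ne_zero.2 ⟨_, mem_fixSet.2 hx.2⟩
  have h5 : ¬ 5 ≤ (fixSet x).card := fun h => by
    have := Subgroup.mem_bot.1 ((dodecad_fix_eq_bot dod0_mem (F := fixSet x)
      (by rwa [Finset.inter_eq_left.2 hsub])).le ⟨hx.1, mem_fixS.2 fun _ => mem_fixSet.1⟩)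
    rw [← ho, this, orderOf_one] at hord
    exact Nat.not_prime_one hord
  rw [hord.dvd_mul, hord.dvd_mul, or_self, Nat.prime_dvd_prime_iff_eq hord Nat.prime_two,
    Nat.prime_dvd_prime_iff_eq hord Nat.prime_three] at h2
  rcases h2 with h | h
  · have := card_fixSet_two (ho.trans h); omega
  · have := card_fixSet_three (ho.trans h); omega

end Cfsg.Agent.S5522
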