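import Cfsg.Statements.S5586
import Cfsg.Agent.Spor.AmTop
import Cfsg.Agent.Spor.AmM1
import Cfsg.Agent.Spor.AmNL
import Cfsg.Agent.Spor.AmLA
import Cfsg.Agent.Spor.AmND
import Cfsg.Agent.Spor.AmK1
import Cfsg.Agent.Spor.AmLF
import Cfsg.Agent.Spor.AmHZ
import Cfsg.Agent.Spor.AmC1A
import Cfsg.Agent.Spor.AmC1B
import Cfsg.Agent.Spor.AmSF
import Cfsg.Agent.Spor.AmSG
import Cfsg.Agent.Spor.AmFM
import Cfsg.Agent.Spor.AmTH
import Cfsg.Agent.Spor.AmGA1
import Cfsg.Agent.Spor.AmGA2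
import Cfsg.Agent.Spor.AmGA3
import Cfsg.Agent.Spor.AmU3
import Cfsg.Agent.Spor.AmCV
-- import your own Cfsg.Agent.* helpers here

set_option autoImplicit false
open Cfsg

namespace Cfsg.Agent.S5586

/-- The Monster is the only group generated by three subgroups C, N, L of the following kind: the largest normal 2-subgroup of C is extraspecial of order 2^25 of plus type, contains its centralizer in C, and has quotient C modulo it isomorphic to the first Conway group; N modulo its largest normal 2-subgroup is isomorphic to the direct product of the symmetric group of degree 3 and M₂₄; L modulo its largest normal 2-subgroup is the direct product of a normal subgroup isomorphic to L₃(2) and a normal subgroup B of order 2160 having a normal subgroup T of order 3 with B/T the symmetric group of degree 6, with T centralized by a subgroup of index 2 of B and with the commutator subgroup of B perfect of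 order 1080 (the triple cover of the alternating group of degree 6 extended by an automorphism); and the indices [N : N ∩ C] = 3, [L : L ∩ N] = [L : L ∩ C] = 7 and [L : L ∩ N ∩ C] = 21. -/
theorem result {G : Type*} [Group G] (C N L : Subgroup G) (hgen : C ⊔ N ⊔ L = ⊤)
    (hQ : Cfsg.IsExtraspecial 2 ↥((Cfsg.pCore 2 ↥C).map C.subtype)) (hQc : Nat.card ↥((Cfsg.pCore 2 ↥C).map C.subtype) = 2 ^ 25)
    (hplus : ∃ E : Subgroup G, E ≤ ((Cfsg.pCore 2 ↥C).map C.subtype) ∧ Cfsg.IsElementaryAbelian 2 E ∧ Nat.card ↥E = 2 ^ 13)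
    (hcc : C ⊓ Subgroup.centralizer (((Cfsg.pCore 2 ↥C).map C.subtype) : Set G) ≤ ((Cfsg.pCore 2 ↥C).map C.subtype))
    (hCo : Cfsg.Spor.IsoCo1 (↥C ⧸ Cfsg.pCore 2 ↥C))
    (hN : Nonempty (↥N ⧸ Cfsg.pCore 2 ↥N ≃* Equiv.Perm (Fin 3) × ↥Cfsg.M24))
    (hL : ∃ A B : Subgroup (↥L ⧸ Cfsg.pCore 2 ↥L), A.Normal ∧ B.Normal ∧ A ⊓ B = ⊥ ∧ A ⊔ B = ⊤ ∧
      Nonempty (↥A ≃* Matrix.SpecialLinearGroup (Fin 3) (ZMod 2)) ∧ Nat.card ↥B = 2160 ∧
      ∃ (T : Subgroup ↥B) (_ : T.Normal), Nat.card ↥T = 3 ∧ Nonempty (↥B ⧸ T ≃* Equiv.Perm (Fin 6)) ∧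
        (Subgroup.centralizer (T : Set ↥B)).index = 2 ∧ Nat.card ↥(commutator ↥B) = 1080 ∧
        ⁅commutator ↥B, commutator ↥B⁆ = commutator ↥B)
    (hNC : C.relIndex N = 3) (hLN : N.relIndex L = 7) (hLC : C.relIndex L = 7) (hLNC : (N ⊓ C).relIndex L = 21) :
    Cfsg.Spor.IsoM G := by
  obtain ⟨A, B, hA, hB, h1, h2, h3, h4, -⟩ := hL
  obtain ⟨D, h, tr, gen⟩ := CL.AM.sd_of CL.AM.m1Ex CL.AM.nsEx CL.AM.lsEx CL.AM.ysEx CL.AM.trEx
    (CL.AM.ndEx CL.AM.k1) (CL.AM.c1a CL.AM.l23 CL.AM.lUni) (CL.AM.c1b CL.AM.lUni CL.AM.la0)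
    hgen hQ hQc hcc hCo hN hA hB h1 h2 h3 h4 hNC hLN hLC hLNC
  exact CL.AM.isoM_of_sd CL.AM.hSd (CL.AM.sfEx CL.AM.lcE) (CL.AM.sfEx CL.AM.lcE) (CL.AM.sgEx CL.AM.ltt)
    (CL.AM.ga1 (CL.AM.sfEx CL.AM.lcE) (CL.AM.sfEx CL.AM.lcE) CL.AM.fmEx CL.AM.fmEx CL.AM.thEx)
    (CL.AM.ga2 CL.AM.hz) CL.AM.ga3 CL.AM.u3 CL.AM.cvt h tr gen

end Cfsg.Agent.S5586
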