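import Cfsg.Statements.S5712
import Cfsg.Agent.Known.SpCov2
import Cfsg.Agent.Cls.PermIso
import Cfsg.Agent.Grp.Cores

set_option autoImplicit false
open Cfsg

namespace Cfsg.Agent.S5712

open CL.Sp CL.RegU in

/-- Let F be a finite field of characteristic two, n ≥ 2, V = F^{2n} with the non-degenerate alternating form f(u, v) = Σ (u_i v_{n+i} + u_{n+i} v_i), and G the group of invertible matrices preserving f. Let a ≠ 0 be a vector, H its stabilizer in G, and X a subgroup of O₂(H) of order |F|^{2n−2} no element of which is a transvection (no element g has g − 1 of rank one). If L is a subgroup of G containing X that acts irreducibly on V (no proper non-zero L-invariant subspace), then L = G, or, for some quadratic form Q on V whose polar form is f, L is the isometry group of Q or its subgroup of the isometries g for which g − 1 has even rank, or |F| = 2, n = 2 and L is isomorphic to the alternating group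 of degree 6 or to the symmetric group of degree 5. -/
theorem result {F : Type*} [Field F] [Fintype F] [CharP F 2] {n : ℕ} (hn : 2 ≤ n) (a : (Fin n ⊕ Fin n → F)) (ha : a ≠ 0)
    (X : Subgroup (GL (Fin n ⊕ Fin n) F)) (hXG : X ≤ Cfsg.preserving (Units.coeHom (Matrix (Fin n ⊕ Fin n) (Fin n ⊕ Fin n) F)) (fun u v : (Fin n ⊕ Fin n → F) => ∑ i : Fin n, (u (Sum.inl i) * v (Sum.inr i) + u (Sum.inr i) * v (Sum.inl i))))
    (hXO : ∀ H : Subgroup (GL (Fin n ⊕ Fin n) F),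
      (∀ g : GL (Fin n ⊕ Fin n) F, g ∈ H ↔ (g ∈ Cfsg.preserving (Units.coeHom (Matrix (Fin n ⊕ Fin n) (Fin n ⊕ Fin n) F)) (fun u v : (Fin n ⊕ Fin n → F) => ∑ i : Fin n, (u (Sum.inl i) * v (Sum.inr i) + u (Sum.inr i) * v (Sum.inl i))) ∧ Matrix.mulVec (g : Matrix (Fin n ⊕ Fin n) (Fin n ⊕ Fin n) F) a = a)) →
      X ≤ (Cfsg.pCore 2 ↥H).map H.subtype)
    (hcard : Nat.card ↥X = Fintype.card F ^ (2 * n - 2))
    (hntv : ∀ x ∈ X, ((x : Matrix (Fin n ⊕ Fin n) (Fin n ⊕ Fin n) F) - 1).rank ≠ 1)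
    (L : Subgroup (GL (Fin n ⊕ Fin n) F)) (hXL : X ≤ L) (hLG : L ≤ Cfsg.preserving (Units.coeHom (Matrix (Fin n ⊕ Fin n) (Fin n ⊕ Fin n) F)) (fun u v : (Fin n ⊕ Fin n → F) => ∑ i : Fin n, (u (Sum.inl i) * v (Sum.inr i) + u (Sum.inr i) * v (Sum.inl i))))
    (hirr : ∀ W : Submodule F (Fin n ⊕ Fin n → F), (∀ g ∈ L, ∀ w ∈ W, Matrix.mulVec (g : Matrix (Fin n ⊕ Fin n) (Fin n ⊕ Fin n) F) w ∈ W) → W = ⊥ ∨ W = ⊤) :
    L = Cfsg.preserving (Units.coeHom (Matrix (Fin n ⊕ Fin n) (Fin n ⊕ Fin n) F)) (fun u v : (Fin n ⊕ Fin n → F) => ∑ i : Fin n, (u (Sum.inl i) * v (Sum.inr i) + u (Sum.inr i) * v (Sum.inl i))) ∨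
    (∃ Q : QuadraticForm F (Fin n ⊕ Fin n → F), (∀ u v, QuadraticMap.polar ⇑Q u v = (fun u v : (Fin n ⊕ Fin n → F) => ∑ i : Fin n, (u (Sum.inl i) * v (Sum.inr i) + u (Sum.inr i) * v (Sum.inl i))) u v) ∧
      (L = Cfsg.isometryGroup F ⇑Q ∨
        ∀ g : GL (Fin n ⊕ Fin n) F, g ∈ L ↔ (g ∈ Cfsg.isometryGroup F ⇑Q ∧ Even ((g : Matrix (Fin n ⊕ Fin n) (Fin n ⊕ Fin n) F) - 1).rank))) ∨
    (Fintype.card F = 2 ∧ n = 2 ∧ (Nonempty (↥L ≃* ↥(alternatingGroup (Fin 6))) ∨ Nonempty (↥L ≃* Equiv.Perm (Fin 5)))) := by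
  have h2 : (2 : F) = 0 := CharTwo.two_eq_zero
  have hB := stdForm_isAlt (Fin n) F
  have hN := stdForm_nondegenerate (Fin n) F
  have hf : ∀ u v : Fin n ⊕ Fin n → F, ∑ i : Fin n, (u (Sum.inl i) * v (Sum.inr i) + u (Sum.inr i) * v (Sum.inl i)) =
      stdForm (Fin n) F u v := fun u v => by
    rw [stdForm_apply']
    exact Finset.sum_congr rfl fun i _ => by linear_combination u (Sum.inl i) * v (Sum.inr i) * h2
  simp only [hf] at hXO hLG ⊢
  let e := glEquiv (Fin n ⊕ Fin n) F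
  have hm : ∀ (K : Subgroup (GL (Fin n ⊕ Fin n) F)) g, e g ∈ K.map e.toMonoidHom ↔ g ∈ K := fun K g =>
    Subgroup.mem_map_iff_mem e.injective
  have hc : ∀ K : Subgroup (GL (Fin n ⊕ Fin n) F), Nat.card (K.map e.toMonoidHom) = Nat.card K := fun K =>
    Subgroup.card_map_of_injective e.injective
  have hr : ∀ g : GL (Fin n ⊕ Fin n) F, ((g : Matrix (Fin n ⊕ Fin n) (Fin n ⊕ Fin n) F) - 1).rank =
      Module.finrank F (LinearMap.range ((e g : (Fin n ⊕ Fin n → F) →ₗ[F] (Fin n ⊕ Fin n → F)) - LinearMap.id)) := fun g => by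
    rw [Matrix.rank, show Matrix.mulVecLin ((g : Matrix (Fin n ⊕ Fin n) (Fin n ⊕ Fin n) F) - 1) =
      (e g : (Fin n ⊕ Fin n → F) →ₗ[F] (Fin n ⊕ Fin n → F)) - LinearMap.id from
      LinearMap.ext fun v => by rw [Matrix.mulVecLin_apply, Matrix.sub_mulVec, Matrix.one_mulVec]; rfl]
  have hd : Module.finrank F (Fin n ⊕ Fin n → F) = 2 * n := by simp [two_mul]
  let H := (Fix (stdForm (Fin n) F) {a}).comap e.toMonoidHom
  have hcov : Cov hB (X.map e.toMonoidHom) a := by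
    refine cov_of_card hB hN h2 (N := ((Cfsg.pCore 2 H).map H.subtype).map e.toMonoidHom) ha ?_ ?_ ?_
      (Subgroup.map_mono (hXO H fun g => ⟨fun h => ⟨h.1, h.2 a rfl⟩, fun h => ⟨h.1, by rintro _ rfl; exact h.2⟩⟩))
      (by rw [hc, hcard, hd, Nat.card_eq_fintype_card]) fun c h => ?_
    · rintro _ ⟨_, ⟨y, -, rfl⟩, rfl⟩; exact y.2
    · rintro _ ⟨_, ⟨y, hy, rfl⟩, rfl⟩ h3
      obtain ⟨k, hk⟩ := CL.Grp.pCore_isPGroup 2 H ⟨y, hy⟩
      have h4 : y ^ 3 = 1 := Subtype.ext (e.injective (by simpa using h3))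
      have h5 := pow_gcd_eq_one.2 ⟨h4, congrArg Subtype.val hk⟩
      rw [(Nat.Coprime.pow_right k (by decide : Nat.Coprime 3 2)).gcd_eq_one, pow_one] at h5
      rw [h5, map_one, map_one]
    · rintro _ ⟨_, ⟨y, hy, rfl⟩, rfl⟩ g hg
      obtain ⟨g, rfl⟩ := e.surjective g
      exact ⟨_, ⟨_, Subgroup.Normal.conj_mem inferInstance y hy ⟨g, hg⟩, rfl⟩, by simp⟩
    · by_contra c0
      obtain ⟨x, hx, ex⟩ := h
      refine hntv x hx ?_
      rw [hr, show e x = _ from ex, ← finrank_span_singleton (K := F) ha]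
      refine congrArg (fun W : Submodule F _ => Module.finrank F W) (le_antisymm (by
        rintro _ ⟨v, rfl⟩; exact Submodule.mem_span_singleton.2 ⟨c * stdForm _ F v a, by simp [tv_apply]⟩) ?_)
      obtain ⟨y, hy⟩ : ∃ y, stdForm (Fin n) F y a ≠ 0 := by by_contra! H; exact ha (hN.2 a H)
      exact (Submodule.span_singleton_le_iff_mem _ _).2 ⟨(c * stdForm _ F y a)⁻¹ • y, by simp [tv_apply, smul_smul]; field_simp; simp⟩
  rcases cov_cases hB hN h2 (M := L.map e.toMonoidHom) (by rintro _ ⟨g, hg, rfl⟩; exact hLG hg)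
    (fun W hW => hirr W fun g hg => hW _ ((hm L g).2 hg)) (by omega)
    ⟨ha, fun w hw => (hcov w hw).imp fun c h => Subgroup.map_mono hXL h⟩ with h | ⟨Q, hp, h⟩ | ⟨hF, h4, h⟩
  · exact Or.inl (le_antisymm hLG fun g hg => (hm L g).1 (h hg))
  · exact Or.inr (Or.inl ⟨Q, hp, h.imp (fun h => Subgroup.ext fun g => (hm L g).symm.trans ((h _).trans
      CL.Cls.mem_isometryGroup.symm)) fun h g => (hm L g).symm.trans ((h _).trans
        (and_congr CL.Cls.mem_isometryGroup.symm (by rw [hr])))⟩)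
  · obtain rfl : n = 2 := by omega
    rw [Nat.card_eq_fintype_card] at hF
    obtain ⟨φ⟩ := CL.Cls.nonempty_Sp4_two hF
    have hs : ∀ g, g ∈ Cfsg.spGL 2 F ↔ e g ∈ Isom (stdForm (Fin 2) F) := mem_spGL_iff
    have hL : L ≤ Cfsg.spGL 2 F := fun g hg => (hs g).2 (hLG hg)
    let ψ := ((Subgroup.subgroupOfEquivOfLe hL).symm.trans
      (((spEquivSpGL 2 F).symm.trans φ).subgroupMap (L.subgroupOf (Cfsg.spGL 2 F))))
    rcases perm_six (X := (L.subgroupOf (Cfsg.spGL 2 F)).map ((spEquivSpGL 2 F).symm.trans φ).toMonoidHom)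
      (by rwa [hc, Nat.card_congr ψ.toEquiv] at h) with h | h | ⟨⟨χ⟩⟩
    · refine Or.inl (le_antisymm hLG fun g hg => ?_)
      exact (Subgroup.mem_map_iff_mem (K := L.subgroupOf (Cfsg.spGL 2 F)) (x := ⟨g, (hs g).2 hg⟩)
        ((spEquivSpGL 2 F).symm.trans φ).injective).1 (h.ge (Subgroup.mem_top _))
    · exact Or.inr (Or.inr ⟨hF, rfl, Or.inl ⟨ψ.trans (MulEquiv.subgroupCongr h)⟩⟩)
    · exact Or.inr (Or.inr ⟨hF, rfl, Or.inr ⟨ψ.trans χ⟩⟩)

end Cfsg.Agent.S5712
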