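import Cfsg.Statements.S5727
import Cfsg.Agent.Known.AltMisc

set_option autoImplicit false
open Cfsg

namespace Cfsg.Agent.S5727

open scoped Pointwise


/-- If a finite group acts faithfully and transitively on a set with m·p elements, where p is a prime and 1 ≤ m ≤ p, then some element of order p fixes no point. -/
theorem result {G Ω : Type*} [Group G] [Finite G] [MulAction G Ω] [FaithfulSMul G Ω] [Fintype Ω] (htr : MulAction.IsPretransitive G Ω)
    (p m : ℕ) (hp : p.Prime) (hm : 1 ≤ m) (hmp : m ≤ p) (hΩ : Fintype.card Ω = m * p) :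
    ∃ g : G, orderOf g = p ∧ ∀ ω : Ω, g • ω ≠ ω := by
  classical
  rcases hmp.eq_or_lt with rfl | hlt
  · exact CL.Known.exists_derangement_of_prime_pow (k := 2) htr hp (by norm_num)
      (by rw [Nat.card_eq_fintype_card, hΩ, pow_two])
  haveI := Fact.mk hp
  obtain ⟨P⟩ : Nonempty (Sylow p G) := inferInstance
  have horb : ∀ x : Ω, Nat.card (MulAction.orbit (P : Subgroup G) x) = p := by
    intro x
    obtain ⟨j, hj⟩ := CL.Known.card_orbit_eq_pow P.isPGroup' x
    have h1 := CL.Known.pow_dvd_card_orbit_sylow (k := 1) htr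
      (by rw [Nat.card_eq_fintype_card, hΩ, pow_one]; exact Dvd.intro_left _ rfl) P x
    have h2 : Nat.card (MulAction.orbit (P : Subgroup G) x) < p ^ 2 := by
      refine (Nat.card_le_card_of_injective _ Subtype.val_injective).trans_lt ?_
      rw [Nat.card_eq_fintype_card, hΩ, pow_two]
      exact Nat.mul_lt_mul_of_pos_right hlt hp.pos
    rw [hj] at h1 h2 ⊢
    rw [Nat.pow_dvd_pow_iff_le_right hp.one_lt] at h1
    rw [Nat.pow_lt_pow_iff_right hp.one_lt] at h2
    rw [show j = 1 by omega, pow_one]
  have hidx : ∀ x : Ω, (MulAction.stabilizer (P : Subgroup G) x).index = p := fun x =>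
    (MulAction.index_stabilizer _ _).trans (horb x)
  have hnorm : ∀ x : Ω, (MulAction.stabilizer (P : Subgroup G) x).Normal := by
    intro x
    apply Subgroup.normal_of_index_eq_minFac_card
    obtain ⟨j, hj⟩ := IsPGroup.iff_card.1 P.isPGroup'
    have h1 := (MulAction.stabilizer (P : Subgroup G) x).index_dvd_card
    rw [hidx, hj] at h1
    rw [hidx, hj, hp.pow_minFac]
    rintro rfl
    exact hp.one_lt.ne' (Nat.dvd_one.1 h1)
  let Q := MulAction.orbitRel.Quotient (P : Subgroup G) Ω
  haveI : Fintype Q := Fintype.ofFinite _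
  have hQ : Fintype.card Q = m := by
    have h1 := Nat.card_congr (MulAction.selfEquivSigmaOrbits (P : Subgroup G) Ω)
    rw [Nat.card_sigma, Nat.card_eq_fintype_card, hΩ] at h1
    simp only [horb, Finset.sum_const, Finset.card_univ, smul_eq_mul] at h1
    exact (Nat.eq_of_mul_eq_mul_right hp.pos h1).symm
  by_contra hne
  push Not at hne
  have hcov : ⋃ q ∈ (Finset.univ : Finset Q), (1 : (P : Subgroup G)) •
      (MulAction.stabilizer (P : Subgroup G) q.out : Set (P : Subgroup G)) = Set.univ := by
    rw [Set.eq_univ_iff_forall]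
    intro g
    obtain ⟨x⟩ : Nonempty Ω := Fintype.card_pos_iff.1 (by rw [hΩ]; exact Nat.mul_pos hm hp.pos)
    obtain ⟨ω, hω⟩ : ∃ ω : Ω, g • ω = ω := by
      by_cases hg : g = 1
      · exact ⟨x, by rw [hg, one_smul]⟩
      refine hne g.1 ?_
      rw [Subgroup.orderOf_coe]
      refine orderOf_eq_prime (Subtype.ext (eq_of_smul_eq_smul (α := Ω) fun y => ?_)) hg
      have := @Subgroup.pow_index_mem _ _ _ (hnorm y) g
      rw [hidx] at this
      rw [Subgroup.coe_one, one_smul]
      exact this
    obtain ⟨a, ha⟩ : (Quotient.mk (MulAction.orbitRel (P : Subgroup G) Ω) ω).out ∈ MulAction.orbit (P : Subgroup G) ω :=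
      MulAction.orbitRel_apply.1 (Quotient.exact (Quotient.out_eq _))
    simp only [Finset.mem_univ, Set.iUnion_true, one_smul, Set.mem_iUnion, SetLike.mem_coe]
    refine ⟨Quotient.mk _ ω, ?_⟩
    rw [MulAction.mem_stabilizer_iff, ← ha]
    have := (hnorm ω).conj_mem g hω a⁻¹
    rw [MulAction.mem_stabilizer_iff, inv_inv, mul_smul, mul_smul, inv_smul_eq_iff] at this
    exact this
  obtain ⟨q, -, -, hq⟩ := Subgroup.exists_index_le_card_of_leftCoset_cover hcov
  rw [hidx, Finset.card_univ, hQ] at hq
  omega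

end Cfsg.Agent.S5727
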