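import Cfsg.Statements.S5728
import Cfsg.Agent.Base

set_option autoImplicit false
open Cfsg

namespace Cfsg.Agent.S5728

/-- An elusive transitive action. Let p = 2^s − 1 be a prime and let F be the field with p² elements. Inside the group of affine maps x ↦ a·x + b of F (a ≠ 0), consider the subgroup of maps with both coefficients in the prime field. Then every element of prime order of the affine group is conjugate, within the affine group, to an element of that subgroup; equivalently, in the transitive action of the affine group on the cosets of that subgroup (of degree p(p + 1)) every element of prime order fixes a point. -/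
theorem result (p s : ℕ) [Fact p.Prime] (hs : p = 2 ^ s - 1)
    (g : Equiv.Perm (GaloisField p 2)) (hg : g ∈ Cfsg.affineGroup (GaloisField p 2)) (hord : (orderOf g).Prime) :
    ∃ x ∈ Cfsg.affineGroup (GaloisField p 2), ∃ a b : ZMod p, a ≠ 0 ∧
      ∀ y : GaloisField p 2, (x * g * x⁻¹) y = algebraMap (ZMod p) (GaloisField p 2) a * y + algebraMap (ZMod p) (GaloisField p 2) b := by
  obtain ⟨a, b, hab⟩ := hg
  have hp : p.Prime := Fact.out
  by_cases ha : a = 1
  · subst ha
    have hb : b ≠ 0 := by
      rintro rfl
      have : g = 1 := Equiv.ext fun y => by simpa using hab y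
      rw [this, orderOf_one] at hord
      exact Nat.not_prime_one hord
    refine ⟨Equiv.mulLeft₀ b⁻¹ (inv_ne_zero hb), ⟨(Units.mk0 b hb)⁻¹, 0, fun y => by simp⟩, 1, 1, one_ne_zero,
      fun y => ?_⟩
    simp only [Equiv.Perm.coe_mul, Function.comp_apply, hab, Equiv.Perm.inv_def]
    simp [mul_add, hb]
  · have ha' : (1 : GaloisField p 2) - a ≠ 0 := fun h => ha (Units.ext (sub_eq_zero.1 h).symm)
    set x : Equiv.Perm (GaloisField p 2) := Equiv.addRight (-(b / (1 - a))) with hx
    have hconj : ∀ y, (x * g * x⁻¹) y = a * y := fun y => by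
      simp only [hx, Equiv.Perm.coe_mul, Function.comp_apply, hab, Equiv.Perm.inv_def]
      simp
      field_simp
      ring
    have hpow : ∀ (k : ℕ) y, ((x * g * x⁻¹) ^ k) y = (a : GaloisField p 2) ^ k * y := fun k => by
      induction k with
      | zero => simp
      | succ k ih => intro y; rw [pow_succ', Equiv.Perm.mul_apply, hconj, ih, pow_succ', mul_assoc]
    have h1 : a ^ orderOf g = 1 := by
      have := hpow (orderOf g) 1
      rw [conj_pow, pow_orderOf_eq_one] at this
      exact Units.ext (by simpa using this.symm)
    have : Fact (orderOf g).Prime := ⟨hord⟩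
    have h2 : orderOf a = orderOf g := orderOf_eq_prime h1 ha
    have h3 : orderOf a ∣ (p + 1) * (p - 1) := by
      have := orderOf_dvd_natCard a
      rwa [Nat.card_units, GaloisField.card p 2 two_ne_zero, ← one_pow 2, Nat.sq_sub_sq] at this
    have hs1 : p + 1 = 2 ^ s := by
      have := Nat.one_le_two_pow (n := s)
      omega
    have h4 : orderOf a ∣ p - 1 := by
      rw [h2] at h3 ⊢
      rcases (Nat.Prime.dvd_mul hord).1 h3 with h | h
      · rw [hs1] at h
        have h5 := (Nat.prime_dvd_prime_iff_eq hord Nat.prime_two).1 (hord.dvd_of_dvd_pow h)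
        rw [h5]
        have hs0 : s ≠ 0 := by
          rintro rfl
          have := hp.two_le
          omega
        obtain ⟨t, ht⟩ := dvd_pow_self 2 hs0
        omega
      · exact h
    have h5 : (a : GaloisField p 2) ^ p = a := by
      have := congrArg Units.val (orderOf_dvd_iff_pow_eq_one.1 h4)
      rw [Units.val_pow_eq_pow_val, Units.val_one] at this
      calc (a : GaloisField p 2) ^ p = a ^ (p - 1 + 1) := by rw [Nat.sub_add_cancel hp.one_le]
        _ = a := by rw [pow_succ, this, one_mul]
    obtain ⟨n, hn⟩ := (mem_bot_iff_intCast p _).1 ((Subfield.mem_bot_iff_pow_eq_self _ p).2 h5)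
    refine ⟨x, ⟨1, -(b / (1 - a)), fun y => by simp [hx]⟩, n, 0, ?_, fun y => ?_⟩
    · intro h0
      apply a.ne_zero
      rw [← hn, ← map_intCast (algebraMap (ZMod p) (GaloisField p 2)), h0, map_zero]
    · rw [hconj, map_intCast, hn, map_zero, add_zero]

end Cfsg.Agent.S5728
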