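import Cfsg.Statements.S5732
import Cfsg.Agent.Perm.DAff5
import Cfsg.Agent.S3549
import Cfsg.Agent.S3550

set_option autoImplicit false
open Cfsg

namespace Cfsg.Agent.S5732

/-- There is a bound N such that for every finite group G acting faithfully and transitively on a set with n ≥ N points, either G is primitive and a Frobenius permutation group (Frobenius as a permutation group: transitive, some non-identity element fixes a point, and no non-identity element fixes two points), or the subgroup generated by the derangements of G has index at most √n − 1 in G. -/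
theorem result : ∃ N : ℕ, ∀ (G Ω : Type*) [Group G] [Finite G] [MulAction G Ω] [FaithfulSMul G Ω] [Fintype Ω],
      MulAction.IsPretransitive G Ω → N ≤ Fintype.card Ω →
      (MulAction.IsPreprimitive G Ω ∧ (MulAction.IsPretransitive G Ω ∧ (∃ g : G, g ≠ 1 ∧ ∃ ω : Ω, g • ω = ω) ∧ ∀ g : G, g ≠ 1 → Nat.card (MulAction.fixedBy Ω g) ≤ 1)) ∨
      ((Subgroup.closure {g : G | ∀ ω : Ω, g • ω ≠ ω}).index : ℝ) ≤ Real.sqrt (Fintype.card Ω) - 1 := by
  obtain ⟨N, hN4, hN⟩ := CL.DAff.exists_bound
  refine ⟨N, fun G Ω _ _ _ _ _ htr hn => ?_⟩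
  rw [← Nat.card_eq_fintype_card] at hn ⊢
  by_cases hprim : MulAction.IsPreprimitive G Ω
  swap
  · exact Or.inr (Cfsg.Agent.S3549.result htr hprim)
  by_cases hna : ∀ N : Subgroup G, N.Normal → IsMulCommutative ↥N → N = ⊥
  · exact Or.inr (Cfsg.Agent.S3550.result hprim (by omega) hna)
  push Not at hna
  obtain ⟨A, hA, hAc, hA0⟩ := hna
  have key : ((CL.Perm.derSub G Ω).index + 1) ^ 2 ≤ Nat.card Ω →
      ((Subgroup.closure {g : G | ∀ ω : Ω, g • ω ≠ ω}).index : ℝ) ≤ Real.sqrt (Nat.card Ω) - 1 := fun h => by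
    rw [le_sub_iff_add_le]
    exact Real.le_sqrt_of_sq_le (by exact_mod_cast h)
  by_cases h1 : ∃ g : G, g ≠ 1 ∧ ∃ ω : Ω, g • ω = ω
  swap
  · push Not at h1
    refine Or.inr (key ?_)
    have h2 : CL.Perm.derSub G Ω = ⊤ := eq_top_iff.2 fun g _ => by
      by_cases hg : g = 1
      · rw [hg]; exact one_mem _
      · exact CL.Perm.mem_derSub (h1 g hg)
    rw [h2, Subgroup.index_top]
    omega
  by_cases h2 : ∀ g : G, g ≠ 1 → Nat.card (MulAction.fixedBy Ω g) ≤ 1
  · exact Or.inl ⟨hprim, htr, h1, h2⟩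
  push Not at h2
  obtain ⟨g, hg, h3⟩ := h2
  obtain ⟨a, b, hab⟩ := (Finite.one_lt_card_iff_nontrivial.1 h3).exists_pair_ne
  exact Or.inr (key (CL.DAff.affine hprim A hA hA0 hAc (hN _ hn) hg (fun e => hab (Subtype.ext e)) a.2 b.2))

end Cfsg.Agent.S5732
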