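import Cfsg.Statements.S5743
import Cfsg.Agent.Chev.StReg
import Cfsg.Agent.Chev.Fold
import Cfsg.Agent.Chev.TwOutReal
import Cfsg.Agent.Chev.StFix

set_option autoImplicit false
open Cfsg

namespace Cfsg.Agent.S5743

open CL.Chev CL.Chev.StSys CL.Chev.Cert CL.Cox Cfsg.Lie

theorem aux {Φ Φ₀ : Type} [Finite Φ] [Finite Φ₀] {R : RS (Fin 6) Φ} {R₀ : RS (Fin 4) Φ₀} {F G G₀ : Type*} [Field F] [Group G]
    [Group G₀] {S : StSys R F G} {S₀ : StSys R₀ (ZMod 2) G₀} {K : Subgroup G} (h : S.IsTwE6 K 2) (hF : S.res.Full)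
    (h₀ : S₀.Full) {f : G₀ →* S.grp} (hf : Function.Injective f) (ψ : ZMod 2 →+* F)
    (h1 : ∀ i t, f (S₀.x (R₀.simple i) t) =
      (((![[0, 5], [2, 4], [3], [1]] : Fin 4 → List (Fin 6)) i).map fun j => S.res.x (R.simple j) (ψ t)).prod)
    (h2 : ∀ i t, f (S₀.x (R₀.neg (R₀.simple i)) t) =
      (((![[0, 5], [2, 4], [3], [1]] : Fin 4 → List (Fin 6)) i).map fun j => S.res.x (R.neg (R.simple j)) (ψ t)).prod) :
    ∃ H : Fin 3 → Subgroup K, (∀ i, Nonempty ((H i) ≃* G₀)) ∧
      ∀ i j, i ≠ j → ∀ g : K, (H i).map (MulAut.conj g).toMonoidHom ≠ H j := by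
  obtain ⟨A, θ, a, hθ, hK⟩ := h.ex
  have D := hK ▸ a.twData
  have := h.finite
  have c3 : Nat.card Fˣ = 3 := by rw [Nat.card_units, h.card]; rfl
  obtain ⟨ω, hω⟩ := IsCyclic.exists_ofOrder_eq_natCard (α := Fˣ)
  rw [c3] at hω
  have hψ : ∀ t, θ (ψ t) = ψ t := fun t => by rw [hθ, ← map_pow, ZMod.pow_card]
  have m0 : ∀ x, f x ∈ K.subgroupOf S.grp := fun x => by
    have : S₀.grp ≤ (K.subgroupOf S.grp).comap f := by
      rw [S₀.grp_eq_XS_simple, XS_le_iff, hK]
      rintro _ ⟨i, rfl | rfl⟩ t <;> refine Subgroup.subset_closure ?_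
      · rw [h1]
        fin_cases i
        · exact Or.inr ⟨ψ t, (0, 5), by simp, Or.inl (by simp [hψ])⟩
        · exact Or.inr ⟨ψ t, (2, 4), by simp, Or.inl (by simp [hψ])⟩
        · exact Or.inl ⟨ψ t, hψ t, 3, by simp, Or.inl (by simp)⟩
        · exact Or.inl ⟨ψ t, hψ t, 1, by simp, Or.inl (by simp)⟩
      · rw [h2]
        fin_cases i
        · exact Or.inr ⟨ψ t, (0, 5), by simp, Or.inr (by simp [hψ])⟩
        · exact Or.inr ⟨ψ t, (2, 4), by simp, Or.inr (by simp [hψ])⟩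
        · exact Or.inl ⟨ψ t, hψ t, 3, by simp, Or.inr (by simp)⟩
        · exact Or.inl ⟨ψ t, hψ t, 1, by simp, Or.inr (by simp)⟩
    exact this (h₀.top ▸ trivial)
  let c : Fin 3 → Fin 6 → Fˣ := fun i => ![ω ^ (i : ℕ), 1, 1, 1, 1, (ω ^ (i : ℕ)) ^ 2]
  have m1 : ∀ i x, hF.diagHom (c i) (f x) ∈ K.subgroupOf S.grp := fun i x =>
    D.map_mem hF.faithful (hF.σ_dfAut A (fun j => ⟨2, fun t => by rw [a.φ_eq, hθ]⟩)
      ((a.τ_eq_iff _).2 (by simp [c, hθ])) (RingEquiv.refl F)) (fun r t => ⟨_, hF.diagHom_x _ r t⟩) (m0 x)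
  let k : Fin 3 → G₀ →* S.grp := fun i => (hF.diagHom (c i)).toMonoidHom.comp f
  let k' : Fin 3 → G₀ →* K := fun i => (S.grp.subtype.comp (k i)).codRestrict K (m1 i)
  have hk : ∀ i, (Subgroup.inclusion h.le).comp (k' i) = k i := fun i => rfl
  refine ⟨fun i => (k' i).range, fun i => ⟨(MonoidHom.ofInjective fun x y e => hf ((hF.diagHom (c i)).injective
    (congrArg (Subgroup.inclusion h.le) e))).symm⟩, fun i j hij g e => hij ?_⟩
  obtain ⟨d, b, hd⟩ := hF.exists_torus_of_conj h₀ hf ψ (by decide) (by decide) h1 h2 (c := c i) (c' := c j)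
    (g := Subgroup.inclusion h.le g) (by
      change (k i).range.map _ = (k j).range
      rw [← hk, ← hk, ← MonoidHom.map_range, ← MonoidHom.map_range, ← show _ = (k' j).range from e, Subgroup.map_map, Subgroup.map_map]
      exact congrArg (Subgroup.map · _) (MonoidHom.ext fun _ => rfl))
  have q1 : matPow Fˣ cE6 d * c i = c j := funext fun l => Units.ext (by
    obtain ⟨m, hm⟩ : ∃ m, l ∈ (![[0, 5], [2, 4], [3], [1]] : Fin 4 → List (Fin 6)) m := by revert l; decide
    have := hd m l hm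
    rw [Subsingleton.elim (b m) 1, RS.chi_simple] at this
    rw [← a.cartan]
    simpa [RS.cartanM] using this)
  have q2 := congrArg (fun x => matPow Fˣ (!![4; 3; 5; 6; 4; 2] : Matrix (Fin 6) (Fin 1) ℤ) x 0) q1
  have q3 : cE6 * (!![4; 3; 5; 6; 4; 2] : Matrix (Fin 6) (Fin 1) ℤ) = !![3; 0; 0; 0; 0; 0] := by decide +kernel
  have q4 : ∀ x : Fˣ, x ^ (3 : ℤ) = 1 := fun x => by
    have := pow_card_eq_one' (x := x)
    rw [c3] at this
    exact_mod_cast this
  simp only [map_mul, ← matPow_mul, q3, Pi.mul_apply] at q2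
  simp only [matPow_apply, Fin.prod_univ_six, c] at q2
  simp [q4] at q2
  simp only [← pow_mul, ← pow_add, pow_eq_pow_iff_modEq, hω] at q2
  clear hd q1 e hij
  revert q2 i j
  decide

/-- The simple group ²E₆(2) (the twisted group of type E₆ over the field with 4 elements) contains at least three pairwise non-conjugate subgroups isomorphic to the Chevalley group F₄(2). -/
theorem result {K : Type*} [Field K] [Fintype K] (hK : Fintype.card K = 4) :
    ∃ H : Fin 3 → Subgroup (Cfsg.Lie.twistedE6 K 2),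
      (∀ i, Nonempty ((H i) ≃* Cfsg.Lie.chevF4.group (ZMod 2))) ∧
      (∀ i j, i ≠ j → ∀ g : (Cfsg.Lie.twistedE6 K 2), (H i).map (MulAut.conj g).toMonoidHom ≠ H j) := by
  have : CharP K 2 := charP_of_card_eq_prime_pow (f := 2) hK
  obtain ⟨f, f1, f2, f3⟩ := tabE6.exists_fold tabF4 realE6 realF4 foldCheckF4 (Aux.bsign_sign _) orbE6
    (by decide +kernel) (ZMod 2) fun _ _ _ => Subsingleton.elim _ _
  obtain ⟨g, g1, g2⟩ := realE6.exists_embed (ZMod.castHom (dvd_refl 2) K)
  let k : chevF4.group (ZMod 2) →* (realE6.S K).grp := (Subgroup.inclusion (realE6.group_eq K).le).comp (g.comp f)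
  have k1 : Function.Injective k := (Subgroup.inclusion_injective (realE6.group_eq K).le).comp (g1.comp f1)
  have k2 : ∀ i t, k ((realF4.Sg _).x (realF4.R.simple i) t) =
      ((orbE6 i).map fun j => (realE6.S K).res.x (realE6.R.simple j) (ZMod.castHom (dvd_refl 2) K t)).prod := fun i t => by
    rw [MonoidHom.comp_apply, MonoidHom.comp_apply, f2, map_list_prod, map_list_prod, List.map_map, List.map_map]
    exact congrArg List.prod (List.map_congr_left fun j _ => congrArg _ (g2 _ _))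
  have k3 : ∀ i t, k ((realF4.Sg _).x (realF4.R.neg (realF4.R.simple i)) t) = ((orbE6 i).map fun j =>
      (realE6.S K).res.x (realE6.R.neg (realE6.R.simple j)) (ZMod.castHom (dvd_refl 2) K t)).prod := fun i t => by
    rw [MonoidHom.comp_apply, MonoidHom.comp_apply, f3, map_list_prod, map_list_prod, List.map_map, List.map_map]
    exact congrArg List.prod (List.map_congr_left fun j _ => congrArg _ (g2 _ _))
  exact aux (R := realE6.R) (R₀ := realF4.R) (S := realE6.S K) (S₀ := realF4.Sg _)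
    (isTwE6 realE6 Nat.prime_two.isPrimePow hK) (realE6.full_res K) (realF4.full (ZMod 2)) k1 _ k2 k3

end Cfsg.Agent.S5743
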