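import Cfsg.Statements.S5744
import Cfsg.Agent.Spor.E6Fi
import Cfsg.Agent.Spor.Ty22
import Cfsg.Agent.S2604

set_option autoImplicit false
open Cfsg

namespace Cfsg.Agent.S5744

/-- The simple group ²E₆(2) (the twisted group of type E₆ over the field with 4 elements) contains at least three pairwise non-conjugate subgroups isomorphic to the orthogonal group Ω₇(3) (the commutator subgroup of the isometry group of x₀² + x₁y₁ + x₂y₂ + x₃y₃ over the field with 3 elements). -/
theorem result {K : Type*} [Field K] [Fintype K] (hK : Fintype.card K = 4) :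
    ∃ H : Fin 3 → Subgroup (Cfsg.Lie.twistedE6 K 2),
      (∀ i, Nonempty ((H i) ≃* Cfsg.Omega (ZMod 3) (Cfsg.quadFormOdd 3 (ZMod 3)))) ∧
      (∀ i j, i ≠ j → ∀ g : (Cfsg.Lie.twistedE6 K 2), (H i).map (MulAut.conj g).toMonoidHom ≠ H j) := by
  obtain ⟨f, hf, h⟩ := CL.E6Fi.exists_fi22 hK
  obtain ⟨e⟩ := CL.Ty.o73
  obtain ⟨o⟩ := S2604.result (F := ZMod 3) (p := 3) (f := 1) (m := 3) le_rfl (ZMod.card 3) (by decide) le_rfl
  have h2 : (2 : ZMod 3) ≠ 0 := by decide
  have c1 : Nat.card (Cfsg.Omega (ZMod 3) (Cfsg.quadFormOdd 3 (ZMod 3))) = 4585351680 :=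
    CL.PG.card_om_odd (CL.Cls.qfOdd 3 _) (CL.Cls.nondeg_qfOdd h2) h2 (by simp) (o := 18341406720)
      (CL.PG.card_o_odd (ZMod.card 3) h2 3 (by decide +kernel)) (by norm_num)
  have c2 : Nat.card (Cfsg.POmega (ZMod 3) (Cfsg.quadFormOdd 3 (ZMod 3))) = 4585351680 :=
    CL.PG.card_po_odd (ZMod.card 3) h2 3 (by norm_num) (by decide +kernel)
  have : Finite (Cfsg.Omega (ZMod 3) (Cfsg.quadFormOdd 3 (ZMod 3))) := Nat.finite_of_card_ne_zero (by rw [c1]; norm_num)
  let q := MulEquiv.ofBijective (QuotientGroup.mk' (Subgroup.center (Cfsg.Omega (ZMod 3) (Cfsg.quadFormOdd 3 (ZMod 3)))))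
    ((Nat.bijective_iff_surjective_and_card _).2 ⟨QuotientGroup.mk'_surjective _, c1.trans c2.symm⟩)
  obtain ⟨L, h1, h3⟩ := CL.E6Fi.three hK ((Nat.card_congr o.toEquiv).trans (by simp))
    (f := f.comp ((Subgroup.subtype _).comp e.symm.toMonoidHom))
    (hf.comp (Subtype.val_injective.comp e.symm.injective)) fun X hX => h X fun y hy => by
      have := hX (e ⟨_, CL.TC.mem_subL (x := FreeGroup.of y) (List.mem_map_of_mem (by cases y <;> simp at hy ⊢))⟩)
      simpa [PresentedGroup.of] using this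
  exact ⟨L, fun i => (h1 i).map fun g => g.trans q.symm, h3⟩

end Cfsg.Agent.S5744
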