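import Cfsg.Statements.S5769
import Cfsg.Agent.Chev.AlgSyl
import Cfsg.Agent.Known.StbEmb
import Cfsg.Agent.Known.SpecSp
import Cfsg.Agent.S1064

set_option autoImplicit false
open Cfsg

namespace Cfsg.Agent.S5769

open CL.Chev CL.Chev.Cert CL.Spec

theorem enumE7 : auxE7.enumOK [1, 4, 6] [3, 2, 1, 3, 4, 5, 6, 0, 2, 3, 4, 5, 1, 3, 4, 2, 3, 0, 2, 1, 3, 4, 5, 6, 3, 4, 5,
    1, 3, 4, 2, 3, 0, 2, 1, 3, 4, 5, 3, 0, 2, 1, 3, 4, 3, 2, 1, 3] 8
    0x3b332f1c5e3e5c3b2a4e185e3e5c42322f1c5e3e5c3b332f1b5e3f5c42294e185e3e5c3b2a4e175e3f5c42322f1b5e3f5c42294e175e3f5c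
    0x10001110
    0x4000005000000006000002000003000000007000001000007000000003000007000001000000002000000000006000000005000006000000000000004000005000004000000000000003000002000000001000
    (auxE7.annF [[0, -1, 0, 1, 0, -1, 0, 1, 0, -1], [0, -1, 0, 1, 0, -1, 0, 1, 0, -1]]) = true := by
  decide +kernel

set_option synthInstance.maxSize 1000 in
theorem psiE7 : ∀ s < auxE7.n, (((13 : ℕ) : ℤ) ∣ sumTo auxE7.l fun i => [8, 3, 10, 6, 0, 7, 10].getD i 0 * auxE7.ca i s) →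
    ∀ i < auxE7.l, i ∉ [1, 4, 6] → auxE7.rt s i = 0 := by
  decide +kernel

theorem orderOf_ne (g : Cfsg.Lie.chevE7.group (ZMod 2)) : orderOf g ≠ 65 := fun e => by
  have hF : Fintype.card (ZMod 2) = 2 := rfl
  have h1 := S1064.result hF
  have := tabE7.orderOf_dvd_of_sylow realE7 (F := ZMod 2) ((injective_iff_map_eq_one _).2 fun z hz =>
    eq_one_of_pow_char (p := 2) (a := 1) (pow_eq_one_of_matPow (P := !![4, 4, 6, 8, 6, 4, 2; 4, 7, 8, 12, 9, 6, 3;
      6, 8, 12, 16, 12, 8, 4; 8, 12, 16, 24, 18, 12, 6; 6, 9, 12, 18, 15, 10, 5; 4, 6, 8, 12, 10, 8, 4;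
      2, 3, 4, 6, 5, 4, 3]) (by decide +kernel) (((realE7.full _).hMul.torus_eq_one_iff
        (realE7.full _).faithful.uFaithful (realE7.full _).adjoint realE7.cartanM_eq z).1 hz))) enumE7 (r := 13)
    (by norm_num) (by decide) (by rw [show Nat.gcd 2 (2 - 1) = 1 from rfl, one_mul] at h1; rw [h1]; decide +kernel)
    (y := [8, 3, 10, 6, 0, 7, 10]) (by decide +kernel) (by rw [hF]; decide +kernel) psiE7 (g := g)
    (by rw [e]; decide) (by rw [e]; decide)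
  rw [e, hF] at this
  revert this
  decide +kernel

theorem key {K G : Type*} [Group K] [Group G] {n : ℕ} (H : Subgroup K) (h : n ∈ Set.range (orderOf : G → ℕ))
    (hK : ∀ g : K, orderOf g ≠ n := by exact orderOf_ne) : IsEmpty (H ≃* G) :=
  ⟨fun φ => h.elim fun g e => hK _ ((Subgroup.orderOf_coe _).trans ((φ.symm.orderOf_eq g).trans e))⟩

/-- The Chevalley group of type E₇ over the field with two elements (generated by its root elements in the adjoint representation) has no subgroup isomorphic to any of PSL₂(64), PSp₄(8), PSL₄(8), PSU₄(8) or PSp₆(8). Here F₈ and F₆₄ denote fields with 8 and 64 elements. -/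
theorem result {F₈ F₆₄ : Type*} [Field F₈] [Fintype F₈] (h8 : Fintype.card F₈ = 8) [Field F₆₄] [Fintype F₆₄] (h64 : Fintype.card F₆₄ = 64)
    (H : Subgroup ↥(Cfsg.Lie.chevE7.group (ZMod 2))) :
    IsEmpty (↥H ≃* Matrix.ProjectiveSpecialLinearGroup (Fin 2) F₆₄) ∧ IsEmpty (↥H ≃* Cfsg.PSp 2 F₈) ∧
    IsEmpty (↥H ≃* Matrix.ProjectiveSpecialLinearGroup (Fin 4) F₈) ∧ IsEmpty (↥H ≃* Cfsg.PSU 4 F₆₄ 8) ∧ IsEmpty (↥H ≃* Cfsg.PSp 3 F₈) := by
  have : CharP F₈ 2 := charP_of_card_eq_prime_pow (f := 3) h8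
  have : CharP F₆₄ 2 := charP_of_card_eq_prime_pow (f := 6) h64
  refine ⟨key _ ((lu_PSL 2 two_ne_zero).mul_pow_mem (N := 65) (d := 2) (k := 0) two_pos le_rfl ?_ ?_ (Or.inl rfl)),
    key _ ((spS_PSp 2 two_ne_zero).mem_of_sorb (N := 65) (t := 2) (k := 0) two_pos le_rfl ?_ (Or.inl rfl) ?_),
    key _ ((lu_PSL 2 four_ne_zero).mul_pow_mem (N := 65) (d := 4) (k := 0) four_pos le_rfl ?_ ?_ (Or.inl rfl)),
    key _ ((lu_PSU 2 (q := 8) h64 (by norm_num)).mul_pow_mem (N := 65) (d := 4) (k := 0) four_pos le_rfl ?_ ?_ (Or.inl rfl)),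
    key _ ((spS_PSp 2 three_ne_zero).mem_of_sorb (N := 65) (t := 2) (k := 0) two_pos (by norm_num) ?_ (Or.inl rfl) ?_)⟩
  all_goals first
    | (intro j; omega)
    | (simp only [h8, h64, Int.isCoprime_iff_gcd_eq_one]; decide)
    | decide

end Cfsg.Agent.S5769
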