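import Cfsg.Statements.S5825
import Cfsg.Agent.Cls.OrthMaxFour
import Cfsg.Agent.Cls.OrthSub2
import Cfsg.Agent.Cls.OrthExt5

set_option autoImplicit false
open Cfsg

namespace Cfsg.Agent.S5825

/-- Maximal subgroups of Ω_8^-(q) of geometric type (any q). Let F be a finite field with q elements, Q a non-degenerate quadratic form on F^8 (non-degenerate polar form) of minus type (Witt index 3: no totally singular 4-space), and Ω = Ω_8^-(q) the commutator subgroup of the isometry group of Q, inside GL_8(F). Each of the following, intersected with Ω, is a maximal subgroup of Ω: (1) the stabiliser of any non-zero subspace on which Q vanishes identically (totally singular 1-, 2- and 3-spaces); (2) for q odd, the stabiliser of any proper subspace of odd dimension (1, 3, 5 or 7) on which the polar form of Q is non-degenerate; (3) the stabiliser of any non-degenerate 2-space of minus type (containing no non-zero singular vector); (4) for q ≥ 4, the stabiliser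 of any non-degenerate 2-space of plus type (containing a non-zero singular vector); (5) the stabiliser of any non-degenerate 4-space (its orthogonal complement is then a non-degenerate 4-space of the opposite type); (6) for q even, the stabiliser of the 1-space spanned by any non-singular vector v (Q(v) ≠ 0); (7) for q odd, the normaliser of any degree-2 subfield K of the matrix algebra whose elements are self-adjoint for the polar form of Q (Q is then the trace of a quadratic form over K); (8) every subfield group for a subfield F₀ of odd prime index r in F whose F₀-structure carries a non-zero scalar multiple of Q. -/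
theorem result {F : Type*} [Field F] [Fintype F] (Q : (Fin 8 → F) → F) (hQ : Cfsg.Geo.IsNondegenerateQuadraticForm Q) (hminus : ¬ Cfsg.Geo.IsPlusTypeOn Q ⊤) :
    (∀ W : Submodule F (Fin 8 → F), W ≠ ⊥ → Cfsg.Geo.IsTotallySingularQuad Q W → Cfsg.Geo.IsMaximalIn (Cfsg.Geo.omegaGL Q) (Cfsg.Geo.subspaceStabilizer W ⊓ Cfsg.Geo.omegaGL Q)) ∧
    (Odd (Fintype.card F) → ∀ W : Submodule F (Fin 8 → F), W ≠ ⊥ → W ≠ ⊤ → Odd (Module.finrank F W) → Cfsg.Geo.IsNondegenerateOn (QuadraticMap.polar Q) W → Cfsg.Geo.IsMaximalIn (Cfsg.Geo.omegaGL Q) (Cfsg.Geo.subspaceStabilizer W ⊓ Cfsg.Geo.omegaGL Q)) ∧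
    (∀ W : Submodule F (Fin 8 → F), Module.finrank F W = 2 → Cfsg.Geo.IsNondegenerateOn (QuadraticMap.polar Q) W → ¬ Cfsg.Geo.IsPlusTypeOn Q W → Cfsg.Geo.IsMaximalIn (Cfsg.Geo.omegaGL Q) (Cfsg.Geo.subspaceStabilizer W ⊓ Cfsg.Geo.omegaGL Q)) ∧
    (4 ≤ Fintype.card F → ∀ W : Submodule F (Fin 8 → F), Module.finrank F W = 2 → Cfsg.Geo.IsNondegenerateOn (QuadraticMap.polar Q) W → Cfsg.Geo.IsPlusTypeOn Q W → Cfsg.Geo.IsMaximalIn (Cfsg.Geo.omegaGL Q) (Cfsg.Geo.subspaceStabilizer W ⊓ Cfsg.Geo.omegaGL Q)) ∧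
    (∀ W : Submodule F (Fin 8 → F), Module.finrank F W = 4 → Cfsg.Geo.IsNondegenerateOn (QuadraticMap.polar Q) W → Cfsg.Geo.IsMaximalIn (Cfsg.Geo.omegaGL Q) (Cfsg.Geo.subspaceStabilizer W ⊓ Cfsg.Geo.omegaGL Q)) ∧
    (¬ Odd (Fintype.card F) → ∀ v : (Fin 8 → F), Q v ≠ 0 → Cfsg.Geo.IsMaximalIn (Cfsg.Geo.omegaGL Q) (Cfsg.Geo.subspaceStabilizer (Submodule.span F {v}) ⊓ Cfsg.Geo.omegaGL Q)) ∧
    (Odd (Fintype.card F) → ∀ K : Subalgebra F (Matrix (Fin 8) (Fin 8) F), Cfsg.Geo.IsFieldSubalgebra 2 K → Cfsg.Geo.IsSelfAdjointFor (QuadraticMap.polar Q) K → Cfsg.Geo.IsMaximalIn (Cfsg.Geo.omegaGL Q) (Cfsg.Geo.subalgebraNormalizer K ⊓ Cfsg.Geo.omegaGL Q)) ∧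
    (∀ (F₀ : Subfield F) (r : ℕ) (P : Matrix.GeneralLinearGroup (Fin 8) F) (ζ : F), r.Prime → Odd r → Fintype.card F = Nat.card F₀ ^ r → ζ ≠ 0 → Cfsg.Geo.IsQuadFormRationalStructure (fun v : Fin 8 → F => ζ * Q v) F₀ P → Cfsg.Geo.IsMaximalIn (Cfsg.Geo.omegaGL Q) (Cfsg.Geo.subfieldSubgroup F₀ P ⊓ Cfsg.Geo.omegaGL Q)) := by
  obtain ⟨Q, rfl, hQ'⟩ := CL.Cls.exists_qf_of_isNondeg hQ
  have hc : Fintype.card (Fin 8) = 8 := by simp
  have top : ∀ W : Submodule F (Fin 8 → F), Module.finrank F W < 8 → W ≠ ⊤ := fun W h h' => by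
    rw [h', finrank_top, Module.finrank_fintype_fun_eq_card] at h; omega
  have bot : ∀ W : Submodule F (Fin 8 → F), 0 < Module.finrank F W → W ≠ ⊥ := fun W h h' => by
    rw [h', finrank_bot] at h; omega
  refine ⟨fun W hW0 hW => CL.Cls.isMaximalIn_omega_stab_singular hQ' (by omega) hW0 hW (fun _ => hminus),
    fun _ W hW0 hW1 ⟨k, hk⟩ hW => CL.Cls.isMaximalIn_omega_stab_nondeg' hQ' (by omega) (fun _ _ => hminus) hW0 hW1 hW
      (fun h => by omega) ?_,
    fun W h2 hW hm => CL.Cls.isMaximalIn_omega_stab_nondeg' hQ' (by omega) (fun _ _ => hminus) (bot W (by omega))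
      (top W (by omega)) hW (fun h => by omega) ?_,
    fun h4 W h2 hW _ => CL.Cls.isMaximalIn_omega_stab_nondeg' hQ' (by omega) (fun _ _ => hminus) (bot W (by omega))
      (top W (by omega)) hW (fun h => by omega) (fun h => by omega),
    fun W h4 hW => CL.Cls.isMaximalIn_omega_stab_nondeg' hQ' (by omega) (fun _ _ => hminus) (bot W (by omega))
      (top W (by omega)) hW (fun _ => CL.Cls.not_areIsometricFor_operp_of_minus hQ' hminus hW (by rw [h4]; decide)) ?_,
    fun h v hv => CL.Cls.isMaximalIn_omega_stab_nonsingular hQ' (by omega) h hv,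
    fun hodd K hK hsa => CL.Cls.isMaximalIn_omega_ext hQ hodd Nat.prime_two (by omega) (fun _ => Or.inr ⟨hc, hminus⟩) hK hsa,
    fun F₀ r P ζ hr _ hcard hζ hP => CL.Cls.isMaximalIn_omega_subfield hQ (by omega) F₀ hr hcard P hζ hP⟩
  · rintro ⟨-, U, h2, -, -, rfl | ⟨-, h⟩⟩ <;> omega
  · rintro ⟨-, U, h2, -, hp, rfl | ⟨-, h⟩⟩
    · exact hm hp
    · omega
  · rintro ⟨-, U, h2, -, -, rfl | ⟨-, h⟩⟩ <;> omega

end Cfsg.Agent.S5825
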