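import Cfsg.Statements.S5849
import Cfsg.Agent.Cls.OrthFrameMax
import Cfsg.Agent.Cls.OrthDecMax
import Cfsg.Agent.Cls.OrthMaxFour
import Cfsg.Agent.Cls.OrthSub2
import Cfsg.Agent.Cls.OrthExt5
import Cfsg.Agent.Cls.OrthUni
import Cfsg.Agent.Cls.PrimeOrderDec

set_option autoImplicit false
open Cfsg

namespace Cfsg.Agent.S5849

theorem plus_top {F : Type*} [Field F] {Q : QuadraticForm F (Fin 10 → F)} {D : Fin 5 → Submodule F (Fin 10 → F)}
    (hD : Cfsg.Geo.IsOrthogonalMDecomposition Q 2 D) (h : ∀ i, Cfsg.Geo.IsPlusTypeOn Q (D i)) :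
    Cfsg.Geo.IsPlusTypeOn Q ⊤ := by
  choose U hU hts hd using h
  have h0 : ∀ i j, ∀ x ∈ U i, ∀ y ∈ U j, QuadraticMap.polar Q x y = 0 := fun i j x hx y hy => by
    by_cases e : i = j
    · subst e
      rw [QuadraticMap.polar, hts i _ hx, hts i _ hy, hts i _ ((U i).add_mem hx hy)]; simp
    · exact hD.decomp.orthogonal i j e x (hU i hx) y (hU j hy)
  have h1 : ∀ j, ∀ y ∈ U j, ∀ x ∈ iSup U, QuadraticMap.polar Q x y = 0 := fun j y hy x hx => by
    induction hx using Submodule.iSup_induction' with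
    | mem i x hx => exact h0 i j x hx y hy
    | zero => simp
    | add x z _ _ h h' => rw [QuadraticMap.polar_add_left, h, h', add_zero]
  have h2 : ∀ x ∈ iSup U, ∀ y ∈ iSup U, QuadraticMap.polar Q x y = 0 := fun x hx y hy => by
    induction hy using Submodule.iSup_induction' with
    | mem i y hy => exact h1 i y hy x hx
    | zero => simp
    | add y z _ _ h h' => rw [QuadraticMap.polar_add_right, h, h', add_zero]
  refine ⟨iSup U, le_top, fun x hx => ?_, ?_⟩
  · induction hx using Submodule.iSup_induction' with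
    | mem i x hx => exact hts i x hx
    | zero => simp
    | add x z hx hz h h' =>
      have := h2 x hx z hz
      rw [QuadraticMap.polar, h, h'] at this
      simpa using this
  · have h3 := CL.Elu.finrank_biSup_of_indep (hD.decomp.decomp.indep.mono hU) Finset.univ
    have h4 : (⨆ j ∈ (Finset.univ : Finset (Fin 5)), U j) = iSup U := by simp
    have h5 : ∀ i, Module.finrank F (U i) = 1 := fun i => by
      have := hd i
      rw [hD.decomp.decomp.finrank_eq] at this
      omega
    rw [h4] at h3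
    rw [h3, finrank_top, Module.finrank_fintype_fun_eq_card]
    simp [h5]

/-- Maximal subgroups of Ω_10^-(q) of geometric type (any q). Let F be a finite field with q elements (characteristic p), Q a non-degenerate quadratic form on F^10 (non-degenerate polar form) of minus type (Witt index 4: no totally singular 5-space), and Ω = Ω_10^-(q) the commutator subgroup of the isometry group of Q, inside GL_10(F). Each of the following, intersected with Ω, is a maximal subgroup of Ω: (1) the stabiliser of any non-zero subspace on which Q vanishes identically (totally singular subspaces, dimensions 1 to 4); (2) for q odd, the stabiliser of any proper subspace of odd dimension other than 5 on which the polar form of Q is non-degenerate; (3) the stabiliser of any non-degenerate 2-space of minus type (containing no non-zero singular vector); (4) for q ≥ 4, the stabiliser of any non-degenerate 2-space of plus type (containing a non-zero singular vector); (5) the stabiliser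 of any non-degenerate 4-space (either type); (6) for q even, the stabiliser of the 1-space spanned by any non-singular vector v (Q(v) ≠ 0); (7) for q = p prime with p ≡ 3 mod 4, the stabiliser of any decomposition of F^10 into 10 pairwise orthogonal, pairwise Q-isometric non-degenerate 1-spaces; (8) for q ≠ 3, the stabiliser of any decomposition of F^10 into 5 pairwise orthogonal, pairwise Q-isometric non-degenerate 2-spaces; (9) for q ≡ 3 mod 4, the stabiliser of any decomposition of F^10 into 2 pairwise orthogonal, pairwise Q-isometric non-degenerate 5-spaces; (10) for q ≡ 1 mod 4, the stabiliser of any decomposition of F^10 into two orthogonal non-degenerate 5-spaces that are not Q-isometric; (11) for q odd, the normaliser of any degree-2 subfield K of the matrix algebra whose elements are self-adjoint for the polar form of Q (Q is then the trace of a quadratic form over K); (12) the normaliser of any degree-2 subfield K of the matrix algebra, closed under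 adjoints for the polar form but not self-adjoint, whose elements act as similarities of Q (so F^10 becomes a 5-dimensional space over K with a hermitian form, and the subgroup is of the type of the unitary group GU_5(q)); (13) every subfield group for a subfield F₀ with |F| = |F₀|^r, r an odd prime, whose F₀-structure carries a non-zero scalar multiple of Q. -/
theorem result {F : Type*} [Field F] [Fintype F] (Q : (Fin 10 → F) → F) (hQ : Cfsg.Geo.IsNondegenerateQuadraticForm Q) (hminus : ¬ Cfsg.Geo.IsPlusTypeOn Q ⊤) :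
    (∀ W : Submodule F (Fin 10 → F), W ≠ ⊥ → Cfsg.Geo.IsTotallySingularQuad Q W → Cfsg.Geo.IsMaximalIn (Cfsg.Geo.omegaGL Q) (Cfsg.Geo.subspaceStabilizer W ⊓ Cfsg.Geo.omegaGL Q)) ∧
    (Odd (Fintype.card F) → ∀ W : Submodule F (Fin 10 → F), W ≠ ⊥ → W ≠ ⊤ → Odd (Module.finrank F W) → 2 * Module.finrank F W ≠ 10 → Cfsg.Geo.IsNondegenerateOn (QuadraticMap.polar Q) W → Cfsg.Geo.IsMaximalIn (Cfsg.Geo.omegaGL Q) (Cfsg.Geo.subspaceStabilizer W ⊓ Cfsg.Geo.omegaGL Q)) ∧
    (∀ W : Submodule F (Fin 10 → F), Module.finrank F W = 2 → Cfsg.Geo.IsNondegenerateOn (QuadraticMap.polar Q) W → ¬ Cfsg.Geo.IsPlusTypeOn Q W → Cfsg.Geo.IsMaximalIn (Cfsg.Geo.omegaGL Q) (Cfsg.Geo.subspaceStabilizer W ⊓ Cfsg.Geo.omegaGL Q)) ∧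
    (4 ≤ Fintype.card F → ∀ W : Submodule F (Fin 10 → F), Module.finrank F W = 2 → Cfsg.Geo.IsNondegenerateOn (QuadraticMap.polar Q) W → Cfsg.Geo.IsPlusTypeOn Q W → Cfsg.Geo.IsMaximalIn (Cfsg.Geo.omegaGL Q) (Cfsg.Geo.subspaceStabilizer W ⊓ Cfsg.Geo.omegaGL Q)) ∧
    (∀ W : Submodule F (Fin 10 → F), Module.finrank F W = 4 → Cfsg.Geo.IsNondegenerateOn (QuadraticMap.polar Q) W → Cfsg.Geo.IsMaximalIn (Cfsg.Geo.omegaGL Q) (Cfsg.Geo.subspaceStabilizer W ⊓ Cfsg.Geo.omegaGL Q)) ∧
    (¬ Odd (Fintype.card F) → ∀ v : (Fin 10 → F), Q v ≠ 0 → Cfsg.Geo.IsMaximalIn (Cfsg.Geo.omegaGL Q) (Cfsg.Geo.subspaceStabilizer (Submodule.span F {v}) ⊓ Cfsg.Geo.omegaGL Q)) ∧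
    ((∃ p : ℕ, p.Prime ∧ Fintype.card F = p ∧ (p % 4 = 3)) → ∀ D : Fin 10 → Submodule F (Fin 10 → F), Cfsg.Geo.IsOrthogonalMDecomposition Q 1 D → Cfsg.Geo.IsMaximalIn (Cfsg.Geo.omegaGL Q) (Cfsg.Geo.decompositionStabilizer D ⊓ Cfsg.Geo.omegaGL Q)) ∧
    (Fintype.card F ≠ 3 → ∀ D : Fin 5 → Submodule F (Fin 10 → F), Cfsg.Geo.IsOrthogonalMDecomposition Q 2 D → Cfsg.Geo.IsMaximalIn (Cfsg.Geo.omegaGL Q) (Cfsg.Geo.decompositionStabilizer D ⊓ Cfsg.Geo.omegaGL Q)) ∧
    (Fintype.card F % 4 = 3 → ∀ D : Fin 2 → Submodule F (Fin 10 → F), Cfsg.Geo.IsOrthogonalMDecomposition Q 5 D → Cfsg.Geo.IsMaximalIn (Cfsg.Geo.omegaGL Q) (Cfsg.Geo.decompositionStabilizer D ⊓ Cfsg.Geo.omegaGL Q)) ∧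
    (Fintype.card F % 4 = 1 → ∀ D : Fin 2 → Submodule F (Fin 10 → F), Cfsg.Geo.IsNondegenerateMDecomposition (QuadraticMap.polar Q) 5 D → ¬ Cfsg.Geo.AreIsometricFor Q (D 0) (D 1) → Cfsg.Geo.IsMaximalIn (Cfsg.Geo.omegaGL Q) (Cfsg.Geo.decompositionStabilizer D ⊓ Cfsg.Geo.omegaGL Q)) ∧
    (Odd (Fintype.card F) → ∀ K : Subalgebra F (Matrix (Fin 10) (Fin 10) F), Cfsg.Geo.IsFieldSubalgebra 2 K → Cfsg.Geo.IsSelfAdjointFor (QuadraticMap.polar Q) K → Cfsg.Geo.IsMaximalIn (Cfsg.Geo.omegaGL Q) (Cfsg.Geo.subalgebraNormalizer K ⊓ Cfsg.Geo.omegaGL Q)) ∧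
    (∀ K : Subalgebra F (Matrix (Fin 10) (Fin 10) F), Cfsg.Geo.IsFieldSubalgebra 2 K → Cfsg.Geo.IsAdjointClosedFor (QuadraticMap.polar Q) K → ¬ Cfsg.Geo.IsSelfAdjointFor (QuadraticMap.polar Q) K → (∀ k ∈ K, ∃ c : F, ∀ v : (Fin 10 → F), Q (Matrix.mulVec k v) = c * Q v) → Cfsg.Geo.IsMaximalIn (Cfsg.Geo.omegaGL Q) (Cfsg.Geo.subalgebraNormalizer K ⊓ Cfsg.Geo.omegaGL Q)) ∧
    (∀ (F₀ : Subfield F) (r : ℕ) (P : Matrix.GeneralLinearGroup (Fin 10) F) (ζ : F), r.Prime → Odd r → Fintype.card F = Nat.card F₀ ^ r → ζ ≠ 0 → Cfsg.Geo.IsQuadFormRationalStructure (fun v : Fin 10 → F => ζ * Q v) F₀ P → Cfsg.Geo.IsMaximalIn (Cfsg.Geo.omegaGL Q) (Cfsg.Geo.subfieldSubgroup F₀ P ⊓ Cfsg.Geo.omegaGL Q)) := by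
  obtain ⟨Q, rfl, hQ'⟩ := CL.Cls.exists_qf_of_isNondeg hQ
  have hc : Fintype.card (Fin 10) = 10 := by simp
  have top : ∀ W : Submodule F (Fin 10 → F), Module.finrank F W < 10 → W ≠ ⊤ := fun W h h' => by
    rw [h', finrank_top, Module.finrank_fintype_fun_eq_card] at h; omega
  have bot : ∀ W : Submodule F (Fin 10 → F), 0 < Module.finrank F W → W ≠ ⊥ := fun W h h' => by
    rw [h', finrank_bot] at h; omega
  refine ⟨fun W hW0 hW => CL.Cls.isMaximalIn_omega_stab_singular hQ' (by omega) hW0 hW (fun _ => hminus),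
    fun _ W hW0 hW1 ⟨k, hk⟩ h5 hW => CL.Cls.isMaximalIn_omega_stab_nondeg hQ' (by omega) hW0 hW1 hW
      (fun h => by omega) ?_,
    fun W h2 hW hm => CL.Cls.isMaximalIn_omega_stab_nondeg hQ' (by omega) (bot W (by omega))
      (top W (by omega)) hW (fun h => by omega) ?_,
    fun h4 W h2 hW _ => CL.Cls.isMaximalIn_omega_stab_nondeg hQ' (by omega) (bot W (by omega))
      (top W (by omega)) hW (fun h => by omega) (fun h => by omega),
    fun W h4 hW => CL.Cls.isMaximalIn_omega_stab_nondeg hQ' (by omega) (bot W (by omega))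
      (top W (by omega)) hW (fun h => by omega) ?_,
    fun h v hv => CL.Cls.isMaximalIn_omega_stab_nonsingular hQ' (by omega) h hv,
    fun ⟨p, hp, hq, h4⟩ D hD => CL.Cls.isMaximalIn_omega_frame hQ' (by omega) (by omega) (hq ▸ hp)
      (Nat.odd_iff.2 (by omega)) hD,
    fun h3 D hD => CL.Cls.isMaximalIn_omega_dec hQ' le_rfl (fun _ => le_rfl) (fun h => by omega) hD ?_,
    fun _ D hD => CL.Cls.isMaximalIn_omega_dec hQ' (by omega) (fun h => by omega) (fun h => by omega) hD (by omega),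
    fun _ D hD hni => CL.Cls.isMaximalIn_omega_dec_nonisometric hQ' (by omega) (by omega) hD hni,
    fun hodd K hK hsa => CL.Cls.isMaximalIn_omega_ext hQ hodd Nat.prime_two (by omega) (fun _ => Or.inl (by omega)) hK hsa,
    fun K hK _ _ hsc => CL.Cls.isMaximalIn_omega_unitary hQ (by omega) hK hsc,
    fun F₀ r P ζ hr _ hcard hζ hP => CL.Cls.isMaximalIn_omega_subfield hQ (by omega) F₀ hr hcard P hζ hP⟩
  · rintro ⟨-, U, h2, -, -, rfl | ⟨-, h⟩⟩ <;> omega
  · rintro ⟨-, U, h2, -, hp, rfl | ⟨-, h⟩⟩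
    · exact hm hp
    · omega
  · rintro ⟨-, U, h2, -, -, rfl | ⟨-, h⟩⟩ <;> omega
  · rintro (⟨-, h | h⟩ | ⟨h, -⟩ | ⟨h, -⟩)
    · exact h3 h
    · exact hminus (plus_top hD h.1)
    · omega
    · omega

end Cfsg.Agent.S5849
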