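import Cfsg.Statements.S5850
import Cfsg.Agent.Cls.MaxEven

set_option autoImplicit false
open Cfsg

namespace Cfsg.Agent.S5850

/-- Every maximal subgroup of Ω_10^-(q) is of one of the listed geometric types or lies in the residual class. Let F be a finite field with q elements (characteristic p), Q a non-degenerate quadratic form on F^10 of minus type (Witt index 4: no totally singular 5-space), Ω the commutator subgroup of its isometry group, and H a maximal subgroup of Ω (inside GL_10(F)). Then H is the intersection with Ω of one of: the stabiliser of a non-zero totally singular subspace; for q odd, the stabiliser of a non-degenerate subspace of odd dimension ≠ 5; the stabiliser of a non-degenerate 2-space of minus type; for q ≥ 4, the stabiliser of a non-degenerate 2-space of plus type; the stabiliser of a non-degenerate 4-space; for q even, the stabiliser of the span of a non-singular vector; for q = p prime with p ≡ 3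 mod 4, the stabiliser of a decomposition into 10 pairwise orthogonal, pairwise isometric non-degenerate 1-spaces; for q ≠ 3, the stabiliser of a decomposition into 5 pairwise orthogonal, pairwise isometric non-degenerate 2-spaces; for q ≡ 3 mod 4, the stabiliser of a decomposition into 2 pairwise orthogonal, pairwise isometric non-degenerate 5-spaces; for q ≡ 1 mod 4, the stabiliser of a decomposition into two orthogonal, non-isometric non-degenerate 5-spaces; for q odd, the normaliser of a degree-2 subfield of the matrix algebra, self-adjoint for the polar form; the normaliser of a degree-2 subfield K, adjoint-closed but not self-adjoint, acting by similarities of Q; a subfield group (|F| = |F₀|^r, r odd prime) whose F₀-structure carries a non-zero multiple of Q — or else H lies in the residual class of the orthogonal case (modulo scalars H is almost simple, with absolutely irreducible perfect socle preimage realisable over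 no proper subfield and fixing no non-degenerate unitary form). -/
theorem result {F : Type*} [Field F] [Fintype F] (Q : (Fin 10 → F) → F) (hQ : Cfsg.Geo.IsNondegenerateQuadraticForm Q) (hminus : ¬ Cfsg.Geo.IsPlusTypeOn Q ⊤) (H : Subgroup (Matrix.GeneralLinearGroup (Fin 10) F)) (hH : Cfsg.Geo.IsMaximalIn (Cfsg.Geo.omegaGL Q) H) :
    (∃ W : Submodule F (Fin 10 → F), W ≠ ⊥ ∧ Cfsg.Geo.IsTotallySingularQuad Q W ∧ H = Cfsg.Geo.subspaceStabilizer W ⊓ Cfsg.Geo.omegaGL Q) ∨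
    (Odd (Fintype.card F) ∧ ∃ W : Submodule F (Fin 10 → F), W ≠ ⊥ ∧ W ≠ ⊤ ∧ Odd (Module.finrank F W) ∧ 2 * Module.finrank F W ≠ 10 ∧ Cfsg.Geo.IsNondegenerateOn (QuadraticMap.polar Q) W ∧ H = Cfsg.Geo.subspaceStabilizer W ⊓ Cfsg.Geo.omegaGL Q) ∨
    (∃ W : Submodule F (Fin 10 → F), Module.finrank F W = 2 ∧ Cfsg.Geo.IsNondegenerateOn (QuadraticMap.polar Q) W ∧ ¬ Cfsg.Geo.IsPlusTypeOn Q W ∧ H = Cfsg.Geo.subspaceStabilizer W ⊓ Cfsg.Geo.omegaGL Q) ∨
    (4 ≤ Fintype.card F ∧ ∃ W : Submodule F (Fin 10 → F), Module.finrank F W = 2 ∧ Cfsg.Geo.IsNondegenerateOn (QuadraticMap.polar Q) W ∧ Cfsg.Geo.IsPlusTypeOn Q W ∧ H = Cfsg.Geo.subspaceStabilizer W ⊓ Cfsg.Geo.omegaGL Q) ∨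
    (∃ W : Submodule F (Fin 10 → F), Module.finrank F W = 4 ∧ Cfsg.Geo.IsNondegenerateOn (QuadraticMap.polar Q) W ∧ H = Cfsg.Geo.subspaceStabilizer W ⊓ Cfsg.Geo.omegaGL Q) ∨
    (¬ Odd (Fintype.card F) ∧ ∃ v : (Fin 10 → F), Q v ≠ 0 ∧ H = Cfsg.Geo.subspaceStabilizer (Submodule.span F {v}) ⊓ Cfsg.Geo.omegaGL Q) ∨
    ((∃ p : ℕ, p.Prime ∧ Fintype.card F = p ∧ (p % 4 = 3)) ∧ ∃ D : Fin 10 → Submodule F (Fin 10 → F), Cfsg.Geo.IsOrthogonalMDecomposition Q 1 D ∧ H = Cfsg.Geo.decompositionStabilizer D ⊓ Cfsg.Geo.omegaGL Q) ∨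
    (Fintype.card F ≠ 3 ∧ ∃ D : Fin 5 → Submodule F (Fin 10 → F), Cfsg.Geo.IsOrthogonalMDecomposition Q 2 D ∧ H = Cfsg.Geo.decompositionStabilizer D ⊓ Cfsg.Geo.omegaGL Q) ∨
    (Fintype.card F % 4 = 3 ∧ ∃ D : Fin 2 → Submodule F (Fin 10 → F), Cfsg.Geo.IsOrthogonalMDecomposition Q 5 D ∧ H = Cfsg.Geo.decompositionStabilizer D ⊓ Cfsg.Geo.omegaGL Q) ∨
    (Fintype.card F % 4 = 1 ∧ ∃ D : Fin 2 → Submodule F (Fin 10 → F), Cfsg.Geo.IsNondegenerateMDecomposition (QuadraticMap.polar Q) 5 D ∧ ¬ Cfsg.Geo.AreIsometricFor Q (D 0) (D 1) ∧ H = Cfsg.Geo.decompositionStabilizer D ⊓ Cfsg.Geo.omegaGL Q) ∨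
    (Odd (Fintype.card F) ∧ ∃ K : Subalgebra F (Matrix (Fin 10) (Fin 10) F), Cfsg.Geo.IsFieldSubalgebra 2 K ∧ Cfsg.Geo.IsSelfAdjointFor (QuadraticMap.polar Q) K ∧ H = Cfsg.Geo.subalgebraNormalizer K ⊓ Cfsg.Geo.omegaGL Q) ∨
    (∃ K : Subalgebra F (Matrix (Fin 10) (Fin 10) F), Cfsg.Geo.IsFieldSubalgebra 2 K ∧ Cfsg.Geo.IsAdjointClosedFor (QuadraticMap.polar Q) K ∧ ¬ Cfsg.Geo.IsSelfAdjointFor (QuadraticMap.polar Q) K ∧ (∀ k ∈ K, ∃ c : F, ∀ v : (Fin 10 → F), Q (Matrix.mulVec k v) = c * Q v) ∧ H = Cfsg.Geo.subalgebraNormalizer K ⊓ Cfsg.Geo.omegaGL Q) ∨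
    (∃ (F₀ : Subfield F) (r : ℕ) (P : Matrix.GeneralLinearGroup (Fin 10) F) (ζ : F), r.Prime ∧ Odd r ∧ Fintype.card F = Nat.card F₀ ^ r ∧ ζ ≠ 0 ∧ Cfsg.Geo.IsQuadFormRationalStructure (fun v : Fin 10 → F => ζ * Q v) F₀ P ∧ H = Cfsg.Geo.subfieldSubgroup F₀ P ⊓ Cfsg.Geo.omegaGL Q) ∨
    Cfsg.Geo.InOrthogonalResidualClass H := by
  rcases CL.Asch.even_cases (m := 5) hQ (by simp) (by omega) hH with ⟨W, h0, h1, h2, h3⟩ |
    ⟨W, h0, h1, h2, h3, h4, hW⟩ | h | ⟨t, k, D, ht, htk, h1, h2, h3, h4, h5, h6, h7, hD⟩ | ⟨h1, h2, h3, hD⟩ |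
    ⟨h1, h2, hD⟩ | ⟨r, K, hr, h1, h2, h3, hK⟩ | ⟨h1, K, hK⟩ | ⟨k, l, e, P, f₁, f₂, hk, hkl, h1, h2, h3, h4, hT⟩ |
    ⟨ho, k, l, e, P, f₁, f₂, hk, hkl, h1, h2, h3, h4, h5, hT⟩ | ⟨F₀, r, P, ζ, hr, h1, hP⟩ | ⟨k, t, hk, ht, h1, h2⟩ | h
  · exact Or.inl ⟨W, h0, h1, h3⟩
  · have h5 := CL.Asch.ne_bot_top_of_finrank h0 (by simp; omega)
    have h6 : Module.finrank F W ≠ 5 := fun h => absurd (h2 h).1 (by decide)
    rcases Nat.even_or_odd (Module.finrank F W) with ⟨s, hs⟩ | ho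
    · rcases (by omega : Module.finrank F W = 2 ∨ Module.finrank F W = 4) with h | h
      · by_cases hp : Cfsg.Geo.IsPlusTypeOn Q W
        · exact Or.inr (Or.inr (Or.inr (Or.inl ⟨h4 h hp, W, h, hW.1, hp, hW.2⟩)))
        · exact Or.inr (Or.inr (Or.inl ⟨W, h, hW.1, hp, hW.2⟩))
      · iterate 4 right
        exact Or.inl ⟨W, h, hW⟩
    · exact Or.inr (Or.inl ⟨h3 ho, W, h5.1, h5.2, ho, by omega, hW⟩)
  · iterate 5 right
    exact Or.inl h
  · have := CL.Asch.le_of_mul_eq ht htk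
    have : k ≤ 5 := by omega
    have h8 : Odd k → Fintype.card F % 4 = 3 := fun hk => by
      obtain ⟨⟨s, hs⟩, h⟩ := h2 hk
      have : Fintype.card F % 4 ≠ 1 := fun h' => hminus (h.mpr (Or.inr h'))
      omega
    interval_cases k <;> try omega
    · obtain rfl : t = 10 := by omega
      iterate 6 right
      exact Or.inl ⟨⟨_, h1 rfl, rfl, h8 (by decide)⟩, D, hD⟩
    · obtain rfl : t = 5 := by omega
      iterate 7 right
      exact Or.inl ⟨(h5 rfl).1, D, hD⟩
    · obtain rfl : t = 2 := by omega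
      iterate 8 right
      exact Or.inl ⟨h8 (by decide), D, hD⟩
  · iterate 9 right
    exact Or.inl ⟨by_contra fun h => hminus (h3.mpr h), hD⟩
  · exact absurd h1 (by decide)
  · rcases (Nat.Prime.dvd_mul hr).mp h1 with h | h
    · obtain rfl : r = 2 := (Nat.prime_dvd_prime_iff_eq hr Nat.prime_two).mp h
      iterate 10 right
      exact Or.inl ⟨(h2 rfl).resolve_right (by decide), K, hK⟩
    · obtain rfl : r = 5 := (Nat.prime_dvd_prime_iff_eq hr Nat.prime_five).mp h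
      exact absurd rfl (h3 (by decide))
  · iterate 11 right
    exact Or.inl ⟨K, hK⟩
  · have : k ≤ 3 := by nlinarith
    exact absurd (h4 (by obtain ⟨a, ha⟩ := h2; omega)).1 hminus
  · have : k ≤ 3 := by nlinarith
    obtain rfl : k = 3 := by omega
    omega
  · iterate 12 right
    exact Or.inl ⟨F₀, r, P, ζ, hr, h1 hminus, hP⟩
  · rcases CL.Asch.pow_le_twelve' hk ht (by omega) with ⟨rfl, rfl | rfl⟩ | ⟨rfl, rfl⟩ <;> omega
  · iterate 13 right
    exact h

end Cfsg.Agent.S5850
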