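import Cfsg.Statements.S5909
import Cfsg.Agent.S2928

set_option autoImplicit false
open Cfsg

namespace Cfsg.Agent.S5909

open Equiv Equiv.Perm CL.Known

variable {Ω : Type*} [Fintype Ω] [DecidableEq Ω]

/-- the stabilizer of a partition -/
def PP {β : Type*} (f : Ω → β) : Subgroup (Perm Ω) where
  carrier := {g | ∀ x y : Ω, f x = f y ↔ f (g x) = f (g y)}
  one_mem' := fun _ _ => Iff.rfl
  mul_mem' := fun ha hb x y => (hb x y).trans (ha _ _)
  inv_mem' := fun {a} ha x y => by simpa using (ha (a⁻¹ x) (a⁻¹ y)).symm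

theorem mem_PP_of_imp {β : Type*} {f : Ω → β} {g : Perm Ω} (h : ∀ x y, f x = f y → f (g x) = f (g y)) : g ∈ PP f := by
  have h1 : ∀ k : ℕ, ∀ x y, f x = f y → f ((g ^ k) x) = f ((g ^ k) y) := by
    intro k
    induction k with
    | zero => exact fun _ _ h => h
    | succ k ih => intro x y e; rw [pow_succ']; exact h _ _ (ih x y e)
  refine fun x y => ⟨h x y, fun e => ?_⟩
  have h2 := h1 (orderOf g - 1) _ _ e
  rwa [← Perm.mul_apply, ← Perm.mul_apply, ← pow_succ, Nat.sub_add_cancel (orderOf_pos g), pow_orderOf_eq_one] at h2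

theorem swap_mem_PP {β : Type*} {f : Ω → β} {u v : Ω} (h : f u = f v) : swap u v ∈ PP f := by
  have : ∀ x, f (swap u v x) = f x := by
    intro x
    rw [swap_apply_def]
    split_ifs with h1 h2
    · rw [h1, h]
    · rw [h2, h]
    · rfl
  intro x y
  rw [this, this]

theorem exists_lift {a b : ℕ} {f : Ω → Fin b} (hf : ∀ i : Fin b, Nat.card {x : Ω // f x = i} = a) (i j : Fin b) :
    ∃ g : Perm Ω, (∀ x, f (g x) = swap i j (f x)) ∧ ∀ x, f x ≠ i → f x ≠ j → g x = x := by
  have : ∀ i, Nonempty ({x : Ω // f x = i} ≃ Fin a) := fun i => Finite.card_eq.1 (by simp [← hf i])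
  let e : Ω ≃ Fin b × Fin a :=
    (Equiv.sigmaFiberEquiv f).symm.trans ((Equiv.sigmaCongrRight fun i => (this i).some).trans (Equiv.sigmaEquivProd _ _))
  have he : ∀ x, (e x).1 = f x := fun _ => rfl
  refine ⟨e.symm.permCongr (Equiv.prodCongr (swap i j) (Equiv.refl _)), fun x => ?_, fun x h1 h2 => ?_⟩
  · rw [← he, ← he]; simp
  · apply e.injective
    simp only [permCongr_apply, symm_symm, prodCongr_apply, apply_symm_apply]
    refine Prod.ext ?_ rfl
    simp [he, swap_apply_of_ne_of_ne h1 h2]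

theorem exists_fibre {a b : ℕ} {f : Ω → Fin b} (hf : ∀ i : Fin b, Nat.card {x : Ω // f x = i} = a) (i : Fin b) :
    ∃ s : Finset Ω, s.card = a ∧ ∀ x, x ∈ s ↔ f x = i :=
  ⟨Finset.univ.filter fun x => f x = i, by rw [← hf i, Nat.card_eq_fintype_card, Fintype.card_subtype], by simp⟩

theorem exists_move {a b : ℕ} {f : Ω → Fin b} (hf : ∀ i : Fin b, Nat.card {x : Ω // f x = i} = a) (ha : 2 ≤ a)
    (h3 : 3 ≤ a ∨ 3 ≤ b) {x y w : Ω} (hy : f x ≠ f y) (hw : f x ≠ f w) :
    ∃ h ∈ PP f ⊓ alternatingGroup Ω, h x = x ∧ h y = w := by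
  obtain ⟨g, hg, hg'⟩ := exists_lift hf (f y) (f w)
  have h1 : g ∈ PP f := fun u v => by rw [hg, hg, (swap _ _).injective.eq_iff]
  have h2 : f (g y) = f w := by rw [hg, swap_apply_left]
  have h4 : swap (g y) w * g ∈ PP f := (PP f).mul_mem (swap_mem_PP h2) h1
  have h5 : (swap (g y) w * g) x = x := by
    rw [Perm.mul_apply, hg' x hy hw, swap_apply_of_ne_of_ne]
    · exact fun e => hw (by rw [e, h2])
    · exact fun e => hw (by rw [e])
  have h6 : (swap (g y) w * g) y = w := by simp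
  rcases Int.units_eq_one_or (sign (swap (g y) w * g)) with h | h
  · exact ⟨_, ⟨h4, h⟩, h5, h6⟩
  obtain ⟨u, v, huv, e, h7, h8, h9, h10⟩ : ∃ u v, u ≠ v ∧ f u = f v ∧ x ≠ u ∧ x ≠ v ∧ y ≠ u ∧ y ≠ v := by
    rcases h3 with h3 | h3
    · obtain ⟨s, hs, hs'⟩ := exists_fibre hf (f x)
      obtain ⟨u, hu, e1, -⟩ := exists_third (s := s) (by omega) x x
      obtain ⟨v, hv, e2, e3⟩ := exists_third (s := s) (by omega) x u
      rw [hs'] at hu hv
      exact ⟨u, v, e3, hu.trans hv.symm, e1, e2, fun e => hy (by rw [e, hu]), fun e => hy (by rw [e, hv])⟩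
    · obtain ⟨i, -, e1, e2⟩ := exists_third (s := (Finset.univ : Finset (Fin b))) (by simpa using h3) (f x) (f y)
      obtain ⟨s, hs, hs'⟩ := exists_fibre hf i
      obtain ⟨u, hu, v, hv, huv⟩ := Finset.one_lt_card.1 (show 1 < s.card by omega)
      rw [hs'] at hu hv
      exact ⟨u, v, huv, hu.trans hv.symm, fun e => e1 (by rw [e, hu]), fun e => e1 (by rw [e, hv]),
        fun e => e2 (by rw [e, hu]), fun e => e2 (by rw [e, hv])⟩
  refine ⟨swap (g y) w * g * swap u v, ⟨(PP f).mul_mem h4 (swap_mem_PP e), ?_⟩, ?_, ?_⟩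
  · change sign _ = 1
    rw [map_mul, h, sign_swap huv]; rfl
  · rw [Perm.mul_apply, swap_apply_of_ne_of_ne h7 h8, h5]
  · rw [Perm.mul_apply, swap_apply_of_ne_of_ne h9 h10, h6]

theorem alt_le_of_three_cycle {a b : ℕ} {f : Ω → Fin b} (hf : ∀ i : Fin b, Nat.card {x : Ω // f x = i} = a)
    (ha : 2 ≤ a) (h3 : 3 ≤ a ∨ 3 ≤ b) {M : Subgroup (Perm Ω)} (hM : PP f ⊓ alternatingGroup Ω ≤ M) {c : Perm Ω}
    (hc : IsThreeCycle c) (hcM : c ∈ M) {x y : Ω} (hx : c x ≠ x) (hy : c y ≠ y) (hxy : f x ≠ f y) :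
    alternatingGroup Ω ≤ M := by
  obtain ⟨O, h1, h2, h4⟩ := exists_maximal_altOn hc hcM
  have hO : 3 ≤ O.card := hc.card_support ▸ Finset.card_le_card h1
  have key : ∀ x ∈ O, ∀ y ∈ O, f x ≠ f y → ∀ w, f x ≠ f w → w ∈ O := by
    intro x hx y hy hxy w hw
    obtain ⟨h, hh, e1, e2⟩ := exists_move hf ha h3 hxy hw
    have hne : x ≠ y := fun e => hxy (by rw [e])
    obtain ⟨u, hu, h5, h6⟩ := exists_third hO x y
    have h7 := M.mul_mem (M.mul_mem (hM hh) (h2 (c3_mem_altOn hx hy hu hne h6))) (M.inv_mem (hM hh))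
    rw [c3_conj] at h7
    have n1 : h x ≠ h y := by simpa
    have n2 : h x ≠ h u := by simpa
    have n3 : h y ≠ h u := by simpa
    rcases h4 _ h7 (isThreeCycle_c3 n1 n2 n3) with h8 | h8
    · exact e2 ▸ h8 (by rw [mem_support, c3_apply_snd n2 n3]; exact n3.symm)
    · exact absurd (e1.symm ▸ hx) (Finset.disjoint_left.1 h8 (by rw [mem_support, c3_apply_fst n1 n2]; exact n1.symm))
  have hxO := h1 (mem_support.2 hx)
  have hyO := h1 (mem_support.2 hy)
  have : O = Finset.univ := Finset.eq_univ_of_forall fun w => by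
    by_cases e : f x = f w
    · exact key y hyO x hxO hxy.symm w (e ▸ hxy.symm)
    · exact key x hxO y hyO hxy w e
  rwa [this, altOn_univ] at h2

theorem exists_partner {b : ℕ} {f : Ω → Fin b} (hf : ∀ i : Fin b, Nat.card {x : Ω // f x = i} = 2) :
    ∃ z : Perm Ω, (∀ x, z (z x) = x) ∧ (∀ x, z x ≠ x) ∧ ∀ x y, f x = f y ↔ y = x ∨ y = z x := by
  have h1 : ∀ x, ∃ y, y ≠ x ∧ ∀ w, f x = f w ↔ w = x ∨ w = y := by
    intro x
    obtain ⟨s, hs, hs'⟩ := exists_fibre hf (f x)
    obtain ⟨u, v, huv, rfl⟩ := Finset.card_eq_two.1 hs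
    simp only [Finset.mem_insert, Finset.mem_singleton] at hs'
    rcases (hs' x).2 rfl with rfl | rfl
    · exact ⟨v, huv.symm, fun w => by rw [hs', eq_comm]⟩
    · exact ⟨u, huv, fun w => by rw [or_comm, hs', eq_comm]⟩
  choose z hz hz' using h1
  have h2 : Function.Involutive z := fun x =>
    (((hz' (z x) x).1 ((hz' x (z x)).2 (Or.inr rfl)).symm).resolve_left (hz x).symm).symm
  exact ⟨h2.toPerm z, h2, hz, hz'⟩

theorem card_eq {a b : ℕ} {f : Ω → Fin b} (hf : ∀ i : Fin b, Nat.card {x : Ω // f x = i} = a) :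
    Fintype.card Ω = b * a := by
  rw [← Nat.card_eq_fintype_card, ← Nat.card_congr (Equiv.sigmaFiberEquiv f), Nat.card_sigma]
  simp only [hf]
  simp

theorem four_case (h4 : Fintype.card Ω = 4) {g z : Perm Ω} (hg : sign g = 1) (h1 : ∀ x, z (z x) = x)
    (h2 : ∀ x, z x ≠ x) (h : g * z ≠ z * g) : IsThreeCycle g := by
  have key : ∀ z : Perm (Fin 4), (∀ x, z (z x) = x) → (∀ x, z x ≠ x) → ∀ g : Perm (Fin 4), sign g = 1 →
      g * z ≠ z * g → g.support.card = 3 := by decide +kernel
  let e := Fintype.equivFinOfCardEq h4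
  have := key (e.permCongr z) (fun x => by simp [h1]) (fun x hx => h2 (e.symm x) (by
    simpa [Equiv.apply_eq_iff_eq_symm_apply] using hx)) (e.permCongr g) (by simpa using hg)
    fun hh => h (e.permCongrHom.injective (by rw [map_mul, map_mul]; exact hh))
  rw [card_support_eq_three_iff] at this
  rw [IsThreeCycle, ← this]
  exact (cycleType_viaEmbedding e.toEmbedding g).symm.trans (congrArg cycleType (Equiv.ext fun x => by
    obtain ⟨x, rfl⟩ := e.surjective x
    exact (viaEmbedding_apply g e.toEmbedding x).trans (by simp)))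

theorem mul_swap_mul_self_comm (z : Perm Ω) (a b c d : Ω) :
    z * (swap a b * swap c d) = swap (z a) (z b) * swap (z c) (z d) * z := by
  rw [swap_apply_apply, swap_apply_apply]; group

theorem exists_three_cycle {M : Subgroup (Perm Ω)} {z z' : Perm Ω} (h1 : ∀ x, z (z x) = x) (h2 : ∀ x, z x ≠ x)
    (h1' : ∀ x, z' (z' x) = x) (h2' : ∀ x, z' x ≠ x) (hM : ∀ g, sign g = 1 → g * z = z * g → g ∈ M)
    (hM' : ∀ g, sign g = 1 → g * z' = z' * g → g ∈ M) (hne : z ≠ z')
    (hn : Fintype.card Ω = 6 ∨ 10 ≤ Fintype.card Ω) : ∃ c ∈ M, IsThreeCycle c := by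
  have pr : ∀ z : Perm Ω, (∀ x, z (z x) = x) → (∀ x, z x ≠ x) → (∀ g, sign g = 1 → g * z = z * g → g ∈ M) →
      S2928.Pairing M z ∧ ∀ x y, y ≠ x → y ≠ z x → swap x y * swap (z x) (z y) ∈ M := by
    intro z h1 h2 hM
    have hz : z⁻¹ = z := by rw [inv_eq_iff_mul_eq_one]; ext x; simp [h1]
    refine ⟨⟨h1, fun x y hx => absurd hx (h2 x), fun x y hx hy _ _ => hM _ (by simp [hx.symm, hy.symm]) ?_⟩,
      fun x y h3 h4 => hM _ (by simp [h3.symm]) ?_⟩
    · rw [mul_swap_mul_self_comm z, h1, h1, swap_comm (z x), swap_comm (z y)]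
    · rw [mul_swap_mul_self_comm z, h1, h1]
      congr 1
      refine Perm.Disjoint.commute (disjoint_swap_swap ?_)
      have := h1 x
      have := h1 y
      have := h2 x
      have := h2 y
      simp only [List.nodup_cons, List.mem_cons, List.not_mem_nil, List.nodup_nil]
      grind
  obtain ⟨p1, p2⟩ := pr z h1 h2 hM
  obtain ⟨p1', p2'⟩ := pr z' h1' h2' hM'
  rcases hn with hn | hn
  swap
  · by_contra hh
    push Not at hh
    exact hne (S2928.eq_of_ten p1 p1' hh hn)
  by_cases hc : ∀ a, z (z' a) = z' (z a)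
  · obtain ⟨a, ha⟩ : ∃ a, z a ≠ z' a := by
      by_contra hh
      push Not at hh
      exact hne (Equiv.ext hh)
    obtain ⟨c, -, hc'⟩ := S2928.exists_not_mem (s := Finset.univ) (t := {a, z a, z' a, z (z' a)})
      (Finset.card_le_four.trans_lt (by simp [hn]))
    simp only [Finset.mem_insert, Finset.mem_singleton, not_or] at hc'
    have e0 := hc a
    have e1 := h1 a
    have e2 := h1' a
    have e3 := h1 c
    have e4 := h1' c
    have e5 := h2 a
    have e6 := h2' a
    have e7 := h2 c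
    have e8 := h2' c
    have e9 := h1 (z' a)
    have e10 := h1' (z a)
    have e11 := h2 (z' a)
    have hcc : z c = z' c := by
      by_contra hh
      have : ({a, z a, z' a, z (z' a), c, z c, z' c} : Finset Ω).card = 7 := by
        rw [Finset.card_insert_of_notMem (by simp; grind), Finset.card_insert_of_notMem (by simp; grind),
          Finset.card_insert_of_notMem (by simp; grind), Finset.card_insert_of_notMem (by simp; grind),
          Finset.card_insert_of_notMem (by simp; grind), Finset.card_pair hh]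
      have h7 := Finset.card_le_univ ({a, z a, z' a, z (z' a), c, z c, z' c} : Finset Ω)
      omega
    have := M.mul_mem (M.inv_mem (p1.2.2 c a e7 e5 (by grind) (by grind))) (p1'.2.2 c a e8 e6 (by grind) (by grind))
    rw [mul_inv_rev, swap_inv, swap_inv, hcc, mul_assoc, swap_mul_self_mul] at this
    exact ⟨_, this, isThreeCycle_swap_mul_swap_same e5.symm e6.symm ha⟩
  · push Not at hc
    obtain ⟨a, ha⟩ := hc
    have e1 := h1 a
    have e2 := h1' a
    have e5 := h2 a
    have e6 := h2' a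
    have e7 := h2 (z' a)
    have := M.mul_mem (M.inv_mem (p1.2.2 a (z' a) e5 e7 e6 (by grind))) (p2' a (z a) e5 (by grind))
    rw [mul_inv_rev, swap_inv, swap_inv, mul_assoc, swap_mul_self_mul] at this
    exact ⟨_, this, isThreeCycle_swap_mul_swap_same e7.symm (by simpa using e5.symm) ha⟩


/-- Let Ω be a finite set whose size is not 8, and f : Ω → Fin b a labelling with b ≥ 2 whose fibres all have the same size a ≥ 2 (a partition into b blocks of size a). Then the even permutations preserving the partition — the intersection of the imprimitive wreath product S_a ≀ S_b with the alternating group — form a maximal subgroup of the alternating group on Ω. -/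
theorem result {Ω : Type*} [Fintype Ω] [DecidableEq Ω] (h8 : Fintype.card Ω ≠ 8) (a b : ℕ) (ha : 2 ≤ a) (hb : 2 ≤ b)
    (f : Ω → Fin b) (hf : ∀ i : Fin b, Nat.card {x : Ω // f x = i} = a) :
    IsCoatom ((Subgroup.closure {g : Equiv.Perm Ω | ∀ x y : Ω, f x = f y ↔ f (g x) = f (g y)} ⊓ alternatingGroup Ω).subgroupOf (alternatingGroup Ω)) := by
  have hP : Subgroup.closure {g : Equiv.Perm Ω | ∀ x y : Ω, f x = f y ↔ f (g x) = f (g y)} = PP f :=
    Subgroup.closure_eq (PP f)
  rw [hP]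
  refine ⟨fun h => ?_, fun M hM => ?_⟩
  · obtain ⟨s, hs, hs'⟩ := exists_fibre hf ⟨0, by omega⟩
    obtain ⟨t, ht, ht'⟩ := exists_fibre hf ⟨1, by omega⟩
    obtain ⟨x, hx, y, hy, hxy⟩ := Finset.one_lt_card.1 (show 1 < s.card by omega)
    obtain ⟨w, hw⟩ := Finset.card_pos.1 (show 0 < t.card by omega)
    rw [hs'] at hx hy
    rw [ht'] at hw
    have h1 : x ≠ w := fun e => by rw [e, hw] at hx; simp at hx
    have h2 : y ≠ w := fun e => by rw [e, hw] at hy; simp at hy
    have h3 := ((Subgroup.subgroupOf_eq_top.1 h (c3_mem_alt hxy h2)).1 x y).1 (hx.trans hy.symm)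
    rw [c3_apply_fst hxy h1, c3_apply_snd h1 h2, hy, hw] at h3
    simp at h3
  obtain ⟨g, hgM, hg⟩ := SetLike.exists_of_lt hM
  have hg' : g.1 ∉ PP f := fun h => hg ⟨h, g.2⟩
  have hle : PP f ⊓ alternatingGroup Ω ≤ M.map (alternatingGroup Ω).subtype := fun k hk =>
    ⟨⟨k, hk.2⟩, hM.le hk, rfl⟩
  have hgM' : g.1 ∈ M.map (alternatingGroup Ω).subtype := ⟨g, hgM, rfl⟩
  suffices h : alternatingGroup Ω ≤ M.map (alternatingGroup Ω).subtype by
    rw [eq_top_iff]
    intro k _
    obtain ⟨k', hk', e⟩ := h k.2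
    rwa [← Subtype.ext e]
  by_cases h3 : 3 ≤ a
  · obtain ⟨x, y, hxy, hne⟩ : ∃ x y, f x = f y ∧ f (g.1 x) ≠ f (g.1 y) := by
      by_contra hh
      push Not at hh
      exact hg' (mem_PP_of_imp hh)
    obtain ⟨s, hs, hs'⟩ := exists_fibre hf (f x)
    obtain ⟨u, hu, h1, h2⟩ := exists_third (s := s) (by omega) x y
    rw [hs'] at hu
    have h0 : x ≠ y := fun e => hne (by rw [e])
    have h4 := hle (⟨(PP f).mul_mem (swap_mem_PP hxy) (swap_mem_PP (hxy.symm.trans hu.symm)), c3_mem_alt h0 h2⟩ :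
      c3 x y u ∈ PP f ⊓ alternatingGroup Ω)
    have h5 := Subgroup.mul_mem _ (Subgroup.mul_mem _ hgM' h4) (Subgroup.inv_mem _ hgM')
    rw [c3_conj] at h5
    have n1 : g.1 x ≠ g.1 y := by simpa
    have n2 : g.1 x ≠ g.1 u := by simpa
    have n3 : g.1 y ≠ g.1 u := by simpa
    exact alt_le_of_three_cycle hf ha (Or.inl h3) hle (isThreeCycle_c3 n1 n2 n3) h5
      (by rw [c3_apply_fst n1 n2]; exact n1.symm) (by rw [c3_apply_snd n2 n3]; exact n3.symm) hne
  obtain rfl : a = 2 := by omega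
  obtain ⟨z, h1, h2, hz⟩ := exists_partner hf
  have hcomm : ∀ k : Perm Ω, k ∈ PP f ↔ k * z = z * k := by
    intro k
    constructor
    · intro hk
      ext x
      exact ((hz _ _).1 ((hk x (z x)).1 ((hz _ _).2 (Or.inr rfl)))).resolve_left (by simpa using h2 x)
    · intro hk x y
      have : z (k x) = k (z x) := (congrArg (fun g : Perm Ω => g x) hk).symm
      rw [hz, hz, this]
      simp
  have hcard := card_eq hf
  by_cases hb3 : 3 ≤ b
  · obtain ⟨c, hc, hc3⟩ := exists_three_cycle (M := M.map (alternatingGroup Ω).subtype) (z' := g.1 * z * g.1⁻¹) h1 h2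
      (fun x => by simp [h1]) (fun x hx => h2 (g.1⁻¹ x) (by simpa [← Perm.eq_inv_iff_eq] using hx))
      (fun k hk hk' => hle ⟨(hcomm k).2 hk', hk⟩) (fun k hk hk' => by
        have h5 := hle (⟨(hcomm (g.1⁻¹ * k * g.1)).2 (by
          calc g.1⁻¹ * k * g.1 * z = g.1⁻¹ * (k * (g.1 * z * g.1⁻¹)) * g.1 := by group
            _ = _ := by rw [hk']; group), by simp [hk]⟩ : g.1⁻¹ * k * g.1 ∈ PP f ⊓ alternatingGroup Ω)
        have h6 := Subgroup.mul_mem _ (Subgroup.mul_mem _ hgM' h5) (Subgroup.inv_mem _ hgM')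
        rwa [show g.1 * (g.1⁻¹ * k * g.1) * g.1⁻¹ = k by group] at h6)
      (fun e => hg' ((hcomm _).2 (mul_inv_eq_iff_eq_mul.1 e.symm))) (by omega)
    obtain ⟨x, y, w, n1, n2, n3, rfl⟩ := isThreeCycle_iff_c3.1 hc3
    by_cases e : f x = f y
    · refine alt_le_of_three_cycle hf ha (Or.inr hb3) hle hc3 hc (x := x) (y := w)
        (by rw [c3_apply_fst n1 n2]; exact n1.symm) (by rw [c3_apply_thd]; exact n2) fun e' => ?_
      exact n3 ((((hz _ _).1 e).resolve_left n1.symm).trans (((hz _ _).1 e').resolve_left n2.symm).symm)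
    · exact alt_le_of_three_cycle hf ha (Or.inr hb3) hle hc3 hc
        (by rw [c3_apply_fst n1 n2]; exact n1.symm) (by rw [c3_apply_snd n2 n3]; exact n3.symm) e
  · have h4 : Fintype.card Ω = 4 := by omega
    have hc3 := four_case h4 g.2 h1 h2 fun e => hg' ((hcomm _).2 e)
    obtain ⟨O, h5, h6, h7⟩ := exists_maximal_altOn hc3 hgM'
    have : O = Finset.univ := by
      by_contra hO
      have h8 : O.card < 4 := h4 ▸ (Finset.card_lt_iff_ne_univ O).2 hO
      have hzM : z ∈ M.map (alternatingGroup Ω).subtype := hle ⟨(hcomm z).2 rfl, by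
        change sign z = 1
        rw [sign_of_pow_two_eq_one (by ext x; simp [pow_two, h1]), h4]
        have : Fintype.card (Function.fixedPoints z) = 0 := Fintype.card_eq_zero_iff.2 ⟨fun x => h2 _ x.2⟩
        rw [this]; rfl⟩
      have h9 := Subgroup.mul_mem _ (Subgroup.mul_mem _ hzM hgM') (Subgroup.inv_mem _ hzM)
      have h10 : IsThreeCycle (z * g.1 * z⁻¹) := by rw [IsThreeCycle, cycleType_conj]; exact hc3
      have h11 : g.1.support = O := Finset.eq_of_subset_of_card_le h5 (by rw [hc3.card_support]; omega)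
      rcases h7 _ h9 h10 with h | h
      · obtain ⟨w, hw⟩ : ∃ w, w ∉ O := by
          by_contra hh
          push Not at hh
          exact hO (Finset.eq_univ_of_forall hh)
        have h12 : z w ∈ O := by
          by_contra hh
          have := Finset.card_le_card (show O ⊆ {w, z w}ᶜ from fun u hu => by
            simp only [Finset.mem_compl, Finset.mem_insert, Finset.mem_singleton, not_or]
            exact ⟨fun e => hw (e ▸ hu), fun e => hh (e ▸ hu)⟩)
          rw [Finset.card_compl, Finset.card_pair (h2 w).symm, h4, ← h11, hc3.card_support] at this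
          omega
        refine hw (h ?_)
        rw [support_conj, h11, Finset.mem_map]
        exact ⟨_, h12, h1 w⟩
      · have := Finset.card_le_univ ((z * g.1 * z⁻¹).support.disjUnion O h)
        rw [Finset.card_disjUnion, h10.card_support, ← h11, hc3.card_support] at this
        omega
    rwa [this, altOn_univ] at h6

end Cfsg.Agent.S5909
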