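import Cfsg.Statements.S5905
import Cfsg.Agent.S5909

set_option autoImplicit false
open Cfsg

namespace Cfsg.Agent.S5905

open Equiv Equiv.Perm Cfsg.Agent.S5909

theorem isCoatom_PP {Ω : Type*} [Fintype Ω] [DecidableEq Ω] {a b : ℕ} (ha : 2 ≤ a) (hb : 2 ≤ b)
    {f : Ω → Fin b} (hf : ∀ i : Fin b, Nat.card {x : Ω // f x = i} = a) : IsCoatom (PP f) := by
  refine ⟨fun h => ?_, fun M hM => ?_⟩
  · obtain ⟨s, hs, hs'⟩ := exists_fibre hf ⟨0, by omega⟩
    obtain ⟨t, ht, ht'⟩ := exists_fibre hf ⟨1, by omega⟩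
    obtain ⟨x, hx, x', hx', hne⟩ := Finset.one_lt_card.1 (show 1 < s.card by omega)
    obtain ⟨y, hy⟩ := Finset.card_pos.1 (show 0 < t.card by omega)
    rw [hs'] at hx hx'
    rw [ht'] at hy
    have h1 : swap x y ∈ PP f := h ▸ Subgroup.mem_top _
    have h2 := (h1 x x').1 (hx.trans hx'.symm)
    rw [swap_apply_left, swap_apply_of_ne_of_ne hne.symm (fun e => by rw [e, hy] at hx'; simp at hx'), hy, hx'] at h2
    simp at h2
  · obtain ⟨g, hg, hg'⟩ := SetLike.exists_of_lt hM
    obtain ⟨x, y, hxy, hne⟩ : ∃ x y, f x = f y ∧ f (g x) ≠ f (g y) := by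
      by_contra hc
      push Not at hc
      exact hg' (mem_PP_of_imp hc)
    have h1 : swap (g x) (g y) ∈ M := by
      rw [swap_apply_apply]
      exact M.mul_mem (M.mul_mem hg (hM.le (swap_mem_PP hxy))) (M.inv_mem hg)
    have h2 : ∀ w, swap (g x) w ∈ M := fun w => by
      by_cases e : f (g x) = f w
      · exact hM.le (swap_mem_PP e)
      obtain ⟨k, hk, hk'⟩ := exists_lift hf (f (g y)) (f w)
      have hkP : k ∈ PP f := fun u v => by rw [hk, hk, (swap _ _).injective.eq_iff]
      have h3 : swap (k (g x)) (k (g y)) ∈ M := by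
        rw [swap_apply_apply k]
        exact M.mul_mem (M.mul_mem (hM.le hkP) h1) (M.inv_mem (hM.le hkP))
      rw [hk' _ hne e] at h3
      exact SubmonoidClass.swap_mem_trans M h3 (hM.le (swap_mem_PP (by rw [hk, swap_apply_left])))
    rw [eq_top_iff, ← closure_isSwap, Subgroup.closure_le]
    rintro _ ⟨u, v, -, rfl⟩
    exact SubmonoidClass.swap_mem_trans M (swap_comm (g x) u ▸ h2 u) (h2 v)


/-- Let Ω be a finite set and f : Ω → Fin b a map onto b ≥ 2 labels whose fibres all have the same size a ≥ 2 (a partition of Ω into b blocks of size a, so |Ω| = ab). Then the stabilizer of this partition in the symmetric group on Ω — the permutations g such that x and y lie in the same block exactly when g x and g y do, a group isomorphic to the imprimitive wreath product S_a ≀ S_b — is a maximal subgroup of the symmetric group. -/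
theorem result {Ω : Type*} [Fintype Ω] [DecidableEq Ω] (a b : ℕ) (ha : 2 ≤ a) (hb : 2 ≤ b)
    (f : Ω → Fin b) (hf : ∀ i : Fin b, Nat.card {x : Ω // f x = i} = a) :
    IsCoatom (Subgroup.closure {g : Equiv.Perm Ω | ∀ x y : Ω, f x = f y ↔ f (g x) = f (g y)}) := by
  exact (Subgroup.closure_eq (PP f)).symm ▸ isCoatom_PP ha hb hf

end Cfsg.Agent.S5905
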