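import Cfsg.Statements.S5894
import Cfsg.Agent.S5905
import Cfsg.Agent.Known.S6Aut

set_option autoImplicit false
open Cfsg

namespace Cfsg.Agent.S5894

open Equiv MulAction CL.Known.S6 Cfsg.Agent.S5909


/-- For every m ≥ 2 the symmetric group on 2m letters has a maximal subgroup M of index 2m together with a maximal subgroup H of M that is not second maximal: some maximal subgroup K of the symmetric group contains H without H being maximal in K. (One may take M the stabiliser of a letter, H ≅ S_m × S_{m−1} inside it, and K ≅ S_m ≀ S₂ the stabiliser of a partition into two m-sets, with H < S_m × S_m < K.) So the prime-index hypothesis in the second-maximality criterion cannot be relaxed to any even index ≥ 4. -/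
theorem result (m : ℕ) (hm : 2 ≤ m) :
    ∃ M H K : Subgroup (Equiv.Perm (Fin (2 * m))), IsCoatom M ∧ M.index = 2 * m ∧ H ≤ M ∧ IsCoatom (H.subgroupOf M) ∧
      IsCoatom K ∧ H ≤ K ∧ ¬ IsCoatom (H.subgroupOf K) := by
  classical
  let f : Fin (2 * m) → Fin 2 := fun x => if x.1 < m then 0 else 1
  have hf0 : ∀ x, f x = 0 ↔ x.1 < m := fun x => by by_cases h : x.1 < m <;> simp [f, h]
  have hf1 : ∀ x, f x = 1 ↔ ¬ x.1 < m := fun x => by by_cases h : x.1 < m <;> simp [f, h]
  have hc0 : Nat.card {x : Fin (2 * m) // x.1 < m} = m := by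
    rw [Nat.card_eq_fintype_card, Fintype.card_subtype, Fin.card_filter_val_lt]; omega
  have hf : ∀ i : Fin 2, Nat.card {x : Fin (2 * m) // f x = i} = m := by
    refine Fin.forall_fin_two.2 ⟨?_, ?_⟩
    · simp only [hf0, hc0]
    · simp only [hf1]
      rw [Nat.card_eq_fintype_card, Fintype.card_subtype_compl, ← Nat.card_eq_fintype_card (α := {x // _}), hc0,
        Fintype.card_fin]
      omega
  let a : Fin (2 * m) := ⟨m, by omega⟩
  let b : Fin (2 * m) := ⟨m + 1, by omega⟩
  let s : Set {x // x ≠ a} := {x | x.1.1 < m}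
  let L : Subgroup (Perm (Fin (2 * m))) :=
    { carrier := {g | ∀ x, f (g x) = f x}
      one_mem' := fun _ => rfl
      mul_mem' := fun hg hh x => (hg _).trans (hh x)
      inv_mem' := fun {g} hg x => by simpa using (hg (g⁻¹ x)).symm }
  have hLK : L ≤ PP f := fun g hg x y => by rw [hg x, hg y]
  haveI : Nontrivial (Fin (2 * m)) := Fin.nontrivial_iff_two_le.2 (by omega)
  refine ⟨stabilizer _ a, L ⊓ stabilizer _ a, PP f, IsPreprimitive.isCoatom_stabilizer_of_isPreprimitive _ a,
    by rw [index_stab, Fintype.card_fin], inf_le_right, ?_, Cfsg.Agent.S5905.isCoatom_PP hm le_rfl hf,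
    inf_le_left.trans hLK, fun h => ?_⟩
  · have hs : s.ncard = m := by
      refine Eq.trans ?_ hc0
      rw [← Nat.card_coe_set_eq]
      exact Nat.card_congr
        { toFun := fun x => ⟨x.1.1, x.2⟩
          invFun := fun x => ⟨⟨x.1, fun e => by have := x.2; rw [e] at this; exact lt_irrefl _ this⟩, x.2⟩
          left_inv := fun _ => rfl
          right_inv := fun _ => rfl }
    have h1 := Perm.isCoatom_stabilizer (s := s) ⟨⟨⟨0, by omega⟩, fun e => by
        have := congrArg Fin.val e; simp [a] at this; omega⟩, show 0 < m by omega⟩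
      ⟨⟨b, fun e => by have := congrArg Fin.val e; simp [a, b] at this⟩, show ¬ m + 1 < m by omega⟩
      (by rw [hs, Nat.card_eq_fintype_card, Fintype.card_subtype_compl]; simp; omega)
    rw [← Subgroup.isCoatom_comap (stabEquiv a)]
    convert h1 using 1
    ext g
    rw [Subgroup.mem_comap, Subgroup.mem_subgroupOf, mem_stabilizer_set]
    constructor
    · intro h x
      have := h.1 x
      rw [MonoidHom.coe_coe, stabEquiv_apply] at this
      change (g x).1.1 < m ↔ x.1.1 < m
      rw [← hf0, ← hf0, this]
    · intro h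
      refine ⟨fun x => ?_, (stabEquiv a g).2⟩
      by_cases e : x = a
      · rw [e]; exact congrArg f (stabEquiv a g).2
      · have h2 : (g ⟨x, e⟩).1.1 < m ↔ x.1 < m := h ⟨x, e⟩
        have h3 := stabEquiv_apply a g ⟨x, e⟩
        simp only [MonoidHom.coe_coe, f]
        rw [show ((stabEquiv a g : Perm _) x) = (g ⟨x, e⟩).1 from h3]
        simp only [h2]
  · have hab : f a = f b := ((hf1 a).2 (by simp [a])).trans ((hf1 b).2 (by simp [b])).symm
    have h1 : swap a b ∈ L := fun x => by
      rw [swap_apply_def]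
      split_ifs with h1 h2
      · rw [h1, hab]
      · rw [h2, hab]
      · rfl
    have h2 := h.2 (L.subgroupOf (PP f)) (lt_of_le_of_ne (Subgroup.subgroupOf_mono _ inf_le_left) fun e => by
      have h3 : (⟨swap a b, hLK h1⟩ : PP f) ∈ (L ⊓ stabilizer _ a).subgroupOf (PP f) := e ▸ h1
      have h4 : swap a b a = a := h3.2
      rw [swap_apply_left] at h4
      have := congrArg Fin.val h4
      simp [a, b] at this)
    obtain ⟨g, hg, -⟩ := exists_lift hf 0 1
    have h3 : g ∈ PP f := fun u v => by rw [hg, hg, (swap _ _).injective.eq_iff]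
    have h4 : (⟨g, h3⟩ : PP f) ∈ L.subgroupOf (PP f) := h2 ▸ Subgroup.mem_top _
    have h5 : f (g a) = f a := h4 a
    rw [hg, (hf1 a).2 (by simp [a])] at h5
    simp at h5

end Cfsg.Agent.S5894
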