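import Cfsg.Statements.S5910
import Cfsg.Agent.S5909

set_option autoImplicit false
open Cfsg

namespace Cfsg.Agent.S5910

open Equiv Equiv.Perm Cfsg.Agent.S5909

/-- The ternary operation `x + y + z` of the Klein four-group on `Fin 4`. -/
def t4 (i j k : Fin 4) : Fin 4 := if i = j then k else if i = k then j else if j = k then i else 6 - i - j - k

/-- The ternary operation `x + y + z` of an elementary abelian group of order `8`. -/
def t8 (x y z : Fin 4 × Fin 2) : Fin 4 × Fin 2 := (t4 x.1 y.1 z.1, x.2 + y.2 + z.2)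

/-- The affine group. -/
def Aff : Subgroup (Perm (Fin 4 × Fin 2)) where
  carrier := {g | ∀ x y z, g (t8 x y z) = t8 (g x) (g y) (g z)}
  one_mem' := fun _ _ _ => rfl
  mul_mem' := fun hg hh x y z => by rw [Perm.mul_apply, hh, hg]; rfl
  inv_mem' := fun {g} hg x y z => g.injective (by rw [hg]; simp)

theorem left_mem (σ : Perm (Fin 4)) : prodCongrLeft (fun _ : Fin 2 => σ) ∈ Aff := by
  have : ∀ σ : Perm (Fin 4), ∀ i j k, σ (t4 i j k) = t4 (σ i) (σ j) (σ k) := by decide +kernel
  exact fun x y z => Prod.ext (this σ _ _ _) rfl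

theorem right_mem (τ : Fin 4 → Perm (Fin 2)) (h : ∏ k, sign (τ k) = 1) : prodCongrRight τ ∈ Aff := by
  have : ∀ τ : Fin 4 → Perm (Fin 2), ∏ k, sign (τ k) = 1 → ∀ i j k a b c,
      τ (t4 i j k) (a + b + c) = τ i a + τ j b + τ k c := by decide +kernel
  exact fun x y z => Prod.ext rfl (this τ h _ _ _ _ _ _)

theorem mem_Aff {g : Perm (Fin 4 × Fin 2)} (hg : g ∈ PP (Prod.fst : Fin 4 × Fin 2 → Fin 4)) (hs : sign g = 1) :
    g ∈ Aff := by
  have h1 : Function.Injective fun i : Fin 4 => (g (i, 0)).1 := fun i j h => (hg (i, 0) (j, 0)).2 h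
  have h0 : ∀ i a, (g (i, a)).1 = (g (i, 0)).1 := fun i a => (hg (i, a) (i, 0)).1 rfl
  have h2 : ∀ i : Fin 4, Function.Injective fun a : Fin 2 => (g (i, a)).2 := fun i a b h =>
    congrArg Prod.snd (g.injective (Prod.ext ((h0 i a).trans (h0 i b).symm) h))
  have e : g = prodCongrLeft (fun _ : Fin 2 => Equiv.ofBijective _ h1.bijective_of_finite) *
      prodCongrRight fun i => Equiv.ofBijective _ (h2 i).bijective_of_finite :=
    Equiv.ext fun x => Prod.ext (h0 x.1 x.2) rfl
  rw [e, map_mul, sign_prodCongrLeft, sign_prodCongrRight, Fin.prod_univ_two, Int.units_mul_self, one_mul] at hs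
  rw [e]
  exact Aff.mul_mem (left_mem _) (right_mem _ hs)

/-- An even affine map not preserving the pairs. -/
def u : Perm (Fin 4 × Fin 2) := swap (0, 1) (1, 0) * swap (2, 1) (3, 0)

/-- An even permutation that is not affine. -/
def v : Perm (Fin 4 × Fin 2) := swap (0, 0) (0, 1) * swap (0, 1) (1, 0)

theorem u_mem : u ∈ Aff := by
  change ∀ x y z, u (t8 x y z) = t8 (u x) (u y) (u z)
  decide +kernel

theorem v_not_mem : v ∉ Aff := fun h => absurd (h (0, 0) (2, 0) (2, 1)) (by decide +kernel)


/-- Let Ω be a set with 8 elements and f : Ω → Fin 4 a labelling whose four fibres all have size 2 (a partition of the 8 points into 4 pairs). Then the group of even permutations preserving this partition, (S₂ ≀ S₄) ∩ A₈, is not a maximal subgroup of the alternating group A₈ (it lies in a subgroup isomorphic to the affine group AGL₃(2)). -/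
theorem result {Ω : Type*} [Fintype Ω] [DecidableEq Ω] (h8 : Fintype.card Ω = 8)
    (f : Ω → Fin 4) (hf : ∀ i : Fin 4, Nat.card {x : Ω // f x = i} = 2) :
    ¬ IsCoatom ((Subgroup.closure {g : Equiv.Perm Ω | ∀ x y : Ω, f x = f y ↔ f (g x) = f (g y)} ⊓ alternatingGroup Ω).subgroupOf (alternatingGroup Ω)) := by
  have : ∀ i, Nonempty ({x : Ω // f x = i} ≃ Fin 2) := fun i => Finite.card_eq.1 (by simp [← hf i])
  let e : Ω ≃ Fin 4 × Fin 2 :=
    (Equiv.sigmaFiberEquiv f).symm.trans ((Equiv.sigmaCongrRight fun i => (this i).some).trans (Equiv.sigmaEquivProd _ _))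
  have he : ∀ x, (e x).1 = f x := fun _ => rfl
  have he' : ∀ x, f (e.symm x) = x.1 := fun x => by rw [← he, e.apply_symm_apply]
  intro h
  rw [show Subgroup.closure {g : Perm Ω | ∀ x y : Ω, f x = f y ↔ f (g x) = f (g y)} = PP f from
    Subgroup.closure_eq (PP f)] at h
  have hu : e.symm.permCongr u ∈ alternatingGroup Ω := by
    rw [mem_alternatingGroup, sign_permCongr, u, map_mul, sign_swap (by decide), sign_swap (by decide)]; rfl
  have hv : e.symm.permCongr v ∈ alternatingGroup Ω := by
    rw [mem_alternatingGroup, sign_permCongr, v, map_mul, sign_swap (by decide), sign_swap (by decide)]; rfl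
  have h1 := h.2 ((Aff.comap e.permCongrHom.toMonoidHom).subgroupOf (alternatingGroup Ω)) (lt_of_le_of_ne ?_ ?_)
  · have h2 : (⟨_, hv⟩ : alternatingGroup Ω) ∈
        (Aff.comap e.permCongrHom.toMonoidHom).subgroupOf (alternatingGroup Ω) := h1 ▸ Subgroup.mem_top _
    have h3 : e.permCongr (e.symm.permCongr v) ∈ Aff := h2
    rw [← permCongr_symm, Equiv.apply_symm_apply] at h3
    exact v_not_mem h3
  · rintro ⟨g, hg⟩ ⟨hg'', -⟩
    have hg' : g ∈ PP f := hg''
    refine mem_Aff (g := e.permCongr g) (fun x y => ?_) (by rw [sign_permCongr]; exact hg)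
    rw [permCongr_apply, permCongr_apply, he, he, ← hg' (e.symm x) (e.symm y), he', he']
  · intro h1
    have h2 : (⟨_, hu⟩ : alternatingGroup Ω) ∈ (PP f ⊓ alternatingGroup Ω).subgroupOf (alternatingGroup Ω) := by
      rw [h1]
      change e.permCongr (e.symm.permCongr u) ∈ Aff
      rw [← permCongr_symm, Equiv.apply_symm_apply]
      exact u_mem
    have h3 := (h2.1 (e.symm (0, 0)) (e.symm (0, 1))).1 (by rw [he', he'])
    simp only [Subgroup.coe_subtype, permCongr_apply, symm_symm, apply_symm_apply, he'] at h3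
    exact absurd h3 (by decide)

end Cfsg.Agent.S5910
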