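import Cfsg.Statements.S5947
import Cfsg.Agent.S3370
import Cfsg.Agent.S5946
import Cfsg.Agent.S2904
import Cfsg.Agent.Known.FormEmbed
import Cfsg.Agent.Known.GLOrd

set_option autoImplicit false
open Cfsg

namespace Cfsg.Agent.S5947

/-- Let F ⊆ K be finite fields with |F| = q and [K : F] = n ≥ 2, regard K as an n-dimensional F-vector space, and let M ≤ GL_F(K) be the Singer group of multiplications by non-zero elements of K (cyclic of order q^n − 1). Assume (n, q) ≠ (6, 2), and that it is not the case that n = 2 with q a prime such that q + 1 is a power of 2. Then every abelian subgroup of GL_F(K) of order q^n − 1 is conjugate to M. -/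
theorem result {F K : Type*} [Field F] [Fintype F] [Field K] [Fintype K] [Algebra F K] (n : ℕ) (hn : 2 ≤ n) (hdim : Module.finrank F K = n)
    (hex1 : ¬ (n = 6 ∧ Fintype.card F = 2))
    (hex2 : ¬ (n = 2 ∧ (Fintype.card F).Prime ∧ ∃ a : ℕ, Fintype.card F + 1 = 2 ^ a))
    (U : Subgroup (Module.End F K)ˣ) (hU : IsMulCommutative U) (hcard : Nat.card U = Fintype.card K - 1) :
    ∃ g : (Module.End F K)ˣ, U.map (MulAut.conj g).toMonoidHom = (Units.map ((Algebra.lmul F K : K →ₐ[F] Module.End F K) : K →* Module.End F K)).range := by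
  classical
  set q := Fintype.card F with hq
  have hq1 : 1 < q := Fintype.one_lt_card
  have hK : Fintype.card K = q ^ n := by rw [Module.card_eq_pow_finrank (K := F), hdim]
  obtain ⟨p, hp, ⟨k, hk0⟩, hpk⟩ := FiniteField.card' F
  obtain ⟨hp', hk⟩ := hpk
  haveI := Fact.mk hp'
  obtain ⟨r, hr, hrd, hprim⟩ := Cfsg.Agent.S2904.result q n hq1 hn (fun h => hex1 ⟨h.2, h.1⟩) (by
    rintro ⟨h2, m, hm⟩
    refine hex2 ⟨h2, ?_, m, hm⟩
    have h1 : p ^ k + 1 = 2 ^ m := by rw [← hm, hq, hk]; rfl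
    have := Cfsg.Agent.S3370.numA hp' hk0.ne' h1
    rw [hq, hk]
    change (p ^ k).Prime
    rwa [this, pow_one])
  haveI := Fact.mk hr
  have hord : orderOf ((Nat.card F : ℕ) : ZMod r) = n := by
    rw [Nat.card_eq_fintype_card]
    exact (CL.Fgs.dvd_sub_one_of_primitive r q n hr hq1.le (by omega) hrd hprim).1
  have hrF : (r : F) ≠ 0 := by
    intro h
    have h1 : p ∣ r := (CharP.cast_eq_zero_iff F p r).1 h
    have h2 : p ∣ q ^ n := by
      rw [hq, hk, ← pow_mul]; exact dvd_pow_self p (Nat.mul_ne_zero hk0.ne' (by omega))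
    have h3 : p ∣ q ^ n - (q ^ n - 1) := Nat.dvd_sub h2 (h1.trans hrd)
    rw [Nat.sub_sub_self (Nat.one_le_pow _ _ (by omega))] at h3
    exact hp'.one_lt.ne' (Nat.dvd_one.1 h3)
  haveI : Finite (Module.End F K) := Module.finite_of_finite F
  obtain ⟨u, hu⟩ := exists_prime_orderOf_dvd_card' (G := U) r (by rw [hcard, hK]; exact hrd)
  have hu1 : (u.1 : Module.End F K) ^ r = 1 := by
    rw [← Units.val_pow_eq_pow_val, ← Subgroup.coe_pow, ← hu, pow_orderOf_eq_one]; rfl
  obtain ⟨s, hs⟩ := CL.GLn.exists_hasED (u.1 : Module.End F K)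
  have hsd : ∀ P ∈ s, P ∣ Polynomial.X ^ r - 1 := (hs.aeval_eq_zero_iff _).1 (by simp [hu1])
  have hsi : ∀ P ∈ s, Irreducible P := fun P hP => (hs.primary P hP).irreducible_of_squarefree
    ((Polynomial.X_pow_sub_one_separable_iff.2 hrF).squarefree.squarefree_of_dvd (hsd P hP))
  obtain ⟨P, hP, hP1⟩ : ∃ P ∈ s, P ≠ Polynomial.X - 1 := by
    by_contra h
    push Not at h
    have h1 := (hs.aeval_eq_zero_iff (Polynomial.X - 1)).2 fun P hP => by rw [h P hP]
    rw [map_sub, Polynomial.aeval_X, map_one, sub_eq_zero] at h1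
    have h2 : u = 1 := Subtype.ext (Units.ext h1)
    rw [h2, orderOf_one] at hu
    exact hr.one_lt.ne hu
  have hPm := (hs.primary P hP).monic
  have hPd : P.natDegree = n := by
    rw [← hord]
    refine CL.GLn.natDegree_of_mem_ordFactors hrF ((CL.GLn.mem_ordFactors hrF).2 ⟨hPm, hsi P hP, ?_⟩)
    exact ((Nat.dvd_prime hr).1 ((CL.GLn.dvd_X_pow_sub_one_iff_ordP P r).1 (hsd P hP))).resolve_left
      fun h => hP1 ((CL.GLn.ordP_eq_one_iff hPm (hsi P hP)).1 h)
  have hsP : s = {P} := by
    obtain ⟨t, rfl⟩ := Multiset.exists_cons_of_mem hP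
    have h1 := hs.finrank_eq
    rw [Multiset.map_cons, Multiset.sum_cons, hPd, hdim] at h1
    have h2 : t = 0 := by
      by_contra h
      obtain ⟨Q, hQ⟩ := Multiset.exists_mem_of_ne_zero h
      have h3 := Multiset.single_le_sum (s := t.map Polynomial.natDegree) (fun _ _ => Nat.zero_le _) _
        (Multiset.mem_map_of_mem _ hQ)
      have h4 := (hs.primary Q (Multiset.mem_cons_of_mem hQ)).natDegree_pos
      omega
    rw [h2]; rfl
  have huP : Polynomial.aeval (u.1 : Module.End F K) P = 0 :=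
    (hs.aeval_eq_zero_iff P).2 fun Q hQ => by rw [hsP, Multiset.mem_singleton] at hQ; rw [hQ]
  haveI := Fact.mk (hsi P hP)
  haveI : Module.Finite F (AdjoinRoot P) := CL.GLn.finite_adjoinRoot hPm.ne_zero
  haveI : Finite (AdjoinRoot P) := Module.finite_of_finite F
  obtain ⟨φ⟩ := FiniteField.nonempty_algHom_of_finrank_dvd (F := F) (K := AdjoinRoot P) (L := K)
    (by rw [CL.GLn.finrank_adjoinRoot, hPd, hdim])
  have hφ : Function.Surjective φ :=
    (LinearMap.injective_iff_surjective_of_finrank_eq_finrank (f := φ.toLinearMap)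
      (by rw [CL.GLn.finrank_adjoinRoot, hPd, hdim])).1 φ.toRingHom.injective
  set a := φ (AdjoinRoot.root P) with ha
  have haP : Polynomial.aeval (Algebra.lmul F K a) P = 0 := by
    rw [Polynomial.aeval_algHom_apply, ha, Polynomial.aeval_algHom_apply, AdjoinRoot.aeval_eq, AdjoinRoot.mk_self,
      map_zero, map_zero]
  obtain ⟨e, he⟩ := CL.Known.sim_of_aeval_irreducible hPm (hsi P hP) huP haP rfl
  let g : (Module.End F K)ˣ := LinearMap.GeneralLinearGroup.ofLinearEquiv e
  refine ⟨g, Subgroup.eq_of_le_of_card_ge ?_ ?_⟩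
  · rintro _ ⟨w, hw, rfl⟩
    rw [Cfsg.Agent.S5946.mem_singer]
    have hcomm : (w : Module.End F K) * u.1 = u.1 * w :=
      congrArg (fun x : U => ((x : (Module.End F K)ˣ) : Module.End F K)) (hU.is_comm.comm ⟨w, hw⟩ u)
    set f : Module.End F K := Units.val ((MulAut.conj g).toMonoidHom w) with hf
    have hf' : ∀ y, f y = e (w.1 (e.symm y)) := fun y => rfl
    have h1 : ∀ y, f (Algebra.lmul F K a y) = Algebra.lmul F K a (f y) := by
      intro y
      obtain ⟨y, rfl⟩ := e.surjective y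
      rw [← he, hf', hf', e.symm_apply_apply, e.symm_apply_apply, ← he, ← Module.End.mul_apply, hcomm]; rfl
    refine ⟨f 1, fun y => ?_⟩
    obtain ⟨z, rfl⟩ := hφ y
    obtain ⟨Q, rfl⟩ := AdjoinRoot.mk_surjective z
    have h2 := CL.GLn.aeval_intertwine f h1 Q 1
    rw [Polynomial.aeval_algHom_apply, ha, Polynomial.aeval_algHom_apply, AdjoinRoot.aeval_eq] at h2
    simpa [mul_comm] using h2
  · rw [Subgroup.card_map_of_injective (MulAut.conj g).injective, hcard, ← Nat.card_eq_fintype_card, ← Nat.card_units]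
    exact Nat.card_le_card_of_surjective _ (MonoidHom.rangeRestrict_surjective _)

end Cfsg.Agent.S5947
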